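import Cfsg.Agent.H26.Es.A0

/-! Generated: the involution centralizer of type G2(2). -/

set_option maxRecDepth 100000
set_option maxHeartbeats 4000000
set_option linter.unusedVariables false
set_option Elab.async false

open Subgroup
open scoped commutatorElement
namespace H26.Es
open H0 H0.PM H16 H19 H10.X

def CE {G : Type*} [Group G] (z u v a b c r : G) : Prop :=
  c ^ 3 = 1 ∧
  r * r = 1 ∧
  r * c * r⁻¹ = c⁻¹ ∧
  c * z = z * c ∧
  r * z = z * r ∧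
  c * u * c⁻¹ = b ∧
  c * v * c⁻¹ = z * a * b ∧
  c * a * c⁻¹ = v * b ∧
  c * b * c⁻¹ = u * v * a * b ∧
  r * u * r⁻¹ = u ∧
  r * v * r⁻¹ = u * v * z ∧
  r * a * r⁻¹ = u * a ∧
  r * b * r⁻¹ = u * v * a * b ∧ True
def G8 {G : Type*} [Group G] (s t : G) : Prop :=
  s ^ 4 = 1 ∧
  s * t * s = t * s * t ∧ True
noncomputable def HE_r_R : List (List ℕ) := [[0,0],
  [1,1],
  [2,2],
  [3,3],
  [4,4],
  [5,6],
  [6,5],
  [7,7],
  [2,1,2,1],
  [1,0,1,0],
  [2,0,2,0],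
  [3,0,3,0],
  [4,0,4,0],
  [3,1,3,1],
  [4,2,4,2],
  [4,3,4,3],
  [1,0,4,1,4],
  [2,0,3,2,3],
  [5,5,5],
  [5,7,5,7],
  [0,6,0,5],
  [0,7,0,7],
  [4,6,1,5],
  [0,3,4,6,2,5],
  [2,4,6,3,5],
  [1,2,3,4,6,4,5],
  [1,7,1,7],
  [1,2,0,7,2,7],
  [1,3,7,3,7],
  [1,2,3,4,7,4,7]]
theorem HE_r {G : Type*} [Group G] {z u v a b c r : G}
    (q : QT z u v a b)
    (h : CE z u v a b c r) :
    Rels (nthG [z, u, v, a, b, c, c⁻¹, r]) HE_r_R :=
  rels_of_eqs ((InvI.cons q.1 (InvI.cons q.2.1 (InvI.cons q.2.2.1 (InvI.cons q.2.2.2.1 (InvI.cons q.2.2.2.2.1 (InvI.cons h.2.1 InvI.nil)))))) : InvI [z, u, v, a, b, c, r] [(nat_lit 0), (nat_lit 1), (nat_lit 2), (nat_lit 3), (nat_lit 4), (nat_lit 6)])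
    (AllEq.append (show AllEq [z, u, v, a, b, c, r] [((.mul (.v (nat_lit 0)) (.v (nat_lit 0))), .one), ((.mul (.v (nat_lit 1)) (.v (nat_lit 1))), .one), ((.mul (.v (nat_lit 2)) (.v (nat_lit 2))), .one), ((.mul (.v (nat_lit 3)) (.v (nat_lit 3))), .one), ((.mul (.v (nat_lit 4)) (.v (nat_lit 4))), .one), ((.mul (.v (nat_lit 1)) (.v (nat_lit 2))), (.mul (.v (nat_lit 2)) (.v (nat_lit 1)))), ((.mul (.v (nat_lit 0)) (.v (nat_lit 1))), (.mul (.v (nat_lit 1)) (.v (nat_lit 0)))), ((.mul (.v (nat_lit 0)) (.v (nat_lit 2))), (.mul (.v (nat_lit 2)) (.v (nat_lit 0)))), ((.mul (.v (nat_lit 0)) (.v (nat_lit 3))), (.mul (.v (nat_lit 3)) (.v (nat_lit 0)))), ((.mul (.v (nat_lit 0)) (.v (nat_lit 4))), (.mul (.v (nat_lit 4)) (.v (nat_lit 0)))), ((.mul (.v (nat_lit 1)) (.v (nat_lit 3))), (.mul (.v (nat_lit 3)) (.v (nat_lit 1)))), ((.mul (.v (nat_lit 2)) (.v (nat_lit 4))), (.mul (.v (nat_lit 4)) (.v (nat_lit 2)))), ((.mul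 (.v (nat_lit 3)) (.v (nat_lit 4))), (.mul (.v (nat_lit 4)) (.v (nat_lit 3)))), ((.mul (.mul (.v (nat_lit 4)) (.v (nat_lit 1))) (.v (nat_lit 4))), (.mul (.v (nat_lit 1)) (.v (nat_lit 0)))), ((.mul (.mul (.v (nat_lit 3)) (.v (nat_lit 2))) (.v (nat_lit 3))), (.mul (.v (nat_lit 2)) (.v (nat_lit 0))))] from q)
    (show AllEq [z, u, v, a, b, c, r] [((.pw (.v (nat_lit 5)) (nat_lit 3)), .one), ((.mul (.v (nat_lit 6)) (.v (nat_lit 6))), .one), ((.mul (.mul (.v (nat_lit 6)) (.v (nat_lit 5))) (.inv (.v (nat_lit 6)))), (.inv (.v (nat_lit 5)))), ((.mul (.v (nat_lit 5)) (.v (nat_lit 0))), (.mul (.v (nat_lit 0)) (.v (nat_lit 5)))), ((.mul (.v (nat_lit 6)) (.v (nat_lit 0))), (.mul (.v (nat_lit 0)) (.v (nat_lit 6)))), ((.mul (.mul (.v (nat_lit 5)) (.v (nat_lit 1))) (.inv (.v (nat_lit 5)))), (.v (nat_lit 4))), ((.mul (.mul (.v (nat_lit 5)) (.v (nat_lit 2))) (.inv (.v (nat_lit 5)))), (.mul (.mul (.v (nat_lit 0))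 (.v (nat_lit 3))) (.v (nat_lit 4)))), ((.mul (.mul (.v (nat_lit 5)) (.v (nat_lit 3))) (.inv (.v (nat_lit 5)))), (.mul (.v (nat_lit 2)) (.v (nat_lit 4)))), ((.mul (.mul (.v (nat_lit 5)) (.v (nat_lit 4))) (.inv (.v (nat_lit 5)))), (.mul (.mul (.mul (.v (nat_lit 1)) (.v (nat_lit 2))) (.v (nat_lit 3))) (.v (nat_lit 4)))), ((.mul (.mul (.v (nat_lit 6)) (.v (nat_lit 1))) (.inv (.v (nat_lit 6)))), (.v (nat_lit 1))), ((.mul (.mul (.v (nat_lit 6)) (.v (nat_lit 2))) (.inv (.v (nat_lit 6)))), (.mul (.mul (.v (nat_lit 1)) (.v (nat_lit 2))) (.v (nat_lit 0)))), ((.mul (.mul (.v (nat_lit 6)) (.v (nat_lit 3))) (.inv (.v (nat_lit 6)))), (.mul (.v (nat_lit 1)) (.v (nat_lit 3)))), ((.mul (.mul (.v (nat_lit 6)) (.v (nat_lit 4))) (.inv (.v (nat_lit 6)))), (.mul (.mul (.mul (.v (nat_lit 1)) (.v (nat_lit 2))) (.v (nat_lit 3))) (.v (nat_lit 4))))] from h))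
    [(.v (nat_lit 0)), (.v (nat_lit 1)), (.v (nat_lit 2)), (.v (nat_lit 3)), (.v (nat_lit 4)), (.v (nat_lit 5)), (.inv (.v (nat_lit 5))), (.v (nat_lit 6))] (by decide +kernel)
noncomputable abbrev HE_o : Ops := pops (nat_lit 32) (nat_lit 5) (nat_lit 31) (nat_lit 0xffbbcdeb38bdab49ca307b9ac5a928398a418820)
noncomputable def HE_cs : List ℕ := [(nat_lit 0xf7f3abf3b6de20e5a9956d1f19c8a41892839801), (nat_lit 0xe6abfa7a0f737bb41d39c5ec520e339058b500c2), (nat_lit 0xee7f58c3d362f89c1b7a41497b0a8f0c9cd028e3), (nat_lit 0xbee2ef518afc93a35ba51f0f9162a16ce007ad04), (nat_lit 0xb616f5367e97d07cdc44e0f46eec35a301074525), (nat_lit 0x30bacdc73cbe96a392d37c9b81a3f4827cea9420), (nat_lit 0x497b8ddb2cbc46883b47791bcad0ca9fc525f820), (nat_lit 0x496f1cb376ee1d040f946d5fa21ff351bcb90820)]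
noncomputable def HE_L : List (List ℕ) := [[(nat_lit 0xffbbcdeb38bdab49ca307b9ac5a928398a418820), (nat_lit 0xf7f3abf3b6de20e5a9956d1f19c8a41892839801), (nat_lit 0xe6abfa7a0f737bb41d39c5ec520e339058b500c2), (nat_lit 0xee7f58c3d362f89c1b7a41497b0a8f0c9cd028e3), (nat_lit 0xbee2ef518afc93a35ba51f0f9162a16ce007ad04), (nat_lit 0xb616f5367e97d07cdc44e0f46eec35a301074525), (nat_lit 0xd721e77eada3f3720cbdb6f0941d8b5023390446), (nat_lit 0xcf7d0657eb8cf45b0afc2251bc19cd02a8f0c867), (nat_lit 0xddd94fba32f28bc163293e87d35a007aea16cc88), (nat_lit 0xc5a6d93d7f57883eecc8d1f82cdc1074435a30a9), (nat_lit 0xac39d4e748293f17869e9b16e6837831ef610e4a), (nat_lit 0x75137d6ca3e1e3e0b6ac57e5003fa6b2322c126b), (nat_lit 0x7b5163e09c1e96aad033f4be083859ba4ddd9591), (nat_lit 0xc5869414ef237bb54cd965e2292f5070795a03fe), (nat_lit 0x8b2e9e9766c89d554fd40c01f92f4345b87261af), (nat_lit 0x5cec811319375e1f314da8212fc4fc4dc7a2ee8e),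 (nat_lit 0xee4cbb4c47c0d9fe2771a79d7d154f0924d02215), (nat_lit 0xbed2ee50a8d123fb1b2c9f97dc0a0d08eaf01d52), (nat_lit 0x64765ca6e2e9a9092fee0543e54f8726343459ed), (nat_lit 0x92843c1cdbb5c2d67d6073e938f909d6485e76b0), (nat_lit 0x6bc981d91a3f2728380bfabc1ad0ddd9459ba62c), (nat_lit 0xa38bbe5d27d0d9f03e11979550b722c13a6b2173), (nat_lit 0xb60e52246d43f3792c5d8ed8654f95a0350707df), (nat_lit 0x9af04322dd165a0fc64f806aaf307a2ecfc4ddd4), (nat_lit 0x495d1ab281802fd1a35b3645c393ca9b7f25bed8), (nat_lit 0x411eb0cdb5042c2e24f8c9ba3d155e6525f8bafb), (nat_lit 0x2a68c845c0a877939397174da1a3f25bfca9b716), (nat_lit 0x19c326a80e7d0584e906ddae42f16cfd671f433d), (nat_lit 0x7b5519b2585dab41a0302b920393d9b9bfdd8b9a), (nat_lit 0x6be7855971930877402828d20a545befcd7cfb5c), (nat_lit 0x9ac147b828693f11625ebb36a35a1a29ebc48fb9), (nat_lit 0x221b302df00d706d1476e8b27e265f8b95e65377)],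
  [(nat_lit 0xffbbcdeb38bdab49ca307b9ac5a928398a418820), (nat_lit 0x30bacdc73cbe96a392d37c9b81a3f4827cea9420), (nat_lit 0x497b8ddb2cbc46883b47791bcad0ca9fc525f820), (nat_lit 0x496f1cb376ee1d040f946d5fa21ff351bcb90820), (nat_lit 0x30afacf371eb08752f0868df694d30a7cb577820), (nat_lit 0xffaf6ce37aef253a558a6adf1740c74244321420)]]
noncomputable def HE_WW : List (List (List ℕ)) := [[[],
  [(nat_lit 0)],
  [(nat_lit 1)],
  [(nat_lit 2)],
  [(nat_lit 3)],
  [(nat_lit 4)],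
  [(nat_lit 0), (nat_lit 1)],
  [(nat_lit 0), (nat_lit 2)],
  [(nat_lit 0), (nat_lit 3)],
  [(nat_lit 0), (nat_lit 4)],
  [(nat_lit 1), (nat_lit 2)],
  [(nat_lit 1), (nat_lit 3)],
  [(nat_lit 1), (nat_lit 4)],
  [(nat_lit 1), (nat_lit 6)],
  [(nat_lit 2), (nat_lit 3)],
  [(nat_lit 2), (nat_lit 4)],
  [(nat_lit 2), (nat_lit 5)],
  [(nat_lit 2), (nat_lit 7)],
  [(nat_lit 3), (nat_lit 2)],
  [(nat_lit 3), (nat_lit 4)],
  [(nat_lit 4), (nat_lit 1)],
  [(nat_lit 0), (nat_lit 1), (nat_lit 3)],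
  [(nat_lit 0), (nat_lit 1), (nat_lit 6)],
  [(nat_lit 0), (nat_lit 2), (nat_lit 4)],
  [(nat_lit 1), (nat_lit 2), (nat_lit 3)],
  [(nat_lit 1), (nat_lit 2), (nat_lit 4)],
  [(nat_lit 1), (nat_lit 3), (nat_lit 2)],
  [(nat_lit 1), (nat_lit 3), (nat_lit 4)],
  [(nat_lit 1), (nat_lit 4), (nat_lit 6)],
  [(nat_lit 1), (nat_lit 4), (nat_lit 7)],
  [(nat_lit 1), (nat_lit 6), (nat_lit 2)],
  [(nat_lit 2), (nat_lit 4), (nat_lit 1)]],
  [[],
  [(nat_lit 5)],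
  [(nat_lit 6)],
  [(nat_lit 7)],
  [(nat_lit 5), (nat_lit 7)],
  [(nat_lit 6), (nat_lit 7)]]]
noncomputable def HE_b3_S0 : List ℕ := [nat_lit 0x1300000700000c004008, nat_lit 0x1700000700001000400a, nat_lit 0x1b00000b000010004006, nat_lit 0x1f000013000018004006, nat_lit 0x1f00000200001c00400a]
noncomputable def HE_b3_S : List (List ℕ) := [HE_b3_S0]
noncomputable def HE_b3_defs : List ℕ := [(nat_lit 0x20000400200002002000010010000100200000001000000000000000000000)]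
noncomputable def HE_b3_recs : List ℕ := [(nat_lit 0x600007010000500007010000300006000000300005000000200004)]
noncomputable def HE_b3_L0 : List ℕ := [nat_lit 0x700000100000b00000200000f000003, nat_lit 0x8000000000013000004000017000005, nat_lit 0x200000400000c00000000001b000006, nat_lit 0x600000500000a000006000010000000, nat_lit 0x100000200001400000100001f000007, nat_lit 0x500000300000e000007000018000001, nat_lit 0x1200000700000900000300001c000002, nat_lit 0x1100000600000d000005000020000004]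
noncomputable def HE_b3_L : List (List ℕ) := [HE_b3_L0]
noncomputable def HE_b3_V : List ℕ := [(nat_lit 0x700000006000000050000000400000003000000020000000100000000)]
noncomputable def HE_b3_D : H26.Dag := ⟨[], [[0,0],
  [1,1],
  [2,2],
  [2,1,2,1],
  [1,0,1,0],
  [2,0,2,0]], [], HE_b3_defs, HE_b3_recs⟩
theorem HE_b3_c : HE_b3_D.checkTab HE_b3_S 8 3 HE_b3_V HE_b3_L = true := by decide +kernel
theorem HE_b3 : Bound HE_r_R 3 8 :=
  bound_dag (Bound.zero HE_r_R) (K := 3) (J := [0,1,2,8,9,10]) (by decide +kernel) HE_b3_c (by decide +kernel)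
noncomputable def HE_b5_S0 : List ℕ := [nat_lit 0x1, nat_lit 0x1, nat_lit 0x1, nat_lit 0x700000100000800400a, nat_lit 0x700000500000800400e, nat_lit 0x700000100000900000800c016, nat_lit 0xb00000100000c00400c, nat_lit 0xb00000900000c004010, nat_lit 0xb00000100000500000c00c014, nat_lit 0xf00000d00001000400c, nat_lit 0xf000015000010004010, nat_lit 0xf00000700000c004012, nat_lit 0xf00000d00001100001000c014]
noncomputable def HE_b5_S : List (List ℕ) := [HE_b5_S0]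
noncomputable def HE_b5_defs : List ℕ := [(nat_lit 0x400001004000000030000000000000)]
noncomputable def HE_b5_recs : List ℕ := [(nat_lit 0x10000300003030000200003020000300003000000300003010000200002020000200002000000200002020000100001010000100001000000100001020000000000010000000000000000000000)]
noncomputable def HE_b5_L0 : List ℕ := [nat_lit 0x100000000000500000000000900000000000700000100000b000002, nat_lit 0xd00000100001100000100001500000100000800000000000f000003, nat_lit 0x1900000200002100000200001d00000200002e00000300000c000000, nat_lit 0x2500000300003100000300002900000300002d000002000010000001]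
noncomputable def HE_b5_L : List (List ℕ) := [HE_b5_L0]
noncomputable def HE_b5_V : List ℕ := [(nat_lit 0x3000000020000000100000000)]
noncomputable def HE_b5_D : H26.Dag := ⟨[], [[0,0],
  [1,1],
  [2,2],
  [3,3],
  [4,4],
  [3,0,3,0],
  [4,0,4,0],
  [3,1,3,1],
  [4,2,4,2],
  [4,3,4,3],
  [1,0,4,1,4],
  [2,0,3,2,3]], [0,1,2], HE_b5_defs, HE_b5_recs⟩
theorem HE_b5_c : HE_b5_D.checkTab HE_b5_S 4 5 HE_b5_V HE_b5_L = true := by decide +kernel
theorem HE_b5 : Bound HE_r_R 5 32 :=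
  bound_dag HE_b3 (K := 5) (J := [0,1,2,3,4,11,12,13,14,15,16,17]) (by decide +kernel) HE_b5_c (by decide +kernel)
noncomputable def HE_b8_S0 : List ℕ := [nat_lit 0x1, nat_lit 0x1, nat_lit 0x1, nat_lit 0x1, nat_lit 0x1, nat_lit 0x7000001000008000014, nat_lit 0x7000005000008000018, nat_lit 0x700000d00000800001900001c, nat_lit 0x1500000700000900000800001900401a, nat_lit 0x700001100000800001900002100001d00001e, nat_lit 0xb000008006010, nat_lit 0xb00000100000c008014, nat_lit 0xb00001100000c008018, nat_lit 0xb00001100000900000c00c01c, nat_lit 0xb00001100000d00000100000c01001a, nat_lit 0xb00001100000d00000900000500000c01401e, nat_lit 0xf000001000010008016, nat_lit 0xf000005000010008020, nat_lit 0xf00000d00000500001000c024, nat_lit 0xf000001000009000005000010010022, nat_lit 0xf00001100000d000009000005000010014026, nat_lit 0x13000007000010008012, nat_lit 0x13000015000014008016, nat_lit 0x13000025000014008020,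 nat_lit 0x1300002100002500001400c024, nat_lit 0x1300001500001d000025000014010022, nat_lit 0x1300001900002100001d000025000014014026, nat_lit 0x1700002a000014008012, nat_lit 0x1700000b000010006012, nat_lit 0x1700002d000018008016, nat_lit 0x17000031000018008020, nat_lit 0x1700003500003100001800c024, nat_lit 0x1700002d000039000031000018010022, nat_lit 0x1700003d000035000039000031000018014026]
noncomputable def HE_b8_S : List (List ℕ) := [HE_b8_S0]
noncomputable def HE_b8_defs : List ℕ := [(nat_lit 0x7000020070000100700000006000000050000000000000)]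
noncomputable def HE_b8_recs : List ℕ := [(nat_lit 0x40000500005020000500005030000500005010000500005000000500005060000300005050000400005040000400004020000400004030000400004010000400004000000400004050000300004040000300003020000300003030000300003010000300003000000300003040000200002020000200002030000200002010000200002000000200002060000100002010000100001030000100001020000100001040000100001000000100001040000000000030000000000020000000000010000000000000000000000)]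
noncomputable def HE_b8_L0 : List ℕ := [nat_lit 0x100000000000500000000000900000000000d00000000001100000000000700000100000b00000200000f000003, nat_lit 0x1500000100002500000100001d00000100002100000100001900000100002a000002000008000000000013000004, nat_lit 0x2d00000200003100000200003900000200003500000200003d00000200000c000000000029000001000017000005, nat_lit 0x4100000300004500000300004d000003000049000003000051000003000072000005000056000004000010000000, nat_lit 0x5900000400005d00000400006500000400006100000400006900000400005500000300006e000005000014000001, nat_lit 0x7500000500007900000500008100000500007d00000500008500000500006d000004000071000003000018000002]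
noncomputable def HE_b8_L : List (List ℕ) := [HE_b8_L0]
noncomputable def HE_b8_V : List ℕ := [(nat_lit 0x50000000400000003000000020000000100000000)]
noncomputable def HE_b8_D : H26.Dag := ⟨[0,1,2,3,4,6,5,7], [[0,0],
  [1,1],
  [2,2],
  [3,3],
  [4,4],
  [5,6],
  [6,5],
  [7,7],
  [5,5,5],
  [5,7,5,7],
  [0,6,0,5],
  [0,7,0,7],
  [4,6,1,5],
  [0,3,4,6,2,5],
  [2,4,6,3,5],
  [1,2,3,4,6,4,5],
  [1,7,1,7],
  [1,2,0,7,2,7],
  [1,3,7,3,7],
  [1,2,3,4,7,4,7]], [0,1,2,3,4], HE_b8_defs, HE_b8_recs⟩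
theorem HE_b8_c : HE_b8_D.checkTab HE_b8_S 6 8 HE_b8_V HE_b8_L = true := by decide +kernel
theorem HE_b8 : Bound HE_r_R 8 192 :=
  bound_dag HE_b5 (K := 8) (J := [0,1,2,3,4,5,6,7,18,19,20,21,22,23,24,25,26,27,28,29]) (by decide +kernel) HE_b8_c (by decide +kernel)
theorem HE_P : PModel (nat_lit 32) (nat_lit 5) (nat_lit 31) (nat_lit 0xffbbcdeb38bdab49ca307b9ac5a928398a418820) HE_cs HE_r_R HE_L 192 :=
  ⟨PkOK.of (by decide +kernel), by decide +kernel, by decide +kernel, HE_b8, ⟨HE_WW, by decide +kernel⟩,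
    ⟨fun c => Nat.mod c (nat_lit 5039), by decide +kernel⟩⟩
noncomputable def HE_soc_t0 : ST := (.node (nat_lit 2325) (.node (nat_lit 1122) (.node (nat_lit 630) (.node (nat_lit 351) (.node (nat_lit 181) (.node (nat_lit 86) (.node (nat_lit 64) (.leaf (nat_lit 5)) (.leaf (nat_lit 160))) (.node (nat_lit 144) (.leaf (nat_lit 25)) (.node (nat_lit 172) (.leaf (nat_lit 0)) (.leaf (nat_lit 160))))) (.node (nat_lit 299) (.node (nat_lit 271) (.leaf (nat_lit 96)) (.leaf (nat_lit 5))) (.node (nat_lit 314) (.leaf (nat_lit 96)) (.node (nat_lit 331) (.leaf (nat_lit 160)) (.leaf (nat_lit 96)))))) (.node (nat_lit 463) (.node (nat_lit 398) (.node (nat_lit 365) (.leaf (nat_lit 0)) (.leaf (nat_lit 25))) (.node (nat_lit 429) (.leaf (nat_lit 160)) (.node (nat_lit 457) (.leaf (nat_lit 0)) (.leaf (nat_lit 25))))) (.node (nat_lit 587) (.node (nat_lit 533) (.leaf (nat_lit 160)) (.leaf (nat_lit 96))) (.node (nat_lit 599)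 (.leaf (nat_lit 160)) (.node (nat_lit 621) (.leaf (nat_lit 35)) (.leaf (nat_lit 96))))))) (.node (nat_lit 851) (.node (nat_lit 788) (.node (nat_lit 719) (.node (nat_lit 694) (.leaf (nat_lit 35)) (.leaf (nat_lit 5))) (.node (nat_lit 746) (.leaf (nat_lit 160)) (.node (nat_lit 779) (.leaf (nat_lit 128)) (.leaf (nat_lit 35))))) (.node (nat_lit 802) (.node (nat_lit 797) (.leaf (nat_lit 128)) (.leaf (nat_lit 5))) (.node (nat_lit 822) (.leaf (nat_lit 96)) (.node (nat_lit 828) (.leaf (nat_lit 160)) (.leaf (nat_lit 128)))))) (.node (nat_lit 1012) (.node (nat_lit 909) (.node (nat_lit 852) (.leaf (nat_lit 25)) (.leaf (nat_lit 35))) (.node (nat_lit 963) (.leaf (nat_lit 160)) (.node (nat_lit 987) (.leaf (nat_lit 96)) (.leaf (nat_lit 128))))) (.node (nat_lit 1032) (.node (nat_lit 1027) (.leaf (nat_lit 96)) (.leaf (nat_lit 128))) (.node (nat_lit 1044) (.leaf (nat_lit 160)) (.node (nat_lit 1090) (.leaf (nat_lit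 128)) (.leaf (nat_lit 0)))))))) (.node (nat_lit 1777) (.node (nat_lit 1433) (.node (nat_lit 1191) (.node (nat_lit 1134) (.node (nat_lit 1126) (.leaf (nat_lit 128)) (.leaf (nat_lit 35))) (.node (nat_lit 1164) (.leaf (nat_lit 128)) (.node (nat_lit 1184) (.leaf (nat_lit 96)) (.leaf (nat_lit 128))))) (.node (nat_lit 1259) (.node (nat_lit 1237) (.leaf (nat_lit 0)) (.leaf (nat_lit 128))) (.node (nat_lit 1264) (.leaf (nat_lit 25)) (.node (nat_lit 1304) (.leaf (nat_lit 96)) (.leaf (nat_lit 160)))))) (.node (nat_lit 1550) (.node (nat_lit 1504) (.node (nat_lit 1482) (.leaf (nat_lit 0)) (.leaf (nat_lit 160))) (.node (nat_lit 1512) (.leaf (nat_lit 128)) (.node (nat_lit 1541) (.leaf (nat_lit 160)) (.leaf (nat_lit 25))))) (.node (nat_lit 1622) (.node (nat_lit 1551) (.leaf (nat_lit 5)) (.leaf (nat_lit 35))) (.node (nat_lit 1737) (.leaf (nat_lit 96)) (.node (nat_lit 1740) (.leaf (nat_lit 128)) (.leaf (nat_lit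 0))))))) (.node (nat_lit 2044) (.node (nat_lit 1959) (.node (nat_lit 1794) (.node (nat_lit 1780) (.leaf (nat_lit 25)) (.leaf (nat_lit 35))) (.node (nat_lit 1929) (.leaf (nat_lit 96)) (.node (nat_lit 1942) (.leaf (nat_lit 25)) (.leaf (nat_lit 160))))) (.node (nat_lit 1989) (.node (nat_lit 1963) (.leaf (nat_lit 128)) (.leaf (nat_lit 5))) (.node (nat_lit 2015) (.leaf (nat_lit 160)) (.node (nat_lit 2041) (.leaf (nat_lit 25)) (.leaf (nat_lit 128)))))) (.node (nat_lit 2220) (.node (nat_lit 2129) (.node (nat_lit 2045) (.leaf (nat_lit 96)) (.leaf (nat_lit 160))) (.node (nat_lit 2150) (.leaf (nat_lit 96)) (.node (nat_lit 2203) (.leaf (nat_lit 128)) (.leaf (nat_lit 96))))) (.node (nat_lit 2255) (.node (nat_lit 2229) (.leaf (nat_lit 128)) (.leaf (nat_lit 96))) (.node (nat_lit 2299) (.leaf (nat_lit 0)) (.node (nat_lit 2311) (.leaf (nat_lit 96)) (.leaf (nat_lit 160))))))))) (.node (nat_lit 3675) (.node (nat_lit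 3065) (.node (nat_lit 2678) (.node (nat_lit 2603) (.node (nat_lit 2376) (.node (nat_lit 2333) (.leaf (nat_lit 0)) (.leaf (nat_lit 25))) (.node (nat_lit 2400) (.leaf (nat_lit 128)) (.node (nat_lit 2445) (.leaf (nat_lit 35)) (.leaf (nat_lit 96))))) (.node (nat_lit 2609) (.node (nat_lit 2607) (.leaf (nat_lit 128)) (.leaf (nat_lit 5))) (.node (nat_lit 2625) (.leaf (nat_lit 128)) (.node (nat_lit 2660) (.leaf (nat_lit 160)) (.leaf (nat_lit 96)))))) (.node (nat_lit 2829) (.node (nat_lit 2757) (.node (nat_lit 2733) (.leaf (nat_lit 160)) (.leaf (nat_lit 128))) (.node (nat_lit 2781) (.leaf (nat_lit 0)) (.node (nat_lit 2811) (.leaf (nat_lit 96)) (.leaf (nat_lit 0))))) (.node (nat_lit 2984) (.node (nat_lit 2969) (.leaf (nat_lit 128)) (.leaf (nat_lit 160))) (.node (nat_lit 3019) (.leaf (nat_lit 5)) (.node (nat_lit 3038) (.leaf (nat_lit 96)) (.leaf (nat_lit 5))))))) (.node (nat_lit 3357) (.node (nat_lit 3208)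 (.node (nat_lit 3110) (.node (nat_lit 3071) (.leaf (nat_lit 25)) (.leaf (nat_lit 96))) (.node (nat_lit 3125) (.leaf (nat_lit 160)) (.node (nat_lit 3169) (.leaf (nat_lit 5)) (.leaf (nat_lit 25))))) (.node (nat_lit 3296) (.node (nat_lit 3249) (.leaf (nat_lit 128)) (.leaf (nat_lit 25))) (.node (nat_lit 3308) (.leaf (nat_lit 96)) (.node (nat_lit 3311) (.leaf (nat_lit 0)) (.leaf (nat_lit 128)))))) (.node (nat_lit 3574) (.node (nat_lit 3494) (.node (nat_lit 3472) (.leaf (nat_lit 25)) (.leaf (nat_lit 5))) (.node (nat_lit 3514) (.leaf (nat_lit 128)) (.node (nat_lit 3566) (.leaf (nat_lit 160)) (.leaf (nat_lit 96))))) (.node (nat_lit 3600) (.node (nat_lit 3587) (.leaf (nat_lit 160)) (.leaf (nat_lit 25))) (.node (nat_lit 3620) (.leaf (nat_lit 0)) (.node (nat_lit 3664) (.leaf (nat_lit 96)) (.leaf (nat_lit 35)))))))) (.node (nat_lit 4364) (.node (nat_lit 4003) (.node (nat_lit 3838) (.node (nat_lit 3684) (.node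 (nat_lit 3680) (.leaf (nat_lit 25)) (.leaf (nat_lit 35))) (.node (nat_lit 3729) (.leaf (nat_lit 160)) (.node (nat_lit 3776) (.leaf (nat_lit 128)) (.leaf (nat_lit 96))))) (.node (nat_lit 3890) (.node (nat_lit 3853) (.leaf (nat_lit 160)) (.leaf (nat_lit 96))) (.node (nat_lit 3910) (.leaf (nat_lit 160)) (.node (nat_lit 3918) (.leaf (nat_lit 96)) (.leaf (nat_lit 160)))))) (.node (nat_lit 4230) (.node (nat_lit 4036) (.node (nat_lit 4034) (.leaf (nat_lit 0)) (.leaf (nat_lit 35))) (.node (nat_lit 4176) (.leaf (nat_lit 128)) (.node (nat_lit 4220) (.leaf (nat_lit 35)) (.leaf (nat_lit 128))))) (.node (nat_lit 4280) (.node (nat_lit 4274) (.leaf (nat_lit 160)) (.leaf (nat_lit 25))) (.node (nat_lit 4344) (.leaf (nat_lit 160)) (.node (nat_lit 4360) (.leaf (nat_lit 128)) (.leaf (nat_lit 35))))))) (.node (nat_lit 4571) (.node (nat_lit 4455) (.node (nat_lit 4436) (.node (nat_lit 4397) (.leaf (nat_lit 160)) (.leaf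 (nat_lit 128))) (.node (nat_lit 4450) (.leaf (nat_lit 96)) (.node (nat_lit 4451) (.leaf (nat_lit 160)) (.leaf (nat_lit 0))))) (.node (nat_lit 4484) (.node (nat_lit 4465) (.leaf (nat_lit 128)) (.leaf (nat_lit 35))) (.node (nat_lit 4503) (.leaf (nat_lit 25)) (.node (nat_lit 4509) (.leaf (nat_lit 35)) (.leaf (nat_lit 96)))))) (.node (nat_lit 4693) (.node (nat_lit 4589) (.node (nat_lit 4573) (.leaf (nat_lit 128)) (.leaf (nat_lit 35))) (.node (nat_lit 4616) (.leaf (nat_lit 25)) (.node (nat_lit 4654) (.leaf (nat_lit 96)) (.leaf (nat_lit 128))))) (.node (nat_lit 4709) (.node (nat_lit 4703) (.leaf (nat_lit 96)) (.node (nat_lit 4708) (.leaf (nat_lit 25)) (.leaf (nat_lit 160)))) (.node (nat_lit 4711) (.leaf (nat_lit 96)) (.node (nat_lit 4721) (.leaf (nat_lit 25)) (.leaf (nat_lit 128))))))))))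
noncomputable def HE_soc_t1 : ST := (.node (nat_lit 2678) (.node (nat_lit 1304) (.node (nat_lit 770) (.node (nat_lit 142) (.node (nat_lit 104) (.node (nat_lit 62) (.leaf (nat_lit 32)) (.node (nat_lit 103) (.leaf (nat_lit 96)) (.leaf (nat_lit 128)))) (.node (nat_lit 127) (.node (nat_lit 113) (.leaf (nat_lit 160)) (.leaf (nat_lit 2))) (.node (nat_lit 134) (.leaf (nat_lit 32)) (.leaf (nat_lit 96))))) (.node (nat_lit 632) (.node (nat_lit 258) (.node (nat_lit 177) (.leaf (nat_lit 3)) (.leaf (nat_lit 96))) (.node (nat_lit 618) (.leaf (nat_lit 32)) (.leaf (nat_lit 96)))) (.node (nat_lit 661) (.node (nat_lit 643) (.leaf (nat_lit 160)) (.leaf (nat_lit 128))) (.node (nat_lit 667) (.leaf (nat_lit 32)) (.leaf (nat_lit 96)))))) (.node (nat_lit 1070) (.node (nat_lit 939) (.node (nat_lit 780) (.node (nat_lit 773) (.leaf (nat_lit 2)) (.leaf (nat_lit 96))) (.node (nat_lit 842) (.leaf (nat_lit 32)) (.leaf (nat_lit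 96)))) (.node (nat_lit 1018) (.node (nat_lit 953) (.leaf (nat_lit 32)) (.leaf (nat_lit 96))) (.node (nat_lit 1057) (.leaf (nat_lit 2)) (.leaf (nat_lit 128))))) (.node (nat_lit 1253) (.node (nat_lit 1141) (.node (nat_lit 1128) (.leaf (nat_lit 96)) (.leaf (nat_lit 160))) (.node (nat_lit 1143) (.leaf (nat_lit 96)) (.leaf (nat_lit 32)))) (.node (nat_lit 1279) (.node (nat_lit 1264) (.leaf (nat_lit 2)) (.leaf (nat_lit 32))) (.node (nat_lit 1280) (.leaf (nat_lit 2)) (.leaf (nat_lit 96))))))) (.node (nat_lit 1904) (.node (nat_lit 1491) (.node (nat_lit 1422) (.node (nat_lit 1365) (.leaf (nat_lit 32)) (.node (nat_lit 1368) (.leaf (nat_lit 3)) (.leaf (nat_lit 32)))) (.node (nat_lit 1455) (.node (nat_lit 1448) (.leaf (nat_lit 96)) (.leaf (nat_lit 128))) (.node (nat_lit 1477) (.leaf (nat_lit 32)) (.leaf (nat_lit 96))))) (.node (nat_lit 1741) (.node (nat_lit 1699) (.node (nat_lit 1569) (.leaf (nat_lit 160))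 (.leaf (nat_lit 96))) (.node (nat_lit 1740) (.leaf (nat_lit 3)) (.leaf (nat_lit 96)))) (.node (nat_lit 1793) (.node (nat_lit 1792) (.leaf (nat_lit 32)) (.leaf (nat_lit 2))) (.node (nat_lit 1859) (.leaf (nat_lit 32)) (.leaf (nat_lit 96)))))) (.node (nat_lit 2151) (.node (nat_lit 1998) (.node (nat_lit 1933) (.node (nat_lit 1920) (.leaf (nat_lit 32)) (.leaf (nat_lit 96))) (.node (nat_lit 1945) (.leaf (nat_lit 32)) (.leaf (nat_lit 128)))) (.node (nat_lit 2112) (.node (nat_lit 2021) (.leaf (nat_lit 32)) (.leaf (nat_lit 96))) (.node (nat_lit 2126) (.leaf (nat_lit 32)) (.leaf (nat_lit 0))))) (.node (nat_lit 2473) (.node (nat_lit 2381) (.node (nat_lit 2225) (.leaf (nat_lit 96)) (.leaf (nat_lit 32))) (.node (nat_lit 2392) (.leaf (nat_lit 96)) (.leaf (nat_lit 32)))) (.node (nat_lit 2540) (.node (nat_lit 2506) (.leaf (nat_lit 96)) (.leaf (nat_lit 32))) (.node (nat_lit 2654) (.leaf (nat_lit 96)) (.leaf (nat_lit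 32)))))))) (.node (nat_lit 4151) (.node (nat_lit 3024) (.node (nat_lit 2897) (.node (nat_lit 2802) (.node (nat_lit 2709) (.leaf (nat_lit 2)) (.node (nat_lit 2743) (.leaf (nat_lit 32)) (.leaf (nat_lit 96)))) (.node (nat_lit 2849) (.node (nat_lit 2830) (.leaf (nat_lit 128)) (.leaf (nat_lit 2))) (.node (nat_lit 2894) (.leaf (nat_lit 96)) (.leaf (nat_lit 2))))) (.node (nat_lit 2956) (.node (nat_lit 2928) (.node (nat_lit 2921) (.leaf (nat_lit 96)) (.leaf (nat_lit 32))) (.node (nat_lit 2943) (.leaf (nat_lit 96)) (.leaf (nat_lit 32)))) (.node (nat_lit 2989) (.node (nat_lit 2979) (.leaf (nat_lit 96)) (.leaf (nat_lit 32))) (.node (nat_lit 3019) (.leaf (nat_lit 2)) (.leaf (nat_lit 32)))))) (.node (nat_lit 3632) (.node (nat_lit 3437) (.node (nat_lit 3106) (.node (nat_lit 3061) (.leaf (nat_lit 160)) (.leaf (nat_lit 32))) (.node (nat_lit 3132) (.leaf (nat_lit 2)) (.leaf (nat_lit 32)))) (.node (nat_lit 3494)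 (.node (nat_lit 3454) (.leaf (nat_lit 128)) (.leaf (nat_lit 2))) (.node (nat_lit 3499) (.leaf (nat_lit 96)) (.leaf (nat_lit 3))))) (.node (nat_lit 3933) (.node (nat_lit 3758) (.node (nat_lit 3677) (.leaf (nat_lit 160)) (.leaf (nat_lit 2))) (.node (nat_lit 3886) (.leaf (nat_lit 96)) (.leaf (nat_lit 160)))) (.node (nat_lit 4016) (.node (nat_lit 3961) (.leaf (nat_lit 96)) (.leaf (nat_lit 32))) (.node (nat_lit 4132) (.leaf (nat_lit 2)) (.leaf (nat_lit 32))))))) (.node (nat_lit 4881) (.node (nat_lit 4501) (.node (nat_lit 4320) (.node (nat_lit 4275) (.node (nat_lit 4156) (.leaf (nat_lit 96)) (.leaf (nat_lit 32))) (.node (nat_lit 4308) (.leaf (nat_lit 96)) (.leaf (nat_lit 160)))) (.node (nat_lit 4396) (.node (nat_lit 4395) (.leaf (nat_lit 96)) (.leaf (nat_lit 2))) (.node (nat_lit 4440) (.leaf (nat_lit 96)) (.leaf (nat_lit 32))))) (.node (nat_lit 4519) (.node (nat_lit 4506) (.node (nat_lit 4503) (.leaf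 (nat_lit 96)) (.leaf (nat_lit 128))) (.node (nat_lit 4509) (.leaf (nat_lit 96)) (.leaf (nat_lit 32)))) (.node (nat_lit 4733) (.node (nat_lit 4648) (.leaf (nat_lit 96)) (.leaf (nat_lit 32))) (.node (nat_lit 4790) (.leaf (nat_lit 160)) (.leaf (nat_lit 96)))))) (.node (nat_lit 5160) (.node (nat_lit 4929) (.node (nat_lit 4897) (.node (nat_lit 4882) (.leaf (nat_lit 32)) (.leaf (nat_lit 96))) (.node (nat_lit 4915) (.leaf (nat_lit 128)) (.leaf (nat_lit 2)))) (.node (nat_lit 5000) (.node (nat_lit 4983) (.leaf (nat_lit 96)) (.leaf (nat_lit 160))) (.node (nat_lit 5142) (.leaf (nat_lit 32)) (.leaf (nat_lit 128))))) (.node (nat_lit 5299) (.node (nat_lit 5243) (.node (nat_lit 5231) (.leaf (nat_lit 160)) (.leaf (nat_lit 128))) (.node (nat_lit 5279) (.leaf (nat_lit 32)) (.leaf (nat_lit 96)))) (.node (nat_lit 5410) (.node (nat_lit 5319) (.leaf (nat_lit 32)) (.leaf (nat_lit 96))) (.node (nat_lit 5421) (.leaf (nat_lit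 128)) (.leaf (nat_lit 32)))))))))
noncomputable def HE_soc_F : Fm := (.all HE_L (.or (.qf (.eq (.v (nat_lit 0)) .one)) (.exF HE_L (fun cs => HE_soc_t1.find (Nat.mod (nth (nat_lit 0) cs (nat_lit 0)) (nat_lit 5451))) (.exF HE_L (fun cs => HE_soc_t0.find (Nat.mod (Nat.add (nth (nat_lit 0) cs (nat_lit 0)) (Nat.mul (nat_lit 7919) (nth (nat_lit 0) cs (nat_lit 1)))) (nat_lit 4722))) (.qf (.or (.eq (.mul (.mul (.v (nat_lit 0)) (.v (nat_lit 2))) (.inv (.v (nat_lit 0)))) (.v (nat_lit 3))) (.or (.eq (.mul (.mul (.v (nat_lit 0)) (.v (nat_lit 2))) (.inv (.v (nat_lit 0)))) (.v (nat_lit 3))) (.or (.eq (.mul (.mul (.v (nat_lit 0)) (.mul (.mul (.mul (.v (nat_lit 2)) (.v (nat_lit 1))) (.inv (.v (nat_lit 2)))) (.inv (.v (nat_lit 1))))) (.inv (.v (nat_lit 0)))) (.v (nat_lit 3))) (.or (.eq (.mul (.mul (.v (nat_lit 0)) (.mul (.mul (.mul (.v (nat_lit 2)) (.v (nat_lit 1))) (.inv (.v (nat_lit 2)))) (.inv (.v (nat_lit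 1))))) (.inv (.v (nat_lit 0)))) (.v (nat_lit 3))) (.or (.eq (.mul (.mul (.mul (.mul (.mul (.mul (.v (nat_lit 2)) (.v (nat_lit 1))) (.inv (.v (nat_lit 2)))) (.inv (.v (nat_lit 1)))) (.v (nat_lit 0))) (.inv (.mul (.mul (.mul (.v (nat_lit 2)) (.v (nat_lit 1))) (.inv (.v (nat_lit 2)))) (.inv (.v (nat_lit 1)))))) (.inv (.v (nat_lit 0)))) (.v (nat_lit 3))) (.eq (.mul (.mul (.mul (.mul (.mul (.mul (.v (nat_lit 2)) (.v (nat_lit 1))) (.inv (.v (nat_lit 2)))) (.inv (.v (nat_lit 1)))) (.v (nat_lit 0))) (.inv (.mul (.mul (.mul (.v (nat_lit 2)) (.v (nat_lit 1))) (.inv (.v (nat_lit 2)))) (.inv (.v (nat_lit 1)))))) (.inv (.v (nat_lit 0)))) (.v (nat_lit 3)))))))))))))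
theorem HE_soc_chk : Fm.chk HE_o HE_soc_F HE_cs = true := by decide +kernel
theorem HE_soc {G : Type*} [Group G] {R : ℕ → G → Prop} {z u v a b c C_ r : G} {H : Subgroup G}
    (M : Mdl HE_o HE_cs HE_L R [z, u, v, a, b, c, C_, r] H) :
    ∀ y_ ∈ H, y_ = 1 ∨ (∃ q_ ∈ H, ∃ k_ ∈ H, k_ * y_ * k_⁻¹ = z ∨ k_ * y_ * k_⁻¹ = z ∨ k_ * ⁅y_, q_⁆ * k_⁻¹ = z ∨ k_ * ⁅y_, q_⁆ * k_⁻¹ = z ∨ ⁅⁅y_, q_⁆, k_⁆ = z ∨ ⁅⁅y_, q_⁆, k_⁆ = z) :=
  have h : ∀ y_, InL HE_o R HE_L y_ → y_ = 1 ∨ (Good HE_o R HE_L → prods HE_o HE_L HE_o.one ≠ [] → ∃ q_, InL HE_o R HE_L q_ ∧ (Good HE_o R HE_L → prods HE_o HE_L HE_o.one ≠ [] → ∃ k_, InL HE_o R HE_L k_ ∧ (k_ * y_ * k_⁻¹ = z ∨ k_ * y_ * k_⁻¹ = z ∨ k_ * ⁅y_, q_⁆ * k_⁻¹ = z ∨ k_ * ⁅y_, q_⁆ * k_⁻¹ = z ∨ ⁅⁅y_, q_⁆, k_⁆ = z ∨ ⁅⁅y_, q_⁆, k_⁆ = z))) :=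
    Fm.sound M.μ HE_soc_F HE_soc_chk M.reps
  (fun y_ h0 => (Or.imp (fun h1 => h1) (fun h1 => (Exists.imp (fun q_ h2 => ⟨M.H.iff.1 h2.1, (Exists.imp (fun k_ h3 => ⟨M.H.iff.1 h3.1, h3.2⟩) (h2.2 M.H.good M.H.ne))⟩) (h1 M.H.good M.H.ne))) (h y_ (M.H.iff.2 h0))))
theorem HE_mdl {G : Type*} [Group G] {z u v a b c r : G}
    (q : QT z u v a b)
    (h : CE z u v a b c r)
    (n1 : z ≠ 1) :
    ∃ R, Mdl HE_o HE_cs HE_L R [z, u, v, a, b, c, c⁻¹, r] (sp [z, u, v, a, b, c, c⁻¹, r]) ∧ #(sp [z, u, v, a, b, c, c⁻¹, r]) = 192 :=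
  mdl_of HE_P rfl (HE_r q h) (.v (nat_lit 0)) (.v (nat_lit 0)) n1 n1 
    fun _ ms _ M hl => match ms, M, (hl : ms.length = 8) with
      | [_, _, _, _, _, _, _, _], M, _ => HE_soc M
noncomputable def HE_lQ : List ℕ := [(nat_lit 0xffbbcdeb38bdab49ca307b9ac5a928398a418820), (nat_lit 0xf7f3abf3b6de20e5a9956d1f19c8a41892839801), (nat_lit 0xe6abfa7a0f737bb41d39c5ec520e339058b500c2), (nat_lit 0xee7f58c3d362f89c1b7a41497b0a8f0c9cd028e3), (nat_lit 0xbee2ef518afc93a35ba51f0f9162a16ce007ad04), (nat_lit 0xb616f5367e97d07cdc44e0f46eec35a301074525), (nat_lit 0xd721e77eada3f3720cbdb6f0941d8b5023390446), (nat_lit 0xcf7d0657eb8cf45b0afc2251bc19cd02a8f0c867), (nat_lit 0xddd94fba32f28bc163293e87d35a007aea16cc88), (nat_lit 0xc5a6d93d7f57883eecc8d1f82cdc1074435a30a9), (nat_lit 0xac39d4e748293f17869e9b16e6837831ef610e4a), (nat_lit 0x75137d6ca3e1e3e0b6ac57e5003fa6b2322c126b), (nat_lit 0x7b5163e09c1e96aad033f4be083859ba4ddd9591),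 (nat_lit 0x8b2e9e9766c89d554fd40c01f92f4345b87261af), (nat_lit 0x5cec811319375e1f314da8212fc4fc4dc7a2ee8e), (nat_lit 0x64765ca6e2e9a9092fee0543e54f8726343459ed), (nat_lit 0x92843c1cdbb5c2d67d6073e938f909d6485e76b0), (nat_lit 0x6bc981d91a3f2728380bfabc1ad0ddd9459ba62c), (nat_lit 0x857592f7844a3cc681df5c674786f610f7831d52), (nat_lit 0xa38bbe5d27d0d9f03e11979550b722c13a6b2173), (nat_lit 0x9af04322dd165a0fc64f806aaf307a2ecfc4ddd4), (nat_lit 0x548c7b0c57c6c0f8fa61a35cb67c85e7509d6615), (nat_lit 0x495d1ab281802fd1a35b3645c393ca9b7f25bed8), (nat_lit 0x411eb0cdb5042c2e24f8c9ba3d155e6525f8bafb), (nat_lit 0x2a68c845c0a877939397174da1a3f25bfca9b716), (nat_lit 0x19c326a80e7d0584e906ddae42f16cfd671f433d), (nat_lit 0x11a415814c9c468de707490b6bf5aeafdf487b5c), (nat_lit 0x221b302df00d706d1476e8b27e265f8b95e65377), (nat_lit 0x30940986515b0e4bf6c32a138de5f4879aeaff9a), (nat_lit 0x38c0a7c8346b8d62f082be3684ea71f416cfd7b9),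 (nat_lit 0x8062418e92164b755aa64e2fa431bcead7ef3fe), (nat_lit 0x4e62086542553a41f28ad8d756d7ef31bcebdf)]
noncomputable def HE_lQ_W : List (List ℕ) := [[],
  [(nat_lit 0)],
  [(nat_lit 1)],
  [(nat_lit 2)],
  [(nat_lit 3)],
  [(nat_lit 4)],
  [(nat_lit 0), (nat_lit 1)],
  [(nat_lit 0), (nat_lit 2)],
  [(nat_lit 0), (nat_lit 3)],
  [(nat_lit 0), (nat_lit 4)],
  [(nat_lit 1), (nat_lit 2)],
  [(nat_lit 1), (nat_lit 3)],
  [(nat_lit 1), (nat_lit 4)],
  [(nat_lit 2), (nat_lit 3)],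
  [(nat_lit 2), (nat_lit 4)],
  [(nat_lit 3), (nat_lit 2)],
  [(nat_lit 3), (nat_lit 4)],
  [(nat_lit 4), (nat_lit 1)],
  [(nat_lit 0), (nat_lit 1), (nat_lit 2)],
  [(nat_lit 0), (nat_lit 1), (nat_lit 3)],
  [(nat_lit 0), (nat_lit 2), (nat_lit 4)],
  [(nat_lit 0), (nat_lit 3), (nat_lit 4)],
  [(nat_lit 1), (nat_lit 2), (nat_lit 3)],
  [(nat_lit 1), (nat_lit 2), (nat_lit 4)],
  [(nat_lit 1), (nat_lit 3), (nat_lit 2)],
  [(nat_lit 1), (nat_lit 3), (nat_lit 4)],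
  [(nat_lit 2), (nat_lit 3), (nat_lit 4)],
  [(nat_lit 2), (nat_lit 4), (nat_lit 1)],
  [(nat_lit 3), (nat_lit 2), (nat_lit 4)],
  [(nat_lit 3), (nat_lit 4), (nat_lit 1)],
  [(nat_lit 1), (nat_lit 2), (nat_lit 3), (nat_lit 4)],
  [(nat_lit 1), (nat_lit 3), (nat_lit 2), (nat_lit 4)]]
noncomputable def HE_lQ_h (c : ℕ) : ℕ := Nat.mod c (nat_lit 96)
theorem HE_lQ_E {G : Type*} [Group G] {R : ℕ → G → Prop} {z u v a b c r : G} {H : Subgroup G}
    (M : Mdl HE_o HE_cs HE_L R [z, u, v, a, b, c, c⁻¹, r] H) :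
    EnumS R HE_lQ (sp [z, u, v, a, b]) :=
  enumS_sp M.μ.1 (M.reps.tms M.μ.1 [(.v (nat_lit 0)), (.v (nat_lit 1)), (.v (nat_lit 2)), (.v (nat_lit 3)), (.v (nat_lit 4))] (cs' := [(nat_lit 0xf7f3abf3b6de20e5a9956d1f19c8a41892839801), (nat_lit 0xe6abfa7a0f737bb41d39c5ec520e339058b500c2), (nat_lit 0xee7f58c3d362f89c1b7a41497b0a8f0c9cd028e3), (nat_lit 0xbee2ef518afc93a35ba51f0f9162a16ce007ad04), (nat_lit 0xb616f5367e97d07cdc44e0f46eec35a301074525)]) (by decide +kernel))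
    (Ws := HE_lQ_W) (by decide +kernel) (by decide +kernel)
theorem HE_lQ_c {G : Type*} [Group G] {R : ℕ → G → Prop} {z u v a b c r : G} {H : Subgroup G}
    (M : Mdl HE_o HE_cs HE_L R [z, u, v, a, b, c, c⁻¹, r] H) :
    #(sp [z, u, v, a, b]) = 32 :=
  (HE_lQ_E M).card M.μ (h := HE_lQ_h) (by decide +kernel)
noncomputable def HE_lR : List ℕ := [(nat_lit 0xffbbcdeb38bdab49ca307b9ac5a928398a418820), (nat_lit 0xf7f3abf3b6de20e5a9956d1f19c8a41892839801), (nat_lit 0xe6abfa7a0f737bb41d39c5ec520e339058b500c2), (nat_lit 0xb616f5367e97d07cdc44e0f46eec35a301074525), (nat_lit 0x64765ca6e2e9a9092fee0543e54f8726343459ed), (nat_lit 0xd721e77eada3f3720cbdb6f0941d8b5023390446), (nat_lit 0xc5a6d93d7f57883eecc8d1f82cdc1074435a30a9), (nat_lit 0x8b2e9e9766c89d554fd40c01f92f4345b87261af), (nat_lit 0x7b5163e09c1e96aad033f4be083859ba4ddd9591), (nat_lit 0x2a68c845c0a877939397174da1a3f25bfca9b716), (nat_lit 0x6bc981d91a3f2728380bfabc1ad0ddd9459ba62c),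 (nat_lit 0x30940986515b0e4bf6c32a138de5f4879aeaff9a), (nat_lit 0x495d1ab281802fd1a35b3645c393ca9b7f25bed8), (nat_lit 0x11a415814c9c468de707490b6bf5aeafdf487b5c), (nat_lit 0x4e62086542553a41f28ad8d756d7ef31bcebdf), (nat_lit 0x8062418e92164b755aa64e2fa431bcead7ef3fe)]
noncomputable def HE_lR_W : List (List ℕ) := [[],
  [(nat_lit 0)],
  [(nat_lit 1)],
  [(nat_lit 2)],
  [(nat_lit 3)],
  [(nat_lit 0), (nat_lit 1)],
  [(nat_lit 0), (nat_lit 2)],
  [(nat_lit 0), (nat_lit 3)],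
  [(nat_lit 1), (nat_lit 2)],
  [(nat_lit 1), (nat_lit 3)],
  [(nat_lit 2), (nat_lit 1)],
  [(nat_lit 2), (nat_lit 3)],
  [(nat_lit 0), (nat_lit 1), (nat_lit 3)],
  [(nat_lit 0), (nat_lit 2), (nat_lit 3)],
  [(nat_lit 1), (nat_lit 2), (nat_lit 3)],
  [(nat_lit 2), (nat_lit 1), (nat_lit 3)]]
noncomputable def HE_lR_h (c : ℕ) : ℕ := Nat.mod c (nat_lit 56)
theorem HE_lR_E {G : Type*} [Group G] {R : ℕ → G → Prop} {z u v a b c r : G} {H : Subgroup G}
    (M : Mdl HE_o HE_cs HE_L R [z, u, v, a, b, c, c⁻¹, r] H) :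
    EnumS R HE_lR (sp [z, u, b, v * a]) :=
  enumS_sp M.μ.1 (M.reps.tms M.μ.1 [(.v (nat_lit 0)), (.v (nat_lit 1)), (.v (nat_lit 4)), (.mul (.v (nat_lit 2)) (.v (nat_lit 3)))] (cs' := [(nat_lit 0xf7f3abf3b6de20e5a9956d1f19c8a41892839801), (nat_lit 0xe6abfa7a0f737bb41d39c5ec520e339058b500c2), (nat_lit 0xb616f5367e97d07cdc44e0f46eec35a301074525), (nat_lit 0x64765ca6e2e9a9092fee0543e54f8726343459ed)]) (by decide +kernel))
    (Ws := HE_lR_W) (by decide +kernel) (by decide +kernel)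
theorem HE_lR_c {G : Type*} [Group G] {R : ℕ → G → Prop} {z u v a b c r : G} {H : Subgroup G}
    (M : Mdl HE_o HE_cs HE_L R [z, u, v, a, b, c, c⁻¹, r] H) :
    #(sp [z, u, b, v * a]) = 16 :=
  (HE_lR_E M).card M.μ (h := HE_lR_h) (by decide +kernel)
noncomputable def HE_lM1 : List ℕ := [(nat_lit 0xffbbcdeb38bdab49ca307b9ac5a928398a418820), (nat_lit 0xf7f3abf3b6de20e5a9956d1f19c8a41892839801), (nat_lit 0xe6abfa7a0f737bb41d39c5ec520e339058b500c2), (nat_lit 0xb616f5367e97d07cdc44e0f46eec35a301074525), (nat_lit 0x64765ca6e2e9a9092fee0543e54f8726343459ed), (nat_lit 0x30bacdc73cbe96a392d37c9b81a3f4827cea9420), (nat_lit 0x496f1cb376ee1d040f946d5fa21ff351bcb90820), (nat_lit 0xd721e77eada3f3720cbdb6f0941d8b5023390446), (nat_lit 0xc5a6d93d7f57883eecc8d1f82cdc1074435a30a9), (nat_lit 0x8b2e9e9766c89d554fd40c01f92f4345b87261af), (nat_lit 0x11b31bb3badf2721a30b6a9f6393cea97f482401), (nat_lit 0x2a76cec6f8cda9521f4e7c1bc40fcb90bf351801),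 (nat_lit 0x7b5163e09c1e96aad033f4be083859ba4ddd9591), (nat_lit 0x2a68c845c0a877939397174da1a3f25bfca9b716), (nat_lit 0x6456650a6f937bba43f9e5f5e756c72070340125), (nat_lit 0x8b1c98168dabef99abfbb771e5cb8818744380c2), (nat_lit 0x6bc981d91a3f2728380bfabc1ad0ddd9459ba62c), (nat_lit 0x30940986515b0e4bf6c32a138de5f4879aeaff9a), (nat_lit 0xd706f434e221a90cdcae65629eec2b5601395bfe), (nat_lit 0xc588d3bd051a66adf44b8c986be42e86814af3fe), (nat_lit 0xc5b7ecfee5ea55320cd202c2241d9077235a69ed), (nat_lit 0xd733edffa2b9a1419135038253a22a5d9929e1af), (nat_lit 0x82a5a261f7788392da8c1ecf54f9bcc757eb0c2), (nat_lit 0x497b8ddb2cbc46883b47791bcad0ca9fc525f820), (nat_lit 0x30afacf371eb08752f0868df694d30a7cb577820), (nat_lit 0x82429995f5f864ab9e7d238d852d9db31dbc525), (nat_lit 0xe6bbfbfb26d8aae3a0b00d009191929e22a5d9ed), (nat_lit 0xffaf6ce37aef253a558a6adf1740c74244321420), (nat_lit 0x495d1ab281802fd1a35b3645c393ca9b7f25bed8),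 (nat_lit 0x8b2629196d53f37757ddd6f9fa4303402c7204a9), (nat_lit 0x64685aa5cf8377d5cbd7c66df9ab443838818446), (nat_lit 0x11a415814c9c468de707490b6bf5aeafdf487b5c), (nat_lit 0xe68ed23c66409d5eed348c185cdc139582b563df), (nat_lit 0xb610f1b48939572be4d362a22df414af02e86bdf), (nat_lit 0xb62ffefb69c964b41c4a0cc0620e35a6990771af), (nat_lit 0x609716bea7d0754de4b0f0d92f57eb39bcc446), (nat_lit 0x2a736be3b1db0e4ad3836a1fa838525f8ca9fc01), (nat_lit 0x11b7ceeaeccc50394ec479db852cb577930a7c01), (nat_lit 0x54658a5e9fce8851a3e134fabb1dbc6d9db0a9), (nat_lit 0xf7f78edafcce94b742327cdaca5443214c742401), (nat_lit 0x4e62086542553a41f28ad8d756d7ef31bcebdf), (nat_lit 0x7b69a871ccac4685a827110c09c8b9bfd3ddfb16), (nat_lit 0x6be7855971930877402828d20a545befcd7cfb5c), (nat_lit 0xf7d589da4058779839972f531ad0c41bc483b79a), (nat_lit 0xf7e1aa72a07073b52e3d15ccc94d23234a743ed8), (nat_lit 0x2a481181183dab4de790fbbdabf5b2599ea98a2c),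 (nat_lit 0xc5869414ef237bb54cd965e2292f5070795a03fe), (nat_lit 0xd70863890d1bef98513b8f585abb0a586d2983fe), (nat_lit 0x11861200fa47253ceecafafd8eddf5725b0a1591), (nat_lit 0xffabc76a01a03b794d9936c5152ca743d2323716), (nat_lit 0xb625f9f94d5bef93a0dbd778219194a862e80125), (nat_lit 0x8062418e92164b755aa64e2fa431bcead7ef3fe), (nat_lit 0x6bddcaea91830e49c803320415a93ddf8b9bfed8), (nat_lit 0x7b5769626c54503a540449ca1740d7cf85beff9a), (nat_lit 0x49500384961e20ebf755f53fcde5ea989b259991), (nat_lit 0x308e04047c2694bedf12f4ff6cedb0a15f57262c), (nat_lit 0x8b2afa360572553cdfd2c2edfeec2347007268c2), (nat_lit 0x6464d9bd4259a14df7d5d3b9fbe4243d8081e125), (nat_lit 0xe69cd83e9eafce8df4a3b1309be4329c40a5b0c2), (nat_lit 0xe6b62c9afeefd077552400c25a4313932cb545ed), (nat_lit 0xb6325da7bebfce85c8c3010229ab54ac78e831af), (nat_lit 0x8b322d9ba5ba66aabbeb0483e852c81eb043f1af), (nat_lit 0x817e57e66909d520db4e434f41d9bcda37ee125),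 (nat_lit 0x81de87e89a9572191f3b2b0d3a239df19dbe8c2), (nat_lit 0xc5ba9b973fdf8649a8470a0065cb8e83354ac5ed), (nat_lit 0x80853a50618aae5c9f08d18d9ab59de39dbdbfe), (nat_lit 0x647a6b8b29d9572853d30a81fabb043f2c81e9ed), (nat_lit 0xffa565e141982fdad23b4e4ac838483b4c41bf5c), (nat_lit 0xb60e52246d43f3792c5d8ed8654f95a0350707df), (nat_lit 0xe69021988f3b77dab8b766629852d29830a587df), (nat_lit 0xc595e5fe4f9b77d19057e67463a22e80194a84a9), (nat_lit 0x6460d73ea9a164beefeab4f1ecdc072682347046), (nat_lit 0x8b14f5b64698aaebe7f0e535edf4081e0243d8a9), (nat_lit 0xd728fab5df87864be527c22c5df40a5b0329c446), (nat_lit 0xd72e6e8b7fcf883a40a809c09756cb54713931af), (nat_lit 0x67f9796251a9041deed578d20e37ee19bcd8a9), (nat_lit 0x69faf9c58266a3a1abc4acf1919dbea39df046), (nat_lit 0x5091948239a149a9b563a2f5cb9dbdb59de3df), (nat_lit 0x7b5519b2585dab41a0302b920393d9b9bfdd8b9a), (nat_lit 0x6be0ca46ba7725321c2a12cc040fdbea7f7c96d8),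 (nat_lit 0x6bcfc46876261d094c34f57e052cbbe9937c8a2c), (nat_lit 0x1191c3e880187799cb17f77f65a92eabcb483591), (nat_lit 0x2a4f6460602073ba575df5ffc740cb9345353e2c), (nat_lit 0x11a71531609073b40edd2dd3821ff5737d0a3f5c), (nat_lit 0xf7dc1a829c8696ade59334851bf5a41a5e8396d8), (nat_lit 0xf7d6190276561d0cee344d4acedde3219a740b9a), (nat_lit 0x49478258e1403b774399fefdaa545353ccb93591), (nat_lit 0x2a6a170211a3087cef4830c5ceddeb97db357b16), (nat_lit 0x3096c94661503b721f194ecb640fd0a3ff57379a), (nat_lit 0x6be4c5c5569e20e390154d0a11a3fdd8bd9b9b5c), (nat_lit 0x7b6b17321ca694b40c1234c4121ff7c97dbea716), (nat_lit 0x7b47a270f845a9552c0efc3c194d37c88bbe9991), (nat_lit 0xffa80805daaf272bf62b128ccde5e8395a41a716), (nat_lit 0xffa605057895a95edd8e2c131ceda7409e321b5c), (nat_lit 0x49600a06ac74503edf8411cdacedb3579eb97ed8), (nat_lit 0x3089a1f101382fd5aadbfe7d89c8b48352eabe2c)]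
noncomputable def HE_lM1_W : List (List ℕ) := [[],
  [(nat_lit 0)],
  [(nat_lit 1)],
  [(nat_lit 2)],
  [(nat_lit 3)],
  [(nat_lit 4)],
  [(nat_lit 5)],
  [(nat_lit 0), (nat_lit 1)],
  [(nat_lit 0), (nat_lit 2)],
  [(nat_lit 0), (nat_lit 3)],
  [(nat_lit 0), (nat_lit 4)],
  [(nat_lit 0), (nat_lit 5)],
  [(nat_lit 1), (nat_lit 2)],
  [(nat_lit 1), (nat_lit 3)],
  [(nat_lit 1), (nat_lit 4)],
  [(nat_lit 1), (nat_lit 5)],
  [(nat_lit 2), (nat_lit 1)],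
  [(nat_lit 2), (nat_lit 3)],
  [(nat_lit 2), (nat_lit 4)],
  [(nat_lit 2), (nat_lit 5)],
  [(nat_lit 3), (nat_lit 4)],
  [(nat_lit 3), (nat_lit 5)],
  [(nat_lit 4), (nat_lit 1)],
  [(nat_lit 4), (nat_lit 4)],
  [(nat_lit 4), (nat_lit 5)],
  [(nat_lit 5), (nat_lit 2)],
  [(nat_lit 5), (nat_lit 3)],
  [(nat_lit 5), (nat_lit 4)],
  [(nat_lit 0), (nat_lit 1), (nat_lit 3)],
  [(nat_lit 0), (nat_lit 1), (nat_lit 4)],
  [(nat_lit 0), (nat_lit 1), (nat_lit 5)],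
  [(nat_lit 0), (nat_lit 2), (nat_lit 3)],
  [(nat_lit 0), (nat_lit 2), (nat_lit 4)],
  [(nat_lit 0), (nat_lit 2), (nat_lit 5)],
  [(nat_lit 0), (nat_lit 3), (nat_lit 4)],
  [(nat_lit 0), (nat_lit 4), (nat_lit 1)],
  [(nat_lit 0), (nat_lit 4), (nat_lit 4)],
  [(nat_lit 0), (nat_lit 4), (nat_lit 5)],
  [(nat_lit 0), (nat_lit 5), (nat_lit 2)],
  [(nat_lit 0), (nat_lit 5), (nat_lit 4)],
  [(nat_lit 1), (nat_lit 2), (nat_lit 3)],
  [(nat_lit 1), (nat_lit 2), (nat_lit 4)],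
  [(nat_lit 1), (nat_lit 2), (nat_lit 5)],
  [(nat_lit 1), (nat_lit 3), (nat_lit 4)],
  [(nat_lit 1), (nat_lit 3), (nat_lit 5)],
  [(nat_lit 1), (nat_lit 4), (nat_lit 1)],
  [(nat_lit 1), (nat_lit 4), (nat_lit 4)],
  [(nat_lit 1), (nat_lit 4), (nat_lit 5)],
  [(nat_lit 1), (nat_lit 5), (nat_lit 2)],
  [(nat_lit 1), (nat_lit 5), (nat_lit 3)],
  [(nat_lit 1), (nat_lit 5), (nat_lit 4)],
  [(nat_lit 2), (nat_lit 1), (nat_lit 3)],
  [(nat_lit 2), (nat_lit 1), (nat_lit 4)],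
  [(nat_lit 2), (nat_lit 1), (nat_lit 5)],
  [(nat_lit 2), (nat_lit 3), (nat_lit 4)],
  [(nat_lit 2), (nat_lit 3), (nat_lit 5)],
  [(nat_lit 2), (nat_lit 4), (nat_lit 4)],
  [(nat_lit 2), (nat_lit 4), (nat_lit 5)],
  [(nat_lit 2), (nat_lit 5), (nat_lit 4)],
  [(nat_lit 3), (nat_lit 4), (nat_lit 4)],
  [(nat_lit 3), (nat_lit 4), (nat_lit 5)],
  [(nat_lit 3), (nat_lit 5), (nat_lit 4)],
  [(nat_lit 4), (nat_lit 1), (nat_lit 4)],
  [(nat_lit 4), (nat_lit 1), (nat_lit 5)],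
  [(nat_lit 4), (nat_lit 5), (nat_lit 3)],
  [(nat_lit 5), (nat_lit 2), (nat_lit 4)],
  [(nat_lit 5), (nat_lit 3), (nat_lit 4)],
  [(nat_lit 0), (nat_lit 1), (nat_lit 3), (nat_lit 4)],
  [(nat_lit 0), (nat_lit 1), (nat_lit 4), (nat_lit 4)],
  [(nat_lit 0), (nat_lit 1), (nat_lit 4), (nat_lit 5)],
  [(nat_lit 0), (nat_lit 1), (nat_lit 5), (nat_lit 4)],
  [(nat_lit 0), (nat_lit 2), (nat_lit 4), (nat_lit 4)],
  [(nat_lit 0), (nat_lit 2), (nat_lit 4), (nat_lit 5)],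
  [(nat_lit 0), (nat_lit 2), (nat_lit 5), (nat_lit 4)],
  [(nat_lit 0), (nat_lit 3), (nat_lit 4), (nat_lit 4)],
  [(nat_lit 0), (nat_lit 4), (nat_lit 1), (nat_lit 4)],
  [(nat_lit 0), (nat_lit 4), (nat_lit 1), (nat_lit 5)],
  [(nat_lit 0), (nat_lit 5), (nat_lit 2), (nat_lit 4)],
  [(nat_lit 1), (nat_lit 2), (nat_lit 4), (nat_lit 4)],
  [(nat_lit 1), (nat_lit 2), (nat_lit 4), (nat_lit 5)],
  [(nat_lit 1), (nat_lit 2), (nat_lit 5), (nat_lit 4)],
  [(nat_lit 1), (nat_lit 3), (nat_lit 4), (nat_lit 4)],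
  [(nat_lit 1), (nat_lit 3), (nat_lit 4), (nat_lit 5)],
  [(nat_lit 1), (nat_lit 3), (nat_lit 5), (nat_lit 4)],
  [(nat_lit 1), (nat_lit 4), (nat_lit 1), (nat_lit 4)],
  [(nat_lit 1), (nat_lit 4), (nat_lit 1), (nat_lit 5)],
  [(nat_lit 1), (nat_lit 4), (nat_lit 5), (nat_lit 3)],
  [(nat_lit 1), (nat_lit 5), (nat_lit 2), (nat_lit 4)],
  [(nat_lit 1), (nat_lit 5), (nat_lit 3), (nat_lit 4)],
  [(nat_lit 2), (nat_lit 1), (nat_lit 4), (nat_lit 4)],
  [(nat_lit 2), (nat_lit 1), (nat_lit 4), (nat_lit 5)],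
  [(nat_lit 2), (nat_lit 1), (nat_lit 5), (nat_lit 4)],
  [(nat_lit 2), (nat_lit 3), (nat_lit 4), (nat_lit 4)],
  [(nat_lit 2), (nat_lit 3), (nat_lit 4), (nat_lit 5)],
  [(nat_lit 2), (nat_lit 3), (nat_lit 5), (nat_lit 4)],
  [(nat_lit 4), (nat_lit 1), (nat_lit 4), (nat_lit 1)]]
noncomputable def HE_lM1_h (c : ℕ) : ℕ := Nat.mod c (nat_lit 2725)
theorem HE_lM1_E {G : Type*} [Group G] {R : ℕ → G → Prop} {z u v a b c r : G} {H : Subgroup G}
    (M : Mdl HE_o HE_cs HE_L R [z, u, v, a, b, c, c⁻¹, r] H) :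
    EnumS R HE_lM1 (sp [z, u, b, v * a, c, r]) :=
  enumS_sp M.μ.1 (M.reps.tms M.μ.1 [(.v (nat_lit 0)), (.v (nat_lit 1)), (.v (nat_lit 4)), (.mul (.v (nat_lit 2)) (.v (nat_lit 3))), (.v (nat_lit 5)), (.v (nat_lit 7))] (cs' := [(nat_lit 0xf7f3abf3b6de20e5a9956d1f19c8a41892839801), (nat_lit 0xe6abfa7a0f737bb41d39c5ec520e339058b500c2), (nat_lit 0xb616f5367e97d07cdc44e0f46eec35a301074525), (nat_lit 0x64765ca6e2e9a9092fee0543e54f8726343459ed), (nat_lit 0x30bacdc73cbe96a392d37c9b81a3f4827cea9420), (nat_lit 0x496f1cb376ee1d040f946d5fa21ff351bcb90820)]) (by decide +kernel))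
    (Ws := HE_lM1_W) (by decide +kernel) (by decide +kernel)
theorem HE_lM1_c {G : Type*} [Group G] {R : ℕ → G → Prop} {z u v a b c r : G} {H : Subgroup G}
    (M : Mdl HE_o HE_cs HE_L R [z, u, v, a, b, c, c⁻¹, r] H) :
    #(sp [z, u, b, v * a, c, r]) = 96 :=
  (HE_lM1_E M).card M.μ (h := HE_lM1_h) (by decide +kernel)
noncomputable def HE_lM2 : List ℕ := [(nat_lit 0xffbbcdeb38bdab49ca307b9ac5a928398a418820), (nat_lit 0xbed2ee50a8d123fb1b2c9f97dc0a0d08eaf01d52), (nat_lit 0xa399bf5e2bfccba782a927110687b814b36328e3), (nat_lit 0xddc48b10d2c2b8567bbaaa6198fc6f04ced0add4), (nat_lit 0x54a35fc197f6de03616d40493159dc2e69a4f467), (nat_lit 0xd721e77eada3f3720cbdb6f0941d8b5023390446), (nat_lit 0xc5869414ef237bb54cd965e2292f5070795a03fe), (nat_lit 0xf7dc1a829c8696ade59334851bf5a41a5e8396d8), (nat_lit 0x2a736be3b1db0e4ad3836a1fa838525f8ca9fc01), (nat_lit 0x67f9796251a9041deed578d20e37ee19bcd8a9), (nat_lit 0xe68ed23c66409d5eed348c185cdc139582b563df),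 (nat_lit 0xf7d589da4058779839972f531ad0c41bc483b79a), (nat_lit 0xb616f5367e97d07cdc44e0f46eec35a301074525), (nat_lit 0x11b31bb3badf2721a30b6a9f6393cea97f482401), (nat_lit 0x82a5a261f7788392da8c1ecf54f9bcc757eb0c2), (nat_lit 0x223574ef902d4d8684e255a4378331fd3acf3973), (nat_lit 0x855b20a9e40219ed2691dfeeee1662b1d66c0fb9), (nat_lit 0x410106d4337ad3c15865eeb273628cf29d1fcafb), (nat_lit 0x5ccddc6444b219e0be5187eaa036e9e1f65d0e8e), (nat_lit 0x9282379c156c056fb266ce3abf449a4b91c2d377), (nat_lit 0xddfca8cbee65302e17b6198f9d256f0426d0d488), (nat_lit 0x7538728f5b4dda1f460f90155fb116374981666b), (nat_lit 0xac0a4d2139e742f8fdc05b674678e6c6c62b5e4a), (nat_lit 0xcf633fad95f40562eb66460974f1406ba417d067), (nat_lit 0x38ccac485db640de150183ea4d257e8de7f66e8e), (nat_lit 0x92ad736f0710fec6867ea45cb7833a4a3bc292b0), (nat_lit 0x19df4039aa0cb49c089cb9768b1abf62e1e8cf3d), (nat_lit 0x7502b7cc0369fd14f21fcb3b52ea563115812377),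 (nat_lit 0xbeff262bd48bac6d27383887de166d0d56f04104), (nat_lit 0x2231312edb35da12e8ef702834f151ff64cf6615), (nat_lit 0x9ada40a1ee053028fd56d9af2678e5d4069e57b9), (nat_lit 0x38cb9d7534e3ac60351858a640bf7e8d6ff6424a), (nat_lit 0xee58bf4e30fd4d84f2e22591b2ea417d1406b8e3), (nat_lit 0x7b69a871ccac4685a827110c09c8b9bfd3ddfb16), (nat_lit 0xb62ffefb69c964b41c4a0cc0620e35a6990771af), (nat_lit 0x6bc981d91a3f2728380bfabc1ad0ddd9459ba62c), (nat_lit 0x6456650a6f937bba43f9e5f5e756c72070340125), (nat_lit 0x49500384961e20ebf755f53fcde5ea989b259991), (nat_lit 0x6be4c5c5569e20e390154d0a11a3fdd8bd9b9b5c), (nat_lit 0x8b2629196d53f37757ddd6f9fa4303402c7204a9), (nat_lit 0x30940986515b0e4bf6c32a138de5f4879aeaff9a), (nat_lit 0x4e62086542553a41f28ad8d756d7ef31bcebdf), (nat_lit 0xe6b62c9afeefd077552400c25a4313932cb545ed), (nat_lit 0xffa565e141982fdad23b4e4ac838483b4c41bf5c), (nat_lit 0x8b2afa360572553cdfd2c2edfeec2347007268c2),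 (nat_lit 0x30bacdc73cbe96a392d37c9b81a3f4827cea9420), (nat_lit 0x8062418e92164b755aa64e2fa431bcead7ef3fe), (nat_lit 0x11a415814c9c468de707490b6bf5aeafdf487b5c), (nat_lit 0x3089a1f101382fd5aadbfe7d89c8b48352eabe2c), (nat_lit 0xc5b7ecfee5ea55320cd202c2241d9077235a69ed), (nat_lit 0x495d1ab281802fd1a35b3645c393ca9b7f25bed8), (nat_lit 0xd72e6e8b7fcf883a40a809c09756cb54713931af), (nat_lit 0xffa80805daaf272bf62b128ccde5e8395a41a716), (nat_lit 0x7b5163e09c1e96aad033f4be083859ba4ddd9591), (nat_lit 0x6460d73ea9a164beefeab4f1ecdc072682347046), (nat_lit 0x2a68c845c0a877939397174da1a3f25bfca9b716), (nat_lit 0x497b8ddb2cbc46883b47791bcad0ca9fc525f820), (nat_lit 0x9aff463bdd8e40dc09413bc72b1aa5d5e09e6d04), (nat_lit 0x54b1b15ec331fd17817f73293687bc2933a4a215), (nat_lit 0x5cde8011b40bac667a58b8b6a8fc69e54e5d433d), (nat_lit 0x412cb34f1716de04f06da05c72ea4cf6551ff6b0), (nat_lit 0xee70311ed332d3cfb2e576a9bf44817a9006ca15),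 (nat_lit 0x9ac59b74c8c123f0354cafa120bf65d0ee9e1dd4), (nat_lit 0x857d98f7ea64b490369c194ee0bf62b2ee6c4c88), (nat_lit 0xcf6c730f0b14cbaf4769a71d7fb1006c8817aab0), (nat_lit 0xac1ea049a80923fe15ccbfb74d2566c0e62b1f3d), (nat_lit 0x19c52b28d9c742fd2480ab608e167f66d7e8ddd4), (nat_lit 0xa38136ac2778fec2eabeec7304f15812256312fb), (nat_lit 0xac3fd667d28ab850bdda3a474036e6c4f62b2d04), (nat_lit 0xbecc4c204ab4b498ff3c816bd678ed0ac6f04e8e), (nat_lit 0xee7952c34748fec362fe9455b159c17a2806926b), (nat_lit 0x19d3de64aed53020bc9699968036ff6437e8d552), (nat_lit 0x92990f563bfdda115a6f2010b3629a4f5dc2e4e3), (nat_lit 0x5480768c307d4d8f4562edb33fb11c2d09a4bafb), (nat_lit 0x5cfce8d3f96742fb1a401b4eac0a09e6ea5d5c88), (nat_lit 0xcf7504d78329fd115b7f5325736280691c17a173), (nat_lit 0x4139b2df554c0567806696147687acf3b31fd26b), (nat_lit 0xa3b4349f972ede0fb2ad50650f44981651637573), (nat_lit 0xddcb4d3924e219ec0bb15fe79b1aaf01e0d08e4a),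 (nat_lit 0x85528e10bdd640d67a819bd6e8fc62b5ce6c6d52), (nat_lit 0x75237fed93f2d3c68605468957833632bb814867), (nat_lit 0x64765ca6e2e9a9092fee0543e54f8726343459ed), (nat_lit 0x1191c3e880187799cb17f77f65a92eabcb483591), (nat_lit 0x817e57e66909d520db4e434f41d9bcda37ee125), (nat_lit 0xc5a6d93d7f57883eecc8d1f82cdc1074435a30a9), (nat_lit 0x7b5519b2585dab41a0302b920393d9b9bfdd8b9a), (nat_lit 0x8b2e9e9766c89d554fd40c01f92f4345b87261af), (nat_lit 0xb60e52246d43f3792c5d8ed8654f95a0350707df), (nat_lit 0x2a481181183dab4de790fbbdabf5b2599ea98a2c), (nat_lit 0xe6abfa7a0f737bb41d39c5ec520e339058b500c2), (nat_lit 0xd706f434e221a90cdcae65629eec2b5601395bfe), (nat_lit 0xf7f3abf3b6de20e5a9956d1f19c8a41892839801), (nat_lit 0x609716bea7d0754de4b0f0d92f57eb39bcc446), (nat_lit 0x6bddcaea91830e49c803320415a93ddf8b9bfed8), (nat_lit 0x38dae0d1f202b85b191ada6e4c0a1e8cebf62fb9), (nat_lit 0x220357c00b6ccba360e9cf3a3159d1fca8cf2b77)]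
noncomputable def HE_lM2_W : List (List ℕ) := [[],
  [(nat_lit 0)],
  [(nat_lit 1)],
  [(nat_lit 2)],
  [(nat_lit 3)],
  [(nat_lit 0), (nat_lit 0)],
  [(nat_lit 0), (nat_lit 2)],
  [(nat_lit 0), (nat_lit 3)],
  [(nat_lit 1), (nat_lit 2)],
  [(nat_lit 1), (nat_lit 3)],
  [(nat_lit 2), (nat_lit 0)],
  [(nat_lit 2), (nat_lit 1)],
  [(nat_lit 2), (nat_lit 2)],
  [(nat_lit 3), (nat_lit 0)],
  [(nat_lit 3), (nat_lit 1)],
  [(nat_lit 0), (nat_lit 0), (nat_lit 2)],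
  [(nat_lit 0), (nat_lit 0), (nat_lit 3)],
  [(nat_lit 0), (nat_lit 2), (nat_lit 0)],
  [(nat_lit 0), (nat_lit 2), (nat_lit 1)],
  [(nat_lit 0), (nat_lit 2), (nat_lit 2)],
  [(nat_lit 0), (nat_lit 3), (nat_lit 0)],
  [(nat_lit 0), (nat_lit 3), (nat_lit 1)],
  [(nat_lit 1), (nat_lit 2), (nat_lit 0)],
  [(nat_lit 1), (nat_lit 2), (nat_lit 1)],
  [(nat_lit 1), (nat_lit 2), (nat_lit 2)],
  [(nat_lit 1), (nat_lit 3), (nat_lit 0)],
  [(nat_lit 1), (nat_lit 3), (nat_lit 1)],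
  [(nat_lit 2), (nat_lit 0), (nat_lit 0)],
  [(nat_lit 2), (nat_lit 1), (nat_lit 2)],
  [(nat_lit 2), (nat_lit 2), (nat_lit 0)],
  [(nat_lit 2), (nat_lit 2), (nat_lit 1)],
  [(nat_lit 3), (nat_lit 0), (nat_lit 0)],
  [(nat_lit 3), (nat_lit 0), (nat_lit 3)],
  [(nat_lit 0), (nat_lit 0), (nat_lit 2), (nat_lit 0)],
  [(nat_lit 0), (nat_lit 0), (nat_lit 2), (nat_lit 1)],
  [(nat_lit 0), (nat_lit 0), (nat_lit 2), (nat_lit 2)],
  [(nat_lit 0), (nat_lit 0), (nat_lit 3), (nat_lit 0)],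
  [(nat_lit 0), (nat_lit 0), (nat_lit 3), (nat_lit 1)],
  [(nat_lit 0), (nat_lit 2), (nat_lit 0), (nat_lit 0)],
  [(nat_lit 0), (nat_lit 2), (nat_lit 1), (nat_lit 2)],
  [(nat_lit 0), (nat_lit 2), (nat_lit 2), (nat_lit 0)],
  [(nat_lit 0), (nat_lit 2), (nat_lit 2), (nat_lit 1)],
  [(nat_lit 0), (nat_lit 3), (nat_lit 0), (nat_lit 0)],
  [(nat_lit 0), (nat_lit 3), (nat_lit 0), (nat_lit 3)],
  [(nat_lit 1), (nat_lit 2), (nat_lit 0), (nat_lit 0)],
  [(nat_lit 1), (nat_lit 2), (nat_lit 1), (nat_lit 2)],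
  [(nat_lit 1), (nat_lit 2), (nat_lit 2), (nat_lit 0)],
  [(nat_lit 1), (nat_lit 2), (nat_lit 2), (nat_lit 1)],
  [(nat_lit 1), (nat_lit 3), (nat_lit 0), (nat_lit 0)],
  [(nat_lit 1), (nat_lit 3), (nat_lit 0), (nat_lit 3)],
  [(nat_lit 2), (nat_lit 0), (nat_lit 0), (nat_lit 2)],
  [(nat_lit 2), (nat_lit 1), (nat_lit 2), (nat_lit 0)],
  [(nat_lit 2), (nat_lit 1), (nat_lit 2), (nat_lit 1)],
  [(nat_lit 2), (nat_lit 2), (nat_lit 0), (nat_lit 0)],
  [(nat_lit 2), (nat_lit 2), (nat_lit 1), (nat_lit 2)],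
  [(nat_lit 3), (nat_lit 0), (nat_lit 0), (nat_lit 3)],
  [(nat_lit 3), (nat_lit 0), (nat_lit 3), (nat_lit 0)],
  [(nat_lit 0), (nat_lit 0), (nat_lit 2), (nat_lit 0), (nat_lit 0)],
  [(nat_lit 0), (nat_lit 0), (nat_lit 2), (nat_lit 1), (nat_lit 2)],
  [(nat_lit 0), (nat_lit 0), (nat_lit 2), (nat_lit 2), (nat_lit 0)],
  [(nat_lit 0), (nat_lit 0), (nat_lit 2), (nat_lit 2), (nat_lit 1)],
  [(nat_lit 0), (nat_lit 0), (nat_lit 3), (nat_lit 0), (nat_lit 0)],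
  [(nat_lit 0), (nat_lit 0), (nat_lit 3), (nat_lit 0), (nat_lit 3)],
  [(nat_lit 0), (nat_lit 2), (nat_lit 0), (nat_lit 0), (nat_lit 2)],
  [(nat_lit 0), (nat_lit 2), (nat_lit 1), (nat_lit 2), (nat_lit 0)],
  [(nat_lit 0), (nat_lit 2), (nat_lit 1), (nat_lit 2), (nat_lit 1)],
  [(nat_lit 0), (nat_lit 2), (nat_lit 2), (nat_lit 0), (nat_lit 0)],
  [(nat_lit 0), (nat_lit 2), (nat_lit 2), (nat_lit 1), (nat_lit 2)],
  [(nat_lit 0), (nat_lit 3), (nat_lit 0), (nat_lit 0), (nat_lit 3)],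
  [(nat_lit 0), (nat_lit 3), (nat_lit 0), (nat_lit 3), (nat_lit 0)],
  [(nat_lit 1), (nat_lit 2), (nat_lit 0), (nat_lit 0), (nat_lit 2)],
  [(nat_lit 1), (nat_lit 2), (nat_lit 1), (nat_lit 2), (nat_lit 0)],
  [(nat_lit 1), (nat_lit 2), (nat_lit 1), (nat_lit 2), (nat_lit 1)],
  [(nat_lit 1), (nat_lit 2), (nat_lit 2), (nat_lit 0), (nat_lit 0)],
  [(nat_lit 1), (nat_lit 2), (nat_lit 2), (nat_lit 1), (nat_lit 2)],
  [(nat_lit 1), (nat_lit 3), (nat_lit 0), (nat_lit 0), (nat_lit 3)],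
  [(nat_lit 1), (nat_lit 3), (nat_lit 0), (nat_lit 3), (nat_lit 0)],
  [(nat_lit 2), (nat_lit 1), (nat_lit 2), (nat_lit 0), (nat_lit 0)],
  [(nat_lit 2), (nat_lit 1), (nat_lit 2), (nat_lit 1), (nat_lit 2)],
  [(nat_lit 2), (nat_lit 2), (nat_lit 1), (nat_lit 2), (nat_lit 1)],
  [(nat_lit 3), (nat_lit 0), (nat_lit 3), (nat_lit 0), (nat_lit 3)],
  [(nat_lit 0), (nat_lit 0), (nat_lit 2), (nat_lit 0), (nat_lit 0), (nat_lit 2)],
  [(nat_lit 0), (nat_lit 0), (nat_lit 2), (nat_lit 1), (nat_lit 2), (nat_lit 0)],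
  [(nat_lit 0), (nat_lit 0), (nat_lit 2), (nat_lit 1), (nat_lit 2), (nat_lit 1)],
  [(nat_lit 0), (nat_lit 0), (nat_lit 2), (nat_lit 2), (nat_lit 0), (nat_lit 0)],
  [(nat_lit 0), (nat_lit 0), (nat_lit 2), (nat_lit 2), (nat_lit 1), (nat_lit 2)],
  [(nat_lit 0), (nat_lit 0), (nat_lit 3), (nat_lit 0), (nat_lit 0), (nat_lit 3)],
  [(nat_lit 0), (nat_lit 0), (nat_lit 3), (nat_lit 0), (nat_lit 3), (nat_lit 0)],
  [(nat_lit 0), (nat_lit 2), (nat_lit 1), (nat_lit 2), (nat_lit 0), (nat_lit 0)],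
  [(nat_lit 0), (nat_lit 2), (nat_lit 1), (nat_lit 2), (nat_lit 1), (nat_lit 2)],
  [(nat_lit 0), (nat_lit 2), (nat_lit 2), (nat_lit 1), (nat_lit 2), (nat_lit 1)],
  [(nat_lit 0), (nat_lit 3), (nat_lit 0), (nat_lit 3), (nat_lit 0), (nat_lit 3)],
  [(nat_lit 1), (nat_lit 2), (nat_lit 1), (nat_lit 2), (nat_lit 0), (nat_lit 0)],
  [(nat_lit 1), (nat_lit 2), (nat_lit 2), (nat_lit 1), (nat_lit 2), (nat_lit 1)],
  [(nat_lit 0), (nat_lit 0), (nat_lit 2), (nat_lit 1), (nat_lit 2), (nat_lit 0), (nat_lit 0)],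
  [(nat_lit 0), (nat_lit 0), (nat_lit 2), (nat_lit 2), (nat_lit 1), (nat_lit 2), (nat_lit 1)]]
noncomputable def HE_lM2_h (c : ℕ) : ℕ := Nat.mod c (nat_lit 1181)
theorem HE_lM2_E {G : Type*} [Group G] {R : ℕ → G → Prop} {z u v a b c r : G} {H : Subgroup G}
    (M : Mdl HE_o HE_cs HE_L R [z, u, v, a, b, c, c⁻¹, r] H) :
    EnumS R HE_lM2 (sp [r * v, (r * v)⁻¹, z * c⁻¹ * (r * v), (z * c⁻¹ * (r * v))⁻¹]) :=
  enumS_sp M.μ.1 (M.reps.tms M.μ.1 [(.mul (.v (nat_lit 7)) (.v (nat_lit 2))), (.inv (.mul (.v (nat_lit 7)) (.v (nat_lit 2)))), (.mul (.mul (.v (nat_lit 0)) (.v (nat_lit 6))) (.mul (.v (nat_lit 7)) (.v (nat_lit 2)))), (.inv (.mul (.mul (.v (nat_lit 0)) (.v (nat_lit 6))) (.mul (.v (nat_lit 7)) (.v (nat_lit 2)))))] (cs' := [(nat_lit 0xbed2ee50a8d123fb1b2c9f97dc0a0d08eaf01d52), (nat_lit 0xa399bf5e2bfccba782a927110687b814b36328e3), (nat_lit 0xddc48b10d2c2b8567bbaaa6198fc6f04ced0add4), (nat_lit 0x54a35fc197f6de03616d40493159dc2e69a4f467)])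 (by decide +kernel))
    (Ws := HE_lM2_W) (by decide +kernel) (by decide +kernel)
theorem HE_lM2_c {G : Type*} [Group G] {R : ℕ → G → Prop} {z u v a b c r : G} {H : Subgroup G}
    (M : Mdl HE_o HE_cs HE_L R [z, u, v, a, b, c, c⁻¹, r] H) :
    #(sp [r * v, (r * v)⁻¹, z * c⁻¹ * (r * v), (z * c⁻¹ * (r * v))⁻¹]) = 96 :=
  (HE_lM2_E M).card M.μ (h := HE_lM2_h) (by decide +kernel)
noncomputable def HE_z_F : Fm := (.all HE_L (.qf (.eq (.mul (.v (nat_lit 0)) (.v (nat_lit 1))) (.mul (.v (nat_lit 1)) (.v (nat_lit 0))))))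
theorem HE_z_chk : Fm.chk HE_o HE_z_F HE_cs = true := by decide +kernel
theorem HE_z {G : Type*} [Group G] {R : ℕ → G → Prop} {z u v a b c r : G} {H : Subgroup G}
    (M : Mdl HE_o HE_cs HE_L R [z, u, v, a, b, c, c⁻¹, r] H) :
    ∀ c_ ∈ H, c_ * z = z * c_ :=
  have h : ∀ c_, InL HE_o R HE_L c_ → c_ * z = z * c_ :=
    Fm.sound M.μ HE_z_F HE_z_chk M.reps
  (fun c_ h0 => (h c_ (M.H.iff.2 h0)))
noncomputable def HE_Q_F : Fm := (.allS HE_lQ (.qf (.or (.mem (.v (nat_lit 0)) HE_lR) (.mem (.mul (.v (nat_lit 0)) (.v (nat_lit 3))) HE_lR))))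
theorem HE_Q_chk : Fm.chk HE_o HE_Q_F HE_cs = true := by decide +kernel
theorem HE_Q {G : Type*} [Group G] {R : ℕ → G → Prop} {z u v a b c r : G} {H : Subgroup G}
    (M : Mdl HE_o HE_cs HE_L R [z, u, v, a, b, c, c⁻¹, r] H) :
    ∀ q ∈ sp [z, u, v, a, b], q ∈ sp [z, u, b, v * a] ∨ q * v ∈ sp [z, u, b, v * a] :=
  have h : ∀ q, InS R HE_lQ q → InS R HE_lR (q) ∨ InS R HE_lR (q * v) :=
    Fm.sound M.μ HE_Q_F HE_Q_chk M.reps
  (fun q h0 => ((or_congr (HE_lR_E M).iff (HE_lR_E M).iff).1 (h q ((HE_lQ_E M).iff.2 h0))))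
noncomputable def HE_R_F : Fm := (.allS HE_lR (.qf (.eq (.mul (.v (nat_lit 0)) (.mul (.v (nat_lit 3)) (.v (nat_lit 4)))) (.mul (.mul (.v (nat_lit 3)) (.v (nat_lit 4))) (.v (nat_lit 0))))))
theorem HE_R_chk : Fm.chk HE_o HE_R_F HE_cs = true := by decide +kernel
theorem HE_R {G : Type*} [Group G] {R : ℕ → G → Prop} {z u v a b c r : G} {H : Subgroup G}
    (M : Mdl HE_o HE_cs HE_L R [z, u, v, a, b, c, c⁻¹, r] H) :
    ∀ q ∈ sp [z, u, b, v * a], q * (v * a) = v * a * q :=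
  have h : ∀ q, InS R HE_lR q → q * (v * a) = v * a * q :=
    Fm.sound M.μ HE_R_F HE_R_chk M.reps
  (fun q h0 => (h q ((HE_lR_E M).iff.2 h0)))
noncomputable def HE_M1_F : Fm := (.all HE_L (.qf (.or (.mem (.v (nat_lit 0)) HE_lM1) (.mem (.mul (.v (nat_lit 0)) (.v (nat_lit 3))) HE_lM1))))
theorem HE_M1_chk : Fm.chk HE_o HE_M1_F HE_cs = true := by decide +kernel
theorem HE_M1 {G : Type*} [Group G] {R : ℕ → G → Prop} {z u v a b c r : G} {H : Subgroup G}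
    (M : Mdl HE_o HE_cs HE_L R [z, u, v, a, b, c, c⁻¹, r] H) :
    ∀ g ∈ H, g ∈ sp [z, u, b, v * a, c, r] ∨ g * v ∈ sp [z, u, b, v * a, c, r] :=
  have h : ∀ g, InL HE_o R HE_L g → InS R HE_lM1 (g) ∨ InS R HE_lM1 (g * v) :=
    Fm.sound M.μ HE_M1_F HE_M1_chk M.reps
  (fun g h0 => ((or_congr (HE_lM1_E M).iff (HE_lM1_E M).iff).1 (h g (M.H.iff.2 h0))))
noncomputable def HE_M2_F : Fm := (.all HE_L (.qf (.or (.mem (.v (nat_lit 0)) HE_lM2) (.mem (.mul (.v (nat_lit 0)) (.v (nat_lit 3))) HE_lM2))))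
theorem HE_M2_chk : Fm.chk HE_o HE_M2_F HE_cs = true := by decide +kernel
theorem HE_M2 {G : Type*} [Group G] {R : ℕ → G → Prop} {z u v a b c r : G} {H : Subgroup G}
    (M : Mdl HE_o HE_cs HE_L R [z, u, v, a, b, c, c⁻¹, r] H) :
    ∀ g ∈ H, g ∈ sp [r * v, (r * v)⁻¹, z * c⁻¹ * (r * v), (z * c⁻¹ * (r * v))⁻¹] ∨ g * v ∈ sp [r * v, (r * v)⁻¹, z * c⁻¹ * (r * v), (z * c⁻¹ * (r * v))⁻¹] :=
  have h : ∀ g, InL HE_o R HE_L g → InS R HE_lM2 (g) ∨ InS R HE_lM2 (g * v) :=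
    Fm.sound M.μ HE_M2_F HE_M2_chk M.reps
  (fun g h0 => ((or_congr (HE_lM2_E M).iff (HE_lM2_E M).iff).1 (h g (M.H.iff.2 h0))))
noncomputable def HE_sq_F : Fm := (.allS HE_lM1 (.imp (.mem (.mul (.v (nat_lit 0)) (.v (nat_lit 0))) HE_lQ) (.imp (.eq (.mul (.mul (.v (nat_lit 0)) (.v (nat_lit 0))) (.mul (.v (nat_lit 0)) (.v (nat_lit 0)))) .one) (.qf (.or (.eq (.mul (.v (nat_lit 0)) (.v (nat_lit 0))) .one) (.eq (.mul (.v (nat_lit 0)) (.v (nat_lit 0))) (.v (nat_lit 1))))))))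
theorem HE_sq_chk : Fm.chk HE_o HE_sq_F HE_cs = true := by decide +kernel
theorem HE_sq {G : Type*} [Group G] {R : ℕ → G → Prop} {z u v a b c r : G} {H : Subgroup G}
    (M : Mdl HE_o HE_cs HE_L R [z, u, v, a, b, c, c⁻¹, r] H) :
    ∀ g ∈ sp [z, u, b, v * a, c, r], g * g ∈ sp [z, u, v, a, b] → g * g * (g * g) = 1 → g * g = 1 ∨ g * g = z :=
  have h : ∀ g, InS R HE_lM1 g → InS R HE_lQ (g * g) → g * g * (g * g) = 1 → g * g = 1 ∨ g * g = z :=
    Fm.sound M.μ HE_sq_F HE_sq_chk M.reps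
  (fun g h0 => (fun h1 => ((h g ((HE_lM1_E M).iff.2 h0)) ((HE_lQ_E M).iff.2 h1))))
noncomputable def HE_e_F : Fm := (.qf (.and (.eq (.mul (.mul (.v (nat_lit 2)) (.v (nat_lit 3))) (.mul (.v (nat_lit 2)) (.v (nat_lit 3)))) (.v (nat_lit 0))) (.and (.eq (.mul (.mul (.mul (.mul (.v (nat_lit 7)) (.v (nat_lit 2))) (.inv (.v (nat_lit 7)))) (.inv (.v (nat_lit 2)))) (.v (nat_lit 0))) (.v (nat_lit 1))) (.and (.eq (.mul (.mul (.mul (.mul (.v (nat_lit 5)) (.v (nat_lit 1))) (.inv (.v (nat_lit 5)))) (.inv (.v (nat_lit 1)))) (.v (nat_lit 1))) (.v (nat_lit 4))) (.and (.eq (.mul (.v (nat_lit 1)) (.mul (.mul (.mul (.v (nat_lit 5)) (.v (nat_lit 4))) (.inv (.v (nat_lit 5)))) (.inv (.v (nat_lit 4))))) (.mul (.v (nat_lit 2)) (.v (nat_lit 3)))) (.and (.eq (.mul (.mul (.mul (.v (nat_lit 7)) (.v (nat_lit 5))) (.inv (.v (nat_lit 7)))) (.inv (.v (nat_lit 5)))) (.v (nat_lit 5))) (.eq (.pw (.mul (.mul (.v (nat_lit 7)) (.v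 (nat_lit 2))) (.mul (.mul (.v (nat_lit 0)) (.v (nat_lit 6))) (.mul (.v (nat_lit 7)) (.v (nat_lit 2))))) (nat_lit 6)) (.v (nat_lit 0)))))))))
theorem HE_e_chk : Fm.chk HE_o HE_e_F HE_cs = true := by decide +kernel
theorem HE_e {G : Type*} [Group G] {R : ℕ → G → Prop} {z u v a b c r : G} {H : Subgroup G}
    (M : Mdl HE_o HE_cs HE_L R [z, u, v, a, b, c, c⁻¹, r] H) :
    v * a * (v * a) = z ∧ ⁅r, v⁆ * z = u ∧ ⁅c, u⁆ * u = b ∧ u * ⁅c, b⁆ = v * a ∧ ⁅r, c⁆ = c ∧ (r * v * (z * c⁻¹ * (r * v))) ^ 6 = z :=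
  Fm.sound M.μ HE_e_F HE_e_chk M.reps
noncomputable def HE_g_f_F : Fm := (.qf (.and (.eq (.pw (.mul (.v (nat_lit 7)) (.v (nat_lit 2))) (nat_lit 4)) .one) (.eq (.mul (.mul (.mul (.v (nat_lit 7)) (.v (nat_lit 2))) (.mul (.mul (.v (nat_lit 0)) (.v (nat_lit 6))) (.mul (.v (nat_lit 7)) (.v (nat_lit 2))))) (.mul (.v (nat_lit 7)) (.v (nat_lit 2)))) (.mul (.mul (.mul (.mul (.v (nat_lit 0)) (.v (nat_lit 6))) (.mul (.v (nat_lit 7)) (.v (nat_lit 2)))) (.mul (.v (nat_lit 7)) (.v (nat_lit 2)))) (.mul (.mul (.v (nat_lit 0)) (.v (nat_lit 6))) (.mul (.v (nat_lit 7)) (.v (nat_lit 2))))))))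
theorem HE_g_f_chk : Fm.chk HE_o HE_g_f_F HE_cs = true := by decide +kernel
theorem HE_g_f {G : Type*} [Group G] {R : ℕ → G → Prop} {z u v a b c r : G} {H : Subgroup G}
    (M : Mdl HE_o HE_cs HE_L R [z, u, v, a, b, c, c⁻¹, r] H) :
    (r * v) ^ 4 = 1 ∧ r * v * (z * c⁻¹ * (r * v)) * (r * v) = z * c⁻¹ * (r * v) * (r * v) * (z * c⁻¹ * (r * v)) :=
  Fm.sound M.μ HE_g_f_F HE_g_f_chk M.reps
theorem HE_g {G : Type*} [Group G] {R : ℕ → G → Prop} {z u v a b c r : G} {H : Subgroup G}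
    (M : Mdl HE_o HE_cs HE_L R [z, u, v, a, b, c, c⁻¹, r] H) :
    G8 (r * v) (z * c⁻¹ * (r * v)) :=
  have h := HE_g_f M
  ⟨h.1, h.2, trivial⟩
noncomputable def HE_ker_t0 : ST := (.node (nat_lit 295) (.node (nat_lit 138) (.node (nat_lit 112) (.node (nat_lit 84) (.node (nat_lit 19) (.leaf (nat_lit 12)) (.leaf (nat_lit 5))) (.node (nat_lit 86) (.leaf (nat_lit 12)) (.leaf (nat_lit 5)))) (.node (nat_lit 128) (.node (nat_lit 113) (.leaf (nat_lit 12)) (.leaf (nat_lit 5))) (.node (nat_lit 132) (.leaf (nat_lit 12)) (.leaf (nat_lit 5))))) (.node (nat_lit 253) (.node (nat_lit 196) (.node (nat_lit 155) (.leaf (nat_lit 12)) (.leaf (nat_lit 5))) (.node (nat_lit 198) (.leaf (nat_lit 12)) (.leaf (nat_lit 5)))) (.node (nat_lit 283) (.node (nat_lit 275) (.leaf (nat_lit 12)) (.leaf (nat_lit 5))) (.node (nat_lit 294) (.leaf (nat_lit 12)) (.leaf (nat_lit 5)))))) (.node (nat_lit 502) (.node (nat_lit 386) (.node (nat_lit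 355) (.node (nat_lit 310) (.leaf (nat_lit 12)) (.leaf (nat_lit 5))) (.node (nat_lit 368) (.leaf (nat_lit 12)) (.leaf (nat_lit 5)))) (.node (nat_lit 456) (.node (nat_lit 389) (.leaf (nat_lit 12)) (.leaf (nat_lit 5))) (.node (nat_lit 474) (.leaf (nat_lit 12)) (.leaf (nat_lit 5))))) (.node (nat_lit 594) (.node (nat_lit 541) (.node (nat_lit 525) (.leaf (nat_lit 12)) (.leaf (nat_lit 5))) (.node (nat_lit 556) (.leaf (nat_lit 12)) (.leaf (nat_lit 5)))) (.node (nat_lit 603) (.node (nat_lit 601) (.leaf (nat_lit 12)) (.leaf (nat_lit 5))) (.node (nat_lit 604) (.leaf (nat_lit 12)) (.leaf (nat_lit 5)))))))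
noncomputable def HE_ker_t1 : ST := (.node (nat_lit 275) (.node (nat_lit 139) (.node (nat_lit 71) (.node (nat_lit 26) (.node (nat_lit 23) (.leaf (nat_lit 5)) (.node (nat_lit 24) (.leaf (nat_lit 3)) (.leaf (nat_lit 5)))) (.node (nat_lit 36) (.leaf (nat_lit 12)) (.node (nat_lit 59) (.leaf (nat_lit 5)) (.leaf (nat_lit 12))))) (.node (nat_lit 114) (.node (nat_lit 89) (.leaf (nat_lit 5)) (.node (nat_lit 99) (.leaf (nat_lit 3)) (.leaf (nat_lit 5)))) (.node (nat_lit 133) (.node (nat_lit 116) (.leaf (nat_lit 12)) (.leaf (nat_lit 5))) (.node (nat_lit 134) (.leaf (nat_lit 1)) (.leaf (nat_lit 5)))))) (.node (nat_lit 168) (.node (nat_lit 154) (.node (nat_lit 152) (.leaf (nat_lit 3)) (.node (nat_lit 153) (.leaf (nat_lit 5)) (.leaf (nat_lit 1)))) (.node (nat_lit 155) (.leaf (nat_lit 5)) (.node (nat_lit 160) (.leaf (nat_lit 1)) (.leaf (nat_lit 5))))) (.node (nat_lit 221) (.node (nat_lit 178) (.leaf (nat_lit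 12)) (.node (nat_lit 191) (.leaf (nat_lit 3)) (.leaf (nat_lit 5)))) (.node (nat_lit 251) (.node (nat_lit 233) (.leaf (nat_lit 3)) (.leaf (nat_lit 5))) (.node (nat_lit 261) (.leaf (nat_lit 3)) (.leaf (nat_lit 5))))))) (.node (nat_lit 417) (.node (nat_lit 322) (.node (nat_lit 310) (.node (nat_lit 289) (.leaf (nat_lit 12)) (.node (nat_lit 308) (.leaf (nat_lit 5)) (.leaf (nat_lit 1)))) (.node (nat_lit 313) (.leaf (nat_lit 5)) (.node (nat_lit 315) (.leaf (nat_lit 1)) (.leaf (nat_lit 5))))) (.node (nat_lit 357) (.node (nat_lit 338) (.leaf (nat_lit 3)) (.node (nat_lit 356) (.leaf (nat_lit 5)) (.leaf (nat_lit 12)))) (.node (nat_lit 396) (.node (nat_lit 391) (.leaf (nat_lit 5)) (.leaf (nat_lit 12))) (.node (nat_lit 414) (.leaf (nat_lit 5)) (.leaf (nat_lit 1)))))) (.node (nat_lit 437) (.node (nat_lit 429) (.node (nat_lit 426) (.leaf (nat_lit 5)) (.node (nat_lit 428) (.leaf (nat_lit 3)) (.leaf (nat_lit 5))))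 (.node (nat_lit 434) (.leaf (nat_lit 1)) (.node (nat_lit 435) (.leaf (nat_lit 5)) (.leaf (nat_lit 12))))) (.node (nat_lit 470) (.node (nat_lit 462) (.leaf (nat_lit 5)) (.node (nat_lit 464) (.leaf (nat_lit 1)) (.leaf (nat_lit 5)))) (.node (nat_lit 511) (.node (nat_lit 493) (.leaf (nat_lit 3)) (.leaf (nat_lit 5))) (.node (nat_lit 526) (.leaf (nat_lit 1)) (.leaf (nat_lit 5))))))))
noncomputable def HE_ker_F : Fm := (.allS HE_lM2 (.or (.qf (.eq (.v (nat_lit 0)) .one)) (.or (.qf (.eq (.v (nat_lit 0)) (.v (nat_lit 1)))) (.or (.qf (.eq (.mul (.v (nat_lit 0)) (.v (nat_lit 0))) (.v (nat_lit 1)))) (.exG HE_lM2 (fun cs => HE_ker_t1.find (Nat.mod (nth (nat_lit 0) cs (nat_lit 0)) (nat_lit 528))) (.exG HE_lM2 (fun cs => HE_ker_t0.find (Nat.mod (Nat.add (nth (nat_lit 0) cs (nat_lit 1)) (Nat.mul (nat_lit 7919) (nth (nat_lit 0) cs (nat_lit 0)))) (nat_lit 611))) (.qf (.or (.eq (.mul (.mul (.mul (.v (nat_lit 2))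 (.v (nat_lit 1))) (.inv (.v (nat_lit 2)))) (.inv (.v (nat_lit 1)))) (.v (nat_lit 3))) (.eq (.mul (.mul (.mul (.mul (.mul (.mul (.v (nat_lit 2)) (.v (nat_lit 1))) (.inv (.v (nat_lit 2)))) (.inv (.v (nat_lit 1)))) (.v (nat_lit 0))) (.inv (.mul (.mul (.mul (.v (nat_lit 2)) (.v (nat_lit 1))) (.inv (.v (nat_lit 2)))) (.inv (.v (nat_lit 1)))))) (.inv (.v (nat_lit 0)))) (.v (nat_lit 3)))))))))))
theorem HE_ker_chk : Fm.chk HE_o HE_ker_F HE_cs = true := by decide +kernel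
theorem HE_ker {G : Type*} [Group G] {R : ℕ → G → Prop} {z u v a b c r : G} {H : Subgroup G}
    (M : Mdl HE_o HE_cs HE_L R [z, u, v, a, b, c, c⁻¹, r] H) :
    ∀ g ∈ sp [r * v, (r * v)⁻¹, z * c⁻¹ * (r * v), (z * c⁻¹ * (r * v))⁻¹], g = 1 ∨ g = z ∨ g * g = z ∨ (∃ q ∈ sp [r * v, (r * v)⁻¹, z * c⁻¹ * (r * v), (z * c⁻¹ * (r * v))⁻¹], ∃ k_ ∈ sp [r * v, (r * v)⁻¹, z * c⁻¹ * (r * v), (z * c⁻¹ * (r * v))⁻¹], ⁅g, q⁆ = z ∨ ⁅⁅g, q⁆, k_⁆ = z) :=
  have h : ∀ g, InS R HE_lM2 g → g = 1 ∨ g = z ∨ g * g = z ∨ (GoodS R HE_lM2 → HE_lM2 ≠ [] → ∃ q, InS R HE_lM2 q ∧ (GoodS R HE_lM2 → HE_lM2 ≠ [] → ∃ k_, InS R HE_lM2 k_ ∧ (⁅g, q⁆ = z ∨ ⁅⁅g, q⁆, k_⁆ = z))) :=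
    Fm.sound M.μ HE_ker_F HE_ker_chk M.reps
  (fun g h0 => (Or.imp (fun h1 => h1) (fun h1 => (Or.imp (fun h2 => h2) (fun h2 => (Or.imp (fun h3 => h3) (fun h3 => (Exists.imp (fun q h4 => ⟨(HE_lM2_E M).iff.1 h4.1, (Exists.imp (fun k_ h5 => ⟨(HE_lM2_E M).iff.1 h5.1, h5.2⟩) (h4.2 (HE_lM2_E M).good (HE_lM2_E M).ne))⟩) (h3 (HE_lM2_E M).good (HE_lM2_E M).ne))) h2)) h1)) (h g ((HE_lM2_E M).iff.2 h0))))
noncomputable def G8_r_R : List (List ℕ) := [[0,1],
  [1,0],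
  [2,3],
  [3,2],
  [0,0,0,0],
  [3,1,3,0,2,0]]
theorem G8_r {G : Type*} [Group G] {s t : G}
    (h : G8 s t) :
    Rels (nthG [s, s⁻¹, t, t⁻¹]) G8_r_R :=
  rels_of_eqs (InvI.nil : InvI [s, t] [])
    (show AllEq [s, t] [((.pw (.v (nat_lit 0)) (nat_lit 4)), .one), ((.mul (.mul (.v (nat_lit 0)) (.v (nat_lit 1))) (.v (nat_lit 0))), (.mul (.mul (.v (nat_lit 1)) (.v (nat_lit 0))) (.v (nat_lit 1))))] from h)
    [(.v (nat_lit 0)), (.inv (.v (nat_lit 0))), (.v (nat_lit 1)), (.inv (.v (nat_lit 1)))] (by decide +kernel)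
noncomputable def G8_b2_S0 : List ℕ := [nat_lit 0xf00000700000c004004]
noncomputable def G8_b2_S : List (List ℕ) := [G8_b2_S0]
noncomputable def G8_b2_defs : List ℕ := [(nat_lit 0x1001000000000000000000000)]
noncomputable def G8_b2_recs : List ℕ := [(nat_lit 0x200003)]
noncomputable def G8_b2_L0 : List ℕ := [nat_lit 0x700000100000b000002, nat_lit 0xf000003000008000000, nat_lit 0xc000000000002000003, nat_lit 0x1000002000010000001]
noncomputable def G8_b2_L : List (List ℕ) := [G8_b2_L0]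
noncomputable def G8_b2_V : List ℕ := [(nat_lit 0x3000000020000000100000000)]
noncomputable def G8_b2_D : H26.Dag := ⟨[1,0], [[0,1],
  [1,0],
  [0,0,0,0]], [], G8_b2_defs, G8_b2_recs⟩
theorem G8_b2_c : G8_b2_D.checkTab G8_b2_S 4 2 G8_b2_V G8_b2_L = true := by decide +kernel
theorem G8_b2 : Bound G8_r_R 2 4 :=
  bound_dag (Bound.zero G8_r_R) (K := 2) (J := [0,1,4]) (by decide +kernel) G8_b2_c (by decide +kernel)
noncomputable def G8_b4_S0 : List ℕ := [nat_lit 0x1, nat_lit 0xf00000700000100000800001000000a, nat_lit 0x1b00000b00000200000800001401000a, nat_lit 0x1f00000b00000100000c00002000800a, nat_lit 0x2700000f000014004008, nat_lit 0x2f00001700001000000500002801600a, nat_lit 0x3000001600001200000900001b00002400e00a, nat_lit 0x1a000023000004, nat_lit 0x3700001b000020004008, nat_lit 0x3700000a00001300001800003401000a, nat_lit 0x3f00002700000500002800004001400a, nat_lit 0x4300002b00001100004000002a00000a,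 nat_lit 0x4300002b00001300001800003001600a, nat_lit 0x4f00002f000034004008, nat_lit 0x4f00001600001200002c00004801000a, nat_lit 0x5300003500003a00004700004c01400a, nat_lit 0x3d00005300003300001e00001c00003c01600a, nat_lit 0x4100003d000002, nat_lit 0x4100004b000006, nat_lit 0x5700002200000d00002100005800c00a, nat_lit 0x4500003b00003800005800004d00e00a, nat_lit 0x5b00003b00003800002600003501000a, nat_lit 0x5f000043000048004008, nat_lit 0x5f00003200005000003a00005901000a, nat_lit 0x6300005900005e00005a00006401400a, nat_lit 0x6100006300004700004900005c01600a, nat_lit 0x6700004500005c006008, nat_lit 0x6700005200004d00005100006800800a]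
noncomputable def G8_b4_S : List (List ℕ) := [G8_b4_S0]
noncomputable def G8_b4_defs : List ℕ := [(nat_lit 0x10001400200011000000100000000e0030000d0020000c0000000b0020000a0010000a0000000a00200009003000060000000600100005000000050020000400000003003000020010000200000002002000010010000100000001003000000020000000000000)]
noncomputable def G8_b4_recs : List ℕ := [(nat_lit 0x30001900019010001600019020001600018000001800018020001700017000001100017020001300016020001500014000001500015030000a0000e01000140000eff0000e00012000001200014020001100013000000c00013020000b00010030000f00010000000f0000f020000c0000d00000070000d020000200005ff000080000502000090000b000000400009030000700007020000400006030000300003000000000000)]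
noncomputable def G8_b4_L0 : List ℕ := [nat_lit 0x100000000000200000000000700000100000b000002, nat_lit 0xf000003000013000004000017000005000008000000, nat_lit 0x1b00000600001f00000700000c00000000001e000005, nat_lit 0x27000008000010000001000006000003000005000003, nat_lit 0x1400000100001200000800002b00000900000a000006, nat_lit 0x2f00000a00003300000b00001d000002000018000001, nat_lit 0x3700000c00001c00000200000900000400003b00000d, nat_lit 0x2000000200002200000c00000e00000700000d000007, nat_lit 0x1100000400002800000300003f00000e00001600000a, nat_lit 0x4300000f00004700001000004a00000d00002c000004, nat_lit 0x4f00001100003000000500001500000800003200000f, nat_lit 0x3400000500003600001100005300001200002600000c, nat_lit 0x2100000700003800000600002500000b000057000013, nat_lit 0x5b00001400004500001200003c000006000049000009, nat_lit 0x2900000e00002a00000e00002e00000f000040000008, nat_lit 0x5f00001500004400000900003100000a00002d00000e,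 nat_lit 0x4800000900005a00001500006300001600003a000011, nat_lit 0x3500000b00005000000a000039000010000056000014, nat_lit 0x4600000d00006700001700005100001300005400000b, nat_lit 0x4d00001300004e00001300005800000c000052000012, nat_lit 0x6a00001700005c00000d000055000011000066000016, nat_lit 0x5900001000006000000f00005d00001500005e000015, nat_lit 0x61000016000062000016000065000014000064000010, nat_lit 0x6800001200006900001400006e00001700006d000017]
noncomputable def G8_b4_L : List (List ℕ) := [G8_b4_L0]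
noncomputable def G8_b4_V : List ℕ := [(nat_lit 0x1900000018000000170000001600000015000000140000001300000011000000100000000f0000000e0000000d0000000c0000000b0000000a000000090000000700000006000000050000000400000003000000020000000100000000)]
noncomputable def G8_b4_D : H26.Dag := ⟨[1,0,3,2], [[0,1],
  [1,0],
  [2,3],
  [3,2],
  [0,0,0,0],
  [3,1,3,0,2,0]], [0,1], G8_b4_defs, G8_b4_recs⟩
theorem G8_b4_c : G8_b4_D.checkTab G8_b4_S 24 4 G8_b4_V G8_b4_L = true := by decide +kernel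
theorem G8_b4 : Bound G8_r_R 4 96 :=
  bound_dag G8_b2 (K := 4) (J := [0,1,2,3,4,5]) (by decide +kernel) G8_b4_c (by decide +kernel)

end H26.Es
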