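import Cfsg.Agent.H26.Es.A1

/-! Generated: the automorphism group of the extraspecial group of order 32 and minus type. -/

set_option maxRecDepth 100000
set_option maxHeartbeats 4000000
set_option linter.unusedVariables false
set_option Elab.async false

open Subgroup
open scoped commutatorElement
namespace H26.Es
open H0 H0.PM H16 H19 H10.X

noncomputable abbrev AN_o : Ops := pops (nat_lit 32) (nat_lit 5) (nat_lit 31) (nat_lit 0xffbbcdeb38bdab49ca307b9ac5a928398a418820)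
noncomputable def AN_cs : List ℕ := [(nat_lit 0xf7f9dcdf76d624f655cba4553834a41892839801), (nat_lit 0xef3fead2517bb7a4e708bd8e520e706858b500c2), (nat_lit 0xceeb2f33eb9c3a9bf1162905ac1a910a9ee034e3), (nat_lit 0xd5df467e6df293cc9462e9f1b35aa172e408c104), (nat_lit 0xb622e8357e57c83123bb3f346cdc327b015a4d25), (nat_lit 0xf7f9ddeb38bdab464a2b7b953834a41992838820), (nat_lit 0xf7fbcceb78bdaaf9c9d0a454c5b4a43892819820), (nat_lit 0xf7fbcddf38d5a549d5cb7c5ac828a81892439820), (nat_lit 0xf7fbcdeb36be24f65630a39b35a924188a839820), (nat_lit 0x3094d8317d9f2dace2b4bca3b7bbe941fc520c20), (nat_lit 0xf7f79edf96d62b3a4a1162d4f7352831ca410c20), (nat_lit 0xffb3bbf758e5a75a316a9422f6b92641ca220c20), (nat_lit 0xffb3be5bb7c6a508d6745b14e7b50931c8510c20), (nat_lit 0xffb57c76dbe65af7298ba4eb1848e64a06229020)]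
theorem AN_ex : ∃ (P : Type) (_ : Group P) (_ : Finite P) (R : ℕ → P → Prop) (z u v a b i j k l p t c r s : P),
    Md0 AN_o AN_cs R [z, u, v, a, b, i, j, k, l, p, t, c, r, s] :=
  have key : ∀ ms : List (Equiv.Perm (Fin (nat_lit 32))), ms.length = 14 → ∀ R, Md0 AN_o AN_cs R ms →
      ∃ (z u v a b i j k l p t c r s : Equiv.Perm (Fin (nat_lit 32))), Md0 AN_o AN_cs R [z, u, v, a, b, i, j, k, l, p, t, c, r, s] :=
    fun ms hl R M => match ms, hl, M with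
      | [z, u, v, a, b, i, j, k, l, p, t, c, r, s], _, M => ⟨z, u, v, a, b, i, j, k, l, p, t, c, r, s, M⟩
  ⟨_, inferInstance, inferInstance, _, key _ ((List.length_map _).trans rfl) _
    ⟨IsMod.perm (d := (nat_lit 32)) (w := (nat_lit 5)) (m := (nat_lit 31)) (e := (nat_lit 0xffbbcdeb38bdab49ca307b9ac5a928398a418820)) (PkOK.of (by decide +kernel)),
      reps_dec (d := (nat_lit 32)) (w := (nat_lit 5)) (m := (nat_lit 31)) (cs := AN_cs) (by decide +kernel)⟩⟩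
noncomputable def AN_lQ : List ℕ := [(nat_lit 0xffbbcdeb38bdab49ca307b9ac5a928398a418820), (nat_lit 0xf7f9dcdf76d624f655cba4553834a41892839801), (nat_lit 0xef3fead2517bb7a4e708bd8e520e706858b500c2), (nat_lit 0xceeb2f33eb9c3a9bf1162905ac1a910a9ee034e3), (nat_lit 0xd5df467e6df293cc9462e9f1b35aa172e408c104), (nat_lit 0xb622e8357e57c83123bb3f346cdc327b015a4d25), (nat_lit 0xe77df93eaea47372eec4d606941d8b5027068446), (nat_lit 0xde655fcfd062f85d74984a0d7b09ee036910a867), (nat_lit 0xbea8f9f98afb4bdda4e6e0ed9162408c2a172c88), (nat_lit 0xc59d15aa1f6f907313991f6e2de815a4c327b0a9), (nat_lit 0xacb3bea788293cca7d719c02f702f611f5830d4d), (nat_lit 0x7d3574f0a3e9d9facda1f29d204722c2366b1170), (nat_lit 0x8bad820d1d3f20d0afd257de0ad05bd24d9b9593), (nat_lit 0x95779e17a44a3f37fa0e62c148875830ef611daa), (nat_lit 0x9b125bef46c89f5f502a9021f6af8345ba7261d1), (nat_lit 0x5c088c1ad916e2153a5f0566df307d4dcfc2e9f4),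 (nat_lit 0xa3efa2f527e0e7e93140fb6350bb66b1322c220b), (nat_lit 0x64ca9d66e2d9a92fbc0da857e543a72638345a2e), (nat_lit 0x6a8e33585ac5c2e582938bfd067c89e6505eee55), (nat_lit 0x7471641c9c1f56a043f56fa8193cd9b945bd266c), (nat_lit 0x82d04b0b1b365c06c6be0c98afccfc2e87d4de8f), (nat_lit 0x53467160d7b6811805ec753eb9f905eec89e66b2), (nat_lit 0x4966c7d681902fbe68c3c891d393ca83bed5c6d8), (nat_lit 0x22170885d2057061db3d16d27e155f9bdbe652fa), (nat_lit 0x2a593a49e0a8759edc47d989c1a3ed5c7ca83b16), (nat_lit 0x38daa0b8148bcd620b49c5f882f573f4a0cfd73b), (nat_lit 0x4120b702350cac23e37c364a3ea5be6515f9bf57), (nat_lit 0x19d4d0442f7505841ae5b6ba44f20cfd573f4b79), (nat_lit 0x11820541ac5cce4c0d3741776d65d497e2fafb9d), (nat_lit 0x308016ad5383068b1cba22738bee2faf9d497fbc), (nat_lit 0x80463906941550735945ce517d717df2dacf7fe), (nat_lit 0x4c21a0e5225ab8aa6f832aea4adacf717df3df)]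
noncomputable def AN_lQ_W : List (List ℕ) := [[],
  [(nat_lit 0)],
  [(nat_lit 1)],
  [(nat_lit 2)],
  [(nat_lit 3)],
  [(nat_lit 4)],
  [(nat_lit 0), (nat_lit 1)],
  [(nat_lit 0), (nat_lit 2)],
  [(nat_lit 0), (nat_lit 3)],
  [(nat_lit 0), (nat_lit 4)],
  [(nat_lit 1), (nat_lit 2)],
  [(nat_lit 1), (nat_lit 3)],
  [(nat_lit 1), (nat_lit 4)],
  [(nat_lit 2), (nat_lit 1)],
  [(nat_lit 2), (nat_lit 3)],
  [(nat_lit 2), (nat_lit 4)],
  [(nat_lit 3), (nat_lit 1)],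
  [(nat_lit 3), (nat_lit 2)],
  [(nat_lit 3), (nat_lit 4)],
  [(nat_lit 4), (nat_lit 1)],
  [(nat_lit 4), (nat_lit 2)],
  [(nat_lit 4), (nat_lit 3)],
  [(nat_lit 1), (nat_lit 2), (nat_lit 3)],
  [(nat_lit 1), (nat_lit 2), (nat_lit 4)],
  [(nat_lit 1), (nat_lit 3), (nat_lit 2)],
  [(nat_lit 1), (nat_lit 3), (nat_lit 4)],
  [(nat_lit 1), (nat_lit 4), (nat_lit 2)],
  [(nat_lit 1), (nat_lit 4), (nat_lit 3)],
  [(nat_lit 2), (nat_lit 3), (nat_lit 4)],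
  [(nat_lit 2), (nat_lit 4), (nat_lit 3)],
  [(nat_lit 1), (nat_lit 2), (nat_lit 3), (nat_lit 4)],
  [(nat_lit 1), (nat_lit 2), (nat_lit 4), (nat_lit 3)]]
noncomputable def AN_lQ_h (c : ℕ) : ℕ := Nat.mod c (nat_lit 32)
theorem AN_lQ_E {G : Type*} [Group G] {R : ℕ → G → Prop} {z u v a b i j k l p t c r s : G}
    (M : Md0 AN_o AN_cs R [z, u, v, a, b, i, j, k, l, p, t, c, r, s]) :
    EnumS R AN_lQ (sp [z, u, v, a, b]) :=
  enumS_sp M.μ.1 (M.reps.tms M.μ.1 [(.v (nat_lit 0)), (.v (nat_lit 1)), (.v (nat_lit 2)), (.v (nat_lit 3)), (.v (nat_lit 4))] (cs' := [(nat_lit 0xf7f9dcdf76d624f655cba4553834a41892839801), (nat_lit 0xef3fead2517bb7a4e708bd8e520e706858b500c2), (nat_lit 0xceeb2f33eb9c3a9bf1162905ac1a910a9ee034e3), (nat_lit 0xd5df467e6df293cc9462e9f1b35aa172e408c104), (nat_lit 0xb622e8357e57c83123bb3f346cdc327b015a4d25)]) (by decide +kernel))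
    (Ws := AN_lQ_W) (by decide +kernel) (by decide +kernel)
theorem AN_lQ_c {G : Type*} [Group G] {R : ℕ → G → Prop} {z u v a b i j k l p t c r s : G}
    (M : Md0 AN_o AN_cs R [z, u, v, a, b, i, j, k, l, p, t, c, r, s]) :
    #(sp [z, u, v, a, b]) = 32 :=
  (AN_lQ_E M).card M.μ (h := AN_lQ_h) (by decide +kernel)
noncomputable def AN_lI : List ℕ := [(nat_lit 0xffbbcdeb38bdab49ca307b9ac5a928398a418820), (nat_lit 0xf7f9ddeb38bdab464a2b7b953834a41992838820), (nat_lit 0xf7fbcceb78bdaaf9c9d0a454c5b4a43892819820), (nat_lit 0xf7fbcddf38d5a549d5cb7c5ac828a81892439820), (nat_lit 0xf7fbcdeb36be24f65630a39b35a924188a839820), (nat_lit 0xffb9dceb78bdaaf649cba45b382928188a439820), (nat_lit 0xffb9dddf38d5a54655d07c5535b524388a819820), (nat_lit 0xffb9ddeb36be24f9d62ba394c834a83892419820), (nat_lit 0xffbbccdf78d5a4f9d62ba394c83524198a838820), (nat_lit 0xffbbcceb76be254655d07c5535b4a81992438820),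 (nat_lit 0xffbbcddf36d62af649cba45b3828a43992818820), (nat_lit 0xf7f9dcdf78d5a4f65630a39b35a8a83992418820), (nat_lit 0xf7f9dceb76be2549d5cb7c5ac82924398a818820), (nat_lit 0xf7f9dddf36d62af9c9d0a454c5b528198a438820), (nat_lit 0xf7fbccdf76d62b464a2b7b95383528388a419820), (nat_lit 0xffb9dcdf76d62b49ca307b9ac5a8a41892839820)]
noncomputable def AN_lI_W : List (List ℕ) := [[],
  [(nat_lit 0)],
  [(nat_lit 1)],
  [(nat_lit 2)],
  [(nat_lit 3)],
  [(nat_lit 0), (nat_lit 1)],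
  [(nat_lit 0), (nat_lit 2)],
  [(nat_lit 0), (nat_lit 3)],
  [(nat_lit 1), (nat_lit 2)],
  [(nat_lit 1), (nat_lit 3)],
  [(nat_lit 2), (nat_lit 3)],
  [(nat_lit 0), (nat_lit 1), (nat_lit 2)],
  [(nat_lit 0), (nat_lit 1), (nat_lit 3)],
  [(nat_lit 0), (nat_lit 2), (nat_lit 3)],
  [(nat_lit 1), (nat_lit 2), (nat_lit 3)],
  [(nat_lit 0), (nat_lit 1), (nat_lit 2), (nat_lit 3)]]
noncomputable def AN_lI_h (c : ℕ) : ℕ := Nat.mod c (nat_lit 59)
theorem AN_lI_E {G : Type*} [Group G] {R : ℕ → G → Prop} {z u v a b i j k l p t c r s : G}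
    (M : Md0 AN_o AN_cs R [z, u, v, a, b, i, j, k, l, p, t, c, r, s]) :
    EnumS R AN_lI (sp [i, j, k, l]) :=
  enumS_sp M.μ.1 (M.reps.tms M.μ.1 [(.v (nat_lit 5)), (.v (nat_lit 6)), (.v (nat_lit 7)), (.v (nat_lit 8))] (cs' := [(nat_lit 0xf7f9ddeb38bdab464a2b7b953834a41992838820), (nat_lit 0xf7fbcceb78bdaaf9c9d0a454c5b4a43892819820), (nat_lit 0xf7fbcddf38d5a549d5cb7c5ac828a81892439820), (nat_lit 0xf7fbcdeb36be24f65630a39b35a924188a839820)]) (by decide +kernel))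
    (Ws := AN_lI_W) (by decide +kernel) (by decide +kernel)
theorem AN_lI_c {G : Type*} [Group G] {R : ℕ → G → Prop} {z u v a b i j k l p t c r s : G}
    (M : Md0 AN_o AN_cs R [z, u, v, a, b, i, j, k, l, p, t, c, r, s]) :
    #(sp [i, j, k, l]) = 16 :=
  (AN_lI_E M).card M.μ (h := AN_lI_h) (by decide +kernel)
noncomputable def AN_lS : List ℕ := [(nat_lit 0x1194d5b21d9f2d7ce254d55db7c7c540fe921c20), (nat_lit 0x1194d5ce1c676dade2afbc9d9a47e940fc521c20), (nat_lit 0x1194d5f20ceced57e2f9969d4dc53e40cbf21c20), (nat_lit 0x1194d5f613e32d2a635baddcfcc4bf40d3e21c20), (nat_lit 0x1194d62e7c876f6deab1c49f9753e448fc829c20), (nat_lit 0x1194d6427d5f2f8cea4eb55fb8d3c848fe429c20), (nat_lit 0x1194d67270eaef58eb19959eedd09e48d1f29c20), (nat_lit 0x1194d6766be42f276adbae1f1cd11f48c9e29c20), (nat_lit 0x1194d8317c9f717ddab4d4a397bbe520fc941c20), (nat_lit 0x1194d84d7d6731acda4fbd63ba3bc920fe541c20), (nat_lit 0x1194d87173eb315a5b5995e2fdb8be20d3f41c20), (nat_lit 0x1194d8756ce4f127dafbaea34cb93f20cbe41c20), (nat_lit 0x1194d9ad9d87356cde51c569b73fc428fe849c20), (nat_lit 0x1194d9c19c5f758ddeaeb4a998bfe828fc449c20), (nat_lit 0x1194d9f18bec35575ed996291dbd1e28c9f49c20), (nat_lit 0x1194d9f590e2f528df1bada8ecbc9f28d1e49c20), (nat_lit 0x1194de2fb3832b6a4b51c5f6f764a4f8d28f1c20), (nat_lit 0x1194de33ab9c2b774ad4d63717e505f8c89f1c20), (nat_lit 0x1194de43ac5ceb87caeeb6b748e528f8ca4f1c20), (nat_lit 0x1194de4fb062eba8cb0fbdb6ea6489f8d05f1c20), (nat_lit 0x1194deaf8c84e567d6f1c6b3476d24f0ca8f9c20), (nat_lit 0x1194deb3909ae578d714d5b2e7ec85f0d09f9c20), (nat_lit 0x1194dec3935b258a574eb5f2f8eca8f0d24f9c20), (nat_lit 0x1194decf8b6425a756cfbe331a6d09f0c85f9c20), (nat_lit 0x11970531bc9f719bd9f5dd23a93be5393c91a020), (nat_lit 0x1197054dbd6731bd5a92cbe37abbc9393e51a020), (nat_lit 0x11970571b3eb30fadb7aa6632bb8be3913f1a020), (nat_lit 0x11970575ace4f1495b377ee35d393f390be1a020), (nat_lit 0x1197062a7d6f338d6e8eb3e578d7c3493e72a020), (nat_lit 0x119706367c57736bedf1c525a757e7493c32a020), (nat_lit 0x119706726aeb72f8ef1aa5a4ebd4fe4907f2a020), (nat_lit 0x119706766de2b3476ed77e251d547f490fe2a020), (nat_lit 0x119706b15d9f2d9d6295dbdd7947c5193e93a020), (nat_lit 0x119706cd5c676dbbe1f2cd1daac7e9193c53a020), (nat_lit 0x119706f14cececf9633aa6dd5bc53e190bf3a020), (nat_lit 0x119706f553e32d4ae3777e5d2d44bf1913e3a020), (nat_lit 0x119709a99c6f778be5eeb52ba8cbe3293c74a020), (nat_lit 0x119709b59d57376d6691c3eb774bc7293e34a020), (nat_lit 0x119709f18deab6f766daa62b1bc87e290ff4a020), (nat_lit 0x119709f58ae37748e7177daaed48ff2907e4a020), (nat_lit 0x11970e2bac6cdf89532eb6ef58e923f90a7f2020), (nat_lit 0x11970e33ad9a9f9752d5de2f196865f90e9f2020), (nat_lit 0x11970e37b3531f6ad371c66f2768a7f9123f2020), (nat_lit 0x11970e4faa635fb8d312cdaeeae8e9f9065f2020), (nat_lit 0x11970eab936b298abf6eb67528dca3f1127fa020), (nat_lit 0x11970eb38a9b6998bf15ddb4e95ce5f1069fa020), (nat_lit 0x11970eb78c54e9693f31c6f5575d27f10a3fa020), (nat_lit 0x11970ecf8d62a9b73ed2ce351adc69f10e5fa020), (nat_lit 0x1199352dbd8735bb5dd2cc698abfc4397e81a420), (nat_lit 0x11993541bc5f759c5e35dba9693fe8397c41a420), (nat_lit 0x11993571abec351adf7676692c3d1e3949f1a420), (nat_lit 0x11993575b0e2f4e95f388ee95b3c9f3951e1a420), (nat_lit 0x119935aa1c6f77ac662fbbab6a4be3417c722420), (nat_lit 0x119935b61d57377b65d4d46b87cbc7417e322420), (nat_lit 0x119935f20deab717e6f676ab4c487e414ff22420), (nat_lit 0x119935f60ae376ea67588deafb48ff4147e22420), (nat_lit 0x119936ad5c876fbc6a32cb9f6ad3e4197c83a420), (nat_lit 0x119936c15d5f2f9b69d5dc5f8953c8197e43a420), (nat_lit 0x119936f150eaef196b3676df5c509e1951f3a420), (nat_lit 0x119936f54be42eeaeb788e5f2b511f1949e3a420), (nat_lit 0x119938297d6f33ab6dcfbc658a57c3217e742420), (nat_lit 0x119938357c57737c6e34d3a567d7e7217c342420), (nat_lit 0x119938716aeb731a6f5675e4fc54fe2147f42420), (nat_lit 0x119938756de2b2e7eef88ea54b547f214fe42420), (nat_lit 0x11993e2bb06ae3a93b2fbef15a5883f9507f2420), (nat_lit 0x11993e2faa8363ba3b52cdf0fad8e4f9468f2420), (nat_lit 0x11993e37ab54237abb74d67127d907f9483f2420), (nat_lit 0x11993e43ad5aa397baf5deb1495868f94e4f2420), (nat_lit 0x11993eab8b6c1daac76fbe6d2a6103f1487fa420), (nat_lit 0x11993eaf8d829db7c6f2cead4ae064f14e8fa420), (nat_lit 0x11993eb79052dd794734d6ed57e087f1503fa420), (nat_lit 0x11993ec38a5b5d9a4755ddecf960e8f1464fa420), (nat_lit 0x119aa5b21c9f71acda4fbd63ba3be541fc920c20), (nat_lit 0x119aa5ce1d67317ddab4d4a397bbc941fe520c20), (nat_lit 0x119aa5f213eb3127dafbaea34cb8be41d3f20c20), (nat_lit 0x119aa5f60ce4f15a5b5995e2fdb93f41cbe20c20), (nat_lit 0x119aa62e7d87358ddeaeb4a998bfc449fe828c20), (nat_lit 0x119aa6427c5f756cde51c569b73fe849fc428c20), (nat_lit 0x119aa6726bec3528df1bada8ecbd1e49c9f28c20), (nat_lit 0x119aa67670e2f5575ed996291dbc9f49d1e28c20), (nat_lit 0x119aa8317d9f2dade2afbc9d9a47c521fe940c20), (nat_lit 0x119aa84d7c676d7ce254d55db7c7e921fc540c20), (nat_lit 0x119aa8716ceced2a635baddcfcc53e21cbf40c20), (nat_lit 0x119aa87573e32d57e2f9969d4dc4bf21d3e40c20), (nat_lit 0x119aa9ad9c876f8cea4eb55fb8d3e429fc848c20), (nat_lit 0x119aa9c19d5f2f6deab1c49f9753c829fe448c20), (nat_lit 0x119aa9f190eaef276adbae1f1cd09e29d1f48c20), (nat_lit 0x119aa9f58be42f58eb19959eedd11f29c9e48c20), (nat_lit 0x119aae2fac84e58a574eb5f2f8ed24f9ca8f0c20), (nat_lit 0x119aae33b09ae5a756cfbe331a6c85f9d09f0c20), (nat_lit 0x119aae43b35b2567d6f1c6b3476ca8f9d24f0c20), (nat_lit 0x119aae4fab642578d714d5b2e7ed09f9c85f0c20), (nat_lit 0x119aaeaf93832b87caeeb6b748e4a4f1d28f8c20), (nat_lit 0x119aaeb38b9c2ba8cb0fbdb6ea6505f1c89f8c20), (nat_lit 0x119aaec38c5ceb6a4b51c5f6f76528f1ca4f8c20), (nat_lit 0x119aaecf9062eb774ad4d63717e489f1d05f8c20), (nat_lit 0x11a0b531bd9f2dbbe1f2cd1daac7c53a3e919020), (nat_lit 0x11a0b54dbc676d9d6295dbdd7947e93a3c519020), (nat_lit 0x11a0b571aceced4ae3777e5d2d453e3a0bf19020), (nat_lit 0x11a0b575b3e32cf9633aa6dd5bc4bf3a13e19020), (nat_lit 0x11a0b62a7c6f776d6691c3eb774be34a3c729020), (nat_lit 0x11a0b6367d57378be5eeb52ba8cbc74a3e329020), (nat_lit 0x11a0b6726deab748e7177daaed487e4a0ff29020), (nat_lit 0x11a0b6766ae376f766daa62b1bc8ff4a07e29020), (nat_lit 0x11a0b6b15c9f71bd5a92cbe37abbe51a3c939020), (nat_lit 0x11a0b6cd5d67319bd9f5dd23a93bc91a3e539020), (nat_lit 0x11a0b6f153eb31495b377ee35d38be1a13f39020), (nat_lit 0x11a0b6f54ce4f0fadb7aa6632bb93f1a0be39020), (nat_lit 0x11a0b9a99d6f336bedf1c525a757c32a3e749020), (nat_lit 0x11a0b9b59c57738d6e8eb3e578d7e72a3c349020), (nat_lit 0x11a0b9f18aeb73476ed77e251d54fe2a07f49020), (nat_lit 0x11a0b9f58de2b2f8ef1aa5a4ebd47f2a0fe49020), (nat_lit 0x11a0be2bb36b29693f31c6f5575ca3fa127f1020), (nat_lit 0x11a0be33aa9b69b73ed2ce351adce5fa069f1020), (nat_lit 0x11a0be37ac54e98abf6eb67528dd27fa0a3f1020), (nat_lit 0x11a0be4fad62a998bf15ddb4e95c69fa0e5f1020), (nat_lit 0x11a0beab8c6cdf6ad371c66f276923f20a7f9020), (nat_lit 0x11a0beb38d9a9fb8d312cdaeeae865f20e9f9020), (nat_lit 0x11a0beb793531f89532eb6ef58e8a7f2123f9020), (nat_lit 0x11a0becf8a635f9752d5de2f1968e9f2065f9020), (nat_lit 0x11a6c52dbc876f9b69d5dc5f8953e43a7c819420), (nat_lit 0x11a6c541bd5f2fbc6a32cb9f6ad3c83a7e419420), (nat_lit 0x11a6c571b0eaeeeaeb788e5f2b509e3a51f19420), (nat_lit 0x11a6c575abe42f196b3676df5c511f3a49e19420), (nat_lit 0x11a6c5aa1d6f337c6e34d3a567d7c3427e721420), (nat_lit 0x11a6c5b61c5773ab6dcfbc658a57e7427c321420), (nat_lit 0x11a6c5f20aeb72e7eef88ea54b54fe4247f21420), (nat_lit 0x11a6c5f60de2b31a6f5675e4fc547f424fe21420), (nat_lit 0x11a6c6ad5d87359c5e35dba9693fc41a7e839420), (nat_lit 0x11a6c6c15c5f75bb5dd2cc698abfe81a7c439420), (nat_lit 0x11a6c6f14bec34e95f388ee95b3d1e1a49f39420), (nat_lit 0x11a6c6f550e2f51adf7676692c3c9f1a51e39420), (nat_lit 0x11a6c8297c6f777b65d4d46b87cbe3227c741420), (nat_lit 0x11a6c8357d5737ac662fbbab6a4bc7227e341420), (nat_lit 0x11a6c8716deab6ea67588deafb487e224ff41420), (nat_lit 0x11a6c8756ae37717e6f676ab4c48ff2247e41420), (nat_lit 0x11a6ce2bab6c1d794734d6ed57e103fa487f1420), (nat_lit 0x11a6ce2fad829d9a4755ddecf96064fa4e8f1420), (nat_lit 0x11a6ce37b052ddaac76fbe6d2a6087fa503f1420), (nat_lit 0x11a6ce43aa5b5db7c6f2cead4ae0e8fa464f1420), (nat_lit 0x11a6ceab906ae37abb74d67127d883f2507f9420), (nat_lit 0x11a6ceaf8a836397baf5deb14958e4f2468f9420), (nat_lit 0x11a6ceb78b5423a93b2fbef15a5907f2483f9420), (nat_lit 0x11a6cec38d5aa3ba3b52cdf0fad868f24e4f9420), (nat_lit 0x11b9d52dac84e54b55d77c738d6d243f8a81fc20), (nat_lit 0x11b9d531b09ae4ebd5f88d33ab6c853f9091fc20), (nat_lit 0x11b9d541b35b24fc563aa3b36beca83f9241fc20), (nat_lit 0x11b9d54dab64251d569673f37c6d093f8851fc20), (nat_lit 0x11b9d5aa136b292c3e3babb56cdca34792727c20), (nat_lit 0x11b9d5b20a9b68ecbe588d75bb5ce54786927c20), (nat_lit 0x11b9d5b60c54e95b3dd994758ddd27478a327c20), (nat_lit 0x11b9d5ce0d62a91dbeb674b59c5c69478e527c20), (nat_lit 0x11b9d62a6b6c1d2d469babed7ce1034f8872fc20), (nat_lit 0x11b9d62e6d829d4dc6b77cad9d60644f8e82fc20), (nat_lit 0x11b9d6367052dd5bc5f9952dade0874f9032fc20), (nat_lit 0x11b9d6426a5b5cfcc65aa56dbbe0e84f8642fc20), (nat_lit 0x11b9d6ad53832b4c4a377bb76d64a41f9283fc20), (nat_lit 0x11b9d6b14b9c2aed4a988bf77b65051f8893fc20), (nat_lit 0x11b9d6c14c5ceafb49daa4778be5281f8a43fc20), (nat_lit 0x11b9d6cd5062eb1bc9f67537ac64891f9053fc20), (nat_lit 0x11b9d8296c6cdf2b51dbac6f8ce923278a747c20), (nat_lit 0x11b9d8316d9a9eedd2b88caf9b6865278e947c20), (nat_lit 0x11b9d83573531f5c523993af6de8a72792347c20), (nat_lit 0x11b9d84d6a635f1cd256756fbc68e92786547c20), (nat_lit 0x11b9d9a9906ae32bb9fbad31acd8832f9074fc20), (nat_lit 0x11b9d9ad8a83634cba577d71bd58e42f8684fc20), (nat_lit 0x11b9d9b58b54235d3a9993f17dd9072f8834fc20), (nat_lit 0x11b9d9c18d5aa2fdbabaa4b19bd8682f8e44fc20), (nat_lit 0x11bbc52db3832afb49daa4778be4a43fd281f820), (nat_lit 0x11bbc531ab9c2b1bc9f67537ac65053fc891f820), (nat_lit 0x11bbc541ac5ceb4c4a377bb76d65283fca41f820), (nat_lit 0x11bbc54db062eaed4a988bf77b64893fd051f820), (nat_lit 0x11bbc5aa0c6cdf5c523993af6de92347ca727820), (nat_lit 0x11bbc5b20d9a9f1cd256756fbc686547ce927820), (nat_lit 0x11bbc5b613531f2b51dbac6f8ce8a747d2327820), (nat_lit 0x11bbc5ce0a635eedd2b88caf9b68e947c6527820), (nat_lit 0x11bbc62a706ae35d3a9993f17dd8834fd072f820), (nat_lit 0x11bbc62e6a8362fdbabaa4b19bd8e44fc682f820), (nat_lit 0x11bbc6366b54232bb9fbad31acd9074fc832f820), (nat_lit 0x11bbc6426d5aa34cba577d71bd58684fce42f820), (nat_lit 0x11bbc6ad4c84e4fc563aa3b36bed241fca83f820), (nat_lit 0x11bbc6b1509ae51d569673f37c6c851fd093f820), (nat_lit 0x11bbc6c1535b254b55d77c738d6ca81fd243f820), (nat_lit 0x11bbc6cd4b6424ebd5f88d33ab6d091fc853f820), (nat_lit 0x11bbc829736b295b3dd994758ddca327d2747820), (nat_lit 0x11bbc8316a9b691dbeb674b59c5ce527c6947820), (nat_lit 0x11bbc8356c54e92c3e3babb56cdd2727ca347820), (nat_lit 0x11bbc84d6d62a8ecbe588d75bb5c6927ce547820), (nat_lit 0x11bbc9a98b6c1d5bc5f9952dade1032fc874f820), (nat_lit 0x11bbc9ad8d829cfcc65aa56dbbe0642fce84f820), (nat_lit 0x11bbc9b59052dd2d469babed7ce0872fd034f820), (nat_lit 0x11bbc9c18a5b5d4dc6b77cad9d60e82fc644f820), (nat_lit 0x19d4d73e39a6ed7e624cd561d9afc541be920820), (nat_lit 0x19d4d7523b7e6daee2b3bca1c62fe941bc520820), (nat_lit 0x19d4d76634dbed26635dade13e2cbf4193e20820), (nat_lit 0x19d4d76e2fcd2d59e2fc96a0cead3e418bf20820), (nat_lit 0x19d4d7ba9b8e6f6eeaabc4a7c833e449bc828820), (nat_lit 0x19d4d7c69976ef8e6a50b567d5b3c849be428820), (nat_lit 0x19d4d7e68edc6f286addae26be311f4989e28820), (nat_lit 0x19d4d7ee91cbaf55eb1c95a70eb09e4991f28820), (nat_lit 0x19d4d8bddba6717edaacd497c9c3e521bc940820), (nat_lit 0x19d4d8d1d97ef1ae5a53bd57d643c921be540820), (nat_lit 0x19d4d8e5cfdd3129dafdae96ce413f218be40820), (nat_lit 0x19d4d8edd4cbf1565b5c95d73ec0be2193f40820), (nat_lit 0x19d4da39f98ef56e5e4bc559d84fc429be848820), (nat_lit 0x19d4da45fb76758edeb0b499c5cfe829bc448820), (nat_lit 0x19d4da65f1dbb525df1dad990e4c9f2991e48820), (nat_lit 0x19d4da6deecc75585edc9618becd1e2989f48820), (nat_lit 0x19d4dcbb6f8d2569d6ebc6b8c87524f18a8f8820), (nat_lit 0x19d4dcbf71a3a575d70cd5b909f485f1909f8820), (nat_lit 0x19d4dcc77473e5865750b5f935f4a8f1924f8820), (nat_lit 0x19d4dcd36e7c65a856d3be38b67509f1885f8820), (nat_lit 0x19d4ddbb348beb664b4bc5fb3870a4f9928f0820), (nat_lit 0x19d4ddbf2ea46b784accd63ab9f105f9889f0820), (nat_lit 0x19d4ddc72f752b89caf0b6bac5f128f98a4f0820), (nat_lit 0x19d4ddd3317baba5cb13bdbb067089f9905f0820), (nat_lit 0x19daa73e3ba671ae5a53bd57d643e540bc921820), (nat_lit 0x19daa752397ef17edaacd497c9c3c940be521820), (nat_lit 0x19daa7662fdd31565b5c95d73ec13f408be21820), (nat_lit 0x19daa76e34cbf129dafdae96ce40be4093f21820), (nat_lit 0x19daa7ba998ef58edeb0b499c5cfc448be829820), (nat_lit 0x19daa7c69b76756e5e4bc559d84fe848bc429820), (nat_lit 0x19daa7e691dbb5585edc9618becc9f4891e29820), (nat_lit 0x19daa7ee8ecc7525df1dad990e4d1e4889f29820), (nat_lit 0x19daa8bdd9a6edaee2b3bca1c62fc520be941820), (nat_lit 0x19daa8d1db7e6d7e624cd561d9afe920bc541820), (nat_lit 0x19daa8e5d4dbed59e2fc96a0ceacbf2093e41820), (nat_lit 0x19daa8edcfcd2d26635dade13e2d3e208bf41820), (nat_lit 0x19daaa39fb8e6f8e6a50b567d5b3e428bc849820), (nat_lit 0x19daaa45f976ef6eeaabc4a7c833c828be449820), (nat_lit 0x19daaa65eedc6f55eb1c95a70eb11f2889e49820), (nat_lit 0x19daaa6df1cbaf286addae26be309e2891f49820), (nat_lit 0x19daacbb748beb89caf0b6bac5f0a4f0928f9820), (nat_lit 0x19daacbf6ea46ba5cb13bdbb067105f0889f9820), (nat_lit 0x19daacc76f752b664b4bc5fb387128f08a4f9820), (nat_lit 0x19daacd3717bab784accd63ab9f089f0905f9820), (nat_lit 0x19daadbb2f8d25865750b5f935f524f88a8f1820), (nat_lit 0x19daadbf31a3a5a856d3be38b67485f8909f1820), (nat_lit 0x19daadc73473e569d6ebc6b8c874a8f8924f1820), (nat_lit 0x19daadd32e7c6575d70cd5b909f509f8885f1820), (nat_lit 0x19dd153dbba671cbda75eb17a943e5113c932020), (nat_lit 0x19dd1551b97ef1dd5992e4d77ac3c9113e532020), (nat_lit 0x19dd1565afdd30c95b979f575d413f110be32020), (nat_lit 0x19dd156db4cbf13adbba67172bc0be1113f32020), (nat_lit 0x19dd16bd59a6edcd6195ece1792fc5313e912020), (nat_lit 0x19dd16d15b7e6ddbe272e321aaafe9313c512020), (nat_lit 0x19dd16e554dbeccae3b79f212d2cbf3113e12020), (nat_lit 0x19dd16ed4fcd2d39639a67615bad3e310bf12020), (nat_lit 0x19dd17aa996ef98d7590b4e575d7c6493e22a020), (nat_lit 0x19dd17b69b56796bf66bc325a857e2493c62a020), (nat_lit 0x19dd17e68ddab8c876d79e24bd54df4905e2a020), (nat_lit 0x19dd17ee8acb7935f71a65a50bd45e490df2a020), (nat_lit 0x19dd1a29fb6e7b8bf270b32ba5cbe6293c24a020), (nat_lit 0x19dd1a35f956fb6d718bc4eb784bc2293e64a020), (nat_lit 0x19dd1a65eadb7ac5f3179dab0d485f290de4a020), (nat_lit 0x19dd1a6dedcabb3872da662abbc8de2905f4a020), (nat_lit 0x19dd1cab746bd98acfb0b73525dca6f1122fa020), (nat_lit 0x19dd1cb76f5519694f8bc775585d22f10a6fa020), (nat_lit 0x19dd1cbf6aa359c5cf15edb5095c45f10c9fa020), (nat_lit 0x19dd1cd36d7a99d84ed2e634badcc9f1045fa020), (nat_lit 0x19dd1dab2f6d27893390b76f55e926f90a2f2020), (nat_lit 0x19dd1db73453e76ab3abc72f2868a2f9126f2020), (nat_lit 0x19dd1dbf2da2a7c832d5ee2eb968c5f9049f2020), (nat_lit 0x19dd1dd32a7b67d5b312e5af0ae849f90c5f2020), (nat_lit 0x19df4539b98ef5db5e12e2d98acfc4117e832420), (nat_lit 0x19df4545bb7675cc5d75ec19694fe8117c432420), (nat_lit 0x19df4565b1dbb5095f985f595b4c9f1151e32420), (nat_lit 0x19df456daecc74badfb687192c4d1e1149f32420), (nat_lit 0x19df46b95b8e6fdc6972e4276ab3e4317c812420), (nat_lit 0x19df46c55976efcb6a15eae78933c8317e412420), (nat_lit 0x19df46e54edc6f0aebb85f272b311f3149e12420), (nat_lit 0x19df46ed51cbaeb96b9687675c309e3151f12420), (nat_lit 0x19df472a3b6e7bac7173bc2b664be6417c222420), (nat_lit 0x19df47363956fb7b720cd2eb89cbc2417e622420), (nat_lit 0x19df47662adb7b0673585deb3b485f414de22420), (nat_lit 0x19df476e2dcabab9f2f686aacc48de4145f22420), (nat_lit 0x19df48a9d96ef9ab7613bae58657c6217e242420), (nat_lit 0x19df48b5db56797c756cd42569d7e2217c642420), (nat_lit 0x19df48e5cddab909f6f85ea4cb54df2145e42420), (nat_lit 0x19df48edcacb78b6775685e53c545e214df42420), (nat_lit 0x19df4cab6e6c61aaafb3bf2d266106f1482fa420), (nat_lit 0x19df4cb77153a1792f8cd76d59e082f1506fa420), (nat_lit 0x19df4cbb6d8aa1d9aef2e6accae0c4f1448fa420), (nat_lit 0x19df4cc76a7361c62f55eded396048f14c4fa420), (nat_lit 0x19df4dab316b97a94393bf71565886f9502f2420), (nat_lit 0x19df4db72e54577ac3acd73129d902f9486f2420), (nat_lit 0x19df4dbb2a8b57d64352e5f13ad844f94c8f2420), (nat_lit 0x19df4dc72d7297c9c2f5eeb0c958c8f9444f2420), (nat_lit 0x19e2e53db9a6eddbe272e321aaafc5123e931020), (nat_lit 0x19e2e551bb7e6dcd6195ece1792fe9123c531020), (nat_lit 0x19e2e565b4dbed39639a67615bacbf1213e31020), (nat_lit 0x19e2e56dafcd2ccae3b79f212d2d3e120bf31020), (nat_lit 0x19e2e6bd5ba671dd5992e4d77ac3e5323c911020), (nat_lit 0x19e2e6d1597ef1cbda75eb17a943c9323e511020), (nat_lit 0x19e2e6e54fdd313adbba67172bc13f320be11020), (nat_lit 0x19e2e6ed54cbf0c95b979f575d40be3213f11020), (nat_lit 0x19e2e7aa9b6e7b6d718bc4eb784be64a3c229020), (nat_lit 0x19e2e7b69956fb8bf270b32ba5cbc24a3e629020), (nat_lit 0x19e2e7e68adb7b3872da662abbc85f4a0de29020), (nat_lit 0x19e2e7ee8dcabac5f3179dab0d48de4a05f29020), (nat_lit 0x19e2ea29f96ef96bf66bc325a857c62a3e249020), (nat_lit 0x19e2ea35fb56798d7590b4e575d7e22a3c649020), (nat_lit 0x19e2ea65eddab935f71a65a50bd4df2a05e49020), (nat_lit 0x19e2ea6deacb78c876d79e24bd545e2a0df49020), (nat_lit 0x19e2ecab6f6d276ab3abc72f286926f20a2f9020), (nat_lit 0x19e2ecb77453e7893390b76f55e8a2f2126f9020), (nat_lit 0x19e2ecbf6da2a7d5b312e5af0ae8c5f2049f9020), (nat_lit 0x19e2ecd36a7b67c832d5ee2eb96849f20c5f9020), (nat_lit 0x19e2edab346bd9694f8bc775585ca6fa122f1020), (nat_lit 0x19e2edb72f55198acfb0b73525dd22fa0a6f1020), (nat_lit 0x19e2edbf2aa359d84ed2e634badc45fa0c9f1020), (nat_lit 0x19e2edd32d7a99c5cf15edb5095cc9fa045f1020), (nat_lit 0x19e8f539bb8e6fcb6a15eae78933e4127c831420), (nat_lit 0x19e8f545b976efdc6972e4276ab3c8127e431420), (nat_lit 0x19e8f565aedc6eb96b9687675c311f1249e31420), (nat_lit 0x19e8f56db1cbaf0aebb85f272b309e1251f31420), (nat_lit 0x19e8f6b9598ef5cc5d75ec19694fc4327e811420), (nat_lit 0x19e8f6c55b7675db5e12e2d98acfe8327c411420), (nat_lit 0x19e8f6e551dbb4badfb687192c4c9f3251e11420), (nat_lit 0x19e8f6ed4ecc75095f985f595b4d1e3249f11420), (nat_lit 0x19e8f72a396ef97c756cd42569d7c6427e221420), (nat_lit 0x19e8f7363b5679ab7613bae58657e2427c621420), (nat_lit 0x19e8f7662ddab8b6775685e53c54df4245e21420), (nat_lit 0x19e8f76e2acb7909f6f85ea4cb545e424df21420), (nat_lit 0x19e8f8a9db6e7b7b720cd2eb89cbe6227c241420), (nat_lit 0x19e8f8b5d956fbac7173bc2b664bc2227e641420), (nat_lit 0x19e8f8e5cadb7ab9f2f686aacc485f224de41420), (nat_lit 0x19e8f8edcdcabb0673585deb3b48de2245f41420), (nat_lit 0x19e8fcab716b977ac3acd73129d886f2502f9420), (nat_lit 0x19e8fcb76e5457a94393bf71565902f2486f9420), (nat_lit 0x19e8fcbb6a8b57c9c2f5eeb0c95844f24c8f9420), (nat_lit 0x19e8fcc76d7297d64352e5f13ad8c8f2444f9420), (nat_lit 0x19e8fdab2e6c61792f8cd76d59e106fa482f1420), (nat_lit 0x19e8fdb73153a1aaafb3bf2d266082fa506f1420), (nat_lit 0x19e8fdbb2d8aa1c62f55eded3960c4fa448f1420), (nat_lit 0x19e8fdc72a7361d9aef2e6accae048fa4c4f1420), (nat_lit 0x19f3b539b48beb3b4a1a62fb8bf0a417d2837820), (nat_lit 0x19f3b53daea46abbca76833bac710517c8937820), (nat_lit 0x19f3b545af752acc49779c3b6d712817ca437820), (nat_lit 0x19f3b551b17bab0d49985cfb7b708917d0537820), (nat_lit 0x19f3b6b94f8d253c557a64396bf52437ca817820), (nat_lit 0x19f3b6bd51a3a4bd559684f97c748537d0917820), (nat_lit 0x19f3b6c55473e4cb56179af98d74a837d2417820), (nat_lit 0x19f3b6d14e7c650bd6785b39ab750937c8517820), (nat_lit 0x19f3b72a2f6d275c317c942f6ee92647ca227820), (nat_lit 0x19f3b7363453e72b321daaef8e68a247d2627820), (nat_lit 0x19f3b73e2da2a6be3256856fdc68c547c4927820), (nat_lit 0x19f3b7522a7b670eb2b85cafcb684947cc527820), (nat_lit 0x19f3b7aa916b975d419c94f17ed8864fd022f820), (nat_lit 0x19f3b7b68e54572bc27dab31ae59024fc862f820), (nat_lit 0x19f3b7ba8a8b573ec2ba64b1cbd8444fcc82f820), (nat_lit 0x19f3b7c68d7296ce42579d71dd58c84fc442f820), (nat_lit 0x19f3b8a9d46bd95b4e1c92f58edca627d2247820), (nat_lit 0x19f3b8b5cf55192c4d7dac356e5d2227ca647820), (nat_lit 0x19f3b8bdcaa358beceb684b5cc5c4527cc947820), (nat_lit 0x19f3b8d1cd7a990e4e585d75db5cc927c4547820), (nat_lit 0x19f3ba29ee6c615bae7c932daee1062fc824f820), (nat_lit 0x19f3ba35f153a12d2d9daced7e60822fd064f820), (nat_lit 0x19f3ba39ed8aa13e2e5a656ddbe0c42fc484f820), (nat_lit 0x19f3ba45ea7360ceaeb79cadcd60482fcc44f820), (nat_lit 0x19f79539af8d24cb56179af98d7524178a837c20), (nat_lit 0x19f7953db1a3a50bd6785b39ab74851790937c20), (nat_lit 0x19f79545b473e53c557a64396bf4a81792437c20), (nat_lit 0x19f79551ae7c64bd559684f97c75091788537c20), (nat_lit 0x19f796b9548beacc49779c3b6d70a43792817c20), (nat_lit 0x19f796bd4ea46b0d49985cfb7b71053788917c20), (nat_lit 0x19f796c54f752b3b4a1a62fb8bf128378a417c20), (nat_lit 0x19f796d1517baabbca76833bac70893790517c20), (nat_lit 0x19f7972a346bd92c4d7dac356e5ca64792227c20), (nat_lit 0x19f797362f55195b4e1c92f58edd22478a627c20), (nat_lit 0x19f7973e2aa3590e4e585d75db5c45478c927c20), (nat_lit 0x19f797522d7a98beceb684b5cc5cc94784527c20), (nat_lit 0x19f797aa8e6c612d2d9daced7e61064f8822fc20), (nat_lit 0x19f797b69153a15bae7c932daee0824f9062fc20), (nat_lit 0x19f797ba8d8aa0ceaeb79cadcd60c44f8482fc20), (nat_lit 0x19f797c68a73613e2e5a656ddbe0484f8c42fc20), (nat_lit 0x19f798a9cf6d272b321daaef8e6926278a247c20), (nat_lit 0x19f798b5d453e75c317c942f6ee8a22792647c20), (nat_lit 0x19f798bdcda2a70eb2b85cafcb68c52784947c20), (nat_lit 0x19f798d1ca7b66be3256856fdc6849278c547c20), (nat_lit 0x19f79a29f16b972bc27dab31ae58862f9024fc20), (nat_lit 0x19f79a35ee54575d419c94f17ed9022f8864fc20), (nat_lit 0x19f79a39ea8b56ce42579d71dd58442f8c84fc20), (nat_lit 0x19f79a45ed72973ec2ba64b1cbd8c82f8444fc20), (nat_lit 0x2217074a3aaded9e628cdbd5d9b7c519be938820), (nat_lit 0x221707563796adbee1f3cd15c637e919bc538820), (nat_lit 0x2217075e32d56cf9e33ca6d4ceb53e198bf38820), (nat_lit 0x2217076a35bcad46637d7e553e34bf1993e38820), (nat_lit 0x221708c9d7aeb19ed9ecdd1bc9abe539bc918820), (nat_lit 0x221708d5da95f1be5a93cbdbd62bc939be518820), (nat_lit 0x221708ddd5d4b0f65b7ca65b3ea8be3993f18820), (nat_lit 0x221708e9d2bd7149db3d7edace293f398be18820), (nat_lit 0x2217093ab78eb36eededc527c533e749bc328820), (nat_lit 0x22170946ba75f38e6e8ab3e7d6b3c349be728820), (nat_lit 0x2217095eb1d3b2f6ef1ca5a6aeb0fe4987f28820), (nat_lit 0x2217096aaebc73456edd7e26de307f498fe28820), (nat_lit 0x22170aba5a8df76e668dc3d9d54fc729be348820), (nat_lit 0x22170ac65776b78ee5eab519c6cfe329bc748820), (nat_lit 0x22170ade4ed476f566dca618decc7e298ff48820), (nat_lit 0x22170aea51bbb746e71d7d98ae4cff2987e48820), (nat_lit 0x22170bbb558c9f66536dc67b3570a7f9923f0820), (nat_lit 0x22170bc752755f89d32ab6fac6f123f98a7f0820), (nat_lit 0x22170bcb4eac5f9552ccde3ad9f065f98e9f0820), (nat_lit 0x22170bd751939fb6d313cdbaa670e9f9865f0820), (nat_lit 0x22170d3af28d6969bf2dc6f8c57527f18a3f8820), (nat_lit 0x22170d46f574a9863f6ab67936f4a3f1927f8820), (nat_lit 0x22170d4af1aba996bf0cddb8a9f4e5f1869f8820), (nat_lit 0x22170d56ee9469b53ed3ce38d67469f18e5f8820), (nat_lit 0x221d15ca17aeb1ccda6feb1bba2be511fc930c20), (nat_lit 0x221d15d61a95f1ddd994e4db97abc911fe530c20), (nat_lit 0x221d15de15d4b137dbbb671b4ca8be11d3f30c20), (nat_lit 0x221d15ea12bd70ca5b999f5afda93f11cbe30c20), (nat_lit 0x221d18497aadedcde18fecd59a37c531fe910c20), (nat_lit 0x221d18557796addce274e315b7b7e931fc510c20), (nat_lit 0x221d185d72d56d3a639b6754fcb53e31cbf10c20), (nat_lit 0x221d186975bcacc7e3b99f154db4bf31d3e10c20), (nat_lit 0x221d192eba85f98df58ab4e996bfc649fe228c20), (nat_lit 0x221d1942b75eb96cf66dc329b53fe249fc628c20), (nat_lit 0x221d195eabd43936f71b65a8acbc5e49cdf28c20), (nat_lit 0x221d196ab0baf8c576d99e28ddbcdf49c5e28c20), (nat_lit 0x221d1aae5786bb8cf26ab31fb6d3e629fc248c20), (nat_lit 0x221d1ac25a5dfb6df18dc4df9553c229fe648c20), (nat_lit 0x221d1ade50d2fb3572db661edcd0de29c5f48c20), (nat_lit 0x221d1aea4bbc3ac6f3199d9eadd05f29cde48c20), (nat_lit 0x221d1baf5285678a338ab772f6ed26f9ca2f0c20), (nat_lit 0x221d1bc3555ca767b3adc733456ca2f9d26f0c20), (nat_lit 0x221d1bcb50aae7c532cfee32da6cc5f9c49f0c20), (nat_lit 0x221d1bd74b9427d6b314e5b2a7ec49f9cc5f0c20), (nat_lit 0x221d1d2ef5849987cfaab73746e4a6f1d22f8c20), (nat_lit 0x221d1d42f25d596a4f8dc776f56522f1ca6f8c20), (nat_lit 0x221d1d4aebac19c6cf0fedb6aa6445f1cc9f8c20), (nat_lit 0x221d1d56f092d9d54ed4e636d7e4c9f1c45f8c20), (nat_lit 0x2220b74a37aeb1be5a93cbdbd62be518bc939820), (nat_lit 0x2220b7563a95f19ed9ecdd1bc9abc918be539820), (nat_lit 0x2220b75e35d4b149db3d7edace28be1893f39820), (nat_lit 0x2220b76a32bd70f65b7ca65b3ea93f188be39820), (nat_lit 0x2220b8c9daadedbee1f3cd15c637c538be919820), (nat_lit 0x2220b8d5d796ad9e628cdbd5d9b7e938bc519820), (nat_lit 0x2220b8ddd2d56d46637d7e553e353e388bf19820), (nat_lit 0x2220b8e9d5bcacf9e33ca6d4ceb4bf3893e19820), (nat_lit 0x2220b93aba8df78ee5eab519c6cfc748be329820), (nat_lit 0x2220b946b776b76e668dc3d9d54fe348bc729820), (nat_lit 0x2220b95eaed47746e71d7d98ae4c7e488ff29820), (nat_lit 0x2220b96ab1bbb6f566dca618deccff4887e29820), (nat_lit 0x2220baba578eb38e6e8ab3e7d6b3e728bc349820), (nat_lit 0x2220bac65a75f36eededc527c533c328be749820), (nat_lit 0x2220bade51d3b3456edd7e26de30fe2887f49820), (nat_lit 0x2220baea4ebc72f6ef1ca5a6aeb07f288fe49820), (nat_lit 0x2220bbbb528d69863f6ab67936f527f88a3f1820), (nat_lit 0x2220bbc75574a969bf2dc6f8c574a3f8927f1820), (nat_lit 0x2220bbcb51aba9b53ed3ce38d674e5f8869f1820), (nat_lit 0x2220bbd74e946996bf0cddb8a9f469f88e5f1820), (nat_lit 0x2220bd3af58c9f89d32ab6fac6f0a7f0923f9820), (nat_lit 0x2220bd46f2755f66536dc67b357123f08a7f9820), (nat_lit 0x2220bd4aeeac5fb6d313cdbaa67065f08e9f9820), (nat_lit 0x2220bd56f1939f9552ccde3ad9f0e9f0865f9820), (nat_lit 0x2222e5ca1aadeddce274e315b7b7c510fe931c20), (nat_lit 0x2222e5d61796adcde18fecd59a37e910fc531c20), (nat_lit 0x2222e5de12d56cc7e3b99f154db53e10cbf31c20), (nat_lit 0x2222e5ea15bcad3a639b6754fcb4bf10d3e31c20), (nat_lit 0x2222e84977aeb1ddd994e4db97abe530fc911c20), (nat_lit 0x2222e8557a95f1ccda6feb1bba2bc930fe511c20), (nat_lit 0x2222e85d75d4b0ca5b999f5afda8be30d3f11c20), (nat_lit 0x2222e86972bd7137dbbb671b4ca93f30cbe11c20), (nat_lit 0x2222e92eb786bb6df18dc4df9553e648fc229c20), (nat_lit 0x2222e942ba5dfb8cf26ab31fb6d3c248fe629c20), (nat_lit 0x2222e95eb0d2fac6f3199d9eadd0de48c5f29c20), (nat_lit 0x2222e96aabbc3b3572db661edcd05f48cde29c20), (nat_lit 0x2222eaae5a85f96cf66dc329b53fc628fe249c20), (nat_lit 0x2222eac2575eb98df58ab4e996bfe228fc649c20), (nat_lit 0x2222eade4bd438c576d99e28ddbc5e28cdf49c20), (nat_lit 0x2222eaea50baf936f71b65a8acbcdf28c5e49c20), (nat_lit 0x2222ebaf5584996a4f8dc776f564a6f8d22f1c20), (nat_lit 0x2222ebc3525d5987cfaab73746e522f8ca6f1c20), (nat_lit 0x2222ebcb4bac19d54ed4e636d7e445f8cc9f1c20), (nat_lit 0x2222ebd75092d9c6cf0fedb6aa64c9f8c45f1c20), (nat_lit 0x2222ed2ef2856767b3adc733456d26f0ca2f9c20), (nat_lit 0x2222ed42f55ca78a338ab772f6eca2f0d26f9c20), (nat_lit 0x2222ed4af0aae7d6b314e5b2a7ecc5f0c49f9c20), (nat_lit 0x2222ed56eb9427c532cfee32da6c49f0cc5f9c20), (nat_lit 0x222555ba1a8df7db6554e35987cfc7117e332420), (nat_lit 0x222555c61776b7cc65afea996a4fe3117c732420), (nat_lit 0x222555de0ed476d7e7b657194c4c7e114ff32420), (nat_lit 0x222555ea11bbb6aa67986f58fb4cff1147e32420), (nat_lit 0x2225572e3786bbbc71b3ca9f6653e6197c23a420), (nat_lit 0x222557423a5dfb9b714cdb5f89d3c2197e63a420), (nat_lit 0x2225575e30d2fad9f33656decc50de1945f3a420), (nat_lit 0x2225576a2bbc3aa673786e5f3b505f194de3a420), (nat_lit 0x22255839778eb3dc6db4e2a767b3e7317c312420), (nat_lit 0x222558457a75f3cb6d4feb678a33c3317e712420), (nat_lit 0x2225585d71d3b2da6f965766fc30fe3147f12420), (nat_lit 0x222558696ebc72a7efb86f274b307f314fe12420), (nat_lit 0x222558adda85f9bb7553cb69863fc6397e21a420), (nat_lit 0x222558c1d75eb99c75acdaa969bfe2397c61a420), (nat_lit 0x222558ddcbd438d6777656693c3c5e394df1a420), (nat_lit 0x222558e9d0baf8a9f7386ee8cb3cdf3945e1a420), (nat_lit 0x22255baf51839bba2b93cf70f658e6f9462f2420), (nat_lit 0x22255bbb4b8c1bd62b74e67137d847f94c3f2420), (nat_lit 0x22255bc34e5c5b97abacdf3149d862f94e6f2420), (nat_lit 0x22255bc75072dbc9ab2feef0ca58c3f9447f2420), (nat_lit 0x22255d2eee8455b7b7b3cf2d466066f14e2fa420), (nat_lit 0x22255d3af08ad5d9b734e6ecc7e0c7f1443fa420), (nat_lit 0x22255d42f15b959a378cdf6cf9e0e2f1466fa420), (nat_lit 0x22255d46eb7415c6376fee6d3a6043f14c7fa420), (nat_lit 0x222b25ba178eb3cb6d4feb678a33e7127c331420), (nat_lit 0x222b25c61a75f3dc6db4e2a767b3c3127e731420), (nat_lit 0x222b25de11d3b2a7efb86f274b30fe1247f31420), (nat_lit 0x222b25ea0ebc72da6f965766fc307f124fe31420), (nat_lit 0x222b272e3a85f99c75acdaa969bfc61a7e239420), (nat_lit 0x222b2742375eb9bb7553cb69863fe21a7c639420), (nat_lit 0x222b275e2bd438a9f7386ee8cb3c5e1a4df39420), (nat_lit 0x222b276a30baf8d6777656693c3cdf1a45e39420), (nat_lit 0x222b28397a8df7cc65afea996a4fc7327e311420), (nat_lit 0x222b28457776b7db6554e35987cfe3327c711420), (nat_lit 0x222b285d6ed476aa67986f58fb4c7e324ff11420), (nat_lit 0x222b286971bbb6d7e7b657194c4cff3247e11420), (nat_lit 0x222b28add786bb9b714cdb5f89d3e63a7c219420), (nat_lit 0x222b28c1da5dfbbc71b3ca9f6653c23a7e619420), (nat_lit 0x222b28ddd0d2faa673786e5f3b50de3a45f19420), (nat_lit 0x222b28e9cbbc3ad9f33656decc505f3a4de19420), (nat_lit 0x222b2baf4e84559a378cdf6cf9e066fa4e2f1420), (nat_lit 0x222b2bbb508ad5c6376fee6d3a60c7fa443f1420), (nat_lit 0x222b2bc3515b95b7b7b3cf2d4660e2fa466f1420), (nat_lit 0x222b2bc74b7415d9b734e6ecc7e043fa4c7f1420), (nat_lit 0x222b2d2ef1839b97abacdf3149d8e6f2462f9420), (nat_lit 0x222b2d3aeb8c1bc9ab2feef0ca5847f24c3f9420), (nat_lit 0x222b2d42ee5c5bba2b93cf70f65862f24e6f9420), (nat_lit 0x222b2d46f072dbd62b74e67137d8c3f2447f9420), (nat_lit 0x222fa5ba128d68cb3d599b798df527178a337c20), (nat_lit 0x222fa5c61574a93c3dbb62b96cf4a31792737c20), (nat_lit 0x222fa5ca11aba8acbe786b39bb74e51786937c20), (nat_lit 0x222fa5d60e9468ddbd9654f99c7469178e537c20), (nat_lit 0x222fa72e3584994c4dbd7ab76e64a61f9223fc20), (nat_lit 0x222fa742325d58fb4d5ca3778ee5221f8a63fc20), (nat_lit 0x222fa74a2bac18ae4e986bf7db64451f8c93fc20), (nat_lit 0x222fa7563092d8decdf65537cc64c91f8453fc20), (nat_lit 0x222fa839758c9ecc51b99abb6df0a73792317c20), (nat_lit 0x222fa84572755f3b515b637b8cf123378a717c20), (nat_lit 0x222fa8496eac5eadd1986cfb9b7065378e917c20), (nat_lit 0x222fa85571939edcd276533bbc70e93786517c20), (nat_lit 0x222fa8add285674b315d7b738e6d263f8a21fc20), (nat_lit 0x222fa8c1d55ca6fc31bca2b36eeca23f9261fc20), (nat_lit 0x222fa8c9d0aae6aeb1f86d33cb6cc53f8491fc20), (nat_lit 0x222fa8d5cb9426de329653f3dc6c493f8c51fc20), (nat_lit 0x222fa92eae84554db59d7ced9e60664f8e22fc20), (nat_lit 0x222fa93ab08ad4ceb5f99d2dcde0c74f8432fc20), (nat_lit 0x222fa942b15b94fcb67ca32dbee0e24f8662fc20), (nat_lit 0x222fa946ab74153e369b63eddce0434f8c72fc20), (nat_lit 0x222faaae51839b4caa7d7b31be58e62f8624fc20), (nat_lit 0x222faaba4b8c1ace2a999bf1ddd8472f8c34fc20), (nat_lit 0x222faac24e5c5afda99ca4f19ed8622f8e64fc20), (nat_lit 0x222faac65072db3ea9fb6531ccd8c32f8474fc20), (nat_lit 0x223575ba158c9f3b515b637b8cf0a717d2337820), (nat_lit 0x223575c612755ecc51b99abb6df12317ca737820), (nat_lit 0x223575ca0eac5edcd276533bbc706517ce937820), (nat_lit 0x223575d611939eadd1986cfb9b70e917c6537820), (nat_lit 0x2235772e328566fc31bca2b36eed261fca23f820), (nat_lit 0x22357742355ca74b315d7b738e6ca21fd263f820), (nat_lit 0x2235774a30aae6de329653f3dc6cc51fc493f820), (nat_lit 0x223577562b9426aeb1f86d33cb6c491fcc53f820), (nat_lit 0x22357839728d693c3dbb62b96cf52737ca317820), (nat_lit 0x223578457574a8cb3d599b798df4a337d2717820), (nat_lit 0x2235784971aba8ddbd9654f99c74e537c6917820), (nat_lit 0x223578556e9468acbe786b39bb746937ce517820), (nat_lit 0x223578add58498fb4d5ca3778ee4a63fd221f820), (nat_lit 0x223578c1d25d594c4dbd7ab76e65223fca61f820), (nat_lit 0x223578c9cbac18decdf65537cc64453fcc91f820), (nat_lit 0x223578d5d092d8ae4e986bf7db64c93fc451f820), (nat_lit 0x2235792eb1839afda99ca4f19ed8e64fc622f820), (nat_lit 0x2235793aab8c1b3ea9fb6531ccd8474fcc32f820), (nat_lit 0x22357942ae5c5b4caa7d7b31be58624fce62f820), (nat_lit 0x22357946b072dace2a999bf1ddd8c34fc472f820), (nat_lit 0x22357aae4e8454fcb67ca32dbee0662fce24f820), (nat_lit 0x22357aba508ad53e369b63eddce0c72fc434f820), (nat_lit 0x22357ac2515b954db59d7ced9e60e22fc664f820), (nat_lit 0x22357ac64b7414ceb5f99d2dcde0432fcc74f820), (nat_lit 0x2a5937ca96ae2f9e69d0dc55d5b7c819be438820), (nat_lit 0x2a5937d69895afbeea2bcb95c837e419bc838820), (nat_lit 0x2a5937da95c4aee86b7d8e54be351f1989e38820), (nat_lit 0x2a5937e292b56f15eb3c76d50eb49e1991f38820), (nat_lit 0x2a59393eb8a5b37eee2dd397c543e721bc340820), (nat_lit 0x2a593952b67e33ae6dcabc57d6c3c321be740820), (nat_lit 0x2a59395aafc532e56efd8e96de407f218fe40820), (nat_lit 0x2a593962b4b3f316ef5c75d6aec0fe2187f40820), (nat_lit 0x2a593a49f8adb59ede30db9bc5abe839bc418820), (nat_lit 0x2a593a55f69635be5dcbcc5bd82bc439be818820), (nat_lit 0x2a593a59f2c574e5df3d8edb0e289f3991e18820), (nat_lit 0x2a593a61f5b4b5185f7c765abea91e3989f18820), (nat_lit 0x2a593abe56a6377e65cdd461d52fc741be320820), (nat_lit 0x2a593ad2587db7aee62abba1c6afe341bc720820), (nat_lit 0x2a593ada54c3f6e6e75d8de0ae2cff4187e20820), (nat_lit 0x2a593ae24fb5371566fc76a0deac7e418ff20820), (nat_lit 0x2a593b3f12a55d75c72dd6f9057487f1903f8820), (nat_lit 0x2a593b4b14abdd96c750ddf8a5f4e8f1864f8820), (nat_lit 0x2a593b53157c9da8476abe78b6f503f1887f8820), (nat_lit 0x2a593b570f951db546ebceb8d87464f18e8f8820), (nat_lit 0x2a593c3ed5a4a3783b6dd67ab57107f9883f0820), (nat_lit 0x2a593c4acfad23953af0debad5f068f98e4f0820), (nat_lit 0x2a593c52d27d63a5bb2abefb06f083f9907f0820), (nat_lit 0x2a593c56d493e3b6bb4bcdfaa870e4f9868f0820), (nat_lit 0x2a5f464a78adb5ccdd71ec1bb72be811fc430c20), (nat_lit 0x2a5f4656769635ddde0ee2db98abc411fe830c20), (nat_lit 0x2a5f465a72c575075f995f5b1da89f11d1e30c20), (nat_lit 0x2a5f466275b4b4b8dfbb871aeca91e11c9f30c20), (nat_lit 0x2a5f4932b69e39adf60abadd96c7c621fe240c20), (nat_lit 0x2a5f494eb865b97cf56dd41db547e221fc640c20), (nat_lit 0x2a5f495ab3c3390576f95e9cddc4df21c5e40c20), (nat_lit 0x2a5f4962acb4f8b6f75b85dcacc45e21cdf40c20), (nat_lit 0x2a5f49c996ae2fcdea11ead59737c831fe410c20), (nat_lit 0x2a5f49d59895afdce96ee415b8b7e431fc810c20), (nat_lit 0x2a5f49d995c4af08ebb95f14edb51f31c9e10c20), (nat_lit 0x2a5f49e192b56eb76b9b87551cb49e31d1f10c20), (nat_lit 0x2a5f4ab2589dbbacf16abc23b6bbe641fc220c20), (nat_lit 0x2a5f4ace56663b7df20dd2e3953bc241fe620c20), (nat_lit 0x2a5f4ada4cc4fb06f3595de2adb85f41cde20c20), (nat_lit 0x2a5f4ae253b33ab572fb86a2dcb8de41c5f20c20), (nat_lit 0x2a5f4b33159ca1a8afaabf36e6e506f1c82f8c20), (nat_lit 0x2a5f4b4b0cace1c6af51edf6a76448f1cc4f8c20), (nat_lit 0x2a5f4b4f126561772f8dd777156482f1d06f8c20), (nat_lit 0x2a5f4b57139321d52eeee6b6d8e4c4f1c48f8c20), (nat_lit 0x2a5f4c32d29d57a7438abf7316ec86f9d02f0c20), (nat_lit 0x2a5f4c4ad3ab17c542f1eeb2d76cc8f9c44f0c20), (nat_lit 0x2a5f4c4ed5649778c3add732e56d02f9c86f0c20), (nat_lit 0x2a5f4c56cc94d7d6c34ee5f2a8ec44f9cc8f0c20), (nat_lit 0x2a65563e76a637dbe54ee361a8afc7123e331020), (nat_lit 0x2a655652787db7cd65b1eaa1772fe3123c731020), (nat_lit 0x2a65565a74c3f6a7679a6f611bacff1207e31020), (nat_lit 0x2a6556626fb536d8e7b75720ed2c7e120ff31020), (nat_lit 0x2a6557b2989dbbbd71abcaa3783be61a3c239020), (nat_lit 0x2a6557ce96663b9bf150db63a5bbc21a3e639020), (nat_lit 0x2a6557da8cc4faa8737a6e62bbb85f1a0de39020), (nat_lit 0x2a6557e293b33ad5f33756e30d38de1a05f39020), (nat_lit 0x2a6559bd98a5b3dd6daee29778c3e7323c311020), (nat_lit 0x2a6559d1967e33cbed51eb57a743c3323e711020), (nat_lit 0x2a6559d98fc532a8efba6f16ebc07f320fe11020), (nat_lit 0x2a6559e194b3f2d76f9757571d40fe3207f11020), (nat_lit 0x2a655a31f69e39bbf54bcb5da847c63a3e219020), (nat_lit 0x2a655a4df865b99d75b0da9d75c7e23a3c619020), (nat_lit 0x2a655a59f3c338a5f73a6edd0bc4df3a05e19020), (nat_lit 0x2a655a61ecb4f8d87777565cbd445e3a0df19020), (nat_lit 0x2a655b330f9d15b8b7abcf2ee86866f20e2f9020), (nat_lit 0x2a655b3f13a315d5b72ee6ef08e8c7f2043f9020), (nat_lit 0x2a655b4f1463d5973790df6f15e8e2f2066f9020), (nat_lit 0x2a655b530c7cd5c83771ee6eb76843f20c7f9020), (nat_lit 0x2a655c32d49bdbb72b8bcf75185ce6fa062f1020), (nat_lit 0x2a655c3ecca4dbd82b6ee674b8dc47fa0c3f1020), (nat_lit 0x2a655c4ecf651b98abb0df34e5dc62fa0e6f1020), (nat_lit 0x2a655c52d37b1bc5ab31eef5075cc3fa047f1020), (nat_lit 0x2a66c7ca98adb5be5dcbcc5bd82be818bc439820), (nat_lit 0x2a66c7d69696359ede30db9bc5abc418be839820), (nat_lit 0x2a66c7da92c575185f7c765abea89f1891e39820), (nat_lit 0x2a66c7e295b4b4e5df3d8edb0e291e1889f39820), (nat_lit 0x2a66c93eb6a637aee62abba1c6afc720be341820), (nat_lit 0x2a66c952b87db77e65cdd461d52fe320bc741820), (nat_lit 0x2a66c95ab4c3f71566fc76a0deacff2087e41820), (nat_lit 0x2a66c962afb536e6e75d8de0ae2c7e208ff41820), (nat_lit 0x2a66ca49f6ae2fbeea2bcb95c837c838be419820), (nat_lit 0x2a66ca55f895af9e69d0dc55d5b7e438bc819820), (nat_lit 0x2a66ca59f5c4af15eb3c76d50eb51f3889e19820), (nat_lit 0x2a66ca61f2b56ee86b7d8e54be349e3891f19820), (nat_lit 0x2a66cabe58a5b3ae6dcabc57d6c3e740bc321820), (nat_lit 0x2a66cad2567e337eee2dd397c543c340be721820), (nat_lit 0x2a66cada4fc53316ef5c75d6aec07f408fe21820), (nat_lit 0x2a66cae254b3f2e56efd8e96de40fe4087f21820), (nat_lit 0x2a66cb3f15a4a3a5bb2abefb06f107f0883f9820), (nat_lit 0x2a66cb4b0fad23b6bb4bcdfaa87068f08e4f9820), (nat_lit 0x2a66cb53127d63783b6dd67ab57083f0907f9820), (nat_lit 0x2a66cb571493e3953af0debad5f0e4f0868f9820), (nat_lit 0x2a66cc3ed2a55da8476abe78b6f487f8903f1820), (nat_lit 0x2a66cc4ad4abddb546ebceb8d874e8f8864f1820), (nat_lit 0x2a66cc52d57c9d75c72dd6f9057503f8887f1820), (nat_lit 0x2a66cc56cf951d96c750ddf8a5f464f88e8f1820), (nat_lit 0x2a68f64a76ae2fdce96ee415b8b7c810fe431c20), (nat_lit 0x2a68f6567895afcdea11ead59737e410fc831c20), (nat_lit 0x2a68f65a75c4aeb76b9b87551cb51f10c9e31c20), (nat_lit 0x2a68f66272b56f08ebb95f14edb49e10d1f31c20), (nat_lit 0x2a68f932b89dbb7df20dd2e3953be620fc241c20), (nat_lit 0x2a68f94eb6663bacf16abc23b6bbc220fe641c20), (nat_lit 0x2a68f95aacc4fab572fb86a2dcb85f20cde41c20), (nat_lit 0x2a68f962b3b33b06f3595de2adb8de20c5f41c20), (nat_lit 0x2a68f9c998adb5ddde0ee2db98abe830fc411c20), (nat_lit 0x2a68f9d5969635ccdd71ec1bb72bc430fe811c20), (nat_lit 0x2a68f9d992c574b8dfbb871aeca89f30d1e11c20), (nat_lit 0x2a68f9e195b4b5075f995f5b1da91e30c9f11c20), (nat_lit 0x2a68fab2569e397cf56dd41db547c640fe221c20), (nat_lit 0x2a68face5865b9adf60abadd96c7e240fc621c20), (nat_lit 0x2a68fada53c338b6f75b85dcacc4df40c5e21c20), (nat_lit 0x2a68fae24cb4f90576f95e9cddc45e40cdf21c20), (nat_lit 0x2a68fb33129d5778c3add732e56c86f0d02f9c20), (nat_lit 0x2a68fb4b13ab17d6c34ee5f2a8ecc8f0c44f9c20), (nat_lit 0x2a68fb4f156497a7438abf7316ed02f0c86f9c20), (nat_lit 0x2a68fb570c94d7c542f1eeb2d76c44f0cc8f9c20), (nat_lit 0x2a68fc32d59ca1772f8dd777156506f8c82f1c20), (nat_lit 0x2a68fc4accace1d52eeee6b6d8e448f8cc4f1c20), (nat_lit 0x2a68fc4ed26561a8afaabf36e6e482f8d06f1c20), (nat_lit 0x2a68fc56d39321c6af51edf6a764c4f8c48f1c20), (nat_lit 0x2a6b263e78a5b3cbed51eb57a743e7113c332020), (nat_lit 0x2a6b2652767e33dd6daee29778c3c3113e732020), (nat_lit 0x2a6b265a6fc532d76f9757571d407f110fe32020), (nat_lit 0x2a6b266274b3f2a8efba6f16ebc0fe1107f32020), (nat_lit 0x2a6b27b2969e399d75b0da9d75c7c6193e23a020), (nat_lit 0x2a6b27ce9865b9bbf54bcb5da847e2193c63a020), (nat_lit 0x2a6b27da93c338d87777565cbd44df1905e3a020), (nat_lit 0x2a6b27e28cb4f8a5f73a6edd0bc45e190df3a020), (nat_lit 0x2a6b29bd96a637cd65b1eaa1772fc7313e312020), (nat_lit 0x2a6b29d1987db7dbe54ee361a8afe3313c712020), (nat_lit 0x2a6b29d994c3f6d8e7b75720ed2cff3107e12020), (nat_lit 0x2a6b29e18fb536a7679a6f611bac7e310ff12020), (nat_lit 0x2a6b2a31f89dbb9bf150db63a5bbe6393c21a020), (nat_lit 0x2a6b2a4df6663bbd71abcaa3783bc2393e61a020), (nat_lit 0x2a6b2a59ecc4fad5f33756e30d385f390de1a020), (nat_lit 0x2a6b2a61f3b33aa8737a6e62bbb8de3905f1a020), (nat_lit 0x2a6b2b33149bdb98abb0df34e5dce6f1062fa020), (nat_lit 0x2a6b2b3f0ca4dbc5ab31eef5075c47f10c3fa020), (nat_lit 0x2a6b2b4f0f651bb72b8bcf75185c62f10e6fa020), (nat_lit 0x2a6b2b53137b1bd82b6ee674b8dcc3f1047fa020), (nat_lit 0x2a6b2c32cf9d15973790df6f15e866f90e2f2020), (nat_lit 0x2a6b2c3ed3a315c83771ee6eb768c7f9043f2020), (nat_lit 0x2a6b2c4ed463d5b8b7abcf2ee868e2f9066f2020), (nat_lit 0x2a6b2c52cc7cd5d5b72ee6ef08e843f90c7f2020), (nat_lit 0x2a6d863e75a4a2bbb95b837bacf10717c8337820), (nat_lit 0x2a6d864a6fad22dcb977543bbd706817ce437820), (nat_lit 0x2a6d8652727d630d39b95abb7df08317d0737820), (nat_lit 0x2a6d86567493e2adba1a6afb9bf0e417c6837820), (nat_lit 0x2a6d87b2929d571d41bc72b37eec861fd023f820), (nat_lit 0x2a6d87ca93ab16de41d75473dd6cc81fc443f820), (nat_lit 0x2a6d87ce956496ebc15d8b73ae6d021fc863f820), (nat_lit 0x2a6d87d68c94d6aec23a6bb3cbec441fcc83f820), (nat_lit 0x2a6d8932b49bdb1daa1c72f59edce627c6247820), (nat_lit 0x2a6d893eaca4dabeaa3b83b5ccdc4727cc347820), (nat_lit 0x2a6d894eaf651aeca97d8c35be5c6227ce647820), (nat_lit 0x2a6d8952b37b1b0e29d95c75dddcc327c4747820), (nat_lit 0x2a6d89bd92a55cbd45bb82b97cf48737d0317820), (nat_lit 0x2a6d89c994abdcddc61752f99d74e837c6417820), (nat_lit 0x2a6d89d1957c9d0bc5595b79adf50337c8717820), (nat_lit 0x2a6d89d58f951cacc57a6c39bbf46437ce817820), (nat_lit 0x2a6d8a31f59ca11bad5c7377aee5063fc821f820), (nat_lit 0x2a6d8a49ecace0deae3753b7cd64483fcc41f820), (nat_lit 0x2a6d8a4df26560ed2dbd8ab77e64823fd061f820), (nat_lit 0x2a6d8a55f39320ae2dda6c77dbe4c43fc481f820), (nat_lit 0x2a6d8ab24f9d151cb57c742fbee86647ce227820), (nat_lit 0x2a6d8abe53a314be35db846fdce8c747c4327820), (nat_lit 0x2a6d8ace5463d4edb61d8aef9e68e247c6627820), (nat_lit 0x2a6d8ad24c7cd50eb6395bafcde84347cc727820), (nat_lit 0x2a71663e72a55d0bc5595b79adf4871790337c20), (nat_lit 0x2a71664a74abdcacc57a6c39bbf4e81786437c20), (nat_lit 0x2a716652757c9cbd45bb82b97cf5031788737c20), (nat_lit 0x2a7166566f951cddc61752f99d7464178e837c20), (nat_lit 0x2a7167b2959ca0ed2dbd8ab77e65061f8823fc20), (nat_lit 0x2a7167ca8cace0ae2dda6c77dbe4481f8c43fc20), (nat_lit 0x2a7167ce9265611bad5c7377aee4821f9063fc20), (nat_lit 0x2a7167d6939320deae3753b7cd64c41f8483fc20), (nat_lit 0x2a716932af9d14edb61d8aef9e6866278e247c20), (nat_lit 0x2a71693eb3a3150eb6395bafcde8c72784347c20), (nat_lit 0x2a71694eb463d51cb57c742fbee8e22786647c20), (nat_lit 0x2a716952ac7cd4be35db846fdce843278c747c20), (nat_lit 0x2a7169bd95a4a30d39b95abb7df1073788317c20), (nat_lit 0x2a7169c98fad22adba1a6afb9bf068378e417c20), (nat_lit 0x2a7169d1927d62bbb95b837bacf0833790717c20), (nat_lit 0x2a7169d59493e2dcb977543bbd70e43786817c20), (nat_lit 0x2a716a31f29d56ebc15d8b73ae6c863f9021fc20), (nat_lit 0x2a716a49f3ab16aec23a6bb3cbecc83f8441fc20), (nat_lit 0x2a716a4df564971d41bc72b37eed023f8861fc20), (nat_lit 0x2a716a55ec94d6de41d75473dd6c443f8c81fc20), (nat_lit 0x2a716ab2549bdaeca97d8c35be5ce64786227c20), (nat_lit 0x2a716abe4ca4db0e29d95c75dddc47478c327c20), (nat_lit 0x2a716ace4f651b1daa1c72f59edc62478e627c20), (nat_lit 0x2a716ad2537b1abeaa3b83b5ccdcc34784727c20), (nat_lit 0x3094d5b21c9f71adda54bd5d97c7c921fe540c20), (nat_lit 0x3094d5ce1d67317cdaafd49dba47e521fc940c20), (nat_lit 0x3094d5f213eb312a5af9ae9cfdc53f21cbe40c20), (nat_lit 0x3094d5f60ce4f157db5b95dd4cc4be21d3f40c20), (nat_lit 0x3094d62e7d87358cdeb1b49fb753e829fc448c20), (nat_lit 0x3094d6427c5f756dde4ec55f98d3c429fe848c20), (nat_lit 0x3094d6726bec35275f19ad9f1dd09f29d1e48c20), (nat_lit 0x3094d67670e2f558dedb961eecd11e29c9f48c20), (nat_lit 0x3094d8317d9f2dace2b4bca3b7bbe941fc520c20), (nat_lit 0x3094d84d7c676d7de24fd5639a3bc541fe920c20), (nat_lit 0x3094d8716ceced27e359ade34db8bf41d3e20c20), (nat_lit 0x3094d87573e32d5a62fb96a2fcb93e41cbf20c20), (nat_lit 0x3094d9ad9c876f8dea51b569973fc849fe428c20), (nat_lit 0x3094d9c19d5f2f6ceaaec4a9b8bfe449fc828c20), (nat_lit 0x3094d9f190eaef28ead9ae28edbd1f49c9e28c20), (nat_lit 0x3094d9f58be42f576b1b95a91cbc9e49d1f28c20), (nat_lit 0x3094de2fac84e587d751b5f74764a8f1d24f8c20), (nat_lit 0x3094de33b09ae5a8d6d4be36e7e509f1c85f8c20), (nat_lit 0x3094de43b35b256a56eec6b6f8e524f1ca8f8c20), (nat_lit 0x3094de4fab642577570fd5b71a6485f1d09f8c20), (nat_lit 0x3094deaf93832b8a4af1b6b2f76d28f9ca4f0c20), (nat_lit 0x3094deb38b9c2ba74b14bdb317ec89f9d05f0c20), (nat_lit 0x3094dec38c5ceb67cb4ec5f348eca4f9d28f0c20), (nat_lit 0x3094decf9062eb78cacfd632ea6d05f9c89f0c20), (nat_lit 0x30970531bd9f2dbd61f5cd23793be91a3c539020), (nat_lit 0x3097054dbc676d9be292dbe3aabbc51a3e939020), (nat_lit 0x30970571aceced49637a7e635bb8bf1a13e39020), (nat_lit 0x30970575b3e32cfae337a6e32d393e1a0bf39020), (nat_lit 0x3097062a7c6f776be68ec3e5a8d7c72a3e349020), (nat_lit 0x309706367d57378d65f1b5257757e32a3c749020), (nat_lit 0x309706726deab747671a7da51bd4ff2a07e49020), (nat_lit 0x309706766ae376f8e6d7a624ed547e2a0ff49020), (nat_lit 0x309706b15c9f71bbda95cbdda947c93a3e519020), (nat_lit 0x309706cd5d67319d59f2dd1d7ac7e53a3c919020), (nat_lit 0x309706f153eb314adb3a7edd2bc53f3a0be19020), (nat_lit 0x309706f54ce4f0f95b77a65d5d44be3a13f19020), (nat_lit 0x309709a99d6f336d6deec52b78cbe74a3c329020), (nat_lit 0x309709b59c57738bee91b3eba74bc34a3e729020), (nat_lit 0x309709f18aeb7348eeda7e2aebc87f4a0fe29020), (nat_lit 0x309709f58de2b2f76f17a5ab1d48fe4a07f29020), (nat_lit 0x30970e2bb36b296abf2ec6ef28e927f20a3f9020), (nat_lit 0x30970e33aa9b69b8bed5ce2ee96869f20e5f9020), (nat_lit 0x30970e37ac54e9893f71b66f5768a3f2127f9020), (nat_lit 0x30970e4fad62a9973f12ddaf1ae8e5f2069f9020), (nat_lit 0x30970eab8c6cdf69536ec67558dca7fa123f1020), (nat_lit 0x30970eb38d9a9fb75315cdb5195ce9fa065f1020), (nat_lit 0x30970eb793531f8ad331b6f5275d23fa0a7f1020), (nat_lit 0x30970ecf8a635f98d2d2de34eadc65fa0e9f1020), (nat_lit 0x3099352dbc876f9c69d2dc696abfc81a7e439420), (nat_lit 0x30993541bd5f2fbb6a35cba9893fe41a7c839420), (nat_lit 0x30993571b0eaeee96b768e695c3d1f1a49e39420), (nat_lit 0x30993575abe42f1aeb3876e92b3c9e1a51f39420), (nat_lit 0x309935aa1d6f337b6e2fd3ab8a4be7227c341420), (nat_lit 0x309935b61c5773ac6dd4bc6b67cbc3227e741420), (nat_lit 0x309935f20aeb72ea6ef68eaafc487f224fe41420), (nat_lit 0x309935f60de2b317ef5875eb4b48fe2247f41420), (nat_lit 0x309936ad5d87359b5e32db9f8ad3e83a7c419420), (nat_lit 0x309936c15c5f75bc5dd5cc5f6953c43a7e819420), (nat_lit 0x309936f14bec34eadf368edf2c509f3a51e19420), (nat_lit 0x309936f550e2f5195f78765f5b511e3a49f19420), (nat_lit 0x309938297c6f777c65cfd4656a57c7427e321420), (nat_lit 0x309938357d5737ab6634bba587d7e3427c721420), (nat_lit 0x309938716deab6e7e7568de54c54ff4247e21420), (nat_lit 0x309938756ae3771a66f876a4fb547e424ff21420), (nat_lit 0x30993e2bab6c1d7ac72fd6f12a5887f2503f9420), (nat_lit 0x30993e2fad829d97c752ddf14ad8e8f2464f9420), (nat_lit 0x30993e37b052dda94774be7157d903f2487f9420), (nat_lit 0x30993e43aa5b5dba46f5ceb0f95864f24e8f9420), (nat_lit 0x30993eab906ae3793b6fd66d5a6107fa483f1420), (nat_lit 0x30993eaf8a83639a3af2deacfae068fa4e4f1420), (nat_lit 0x30993eb78b5423aabb34beed27e083fa507f1420), (nat_lit 0x30993ec38d5aa3b7bb55cded4960e4fa468f1420), (nat_lit 0x309aa5b21d9f2d7de24fd5639a3be920fc541c20), (nat_lit 0x309aa5ce1c676dace2b4bca3b7bbc520fe941c20), (nat_lit 0x309aa5f20ceced5a62fb96a2fcb8bf20d3e41c20), (nat_lit 0x309aa5f613e32d27e359ade34db93e20cbf41c20), (nat_lit 0x309aa62e7c876f6ceaaec4a9b8bfc828fe449c20), (nat_lit 0x309aa6427d5f2f8dea51b569973fe428fc849c20), (nat_lit 0x309aa67270eaef576b1b95a91cbd1f28c9e49c20), (nat_lit 0x309aa6766be42f28ead9ae28edbc9e28d1f49c20), (nat_lit 0x309aa8317c9f717cdaafd49dba47c940fe521c20), (nat_lit 0x309aa84d7d6731adda54bd5d97c7e540fc921c20), (nat_lit 0x309aa87173eb3157db5b95dd4cc53f40cbe21c20), (nat_lit 0x309aa8756ce4f12a5af9ae9cfdc4be40d3f21c20), (nat_lit 0x309aa9ad9d87356dde4ec55f98d3e848fc429c20), (nat_lit 0x309aa9c19c5f758cdeb1b49fb753c448fe829c20), (nat_lit 0x309aa9f18bec3558dedb961eecd09f48d1e29c20), (nat_lit 0x309aa9f590e2f5275f19ad9f1dd11e48c9f29c20), (nat_lit 0x309aae2fb3832b67cb4ec5f348ed28f0ca4f9c20), (nat_lit 0x309aae33ab9c2b78cacfd632ea6c89f0d05f9c20), (nat_lit 0x309aae43ac5ceb8a4af1b6b2f76ca4f0d28f9c20), (nat_lit 0x309aae4fb062eba74b14bdb317ed05f0c89f9c20), (nat_lit 0x309aaeaf8c84e56a56eec6b6f8e4a8f8d24f1c20), (nat_lit 0x309aaeb3909ae577570fd5b71a6509f8c85f1c20), (nat_lit 0x309aaec3935b2587d751b5f7476524f8ca8f1c20), (nat_lit 0x309aaecf8b6425a8d6d4be36e7e485f8d09f1c20), (nat_lit 0x30a0b531bc9f719d59f2dd1d7ac7c9193e53a020), (nat_lit 0x30a0b54dbd6731bbda95cbdda947e5193c93a020), (nat_lit 0x30a0b571b3eb30f95b77a65d5d453f190be3a020), (nat_lit 0x30a0b575ace4f14adb3a7edd2bc4be1913f3a020), (nat_lit 0x30a0b62a7d6f338bee91b3eba74be7293c34a020), (nat_lit 0x30a0b6367c57736d6deec52b78cbc3293e74a020), (nat_lit 0x30a0b6726aeb72f76f17a5ab1d487f290fe4a020), (nat_lit 0x30a0b6766de2b348eeda7e2aebc8fe2907f4a020), (nat_lit 0x30a0b6b15d9f2d9be292dbe3aabbe9393c51a020), (nat_lit 0x30a0b6cd5c676dbd61f5cd23793bc5393e91a020), (nat_lit 0x30a0b6f14cececfae337a6e32d38bf3913e1a020), (nat_lit 0x30a0b6f553e32d49637a7e635bb93e390bf1a020), (nat_lit 0x30a0b9a99c6f778d65f1b5257757c7493e32a020), (nat_lit 0x30a0b9b59d57376be68ec3e5a8d7e3493c72a020), (nat_lit 0x30a0b9f18deab6f8e6d7a624ed54ff4907e2a020), (nat_lit 0x30a0b9f58ae37747671a7da51bd47e490ff2a020), (nat_lit 0x30a0be2bac6cdf8ad331b6f5275ca7f1123fa020), (nat_lit 0x30a0be33ad9a9f98d2d2de34eadce9f1065fa020), (nat_lit 0x30a0be37b3531f69536ec67558dd23f10a7fa020), (nat_lit 0x30a0be4faa635fb75315cdb5195c65f10e9fa020), (nat_lit 0x30a0beab936b29893f71b66f576927f90a3f2020), (nat_lit 0x30a0beb38a9b69973f12ddaf1ae869f90e5f2020), (nat_lit 0x30a0beb78c54e96abf2ec6ef28e8a3f9127f2020), (nat_lit 0x30a0becf8d62a9b8bed5ce2ee968e5f9069f2020), (nat_lit 0x30a6c52dbd8735bc5dd5cc5f6953e8197c43a420), (nat_lit 0x30a6c541bc5f759b5e32db9f8ad3c4197e83a420), (nat_lit 0x30a6c571abec35195f78765f5b509f1951e3a420), (nat_lit 0x30a6c575b0e2f4eadf368edf2c511e1949f3a420), (nat_lit 0x30a6c5aa1c6f77ab6634bba587d7c7217e342420), (nat_lit 0x30a6c5b61d57377c65cfd4656a57e3217c742420), (nat_lit 0x30a6c5f20deab71a66f876a4fb54ff2147e42420), (nat_lit 0x30a6c5f60ae376e7e7568de54c547e214ff42420), (nat_lit 0x30a6c6ad5c876fbb6a35cba9893fc8397e41a420), (nat_lit 0x30a6c6c15d5f2f9c69d2dc696abfe4397c81a420), (nat_lit 0x30a6c6f150eaef1aeb3876e92b3d1f3949e1a420), (nat_lit 0x30a6c6f54be42ee96b768e695c3c9e3951f1a420), (nat_lit 0x30a6c8297d6f33ac6dd4bc6b67cbe7417c322420), (nat_lit 0x30a6c8357c57737b6e2fd3ab8a4bc3417e722420), (nat_lit 0x30a6c8716aeb7317ef5875eb4b487f414fe22420), (nat_lit 0x30a6c8756de2b2ea6ef68eaafc48fe4147f22420), (nat_lit 0x30a6ce2bb06ae3aabb34beed27e107f1483fa420), (nat_lit 0x30a6ce2faa8363b7bb55cded496068f14e4fa420), (nat_lit 0x30a6ce37ab5423793b6fd66d5a6083f1507fa420), (nat_lit 0x30a6ce43ad5aa39a3af2deacfae0e4f1468fa420), (nat_lit 0x30a6ceab8b6c1da94774be7157d887f9503f2420), (nat_lit 0x30a6ceaf8d829dba46f5ceb0f958e8f9464f2420), (nat_lit 0x30a6ceb79052dd7ac72fd6f12a5903f9487f2420), (nat_lit 0x30a6cec38a5b5d97c752ddf14ad864f94e8f2420), (nat_lit 0x30b9d52db3832afc49d7a4736d6d281fca43f820), (nat_lit 0x30b9d531ab9c2b1d49f875337b6c891fd053f820), (nat_lit 0x30b9d541ac5ceb4b4a3a7bb38beca41fd283f820), (nat_lit 0x30b9d54db062eaebca968bf3ac6d051fc893f820), (nat_lit 0x30b9d5aa0c6cdf5b523b93b58cdca727d2347820), (nat_lit 0x30b9d5b20d9a9f1dd25875759b5ce927c6547820), (nat_lit 0x30b9d5b613531f2c51d9ac756ddd2327ca747820), (nat_lit 0x30b9d5ce0a635eecd2b68cb5bc5c6527ce947820), (nat_lit 0x30b9d62a706ae35bba9b93edace1072fc834f820), (nat_lit 0x30b9d62e6a8362fcbab7a4adbd60682fce44f820), (nat_lit 0x30b9d6366b54232d39f9ad2d7de0832fd074f820), (nat_lit 0x30b9d6426d5aa34dba5a7d6d9be0e42fc684f820), (nat_lit 0x30b9d6ad4c84e4fb5637a3b78d64a83fd241f820), (nat_lit 0x30b9d6b1509ae51bd69873f7ab65093fc851f820), (nat_lit 0x30b9d6c1535b254c55da7c776be5243fca81f820), (nat_lit 0x30b9d6cd4b6424ed55f68d377c64853fd091f820), (nat_lit 0x30b9d829736b295c3ddb946f6ce92747ca327820), (nat_lit 0x30b9d8316a9b691cbeb874afbb686947ce527820), (nat_lit 0x30b9d8356c54e92b3e39abaf8de8a347d2727820), (nat_lit 0x30b9d84d6d62a8edbe568d6f9c68e547c6927820), (nat_lit 0x30b9d9a98b6c1d5d45fb95317cd8874fd032f820), (nat_lit 0x30b9d9ad8d829cfdc657a5719d58e84fc642f820), (nat_lit 0x30b9d9b59052dd2bc699abf1add9034fc872f820), (nat_lit 0x30b9d9c18a5b5d4cc6ba7cb1bbd8644fce82f820), (nat_lit 0x30bbc52dac84e54c55da7c776be4a81f9243fc20), (nat_lit 0x30bbc531b09ae4ed55f68d377c65091f8853fc20), (nat_lit 0x30bbc541b35b24fb5637a3b78d65241f8a83fc20), (nat_lit 0x30bbc54dab64251bd69873f7ab64851f9093fc20), (nat_lit 0x30bbc5aa136b292b3e39abaf8de927278a347c20), (nat_lit 0x30bbc5b20a9b68edbe568d6f9c6869278e547c20), (nat_lit 0x30bbc5b60c54e95c3ddb946f6ce8a32792747c20), (nat_lit 0x30bbc5ce0d62a91cbeb874afbb68e52786947c20), (nat_lit 0x30bbc62a6b6c1d2bc699abf1add8872f9034fc20), (nat_lit 0x30bbc62e6d829d4cc6ba7cb1bbd8e82f8644fc20), (nat_lit 0x30bbc6367052dd5d45fb95317cd9032f8874fc20), (nat_lit 0x30bbc6426a5b5cfdc657a5719d58642f8e84fc20), (nat_lit 0x30bbc6ad53832b4b4a3a7bb38bed283f8a41fc20), (nat_lit 0x30bbc6b14b9c2aebca968bf3ac6c893f9051fc20), (nat_lit 0x30bbc6c14c5ceafc49d7a4736d6ca43f9281fc20), (nat_lit 0x30bbc6cd5062eb1d49f875337b6d053f8891fc20), (nat_lit 0x30bbc8296c6cdf2c51d9ac756ddca74792327c20), (nat_lit 0x30bbc8316d9a9eecd2b68cb5bc5ce94786527c20), (nat_lit 0x30bbc83573531f5b523b93b58cdd23478a727c20), (nat_lit 0x30bbc84d6a635f1dd25875759b5c65478e927c20), (nat_lit 0x30bbc9a9906ae32d39f9ad2d7de1074f8832fc20), (nat_lit 0x30bbc9ad8a83634dba5a7d6d9be0684f8e42fc20), (nat_lit 0x30bbc9b58b54235bba9b93edace0834f9072fc20), (nat_lit 0x30bbc9c18d5aa2fcbab7a4adbd60e44f8682fc20), (nat_lit 0x38d4d73e3ba671aeda4cbd61c9afc920be541820), (nat_lit 0x38d4d752397ef17e5ab3d4a1d62fe520bc941820), (nat_lit 0x38d4d7662fdd3159db5d95e0ce2cbe2093f41820), (nat_lit 0x38d4d76e34cbf1265afcaea13ead3f208be41820), (nat_lit 0x38d4d7ba998ef58e5eabb4a7d833e828bc449820), (nat_lit 0x38d4d7c69b76756ede50c567c5b3c428be849820), (nat_lit 0x38d4d7e691dbb555dedd96270e311e2889f49820), (nat_lit 0x38d4d7ee8ecc75285f1cada6beb09f2891e49820), (nat_lit 0x38d4d8bdd9a6edae62acbc97d9c3e940bc521820), (nat_lit 0x38d4d8d1db7e6d7ee253d557c643c540be921820), (nat_lit 0x38d4d8e5d4dbed5662fd96973e413e408bf21820), (nat_lit 0x38d4d8edcfcd2d29e35cadd6cec0bf4093e21820), (nat_lit 0x38d4da39fb8e6f8eea4bb559c84fc848be429820), (nat_lit 0x38d4da45f976ef6e6ab0c499d5cfe448bc829820), (nat_lit 0x38d4da65eedc6f586b1d9598be4c9e4891f29820), (nat_lit 0x38d4da6df1cbaf25eadcae190ecd1f4889e29820), (nat_lit 0x38d4dcbb748beb864aebb6b9387528f88a4f1820), (nat_lit 0x38d4dcbf6ea46ba84b0cbdb8b9f489f8905f1820), (nat_lit 0x38d4dcc76f752b69cb50c5f8c5f4a4f8928f1820), (nat_lit 0x38d4dcd3717bab75cad3d639067505f8889f1820), (nat_lit 0x38d4ddbb2f8d2589d74bb5fac870a8f0924f9820), (nat_lit 0x38d4ddbf31a3a5a5d6ccbe3b09f109f0885f9820), (nat_lit 0x38d4ddc73473e56656f0c6bb35f124f08a8f9820), (nat_lit 0x38d4ddd32e7c65785713d5bab67085f0909f9820), (nat_lit 0x38daa73e39a6ed7ee253d557c643e921bc540820), (nat_lit 0x38daa7523b7e6dae62acbc97d9c3c521be940820), (nat_lit 0x38daa76634dbed29e35cadd6cec13e218bf40820), (nat_lit 0x38daa76e2fcd2d5662fd96973e40bf2193e40820), (nat_lit 0x38daa7ba9b8e6f6e6ab0c499d5cfc829be448820), (nat_lit 0x38daa7c69976ef8eea4bb559c84fe429bc848820), (nat_lit 0x38daa7e68edc6f25eadcae190ecc9e2991f48820), (nat_lit 0x38daa7ee91cbaf586b1d9598be4d1f2989e48820), (nat_lit 0x38daa8bddba6717e5ab3d4a1d62fc941be520820), (nat_lit 0x38daa8d1d97ef1aeda4cbd61c9afe541bc920820), (nat_lit 0x38daa8e5cfdd31265afcaea13eacbe4193f20820), (nat_lit 0x38daa8edd4cbf159db5d95e0ce2d3f418be20820), (nat_lit 0x38daaa39f98ef56ede50c567c5b3e849bc428820), (nat_lit 0x38daaa45fb76758e5eabb4a7d833c449be828820), (nat_lit 0x38daaa65f1dbb5285f1cada6beb11e4989f28820), (nat_lit 0x38daaa6deecc7555dedd96270e309f4991e28820), (nat_lit 0x38daacbb6f8d256656f0c6bb35f0a8f9924f0820), (nat_lit 0x38daacbf71a3a5785713d5bab67109f9885f0820), (nat_lit 0x38daacc77473e589d74bb5fac87124f98a8f0820), (nat_lit 0x38daacd36e7c65a5d6ccbe3b09f085f9909f0820), (nat_lit 0x38daadbb348beb69cb50c5f8c5f528f18a4f8820), (nat_lit 0x38daadbf2ea46b75cad3d639067489f1905f8820), (nat_lit 0x38daadc72f752b864aebb6b93874a4f1928f8820), (nat_lit 0x38daadd3317baba84b0cbdb8b9f505f1889f8820), (nat_lit 0x38dd153db9a6eddd6275e3177943e9323c511020), (nat_lit 0x38dd1551bb7e6dcbe192ecd7aac3c5323e911020), (nat_lit 0x38dd1565b4dbed3ae39767572d413e320bf11020), (nat_lit 0x38dd156dafcd2cc963ba9f175bc0bf3213e11020), (nat_lit 0x38dd16bd5ba671dbd995e4e1a92fc9123e531020), (nat_lit 0x38dd16d1597ef1cd5a72eb217aafe5123c931020), (nat_lit 0x38dd16e54fdd31395bb767215d2cbe1213f31020), (nat_lit 0x38dd16ed54cbf0cadb9a9f612bad3f120be31020), (nat_lit 0x38dd17aa9b6e7b6bf190c4e5a5d7c22a3e649020), (nat_lit 0x38dd17b69956fb8d726bb3257857e62a3c249020), (nat_lit 0x38dd17e68adb7b35f2d766250d54de2a05f49020), (nat_lit 0x38dd17ee8dcabac8731a9da4bbd45f2a0de49020), (nat_lit 0x38dd1a29f96ef96d7670c32b75cbe24a3c629020), (nat_lit 0x38dd1a35fb56798bf58bb4eba84bc64a3e229020), (nat_lit 0x38dd1a65eddab938771765aabd485e4a0df29020), (nat_lit 0x38dd1a6deacb78c5f6da9e2b0bc8df4a05e29020), (nat_lit 0x38dd1cab6f6d276933b0c73555dca2fa126f1020), (nat_lit 0x38dd1cb77453e78ab38bb775285d26fa0a2f1020), (nat_lit 0x38dd1cbf6da2a7d83315e5b4b95c49fa0c5f1020), (nat_lit 0x38dd1cd36a7b67c5b2d2ee350adcc5fa049f1020), (nat_lit 0x38dd1dab346bd96acf90c76f25e922f20a6f9020), (nat_lit 0x38dd1db72f5519894fabb72f5868a6f2122f9020), (nat_lit 0x38dd1dbf2aa359d5ced5e62f0968c9f2045f9020), (nat_lit 0x38dd1dd32d7a99c84f12edaebae845f20c9f9020), (nat_lit 0x38df4539bb8e6fcc6a12ead96acfc8327e411420), (nat_lit 0x38df4545b976efdb6975e419894fe4327c811420), (nat_lit 0x38df4565aedc6ebaeb9887592b4c9e3251f11420), (nat_lit 0x38df456db1cbaf096bb65f195c4d1f3249e11420), (nat_lit 0x38df46b9598ef5cb5d72ec278ab3e8127c431420), (nat_lit 0x38df46c55b7675dc5e15e2e76933c4127e831420), (nat_lit 0x38df46e551dbb4b95fb887275b311e1249f31420), (nat_lit 0x38df46ed4ecc750adf965f672c309f1251e31420), (nat_lit 0x38df472a396ef97b7573d42b864be2227c641420), (nat_lit 0x38df47363b5679ac760cbaeb69cbc6227e241420), (nat_lit 0x38df47662ddab8b9f75885eacb485e224df41420), (nat_lit 0x38df476e2acb790676f65eab3c48df2245e41420), (nat_lit 0x38df48a9db6e7b7c7213d2e56657c2427e621420), (nat_lit 0x38df48b5d956fbab716cbc2589d7e6427c221420), (nat_lit 0x38df48e5cadb7ab672f886a53b54de4245f21420), (nat_lit 0x38df48edcdcabb09f3565de4cc545f424de21420), (nat_lit 0x38df4cab716b977943b3d72d566102fa486f1420), (nat_lit 0x38df4cb76e5457aac38cbf6d29e086fa502f1420), (nat_lit 0x38df4cbb6a8b57c642f2eead3ae0c8fa444f1420), (nat_lit 0x38df4cc76d7297d9c355e5ecc96044fa4c8f1420), (nat_lit 0x38df4dab2e6c617aaf93d771265882f2506f9420), (nat_lit 0x38df4db73153a1a92facbf3159d906f2482f9420), (nat_lit 0x38df4dbb2d8aa1c9af52edf0cad848f24c4f9420), (nat_lit 0x38df4dc72a7361d62ef5e6b13958c4f2448f9420), (nat_lit 0x38e2e53dbba671cd5a72eb217aafc9313e512020), (nat_lit 0x38e2e551b97ef1dbd995e4e1a92fe5313c912020), (nat_lit 0x38e2e565afdd30cadb9a9f612bacbe3113f12020), (nat_lit 0x38e2e56db4cbf1395bb767215d2d3f310be12020), (nat_lit 0x38e2e6bd59a6edcbe192ecd7aac3e9113c532020), (nat_lit 0x38e2e6d15b7e6ddd6275e3177943c5113e932020), (nat_lit 0x38e2e6e554dbecc963ba9f175bc13e110bf32020), (nat_lit 0x38e2e6ed4fcd2d3ae39767572d40bf1113e32020), (nat_lit 0x38e2e7aa996ef98bf58bb4eba84be2293c64a020), (nat_lit 0x38e2e7b69b56796d7670c32b75cbc6293e24a020), (nat_lit 0x38e2e7e68ddab8c5f6da9e2b0bc85e290df4a020), (nat_lit 0x38e2e7ee8acb7938771765aabd48df2905e4a020), (nat_lit 0x38e2ea29fb6e7b8d726bb3257857c2493e62a020), (nat_lit 0x38e2ea35f956fb6bf190c4e5a5d7e6493c22a020), (nat_lit 0x38e2ea65eadb7ac8731a9da4bbd4de4905f2a020), (nat_lit 0x38e2ea6dedcabb35f2d766250d545f490de2a020), (nat_lit 0x38e2ecab746bd9894fabb72f586922f90a6f2020), (nat_lit 0x38e2ecb76f55196acf90c76f25e8a6f9122f2020), (nat_lit 0x38e2ecbf6aa359c84f12edaebae8c9f9045f2020), (nat_lit 0x38e2ecd36d7a99d5ced5e62f096845f90c9f2020), (nat_lit 0x38e2edab2f6d278ab38bb775285ca2f1126fa020), (nat_lit 0x38e2edb73453e76933b0c73555dd26f10a2fa020), (nat_lit 0x38e2edbf2da2a7c5b2d2ee350adc49f10c5fa020), (nat_lit 0x38e2edd32a7b67d83315e5b4b95cc5f1049fa020), (nat_lit 0x38e8f539b98ef5dc5e15e2e76933e8317c412420), (nat_lit 0x38e8f545bb7675cb5d72ec278ab3c4317e812420), (nat_lit 0x38e8f565b1dbb50adf965f672c311e3149f12420), (nat_lit 0x38e8f56daecc74b95fb887275b309f3151e12420), (nat_lit 0x38e8f6b95b8e6fdb6975e419894fc8117e432420), (nat_lit 0x38e8f6c55976efcc6a12ead96acfe4117c832420), (nat_lit 0x38e8f6e54edc6f096bb65f195c4c9e1151f32420), (nat_lit 0x38e8f6ed51cbaebaeb9887592b4d1f1149e32420), (nat_lit 0x38e8f72a3b6e7bab716cbc2589d7c2217e642420), (nat_lit 0x38e8f7363956fb7c7213d2e56657e6217c242420), (nat_lit 0x38e8f7662adb7b09f3565de4cc54de2145f42420), (nat_lit 0x38e8f76e2dcabab672f886a53b545f214de42420), (nat_lit 0x38e8f8a9d96ef9ac760cbaeb69cbe2417c622420), (nat_lit 0x38e8f8b5db56797b7573d42b864bc6417e222420), (nat_lit 0x38e8f8e5cddab90676f65eab3c485e414df22420), (nat_lit 0x38e8f8edcacb78b9f75885eacb48df4145e22420), (nat_lit 0x38e8fcab6e6c61a92facbf3159d882f9506f2420), (nat_lit 0x38e8fcb77153a17aaf93d771265906f9482f2420), (nat_lit 0x38e8fcbb6d8aa1d62ef5e6b1395848f94c4f2420), (nat_lit 0x38e8fcc76a7361c9af52edf0cad8c4f9448f2420), (nat_lit 0x38e8fdab316b97aac38cbf6d29e102f1486fa420), (nat_lit 0x38e8fdb72e54577943b3d72d566086f1502fa420), (nat_lit 0x38e8fdbb2a8b57d9c355e5ecc960c8f1444fa420), (nat_lit 0x38e8fdc72d7297c642f2eead3ae044f14c8fa420), (nat_lit 0x38f3b539af8d24cc561a9afb6bf0a83792417c20), (nat_lit 0x38f3b53db1a3a50d56765b3b7c71093788517c20), (nat_lit 0x38f3b545b473e53b5577643b8d7124378a817c20), (nat_lit 0x38f3b551ae7c64bbd59884fbab70853790917c20), (nat_lit 0x38f3b6b9548beacb497a9c398bf528178a437c20), (nat_lit 0x38f3b6bd4ea46b0bc9965cf9ac74891790537c20), (nat_lit 0x38f3b6c54f752b3c4a1762f96d74a41792837c20), (nat_lit 0x38f3b6d1517baabd4a7883397b75051788937c20), (nat_lit 0x38f3b72a346bd92b4d7cac2f8ee922278a647c20), (nat_lit 0x38f3b7362f55195c4e1d92ef6e68a62792247c20), (nat_lit 0x38f3b73e2aa3590ece565d6fcc68c92784547c20), (nat_lit 0x38f3b7522d7a98be4eb884afdb6845278c947c20), (nat_lit 0x38f3b7aa8e6c612bad9cacf1aed8822f9064fc20), (nat_lit 0x38f3b7b69153a15d2e7d93317e59062f8824fc20), (nat_lit 0x38f3b7ba8d8aa0ce2eba9cb1dbd8482f8c44fc20), (nat_lit 0x38f3b7c68a73613eae576571cd58c42f8484fc20), (nat_lit 0x38f3b8a9cf6d272c321caaf56edca24792627c20), (nat_lit 0x38f3b8b5d453e75b317d94358e5d26478a227c20), (nat_lit 0x38f3b8bdcda2a70e32b65cb5dc5c49478c527c20), (nat_lit 0x38f3b8d1ca7b66beb2588575cb5cc54784927c20), (nat_lit 0x38f3ba29f16b972d427cab2d7ee1024f8862fc20), (nat_lit 0x38f3ba35ee54575bc19d94edae60864f9022fc20), (nat_lit 0x38f3ba39ea8b56cec25a9d6dcbe0c84f8442fc20), (nat_lit 0x38f3ba45ed72973e42b764addd60444f8c82fc20), (nat_lit 0x38f79539b48beb3c4a1762f96d752837ca417820), (nat_lit 0x38f7953daea46abd4a7883397b748937d0517820), (nat_lit 0x38f79545af752acb497a9c398bf4a437d2817820), (nat_lit 0x38f79551b17bab0bc9965cf9ac750537c8917820), (nat_lit 0x38f796b94f8d253b5577643b8d70a817d2437820), (nat_lit 0x38f796bd51a3a4bbd59884fbab710917c8537820), (nat_lit 0x38f796c55473e4cc561a9afb6bf12417ca837820), (nat_lit 0x38f796d14e7c650d56765b3b7c708517d0937820), (nat_lit 0x38f7972a2f6d275b317d94358e5ca227d2647820), (nat_lit 0x38f797363453e72c321caaf56edd2627ca247820), (nat_lit 0x38f7973e2da2a6beb2588575cb5c4927cc547820), (nat_lit 0x38f797522a7b670e32b65cb5dc5cc527c4947820), (nat_lit 0x38f797aa916b975bc19d94edae61022fc864f820), (nat_lit 0x38f797b68e54572d427cab2d7ee0862fd024f820), (nat_lit 0x38f797ba8a8b573e42b764addd60c82fc444f820), (nat_lit 0x38f797c68d7296cec25a9d6dcbe0442fcc84f820), (nat_lit 0x38f798a9d46bd95c4e1d92ef6e692247ca627820), (nat_lit 0x38f798b5cf55192b4d7cac2f8ee8a647d2227820), (nat_lit 0x38f798bdcaa358be4eb884afdb68c947c4527820), (nat_lit 0x38f798d1cd7a990ece565d6fcc684547cc927820), (nat_lit 0x38f79a29ee6c615d2e7d93317e58824fd062f820), (nat_lit 0x38f79a35f153a12bad9cacf1aed9064fc822f820), (nat_lit 0x38f79a39ed8aa13eae576571cd58484fcc42f820), (nat_lit 0x38f79a45ea7360ce2eba9cb1dbd8c44fc482f820), (nat_lit 0x4117074a37aeb1beda8ccbd5c9b7c938be519820), (nat_lit 0x411707563a95f19e59f3dd15d637e538bc919820), (nat_lit 0x4117075e35d4b1465b3c7ed53eb53f388be19820), (nat_lit 0x4117076a32bd70f9db7da654ce34be3893f19820), (nat_lit 0x411708c9daadedbe61eccd1bd9abe918bc539820), (nat_lit 0x411708d5d796ad9ee293dbdbc62bc518be939820), (nat_lit 0x411708ddd2d56d49e37c7e5acea8bf1893e39820), (nat_lit 0x411708e9d5bcacf6633da6db3e293e188bf39820), (nat_lit 0x4117093aba8df78e65edb527d533e328bc749820), (nat_lit 0x41170946b776b76ee68ac3e7c6b3c728be349820), (nat_lit 0x4117095eaed47745671c7da6deb0ff2887e49820), (nat_lit 0x4117096ab1bbb6f6e6dda626ae307e288ff49820), (nat_lit 0x41170aba578eb38eee8db3d9c54fc348be729820), (nat_lit 0x41170ac65a75f36e6deac519d6cfe748bc329820), (nat_lit 0x41170ade51d3b346eedc7e18aecc7f488fe29820), (nat_lit 0x41170aea4ebc72f56f1da598de4cfe4887f29820), (nat_lit 0x41170bbb528d6989bf6db67ac570a3f0927f9820), (nat_lit 0x41170bc75574a9663f2ac6fb36f127f08a3f9820), (nat_lit 0x41170bcb51aba9b6beccce3aa9f069f08e5f9820), (nat_lit 0x41170bd74e9469953f13ddbad670e5f0869f9820), (nat_lit 0x41170d3af58c9f86532db6f9357523f88a7f1820), (nat_lit 0x41170d46f2755f69d36ac678c6f4a7f8923f1820), (nat_lit 0x41170d4aeeac5fb5530ccdb8d9f4e9f8865f1820), (nat_lit 0x41170d56f1939f96d2d3de38a67465f88e9f1820), (nat_lit 0x411d15ca1aadeddde26fe31b9a2be930fc511c20), (nat_lit 0x411d15d61796adcce194ecdbb7abc530fe911c20), (nat_lit 0x411d15de12d56cca63bb9f1afca8bf30d3e11c20), (nat_lit 0x411d15ea15bcad37e399675b4da93e30cbf11c20), (nat_lit 0x411d184977aeb1dcd98fe4d5ba37c910fe531c20), (nat_lit 0x411d18557a95f1cdda74eb1597b7e510fc931c20), (nat_lit 0x411d185d75d4b0c7db9b9f554cb53f10cbe31c20), (nat_lit 0x411d186972bd713a5bb96714fdb4be10d3f31c20), (nat_lit 0x411d192eb786bb6cf18ac4e9b6bfc228fe649c20), (nat_lit 0x411d1942ba5dfb8df26db329953fe628fc249c20), (nat_lit 0x411d195eb0d2fac5731b9da8dcbc5f28cde49c20), (nat_lit 0x411d196aabbc3b36f2d96628adbcde28c5f49c20), (nat_lit 0x411d1aae5a85f96df66ac31f96d3e248fc629c20), (nat_lit 0x411d1ac2575eb98cf58db4dfb553c648fe229c20), (nat_lit 0x411d1ade4bd438c6f6db9e1eacd0df48c5e29c20), (nat_lit 0x411d1aea50baf9357719659eddd05e48cdf29c20), (nat_lit 0x411d1baf55849967cf8ac77346ed22f0ca6f9c20), (nat_lit 0x411d1bc3525d598a4fadb732f56ca6f0d22f9c20), (nat_lit 0x411d1bcb4bac19d6cecfe632aa6cc9f0c45f9c20), (nat_lit 0x411d1bd75092d9c54f14edb2d7ec45f0cc9f9c20), (nat_lit 0x411d1d2ef285676a33aac736f6e4a2f8d26f1c20), (nat_lit 0x411d1d42f55ca787b38db777456526f8ca2f1c20), (nat_lit 0x411d1d4af0aae7d5330fe5b6da6449f8cc5f1c20), (nat_lit 0x411d1d56eb9427c6b2d4ee36a7e4c5f8c49f1c20), (nat_lit 0x4120b74a3aaded9ee293dbdbc62be939bc518820), (nat_lit 0x4120b7563796adbe61eccd1bd9abc539be918820), (nat_lit 0x4120b75e32d56cf6633da6db3e28bf3993e18820), (nat_lit 0x4120b76a35bcad49e37c7e5acea93e398bf18820), (nat_lit 0x4120b8c9d7aeb19e59f3dd15d637c919be538820), (nat_lit 0x4120b8d5da95f1beda8ccbd5c9b7e519bc938820), (nat_lit 0x4120b8ddd5d4b0f9db7da654ce353f198be38820), (nat_lit 0x4120b8e9d2bd71465b3c7ed53eb4be1993f38820), (nat_lit 0x4120b93ab78eb36e6deac519d6cfc329be748820), (nat_lit 0x4120b946ba75f38eee8db3d9c54fe729bc348820), (nat_lit 0x4120b95eb1d3b2f56f1da598de4c7f298fe48820), (nat_lit 0x4120b96aaebc7346eedc7e18aeccfe2987f48820), (nat_lit 0x4120baba5a8df76ee68ac3e7c6b3e349bc728820), (nat_lit 0x4120bac65776b78e65edb527d533c749be328820), (nat_lit 0x4120bade4ed476f6e6dda626ae30ff4987e28820), (nat_lit 0x4120baea51bbb745671c7da6deb07e498ff28820), (nat_lit 0x4120bbbb558c9f69d36ac678c6f523f18a7f8820), (nat_lit 0x4120bbc752755f86532db6f93574a7f1923f8820), (nat_lit 0x4120bbcb4eac5f96d2d3de38a674e9f1865f8820), (nat_lit 0x4120bbd751939fb5530ccdb8d9f465f18e9f8820), (nat_lit 0x4120bd3af28d69663f2ac6fb36f0a3f9927f0820), (nat_lit 0x4120bd46f574a989bf6db67ac57127f98a3f0820), (nat_lit 0x4120bd4af1aba9953f13ddbad67069f98e5f0820), (nat_lit 0x4120bd56ee9469b6beccce3aa9f0e5f9869f0820), (nat_lit 0x4122e5ca17aeb1cdda74eb1597b7c931fe510c20), (nat_lit 0x4122e5d61a95f1dcd98fe4d5ba37e531fc910c20), (nat_lit 0x4122e5de15d4b13a5bb96714fdb53f31cbe10c20), (nat_lit 0x4122e5ea12bd70c7db9b9f554cb4be31d3f10c20), (nat_lit 0x4122e8497aadedcce194ecdbb7abe911fc530c20), (nat_lit 0x4122e8557796addde26fe31b9a2bc511fe930c20), (nat_lit 0x4122e85d72d56d37e399675b4da8bf11d3e30c20), (nat_lit 0x4122e86975bcacca63bb9f1afca93e11cbf30c20), (nat_lit 0x4122e92eba85f98cf58db4dfb553e229fc648c20), (nat_lit 0x4122e942b75eb96df66ac31f96d3c629fe248c20), (nat_lit 0x4122e95eabd439357719659eddd0df29c5e48c20), (nat_lit 0x4122e96ab0baf8c6f6db9e1eacd05e29cdf48c20), (nat_lit 0x4122eaae5786bb8df26db329953fc249fe628c20), (nat_lit 0x4122eac25a5dfb6cf18ac4e9b6bfe649fc228c20), (nat_lit 0x4122eade50d2fb36f2d96628adbc5f49cde28c20), (nat_lit 0x4122eaea4bbc3ac5731b9da8dcbcde49c5f28c20), (nat_lit 0x4122ebaf52856787b38db7774564a2f1d26f8c20), (nat_lit 0x4122ebc3555ca76a33aac736f6e526f1ca2f8c20), (nat_lit 0x4122ebcb50aae7c6b2d4ee36a7e449f1cc5f8c20), (nat_lit 0x4122ebd74b9427d5330fe5b6da64c5f1c49f8c20), (nat_lit 0x4122ed2ef584998a4fadb732f56d22f9ca6f0c20), (nat_lit 0x4122ed42f25d5967cf8ac77346eca6f9d22f0c20), (nat_lit 0x4122ed4aebac19c54f14edb2d7ecc9f9c45f0c20), (nat_lit 0x4122ed56f092d9d6cecfe632aa6c45f9cc9f0c20), (nat_lit 0x412555ba178eb3cc6d54eb5967cfc3327e711420), (nat_lit 0x412555c61a75f3db6dafe2998a4fe7327c311420), (nat_lit 0x412555de11d3b2aa6fb66f18fc4c7f324fe11420), (nat_lit 0x412555ea0ebc72d7ef9857594b4cfe3247f11420), (nat_lit 0x4125572e3a85f99b75b3da9f8653e23a7c619420), (nat_lit 0x41255742375eb9bc754ccb5f69d3c63a7e219420), (nat_lit 0x4125575e2bd438a677366edf3c50df3a45e19420), (nat_lit 0x4125576a30baf8d9f778565ecb505e3a4df19420), (nat_lit 0x412558397a8df7cb65b4eaa787b3e3127c731420), (nat_lit 0x412558457776b7dc654fe3676a33c7127e331420), (nat_lit 0x4125585d6ed476a7e7966f674c30ff1247e31420), (nat_lit 0x4125586971bbb6da67b85726fb307e124ff31420), (nat_lit 0x412558add786bb9c7153db69663fc21a7e639420), (nat_lit 0x412558c1da5dfbbb71accaa989bfe61a7c239420), (nat_lit 0x412558ddd0d2faa9f3766e68cc3c5f1a4de39420), (nat_lit 0x412558e9cbbc3ad6733856e93b3cde1a45f39420), (nat_lit 0x41255baf4e845597b793df714658e2f2466f9420), (nat_lit 0x41255bbb508ad5c9b774ee70c7d843f24c7f9420), (nat_lit 0x41255bc3515b95ba37accf30f9d866f24e2f9420), (nat_lit 0x41255bc74b7415d6372fe6f13a58c7f2443f9420), (nat_lit 0x41255d2ef1839b9a2bb3df2cf66062fa4e6f1420), (nat_lit 0x41255d3aeb8c1bc62b34eeed37e0c3fa447f1420), (nat_lit 0x41255d42ee5c5bb7ab8ccf6d49e0e6fa462f1420), (nat_lit 0x41255d46f072dbd9ab6fe66cca6047fa4c3f1420), (nat_lit 0x412b25ba1a8df7dc654fe3676a33e3317c712420), (nat_lit 0x412b25c61776b7cb65b4eaa787b3c7317e312420), (nat_lit 0x412b25de0ed476da67b85726fb30ff3147e12420), (nat_lit 0x412b25ea11bbb6a7e7966f674c307e314ff12420), (nat_lit 0x412b272e3786bbbb71accaa989bfc2397e61a420), (nat_lit 0x412b27423a5dfb9c7153db69663fe6397c21a420), (nat_lit 0x412b275e30d2fad6733856e93b3c5f394de1a420), (nat_lit 0x412b276a2bbc3aa9f3766e68cc3cde3945f1a420), (nat_lit 0x412b2839778eb3db6dafe2998a4fc3117e732420), (nat_lit 0x412b28457a75f3cc6d54eb5967cfe7117c332420), (nat_lit 0x412b285d71d3b2d7ef9857594b4c7f114fe32420), (nat_lit 0x412b28696ebc72aa6fb66f18fc4cfe1147f32420), (nat_lit 0x412b28adda85f9bc754ccb5f69d3e2197c63a420), (nat_lit 0x412b28c1d75eb99b75b3da9f8653c6197e23a420), (nat_lit 0x412b28ddcbd438d9f778565ecb50df1945e3a420), (nat_lit 0x412b28e9d0baf8a677366edf3c505e194df3a420), (nat_lit 0x412b2baf51839bb7ab8ccf6d49e062f14e6fa420), (nat_lit 0x412b2bbb4b8c1bd9ab6fe66cca60c3f1447fa420), (nat_lit 0x412b2bc34e5c5b9a2bb3df2cf660e6f1462fa420), (nat_lit 0x412b2bc75072dbc62b34eeed37e047f14c3fa420), (nat_lit 0x412b2d2eee8455ba37accf30f9d8e2f9466f2420), (nat_lit 0x412b2d3af08ad5d6372fe6f13a5843f94c7f2420), (nat_lit 0x412b2d42f15b9597b793df71465866f94e2f2420), (nat_lit 0x412b2d46eb7415c9b774ee70c7d8c7f9443f2420), (nat_lit 0x412fa5ba158c9f3c515963796df52337ca717820), (nat_lit 0x412fa5c612755ecb51bb9ab98cf4a737d2317820), (nat_lit 0x412fa5ca0eac5eddd27853399b74e937c6517820), (nat_lit 0x412fa5d611939eacd1966cf9bc746537ce917820), (nat_lit 0x412fa72e328566fb31bda2b78e64a23fd261f820), (nat_lit 0x412fa742355ca74c315c7b776ee5263fca21f820), (nat_lit 0x412fa74a30aae6deb29853f7cb64493fcc51f820), (nat_lit 0x412fa7562b9426ae31f66d37dc64c53fc491f820), (nat_lit 0x412fa839728d693b3db962bb8df0a317d2737820), (nat_lit 0x412fa8457574a8cc3d5b9b7b6cf12717ca337820), (nat_lit 0x412fa84971aba8dcbd9854fbbb706917ce537820), (nat_lit 0x412fa8556e9468adbe766b3b9c70e517c6937820), (nat_lit 0x412fa8add58498fc4d5da3736e6d221fca63f820), (nat_lit 0x412fa8c1d25d594b4dbc7ab38eeca61fd223f820), (nat_lit 0x412fa8c9cbac18de4df85533db6cc91fc453f820), (nat_lit 0x412fa8d5d092d8aece966bf3cc6c451fcc93f820), (nat_lit 0x412fa92eb1839afca99da4edbe60622fce64f820), (nat_lit 0x412fa93aab8c1b3e29f9652ddde0c32fc474f820), (nat_lit 0x412fa942ae5c5b4daa7c7b2d9ee0e62fc624f820), (nat_lit 0x412fa946b072daceaa9b9bedcce0472fcc34f820), (nat_lit 0x412faaae4e8454fdb67da3319e58e24fc662f820), (nat_lit 0x412faaba508ad53eb69963f1cdd8434fcc72f820), (nat_lit 0x412faac2515b954cb59c7cf1bed8664fce22f820), (nat_lit 0x412faac64b7414ce35fb9d31dcd8c74fc432f820), (nat_lit 0x413575ba128d68cc3d5b9b7b6cf0a33792717c20), (nat_lit 0x413575c61574a93b3db962bb8df127378a317c20), (nat_lit 0x413575ca11aba8adbe766b3b9c7069378e517c20), (nat_lit 0x413575d60e9468dcbd9854fbbb70e53786917c20), (nat_lit 0x4135772e3584994b4dbc7ab38eed223f8a61fc20), (nat_lit 0x41357742325d58fc4d5da3736e6ca63f9221fc20), (nat_lit 0x4135774a2bac18aece966bf3cc6cc93f8451fc20), (nat_lit 0x413577563092d8de4df85533db6c453f8c91fc20), (nat_lit 0x41357839758c9ecb51bb9ab98cf523178a737c20), (nat_lit 0x4135784572755f3c515963796df4a71792337c20), (nat_lit 0x413578496eac5eacd1966cf9bc74e91786537c20), (nat_lit 0x4135785571939eddd27853399b7465178e937c20), (nat_lit 0x413578add285674c315c7b776ee4a21f9263fc20), (nat_lit 0x413578c1d55ca6fb31bda2b78e65261f8a23fc20), (nat_lit 0x413578c9d0aae6ae31f66d37dc64491f8c53fc20), (nat_lit 0x413578d5cb9426deb29853f7cb64c51f8493fc20), (nat_lit 0x4135792eae84554cb59c7cf1bed8e22f8664fc20), (nat_lit 0x4135793ab08ad4ce35fb9d31dcd8432f8c74fc20), (nat_lit 0x41357942b15b94fdb67da3319e58662f8e24fc20), (nat_lit 0x41357946ab74153eb69963f1cdd8c72f8434fc20), (nat_lit 0x41357aae51839b4daa7c7b2d9ee0624f8e62fc20), (nat_lit 0x41357aba4b8c1aceaa9b9bedcce0c34f8472fc20), (nat_lit 0x41357ac24e5c5afca99da4edbe60e64f8622fc20), (nat_lit 0x41357ac65072db3e29f9652ddde0474f8c32fc20), (nat_lit 0x495937ca98adb5beddd0cc55c5b7c438be819820), (nat_lit 0x495937d69696359e5e2bdb95d837e838bc419820), (nat_lit 0x495937da92c57515df7d76550e351e3889f19820), (nat_lit 0x495937e295b4b4e85f3c8ed4beb49f3891e19820), (nat_lit 0x4959393eb6a637ae662dbb97d543e340bc721820), (nat_lit 0x49593952b87db77ee5cad457c6c3c740be321820), (nat_lit 0x4959395ab4c3f716e6fd7696ae407e408ff21820), (nat_lit 0x49593962afb536e5675c8dd6dec0ff4087e21820), (nat_lit 0x49593a49f6ae2fbe6a30cb9bd5abe418bc839820), (nat_lit 0x49593a55f895af9ee9cbdc5bc82bc818be439820), (nat_lit 0x49593a59f5c4af186b3d76dabe289e1891f39820), (nat_lit 0x49593a61f2b56ee5eb7c8e5b0ea91f1889e39820), (nat_lit 0x49593abe58a5b3aeedcdbc61c52fc320be741820), (nat_lit 0x49593ad2567e337e6e2ad3a1d6afe720bc341820), (nat_lit 0x49593ada4fc533156f5d75e0de2cfe2087f41820), (nat_lit 0x49593ae254b3f2e6eefc8ea0aeac7f208fe41820), (nat_lit 0x49593b3f15a4a3a83b2dbef8b57483f8907f1820), (nat_lit 0x49593b4b0fad23b53b50cdf8d5f4e4f8868f1820), (nat_lit 0x49593b53127d6375bb6ad67906f507f8883f1820), (nat_lit 0x49593b571493e396baebdeb8a87468f88e4f1820), (nat_lit 0x49593c3ed2a55da5c76dbe7b057103f0887f9820), (nat_lit 0x49593c4ad4abddb6c6f0cebaa5f064f08e8f9820), (nat_lit 0x49593c52d57c9d78472ad6fab6f087f0903f9820), (nat_lit 0x49593c56cf951d95474bddfad870e8f0864f9820), (nat_lit 0x495f464a76ae2fdde971e41b972be430fc811c20), (nat_lit 0x495f46567895afccea0eeadbb8abc830fe411c20), (nat_lit 0x495f465a75c4aeb8eb99875aeda89e30d1f11c20), (nat_lit 0x495f466272b56f076bbb5f1b1ca91f30c9e11c20), (nat_lit 0x495f4932b89dbb7cf20ad2ddb6c7c240fe621c20), (nat_lit 0x495f494eb6663badf16dbc1d9547e640fc221c20), (nat_lit 0x495f495aacc4fab6f2f9869cadc4de40c5f21c20), (nat_lit 0x495f4962b3b33b05735b5ddcdcc45f40cde21c20), (nat_lit 0x495f49c998adb5dcde11e2d5b737c410fe831c20), (nat_lit 0x495f49d5969635cddd6eec1598b7e810fc431c20), (nat_lit 0x495f49d992c574b75fb987151db51e10c9f31c20), (nat_lit 0x495f49e195b4b508df9b5f54ecb49f10d1e31c20), (nat_lit 0x495f4ab2569e397df56ad42396bbe220fc641c20), (nat_lit 0x495f4ace5865b9acf60dbae3b53bc620fe241c20), (nat_lit 0x495f4ada53c338b5775985e2ddb85e20cdf41c20), (nat_lit 0x495f4ae24cb4f906f6fb5ea2acb8df20c5e41c20), (nat_lit 0x495f4b33129d577743aad73716e502f8c86f1c20), (nat_lit 0x495f4b4b13ab17d54351e5f6d76444f8cc8f1c20), (nat_lit 0x495f4b4f156497a8c38dbf76e56486f8d02f1c20), (nat_lit 0x495f4b570c94d7c6c2eeeeb6a8e4c8f8c44f1c20), (nat_lit 0x495f4c32d59ca178af8ad772e6ec82f0d06f9c20), (nat_lit 0x495f4c4accace1d6aef1e6b2a76cc4f0c48f9c20), (nat_lit 0x495f4c4ed26561a72fadbf33156d06f0c82f9c20), (nat_lit 0x495f4c56d39321c52f4eedf2d8ec48f0cc4f9c20), (nat_lit 0x4965563e78a5b3cd6d4eeb6178afc3313e712020), (nat_lit 0x49655652767e33dbedb1e2a1a72fe7313c312020), (nat_lit 0x4965565a6fc532d8ef9a5760ebacfe3107f12020), (nat_lit 0x4965566274b3f2a76fb76f211d2c7f310fe12020), (nat_lit 0x496557b2969e399bf5abdaa3a83be2393c61a020), (nat_lit 0x496557ce9865b9bd7550cb6375bbc6393e21a020), (nat_lit 0x496557da93c338d5f77a56630bb85e390df1a020), (nat_lit 0x496557e28cb4f8a877376ee2bd38df3905e1a020), (nat_lit 0x496559bd96a637cbe5aeea97a8c3e3113c732020), (nat_lit 0x496559d1987db7dd6551e3577743c7113e332020), (nat_lit 0x496559d994c3f6d767ba57171bc07e110ff32020), (nat_lit 0x496559e18fb536a8e7976f56ed40ff1107e32020), (nat_lit 0x49655a31f89dbb9d714bdb5d7847c2193e63a020), (nat_lit 0x49655a4df6663bbbf1b0ca9da5c7e6193c23a020), (nat_lit 0x49655a59ecc4fad8733a56dcbbc4de1905f3a020), (nat_lit 0x49655a61f3b33aa5f3776e5d0d445f190de3a020), (nat_lit 0x49655b33149bdb972babdf2f186862f90e6f2020), (nat_lit 0x49655b3f0ca4dbc82b2eeeeeb8e8c3f9047f2020), (nat_lit 0x49655b4f0f651bb8ab90cf6ee5e8e6f9062f2020), (nat_lit 0x49655b53137b1bd5ab71e66f076847f90c3f2020), (nat_lit 0x49655c32cf9d1598b78bdf74e85ce2f1066fa020), (nat_lit 0x49655c3ed3a315c5b76eee7508dc43f10c7fa020), (nat_lit 0x49655c4ed463d5b737b0cf3515dc66f10e2fa020), (nat_lit 0x49655c52cc7cd5d83731e6f4b75cc7f1043fa020), (nat_lit 0x4966c7ca96ae2f9ee9cbdc5bc82be439bc818820), (nat_lit 0x4966c7d69895afbe6a30cb9bd5abc839be418820), (nat_lit 0x4966c7da95c4aee5eb7c8e5b0ea89e3991f18820), (nat_lit 0x4966c7e292b56f186b3d76dabe291f3989e18820), (nat_lit 0x4966c93eb8a5b37e6e2ad3a1d6afc341be720820), (nat_lit 0x4966c952b67e33aeedcdbc61c52fe741bc320820), (nat_lit 0x4966c95aafc532e6eefc8ea0aeacfe4187f20820), (nat_lit 0x4966c962b4b3f3156f5d75e0de2c7f418fe20820), (nat_lit 0x4966ca49f8adb59e5e2bdb95d837c419be838820), (nat_lit 0x4966ca55f69635beddd0cc55c5b7e819bc438820), (nat_lit 0x4966ca59f2c574e85f3c8ed4beb51e1989f38820), (nat_lit 0x4966ca61f5b4b515df7d76550e349f1991e38820), (nat_lit 0x4966cabe56a6377ee5cad457c6c3e321bc740820), (nat_lit 0x4966cad2587db7ae662dbb97d543c721be340820), (nat_lit 0x4966cada54c3f6e5675c8dd6dec07e218ff40820), (nat_lit 0x4966cae24fb53716e6fd7696ae40ff2187e40820), (nat_lit 0x4966cb3f12a55d78472ad6fab6f103f9887f0820), (nat_lit 0x4966cb4b14abdd95474bddfad87064f98e8f0820), (nat_lit 0x4966cb53157c9da5c76dbe7b057087f9903f0820), (nat_lit 0x4966cb570f951db6c6f0cebaa5f0e8f9864f0820), (nat_lit 0x4966cc3ed5a4a375bb6ad67906f483f1907f8820), (nat_lit 0x4966cc4acfad2396baebdeb8a874e4f1868f8820), (nat_lit 0x4966cc52d27d63a83b2dbef8b57507f1883f8820), (nat_lit 0x4966cc56d493e3b53b50cdf8d5f468f18e4f8820), (nat_lit 0x4968f64a78adb5cddd6eec1598b7c431fe810c20), (nat_lit 0x4968f656769635dcde11e2d5b737e831fc410c20), (nat_lit 0x4968f65a72c57508df9b5f54ecb51e31c9f10c20), (nat_lit 0x4968f66275b4b4b75fb987151db49f31d1e10c20), (nat_lit 0x4968f932b69e39acf60dbae3b53be241fc620c20), (nat_lit 0x4968f94eb865b97df56ad42396bbc641fe220c20), (nat_lit 0x4968f95ab3c33906f6fb5ea2acb85e41cdf20c20), (nat_lit 0x4968f962acb4f8b5775985e2ddb8df41c5e20c20), (nat_lit 0x4968f9c996ae2fccea0eeadbb8abe411fc830c20), (nat_lit 0x4968f9d59895afdde971e41b972bc811fe430c20), (nat_lit 0x4968f9d995c4af076bbb5f1b1ca89e11d1f30c20), (nat_lit 0x4968f9e192b56eb8eb99875aeda91f11c9e30c20), (nat_lit 0x4968fab2589dbbadf16dbc1d9547c221fe640c20), (nat_lit 0x4968face56663b7cf20ad2ddb6c7e621fc240c20), (nat_lit 0x4968fada4cc4fb05735b5ddcdcc4de21c5f40c20), (nat_lit 0x4968fae253b33ab6f2f9869cadc45f21cde40c20), (nat_lit 0x4968fb33159ca1a72fadbf33156c82f9d06f0c20), (nat_lit 0x4968fb4b0cace1c52f4eedf2d8ecc4f9c48f0c20), (nat_lit 0x4968fb4f12656178af8ad772e6ed06f9c82f0c20), (nat_lit 0x4968fb57139321d6aef1e6b2a76c48f9cc4f0c20), (nat_lit 0x4968fc32d29d57a8c38dbf76e56502f1c86f8c20), (nat_lit 0x4968fc4ad3ab17c6c2eeeeb6a8e444f1cc8f8c20), (nat_lit 0x4968fc4ed564977743aad73716e486f1d02f8c20), (nat_lit 0x4968fc56cc94d7d54351e5f6d764c8f1c44f8c20), (nat_lit 0x496b263e76a637dd6551e3577743e3323c711020), (nat_lit 0x496b2652787db7cbe5aeea97a8c3c7323e311020), (nat_lit 0x496b265a74c3f6a8e7976f56ed407e320ff11020), (nat_lit 0x496b26626fb536d767ba57171bc0ff3207e11020), (nat_lit 0x496b27b2989dbbbbf1b0ca9da5c7c23a3e619020), (nat_lit 0x496b27ce96663b9d714bdb5d7847e63a3c219020), (nat_lit 0x496b27da8cc4faa5f3776e5d0d44de3a05f19020), (nat_lit 0x496b27e293b33ad8733a56dcbbc45f3a0de19020), (nat_lit 0x496b29bd98a5b3dbedb1e2a1a72fc3123e731020), (nat_lit 0x496b29d1967e33cd6d4eeb6178afe7123c331020), (nat_lit 0x496b29d98fc532a76fb76f211d2cfe1207f31020), (nat_lit 0x496b29e194b3f2d8ef9a5760ebac7f120fe31020), (nat_lit 0x496b2a31f69e39bd7550cb6375bbe21a3c639020), (nat_lit 0x496b2a4df865b99bf5abdaa3a83bc61a3e239020), (nat_lit 0x496b2a59f3c338a877376ee2bd385e1a0df39020), (nat_lit 0x496b2a61ecb4f8d5f77a56630bb8df1a05e39020), (nat_lit 0x496b2b330f9d15b737b0cf3515dce2fa066f1020), (nat_lit 0x496b2b3f13a315d83731e6f4b75c43fa0c7f1020), (nat_lit 0x496b2b4f1463d598b78bdf74e85c66fa0e2f1020), (nat_lit 0x496b2b530c7cd5c5b76eee7508dcc7fa043f1020), (nat_lit 0x496b2c32d49bdbb8ab90cf6ee5e862f20e6f9020), (nat_lit 0x496b2c3ecca4dbd5ab71e66f0768c3f2047f9020), (nat_lit 0x496b2c4ecf651b972babdf2f1868e6f2062f9020), (nat_lit 0x496b2c52d37b1bc82b2eeeeeb8e847f20c3f9020), (nat_lit 0x496d863e72a55d0d455b5b7b7cf1033788717c20), (nat_lit 0x496d864a74abdcadc5776c3b9d7064378e817c20), (nat_lit 0x496d8652757c9cbbc5b982bbadf0873790317c20), (nat_lit 0x496d86566f951cdcc61a52fbbbf0e83786417c20), (nat_lit 0x496d87b2959ca0ebadbc8ab3aeec823f9061fc20), (nat_lit 0x496d87ca8cace0aeadd76c73cd6cc43f8481fc20), (nat_lit 0x496d87ce9265611d2d5d73737e6d063f8821fc20), (nat_lit 0x496d87d6939320de2e3a53b3dbec483f8c41fc20), (nat_lit 0x496d8932af9d14ecb61c8af5bedce24786627c20), (nat_lit 0x496d893eb3a3150e363b5bb5dcdc43478c727c20), (nat_lit 0x496d894eb463d51db57d74359e5c66478e227c20), (nat_lit 0x496d8952ac7cd4beb5d98475cddcc74784327c20), (nat_lit 0x496d89bd95a4a30bb9bb5ab9acf4831790737c20), (nat_lit 0x496d89c98fad22acba176af9bd74e41786837c20), (nat_lit 0x496d89d1927d62bd395983797df5071788337c20), (nat_lit 0x496d89d59493e2ddb97a54399bf468178e437c20), (nat_lit 0x496d8a31f29d56ed415c8b777ee5021f8863fc20), (nat_lit 0x496d8a49f3ab16ae42376bb7dd64441f8c83fc20), (nat_lit 0x496d8a4df564971bc1bd72b7ae64861f9023fc20), (nat_lit 0x496d8a55ec94d6dec1da5477cbe4c81f8443fc20), (nat_lit 0x496d8ab2549bdaeda97c8c2f9ee862278e647c20), (nat_lit 0x496d8abe4ca4db0ea9db5c6fcce8c32784747c20), (nat_lit 0x496d8ace4f651b1caa1d72efbe68e62786247c20), (nat_lit 0x496d8ad2537b1abe2a3983afdde847278c347c20), (nat_lit 0x4971663e75a4a2bd395983797df48337d0717820), (nat_lit 0x4971664a6fad22ddb97a54399bf4e437c6817820), (nat_lit 0x49716652727d630bb9bb5ab9acf50737c8317820), (nat_lit 0x497166567493e2acba176af9bd746837ce417820), (nat_lit 0x497167b2929d571bc1bd72b7ae65023fc861f820), (nat_lit 0x497167ca93ab16dec1da5477cbe4443fcc81f820), (nat_lit 0x497167ce956496ed415c8b777ee4863fd021f820), (nat_lit 0x497167d68c94d6ae42376bb7dd64c83fc441f820), (nat_lit 0x49716932b49bdb1caa1d72efbe686247ce627820), (nat_lit 0x4971693eaca4dabe2a3983afdde8c347c4727820), (nat_lit 0x4971694eaf651aeda97c8c2f9ee8e647c6227820), (nat_lit 0x49716952b37b1b0ea9db5c6fcce84747cc327820), (nat_lit 0x497169bd92a55cbbc5b982bbadf10317c8737820), (nat_lit 0x497169c994abdcdcc61a52fbbbf06417ce837820), (nat_lit 0x497169d1957c9d0d455b5b7b7cf08717d0337820), (nat_lit 0x497169d58f951cadc5776c3b9d70e817c6437820), (nat_lit 0x49716a31f59ca11d2d5d73737e6c821fd063f820), (nat_lit 0x49716a49ecace0de2e3a53b3dbecc41fc483f820), (nat_lit 0x49716a4df26560ebadbc8ab3aeed061fc823f820), (nat_lit 0x49716a55f39320aeadd76c73cd6c481fcc43f820), (nat_lit 0x49716ab24f9d151db57d74359e5ce227c6647820), (nat_lit 0x49716abe53a314beb5d98475cddc4327cc747820), (nat_lit 0x49716ace5463d4ecb61c8af5bedc6627ce247820), (nat_lit 0x49716ad24c7cd50e363b5bb5dcdcc727c4347820), (nat_lit 0xf7ed8be75ddf1b09a9cf5c64ca54c32144742420), (nat_lit 0xf7ed8bef5ccf5ab62a3483a537d447214c342420), (nat_lit 0xf7ed8bf359eedb1a2a1372e4f654e62146242420), (nat_lit 0xf7ed8bf75be65ae7a96c8c2549d462214e642420), (nat_lit 0xf7ed8cdf7cd760d62e3553a9393c48394c41a420), (nat_lit 0xf7ed8ceb7dbf20a9add26c68cabcc4394481a420), (nat_lit 0xf7ed8cf37aede11aad537369263d06394821a420), (nat_lit 0xf7ed8cf777e6a0e92dac8aa959bc82395061a420), (nat_lit 0xf7ed8d66fcdf5506362f5bab3a4843414c722420), (nat_lit 0xf7ed8d6efdcf14b9b5d4846ac7c8c74144322420), (nat_lit 0xf7ed8d72fbee5517b573742b464866414e222420), (nat_lit 0xf7ed8d76f9e6d4ea360c8aeaf9c8e24146622420), (nat_lit 0xf7ed8ddf3dd716d9c1d5545ec950c8194443a420), (nat_lit 0xf7ed8deb3cbf56a642326b9f3ad044194c83a420), (nat_lit 0xf7ed8df337ee971941b3729f565086195023a420), (nat_lit 0xf7ed8df73ae5d6eac14c8b5f29d102194863a420), (nat_lit 0xf7ed8e5fbbd662d7b9755419494c68114e432420), (nat_lit 0xf7ed8e67b7dea30939af5a995a4c831150732420), (nat_lit 0xf7ed8e6bb9bee2aa3a126ad8facce41146832420), (nat_lit 0xf7ed8e6fbacde2bab954835927cd071148332420), (nat_lit 0xf7ed8edf99d6dcda461552e6f930e83146412420), (nat_lit 0xf7ed8ee79adddd0ac54f5b672a31033148712420), (nat_lit 0xf7ed8eeb9bbe5ca7c5726c274ab064314e812420), (nat_lit 0xf7ed8eef97ce9cb945b482a757b0873150312420), (nat_lit 0xf7efab671cdf5538369163eab748434a0c729020), (nat_lit 0xf7efab6f1dcf14c5b5ee9d2b08c8c74a04329020), (nat_lit 0xf7efab731bee5548b58b7ceae848664a0e229020), (nat_lit 0xf7efab7719e6d4f73670a32b15c8e24a06629020), (nat_lit 0xf7efac66dddf1b35a9f165250754c32a04749020), (nat_lit 0xf7efac6edccf5ac82a8e9be4b8d4472a0c349020), (nat_lit 0xf7efac72d9eedb472a6b7b251854e62a06249020), (nat_lit 0xf7efac76dbe65af8a990a4e4e5d4622a0e649020), (nat_lit 0xf7efacdb7dc726a5b1f26d1d0ac4c53a04919020), (nat_lit 0xf7eface37cb766d8329553dcb944493a0c519020), (nat_lit 0xf7efacf376ee274ab14b7b5d2845263a0a219020), (nat_lit 0xf7efacf778e5a6f931b0a29d55c4a23a12619020), (nat_lit 0xf7efaddb3cc758a84e926be2bab8451a0c939020), (nat_lit 0xf7efade33db718d5cdf555230938c91a04539020), (nat_lit 0xf7efadf338ed99494dab7aa35838a61a12239020), (nat_lit 0xf7efadf736e618facd50a36325b9221a0a639020), (nat_lit 0xf7efae5bb9c6e8a73e726b211aace51206931020), (nat_lit 0xf7efae63bbb668d8bd9554e0e92c69120e531020), (nat_lit 0xf7efae67b8dda9393db162a1572ca31212731020), (nat_lit 0xf7efae6fb6ce28cabd4e9b6128ad27120a331020), (nat_lit 0xf7efaedb9bc65ea8d1926cd6eac065320e911020), (nat_lit 0xf7efaee399b6ded7527553171940e93206511020), (nat_lit 0xf7efaee796de1f3ad1516357274123320a711020), (nat_lit 0xf7efaeef98cd9ec951ae9a9758c0a73212311020), (nat_lit 0xf7f16be75cdf54b9b5d4846ac7c843224c741420), (nat_lit 0xf7f16bef5dcf1506362f5bab3a48c72244341420), (nat_lit 0xf7f16bf35bee54ea360c8aeaf9c866224e241420), (nat_lit 0xf7f16bf759e6d517b573742b4648e22246641420), (nat_lit 0xf7f16cdf7dd716a642326b9f3ad0c83a44419420), (nat_lit 0xf7f16ceb7cbf56d9c1d5545ec950443a4c819420), (nat_lit 0xf7f16cf377ee96eac14c8b5f29d0863a50219420), (nat_lit 0xf7f16cf77ae5d71941b3729f5651023a48619420), (nat_lit 0xf7f16d66fddf1ab62a3483a537d4c34244721420), (nat_lit 0xf7f16d6efccf5b09a9cf5c64ca5447424c321420), (nat_lit 0xf7f16d72f9eedae7a96c8c2549d4e64246221420), (nat_lit 0xf7f16d76fbe65b1a2a1372e4f65462424e621420), (nat_lit 0xf7f16ddf3cd760a9add26c68cabc481a4c439420), (nat_lit 0xf7f16deb3dbf20d62e3553a9393cc41a44839420), (nat_lit 0xf7f16df33aede0e92dac8aa959bd061a48239420), (nat_lit 0xf7f16df737e6a11aad537369263c821a50639420), (nat_lit 0xf7f16e5fb9d6dca7c5726c274ab0e81246431420), (nat_lit 0xf7f16e67badddcb945b482a757b1031248731420), (nat_lit 0xf7f16e6bbbbe5cda461552e6f93064124e831420), (nat_lit 0xf7f16e6fb7ce9d0ac54f5b672a30871250331420), (nat_lit 0xf7f16edf9bd662aa3a126ad8facc68324e411420), (nat_lit 0xf7f16ee797dea2bab954835927cc833250711420), (nat_lit 0xf7f16eeb99bee2d7b9755419494ce43246811420), (nat_lit 0xf7f16eef9acde30939af5a995a4d073248311420), (nat_lit 0xf7f3bb5f1dd716c6c24e9d5ea8d0c848c4429c20), (nat_lit 0xf7f3bb6b1cbf573542b1649ed7504448cc829c20), (nat_lit 0xf7f3bb7317ee9758c18d94dee5508648d0229c20), (nat_lit 0xf7f3bb771ae5d727426aab1f16d10248c8629c20), (nat_lit 0xf7f3bbdb5cc758b54eb484a2d7b84520cc941c20), (nat_lit 0xf7f3bbe35db71906ce4f5d62aa38c920c4541c20), (nat_lit 0xf7f3bbf358ed995a4e0d92e2f538a620d2241c20), (nat_lit 0xf7f3bbf756e61927cd6aac2346b92220ca641c20), (nat_lit 0xf7f3bc5edcd760c52eae9ca8d8bc4828cc449c20), (nat_lit 0xf7f3bc6addbf2136ae516568a73cc428c4849c20), (nat_lit 0xf7f3bc72daede1572e6d9329153d0628c8249c20), (nat_lit 0xf7f3bc76d7e6a128ad8aace8e6bc8228d0649c20), (nat_lit 0xf7f3bd5afdc726b6b254855ca7c4c540c4921c20), (nat_lit 0xf7f3bd62fcb7670532af5c9cda444940cc521c20), (nat_lit 0xf7f3bd72f6ee2757b16d941d45452640ca221c20), (nat_lit 0xf7f3bd76f8e5a72a320aaadcf6c4a240d2621c20), (nat_lit 0xf7f3be5bbac5eab74a74831517b50510c8931c20), (nat_lit 0xf7f3be5fb6d62ac7c96e9c1548b52810ca431c20), (nat_lit 0xf7f3be63b7b6ab08c98f5cd4ea348910d0531c20), (nat_lit 0xf7f3be6bb8bdab3a4a1162d4f734a410d2831c20), (nat_lit 0xf7f3bedb97c6a4b8d59484dae7a88530d0911c20), (nat_lit 0xf7f3bedf98d5a4ca560e9adaf8a8a830d2411c20), (nat_lit 0xf7f3bee39ab5e507566f5b1b1a290930c8511c20), (nat_lit 0xf7f3beeb96be2537d571641b47292430ca811c20), (nat_lit 0xf7f57b671ddf1ac82a8e9be4b8d4c3490472a020), (nat_lit 0xf7f57b6f1ccf5b35a9f16525075447490c32a020), (nat_lit 0xf7f57b7319eedaf8a990a4e4e5d4e6490622a020), (nat_lit 0xf7f57b771be65b472a6b7b25185462490e62a020), (nat_lit 0xf7f57c66dcdf54c5b5ee9d2b08c843290c74a020), (nat_lit 0xf7f57c6eddcf1538369163eab748c7290434a020), (nat_lit 0xf7f57c72dbee54f73670a32b15c866290e24a020), (nat_lit 0xf7f57c76d9e6d548b58b7ceae848e2290664a020), (nat_lit 0xf7f57cdb7cc758d5cdf55523093845390c91a020), (nat_lit 0xf7f57ce37db718a84e926be2bab8c9390451a020), (nat_lit 0xf7f57cf378ed98facd50a36325b8a6391221a020), (nat_lit 0xf7f57cf776e619494dab7aa3583922390a61a020), (nat_lit 0xf7f57ddb3dc726d8329553dcb944c5190493a020), (nat_lit 0xf7f57de33cb766a5b1f26d1d0ac449190c53a020), (nat_lit 0xf7f57df336ee26f931b0a29d55c526190a23a020), (nat_lit 0xf7f57df738e5a74ab14b7b5d2844a2191263a020), (nat_lit 0xf7f57e5bbbc65ed752755317194065110e932020), (nat_lit 0xf7f57e63b9b6dea8d1926cd6eac0e91106532020), (nat_lit 0xf7f57e67b6de1ec951ae9a9758c123110a732020), (nat_lit 0xf7f57e6fb8cd9f3ad15163572740a71112332020), (nat_lit 0xf7f57edb99c6e8d8bd9554e0e92ce53106912020), (nat_lit 0xf7f57ee39bb668a73e726b211aac69310e512020), (nat_lit 0xf7f57ee798dda8cabd4e9b6128aca33112712020), (nat_lit 0xf7f57eef96ce29393db162a1572d27310a312020), (nat_lit 0xf7f79b5f1cd76136ae516568a73c4849cc428c20), (nat_lit 0xf7f79b6b1dbf20c52eae9ca8d8bcc449c4828c20), (nat_lit 0xf7f79b731aede128ad8aace8e6bd0649c8228c20), (nat_lit 0xf7f79b7717e6a1572e6d9329153c8249d0628c20), (nat_lit 0xf7f79bdb5dc7270532af5c9cda44c521c4940c20), (nat_lit 0xf7f79be35cb766b6b254855ca7c44921cc540c20), (nat_lit 0xf7f79bf356ee272a320aaadcf6c52621ca240c20), (nat_lit 0xf7f79bf758e5a757b16d941d4544a221d2640c20), (nat_lit 0xf7f79c5eddd7173542b1649ed750c829c4448c20), (nat_lit 0xf7f79c6adcbf56c6c24e9d5ea8d04429cc848c20), (nat_lit 0xf7f79c72d7ee9727426aab1f16d08629d0248c20), (nat_lit 0xf7f79c76dae5d758c18d94dee5510229c8648c20), (nat_lit 0xf7f79d5afcc75906ce4f5d62aa384541cc920c20), (nat_lit 0xf7f79d62fdb718b54eb484a2d7b8c941c4520c20), (nat_lit 0xf7f79d72f8ed9927cd6aac2346b8a641d2220c20), (nat_lit 0xf7f79d76f6e6195a4e0d92e2f5392241ca620c20), (nat_lit 0xf7f79e5bb7c6a507566f5b1b1a288511d0930c20), (nat_lit 0xf7f79e5fb8d5a537d571641b4728a811d2430c20), (nat_lit 0xf7f79e63bab5e4b8d59484dae7a90911c8530c20), (nat_lit 0xf7f79e6bb6be24ca560e9adaf8a92411ca830c20), (nat_lit 0xf7f79edb9ac5eb08c98f5cd4ea350531c8910c20), (nat_lit 0xf7f79edf96d62b3a4a1162d4f7352831ca410c20), (nat_lit 0xf7f79ee397b6aab74a74831517b48931d0510c20), (nat_lit 0xf7f79eeb98bdaac7c96e9c1548b4a431d2810c20), (nat_lit 0xf7f9db5f19d6dcf6c650a566a5b0e84986428820), (nat_lit 0xf7f9db671adddd28468aabe6b6b1034988728820), (nat_lit 0xf7f9db6b1bbe5d4546ab7ca6d83064498e828820), (nat_lit 0xf7f9db6f17ce9d55c5ed95270530874990328820), (nat_lit 0xf7f9dbdb5bc65ee552ac8c96d9c065218e940820), (nat_lit 0xf7f9dbe359b6df16d2537556a640e92186540820), (nat_lit 0xf7f9dbe756de1f29d1caac56c6c123218a740820), (nat_lit 0xf7f9dbef58cd9f56522d93973540a72192340820), (nat_lit 0xf7f9dc5edbd662f53ab0a498d5cc68298e448820), (nat_lit 0xf7f9dc66d7dea325b9eaad1906cc832990748820), (nat_lit 0xf7f9dc6ad9bee346ba4b7d58a84ce42986848820), (nat_lit 0xf7f9dc6edacde3583a8d93d8b54d072988348820), (nat_lit 0xf7f9dcdb77c6a4e5d5ec8d1b09a8853990918820), (nat_lit 0xf7f9dcdf78d5a4f65630a39b35a8a83992418820), (nat_lit 0xf7f9dce37ab5e518569373dab629093988518820), (nat_lit 0xf7f9dceb76be2549d5cb7c5ac82924398a818820), (nat_lit 0xf7f9dd5af9c6e8e6be4c8d60a9ace54186920820), (nat_lit 0xf7f9dd62fbb669153eb374a0d62c69418e520820), (nat_lit 0xf7f9dd66f8dda9263e2aaba136aca34192720820), (nat_lit 0xf7f9dd6ef6ce2959bdcd9460c52d27418a320820), (nat_lit 0xf7f9dddb3ac5eae84a8c8bd4b9b5051988938820), (nat_lit 0xf7f9dddf36d62af9c9d0a454c5b528198a438820), (nat_lit 0xf7f9dde337b6ab15c9f375150634891990538820), (nat_lit 0xf7f9ddeb38bdab464a2b7b953834a41992838820), (nat_lit 0xf7fbcb5f1bd66346ba4b7d58a84c68488e429820), (nat_lit 0xf7fbcb6717dea3583a8d93d8b54c834890729820), (nat_lit 0xf7fbcb6b19bee2f53ab0a498d5cce44886829820), (nat_lit 0xf7fbcb6f1acde325b9eaad1906cd074888329820), (nat_lit 0xf7fbcbdb59c6e9153eb374a0d62ce52086941820), (nat_lit 0xf7fbcbe35bb668e6be4c8d60a9ac69208e541820), (nat_lit 0xf7fbcbe758dda959bdcd9460c52ca32092741820), (nat_lit 0xf7fbcbef56ce29263e2aaba136ad27208a341820), (nat_lit 0xf7fbcc5ed9d6dd4546ab7ca6d830e82886449820), (nat_lit 0xf7fbcc66dadddd55c5ed95270531032888749820), (nat_lit 0xf7fbcc6adbbe5cf6c650a566a5b064288e849820), (nat_lit 0xf7fbcc6ed7ce9d28468aabe6b6b0872890349820), (nat_lit 0xf7fbccdb7ac5eb15c9f375150635053888919820), (nat_lit 0xf7fbccdf76d62b464a2b7b95383528388a419820), (nat_lit 0xf7fbcce377b6aae84a8c8bd4b9b4893890519820), (nat_lit 0xf7fbcceb78bdaaf9c9d0a454c5b4a43892819820), (nat_lit 0xf7fbcd5afbc65f16d2537556a64065408e921820), (nat_lit 0xf7fbcd62f9b6dee552ac8c96d9c0e94086521820), (nat_lit 0xf7fbcd66f6de1f56522d9397354123408a721820), (nat_lit 0xf7fbcd6ef8cd9f29d1caac56c6c0a74092321820), (nat_lit 0xf7fbcddb37c6a518569373dab628851890939820), (nat_lit 0xf7fbcddf38d5a549d5cb7c5ac828a81892439820), (nat_lit 0xf7fbcde33ab5e4e5d5ec8d1b09a9091888539820), (nat_lit 0xf7fbcdeb36be24f65630a39b35a924188a839820), (nat_lit 0xffad8be75cdf54b635cf84653a54c74244321420), (nat_lit 0xffad8bef5dcf1509b6345ba4c7d443424c721420), (nat_lit 0xffad8bf35bee54e7b6138ae54654e24246621420), (nat_lit 0xffad8bf759e6d51a356c7424f9d466424e221420), (nat_lit 0xffad8cdf7dd716a9c2356ba8c93c441a4c839420), (nat_lit 0xffad8ceb7cbf56d641d254693abcc81a44439420), (nat_lit 0xffad8cf377ee96e941538b69563d021a48639420), (nat_lit 0xffad8cf77ae5d71ac1ac72a929bc861a50239420), (nat_lit 0xffad8d66fddf1ab9aa2f83aaca4847224c341420), (nat_lit 0xffad8d6efccf5b0629d45c6b37c8c32244741420), (nat_lit 0xffad8d72f9eedaea29738c2af64862224e641420), (nat_lit 0xffad8d76fbe65b17aa0c72eb49c8e62246241420), (nat_lit 0xffad8ddf3cd760a62dd56c5f3950c43a44819420), (nat_lit 0xffad8deb3dbf20d9ae32539ecad0483a4c419420), (nat_lit 0xffad8df33aede0eaadb38a9f2650823a50619420), (nat_lit 0xffad8df737e6a1192d4c735f59d1063a48219420), (nat_lit 0xffad8e5fb9d6dcaa45756c18f94c64324e811420), (nat_lit 0xffad8e67badddcbac5af82992a4c873250311420), (nat_lit 0xffad8e6bbbbe5cd7c61252d94acce83246411420), (nat_lit 0xffad8e6fb7ce9d0945545b5957cd033248711420), (nat_lit 0xffad8edf9bd662a7ba156ae74930e41246831420), (nat_lit 0xffad8ee797dea2b9394f83675a31071248331420), (nat_lit 0xffad8eeb99bee2da39725426fab068124e431420), (nat_lit 0xffad8eef9acde30ab9b45aa727b0831250731420), (nat_lit 0xffafab671ddf1ac5aa919beb074847290c34a020), (nat_lit 0xffafab6f1ccf5b3829ee652ab8c8c3290474a020), (nat_lit 0xffafab7319eedaf7298ba4eb184862290e64a020), (nat_lit 0xffafab771be65b48aa707b2ae5c8e6290624a020), (nat_lit 0xffafac66dcdf54c835f19d24b754c7490432a020), (nat_lit 0xffafac6eddcf1535b68e63e508d443490c72a020), (nat_lit 0xffafac72dbee54f8b66ba324e854e2490662a020), (nat_lit 0xffafac76d9e6d54735907ce515d466490e22a020), (nat_lit 0xffafacdb7cc758d84df2551cbac4c9190453a020), (nat_lit 0xffaface37db718a5ce956bdd094445190c93a020), (nat_lit 0xffafacf378ed98f94d4ba35d584522190a63a020), (nat_lit 0xffafacf776e6194acdb07a9d25c4a6191223a020), (nat_lit 0xffafaddb3dc726d5b29253e30ab849390c51a020), (nat_lit 0xffafade33cb766a831f56d22b938c5390491a020), (nat_lit 0xffafadf336ee26fab1aba2a32838a2391261a020), (nat_lit 0xffafadf738e5a74931507b6355b926390a21a020), (nat_lit 0xffafae5bbbc65ed8d2725320eaace93106512020), (nat_lit 0xffafae63b9b6dea751956ce1192c65310e912020), (nat_lit 0xffafae67b6de1ecad1b19aa1272ca73112312020), (nat_lit 0xffafae6fb8cd9f39514e636158ad23310a712020), (nat_lit 0xffafaedb99c6e8d73d9254d71ac069110e532020), (nat_lit 0xffafaee39bb668a8be756b16e940e51106932020), (nat_lit 0xffafaee798dda8c93d519b57574127110a332020), (nat_lit 0xffafaeef96ce293abdae629728c0a31112732020), (nat_lit 0xffb16be75ddf1b0629d45c6b37c847414c322420), (nat_lit 0xffb16bef5ccf5ab9aa2f83aaca48c34144722420), (nat_lit 0xffb16bf359eedb17aa0c72eb49c862414e622420), (nat_lit 0xffb16bf75be65aea29738c2af648e64146222420), (nat_lit 0xffb16cdf7cd760d9ae32539ecad0c4194483a420), (nat_lit 0xffb16ceb7dbf20a62dd56c5f395048194c43a420), (nat_lit 0xffb16cf37aede1192d4c735f59d082195063a420), (nat_lit 0xffb16cf777e6a0eaadb38a9f265106194823a420), (nat_lit 0xffb16d66fcdf5509b6345ba4c7d4c72144342420), (nat_lit 0xffb16d6efdcf14b635cf84653a5443214c742420), (nat_lit 0xffb16d72fbee551a356c7424f9d4e22146642420), (nat_lit 0xffb16d76f9e6d4e7b6138ae5465466214e242420), (nat_lit 0xffb16ddf3dd716d641d254693abc44394c81a420), (nat_lit 0xffb16deb3cbf56a9c2356ba8c93cc8394441a420), (nat_lit 0xffb16df337ee971ac1ac72a929bd02394861a420), (nat_lit 0xffb16df73ae5d6e941538b69563c86395021a420), (nat_lit 0xffb16e5fbbd662da39725426fab0e43146812420), (nat_lit 0xffb16e67b7dea30ab9b45aa727b1073148312420), (nat_lit 0xffb16e6bb9bee2a7ba156ae7493068314e412420), (nat_lit 0xffb16e6fbacde2b9394f83675a30833150712420), (nat_lit 0xffb16edf99d6dcd7c61252d94acc64114e832420), (nat_lit 0xffb16ee79adddd0945545b5957cc871150332420), (nat_lit 0xffb16eeb9bbe5caa45756c18f94ce81146432420), (nat_lit 0xffb16eef97ce9cbac5af82992a4d031148732420), (nat_lit 0xffb3bb5f1cd761352e4e655ed8d0c429c4848c20), (nat_lit 0xffb3bb6b1dbf20c6aeb19c9ea7504829cc448c20), (nat_lit 0xffb3bb731aede1272d8dacdf15508229d0648c20), (nat_lit 0xffb3bb7717e6a158ae6a931ee6d10629c8248c20), (nat_lit 0xffb3bbdb5dc72706b2b45ca2a7b84941cc520c20), (nat_lit 0xffb3bbe35cb766b5324f8562da38c541c4920c20), (nat_lit 0xffb3bbf356ee2727b20daae34538a241d2620c20), (nat_lit 0xffb3bbf758e5a75a316a9422f6b92641ca220c20), (nat_lit 0xffb3bc5eddd71736c2ae64a8a8bc4449cc828c20), (nat_lit 0xffb3bc6adcbf56c542519d68d73cc849c4428c20), (nat_lit 0xffb3bc72d7ee9728c26dab28e53d0249c8628c20), (nat_lit 0xffb3bc76dae5d757418a94e916bc8649d0228c20), (nat_lit 0xffb3bd5afcc759054e545d5cd7c4c921c4540c20), (nat_lit 0xffb3bd62fdb718b6ceaf849caa444521cc940c20), (nat_lit 0xffb3bd72f8ed992a4d6dac1cf5452221ca640c20), (nat_lit 0xffb3bd76f6e61957ce0a92dd46c4a621d2240c20), (nat_lit 0xffb3be5bb7c6a508d6745b14e7b50931c8510c20), (nat_lit 0xffb3be5fb8d5a53a556e6414f8b52431ca810c20), (nat_lit 0xffb3be63bab5e4b7558f84d51a348531d0910c20), (nat_lit 0xffb3be6bb6be24c7d6119ad54734a831d2410c20), (nat_lit 0xffb3bedb9ac5eb0749945cdb17a88911d0530c20), (nat_lit 0xffb3bedf96d62b37ca0e62db48a8a411d2830c20), (nat_lit 0xffb3bee397b6aab8ca6f831aea290511c8930c20), (nat_lit 0xffb3beeb98bdaaca49719c1af7292811ca430c20), (nat_lit 0xffb57b671cdf5535b68e63e508d4c72a04349020), (nat_lit 0xffb57b6f1dcf14c835f19d24b754432a0c749020), (nat_lit 0xffb57b731bee554735907ce515d4e22a06649020), (nat_lit 0xffb57b7719e6d4f8b66ba324e854662a0e249020), (nat_lit 0xffb57c66dddf1b3829ee652ab8c8474a0c329020), (nat_lit 0xffb57c6edccf5ac5aa919beb0748c34a04729020), (nat_lit 0xffb57c72d9eedb48aa707b2ae5c8624a0e629020), (nat_lit 0xffb57c76dbe65af7298ba4eb1848e64a06229020), (nat_lit 0xffb57cdb7dc726a831f56d22b938491a0c539020), (nat_lit 0xffb57ce37cb766d5b29253e30ab8c51a04939020), (nat_lit 0xffb57cf376ee274931507b6355b8a21a12639020), (nat_lit 0xffb57cf778e5a6fab1aba2a32839261a0a239020), (nat_lit 0xffb57ddb3cc758a5ce956bdd0944c93a04519020), (nat_lit 0xffb57de33db718d84df2551cbac4453a0c919020), (nat_lit 0xffb57df338ed994acdb07a9d25c5223a0a619020), (nat_lit 0xffb57df736e618f94d4ba35d5844a63a12219020), (nat_lit 0xffb57e5bb9c6e8a8be756b16e94069320e511020), (nat_lit 0xffb57e63bbb668d73d9254d71ac0e53206911020), (nat_lit 0xffb57e67b8dda93abdae629728c127320a311020), (nat_lit 0xffb57e6fb6ce28c93d519b575740a33212711020), (nat_lit 0xffb57edb9bc65ea751956ce1192ce91206531020), (nat_lit 0xffb57ee399b6ded8d2725320eaac65120e931020), (nat_lit 0xffb57ee796de1f39514e636158aca71212331020), (nat_lit 0xffb57eef98cd9ecad1b19aa1272d23120a731020), (nat_lit 0xffb79b5f1dd716c542519d68d73c4428cc849c20), (nat_lit 0xffb79b6b1cbf5736c2ae64a8a8bcc828c4449c20), (nat_lit 0xffb79b7317ee9757418a94e916bd0228c8649c20), (nat_lit 0xffb79b771ae5d728c26dab28e53c8628d0249c20), (nat_lit 0xffb79bdb5cc758b6ceaf849caa44c940c4521c20), (nat_lit 0xffb79be35db719054e545d5cd7c44540cc921c20), (nat_lit 0xffb79bf358ed9957ce0a92dd46c52240ca621c20), (nat_lit 0xffb79bf756e6192a4d6dac1cf544a640d2221c20), (nat_lit 0xffb79c5edcd760c6aeb19c9ea750c448c4829c20), (nat_lit 0xffb79c6addbf21352e4e655ed8d04848cc429c20), (nat_lit 0xffb79c72daede158ae6a931ee6d08248d0629c20), (nat_lit 0xffb79c76d7e6a1272d8dacdf15510648c8229c20), (nat_lit 0xffb79d5afdc726b5324f8562da384920cc541c20), (nat_lit 0xffb79d62fcb76706b2b45ca2a7b8c520c4941c20), (nat_lit 0xffb79d72f6ee275a316a9422f6b8a220d2641c20), (nat_lit 0xffb79d76f8e5a727b20daae345392620ca241c20), (nat_lit 0xffb79e5bbac5eab8ca6f831aea288930d0511c20), (nat_lit 0xffb79e5fb6d62aca49719c1af728a430d2811c20), (nat_lit 0xffb79e63b7b6ab0749945cdb17a90530c8911c20), (nat_lit 0xffb79e6bb8bdab37ca0e62db48a92830ca411c20), (nat_lit 0xffb79edb97c6a4b7558f84d51a350910c8531c20), (nat_lit 0xffb79edf98d5a4c7d6119ad547352410ca831c20), (nat_lit 0xffb79ee39ab5e508d6745b14e7b48510d0931c20), (nat_lit 0xffb79eeb96be253a556e6414f8b4a810d2431c20), (nat_lit 0xffb9db5f1bd663453a507d66d5b0e42886849820), (nat_lit 0xffb9db6717dea355ba8a93e706b1072888349820), (nat_lit 0xffb9db6b19bee2f6baaba4a6a83068288e449820), (nat_lit 0xffb9db6f1acde32839edad26b530832890749820), (nat_lit 0xffb9dbdb59c6e916beac7496a9c069408e521820), (nat_lit 0xffb9dbe35bb668e53e538d56d640e54086921820), (nat_lit 0xffb9dbe758dda9563dca945736c127408a321820), (nat_lit 0xffb9dbef56ce2929be2dab96c540a34092721820), (nat_lit 0xffb9dc5ed9d6dd46c6b07c98a5cc64488e829820), (nat_lit 0xffb9dc66dadddd5845ea9518b6cc874890329820), (nat_lit 0xffb9dc6adbbe5cf5464ba558d84ce84886429820), (nat_lit 0xffb9dc6ed7ce9d25c68dabd9054d034888729820), (nat_lit 0xffb9dcdb7ac5eb1849ec751ab9a8891890539820), (nat_lit 0xffb9dcdf76d62b49ca307b9ac5a8a41892839820), (nat_lit 0xffb9dce377b6aae5ca938bdb0629051888939820), (nat_lit 0xffb9dceb78bdaaf649cba45b382928188a439820), (nat_lit 0xffb9dd5afbc65f15524c7560d9ace92086541820), (nat_lit 0xffb9dd62f9b6dee6d2b38ca0a62c65208e941820), (nat_lit 0xffb9dd66f6de1f59d22a93a0c6aca72092341820), (nat_lit 0xffb9dd6ef8cd9f2651cdac61352d23208a741820), (nat_lit 0xffb9dddb37c6a515d68c73d509b5093888519820), (nat_lit 0xffb9dddf38d5a54655d07c5535b524388a819820), (nat_lit 0xffb9dde33ab5e4e855f38d14b634853890919820), (nat_lit 0xffb9ddeb36be24f9d62ba394c834a83892419820), (nat_lit 0xffbbcb5f19d6dcf5464ba558d84c64298e848820), (nat_lit 0xffbbcb671adddd25c68dabd9054c872990348820), (nat_lit 0xffbbcb6b1bbe5d46c6b07c98a5cce82986448820), (nat_lit 0xffbbcb6f17ce9d5845ea9518b6cd032988748820), (nat_lit 0xffbbcbdb5bc65ee6d2b38ca0a62ce94186520820), (nat_lit 0xffbbcbe359b6df15524c7560d9ac65418e920820), (nat_lit 0xffbbcbe756de1f2651cdac61352ca74192320820), (nat_lit 0xffbbcbef58cd9f59d22a93a0c6ad23418a720820), (nat_lit 0xffbbcc5edbd662f6baaba4a6a830e44986828820), (nat_lit 0xffbbcc66d7dea32839edad26b531074988328820), (nat_lit 0xffbbcc6ad9bee3453a507d66d5b068498e428820), (nat_lit 0xffbbcc6edacde355ba8a93e706b0834990728820), (nat_lit 0xffbbccdb77c6a4e855f38d14b635091988538820), (nat_lit 0xffbbccdf78d5a4f9d62ba394c83524198a838820), (nat_lit 0xffbbcce37ab5e515d68c73d509b4851990938820), (nat_lit 0xffbbcceb76be254655d07c5535b4a81992438820), (nat_lit 0xffbbcd5af9c6e8e53e538d56d64069218e540820), (nat_lit 0xffbbcd62fbb66916beac7496a9c0e52186940820), (nat_lit 0xffbbcd66f8dda929be2dab96c54127218a340820), (nat_lit 0xffbbcd6ef6ce29563dca945736c0a32192740820), (nat_lit 0xffbbcddb3ac5eae5ca938bdb0628893990518820), (nat_lit 0xffbbcddf36d62af649cba45b3828a43992818820), (nat_lit 0xffbbcde337b6ab1849ec751ab9a9053988918820), (nat_lit 0xffbbcdeb38bdab49ca307b9ac5a928398a418820)]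
noncomputable def AN_lS_W : List (List ℕ) := [[(nat_lit 2), (nat_lit 0), (nat_lit 2), (nat_lit 1)],
  [(nat_lit 0), (nat_lit 1), (nat_lit 0)],
  [(nat_lit 1), (nat_lit 1), (nat_lit 0), (nat_lit 1), (nat_lit 2), (nat_lit 1), (nat_lit 1), (nat_lit 1)],
  [(nat_lit 1), (nat_lit 1), (nat_lit 1), (nat_lit 0), (nat_lit 2), (nat_lit 1), (nat_lit 1), (nat_lit 1)],
  [(nat_lit 1), (nat_lit 0), (nat_lit 1), (nat_lit 1), (nat_lit 0), (nat_lit 1), (nat_lit 2), (nat_lit 1), (nat_lit 1)],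
  [(nat_lit 1), (nat_lit 0), (nat_lit 1), (nat_lit 0), (nat_lit 1), (nat_lit 1), (nat_lit 2), (nat_lit 1), (nat_lit 1)],
  [(nat_lit 0), (nat_lit 1), (nat_lit 1), (nat_lit 1), (nat_lit 2), (nat_lit 1), (nat_lit 2), (nat_lit 1), (nat_lit 1)],
  [(nat_lit 1), (nat_lit 0), (nat_lit 1), (nat_lit 1), (nat_lit 2), (nat_lit 1), (nat_lit 0), (nat_lit 2), (nat_lit 1), (nat_lit 1)],
  [(nat_lit 1), (nat_lit 1), (nat_lit 0), (nat_lit 1), (nat_lit 1), (nat_lit 1), (nat_lit 1)],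
  [(nat_lit 1), (nat_lit 1), (nat_lit 1), (nat_lit 0), (nat_lit 1), (nat_lit 1), (nat_lit 1)],
  [(nat_lit 1), (nat_lit 1), (nat_lit 1), (nat_lit 2), (nat_lit 1), (nat_lit 0), (nat_lit 1), (nat_lit 1)],
  [(nat_lit 0), (nat_lit 1), (nat_lit 0), (nat_lit 1), (nat_lit 1), (nat_lit 2), (nat_lit 1), (nat_lit 1), (nat_lit 1)],
  [(nat_lit 0), (nat_lit 1), (nat_lit 1), (nat_lit 1), (nat_lit 1), (nat_lit 2), (nat_lit 1), (nat_lit 1)],
  [(nat_lit 1), (nat_lit 0), (nat_lit 1), (nat_lit 1), (nat_lit 1), (nat_lit 0), (nat_lit 2), (nat_lit 1), (nat_lit 1)],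
  [(nat_lit 1), (nat_lit 0), (nat_lit 1), (nat_lit 1), (nat_lit 0), (nat_lit 2), (nat_lit 1), (nat_lit 2), (nat_lit 1), (nat_lit 1)],
  [(nat_lit 1), (nat_lit 0), (nat_lit 1), (nat_lit 0), (nat_lit 1), (nat_lit 2), (nat_lit 1), (nat_lit 2), (nat_lit 1), (nat_lit 1)],
  [(nat_lit 0), (nat_lit 2), (nat_lit 1), (nat_lit 2), (nat_lit 1), (nat_lit 1), (nat_lit 0), (nat_lit 1), (nat_lit 1)],
  [(nat_lit 1), (nat_lit 1), (nat_lit 2), (nat_lit 1), (nat_lit 1), (nat_lit 2), (nat_lit 1), (nat_lit 1), (nat_lit 2), (nat_lit 1)],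
  [(nat_lit 0), (nat_lit 2), (nat_lit 1), (nat_lit 2), (nat_lit 1), (nat_lit 0), (nat_lit 1), (nat_lit 1), (nat_lit 1)],
  [(nat_lit 2), (nat_lit 1), (nat_lit 2), (nat_lit 1), (nat_lit 1), (nat_lit 2), (nat_lit 1), (nat_lit 1)],
  [(nat_lit 2), (nat_lit 1), (nat_lit 0), (nat_lit 2), (nat_lit 1), (nat_lit 1), (nat_lit 1), (nat_lit 1)],
  [(nat_lit 2), (nat_lit 0), (nat_lit 1), (nat_lit 2), (nat_lit 1), (nat_lit 1), (nat_lit 0), (nat_lit 2), (nat_lit 1), (nat_lit 1)],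
  [(nat_lit 0), (nat_lit 2), (nat_lit 0), (nat_lit 1), (nat_lit 2), (nat_lit 1), (nat_lit 1), (nat_lit 1), (nat_lit 1)],
  [(nat_lit 2), (nat_lit 0), (nat_lit 1), (nat_lit 2), (nat_lit 1), (nat_lit 0), (nat_lit 1), (nat_lit 2), (nat_lit 1), (nat_lit 1)],
  [(nat_lit 0), (nat_lit 1), (nat_lit 1), (nat_lit 1), (nat_lit 0), (nat_lit 1), (nat_lit 1), (nat_lit 2), (nat_lit 1)],
  [(nat_lit 0), (nat_lit 1), (nat_lit 1), (nat_lit 0), (nat_lit 1), (nat_lit 1), (nat_lit 1), (nat_lit 2), (nat_lit 1)],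
  [(nat_lit 1), (nat_lit 0), (nat_lit 1), (nat_lit 1), (nat_lit 2), (nat_lit 1), (nat_lit 1), (nat_lit 2), (nat_lit 1)],
  [(nat_lit 2), (nat_lit 1), (nat_lit 1), (nat_lit 1), (nat_lit 2), (nat_lit 1), (nat_lit 1), (nat_lit 1)],
  [(nat_lit 1), (nat_lit 1), (nat_lit 0), (nat_lit 1), (nat_lit 0), (nat_lit 1), (nat_lit 2), (nat_lit 1), (nat_lit 2), (nat_lit 1)],
  [(nat_lit 1), (nat_lit 1), (nat_lit 1), (nat_lit 1), (nat_lit 2), (nat_lit 1), (nat_lit 2), (nat_lit 1)],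
  [(nat_lit 0), (nat_lit 1), (nat_lit 0), (nat_lit 1), (nat_lit 2)],
  [(nat_lit 2), (nat_lit 0), (nat_lit 2), (nat_lit 1), (nat_lit 1), (nat_lit 2)],
  [(nat_lit 2), (nat_lit 1), (nat_lit 0)],
  [(nat_lit 0), (nat_lit 2), (nat_lit 0), (nat_lit 1)],
  [(nat_lit 0), (nat_lit 1), (nat_lit 1), (nat_lit 1), (nat_lit 0), (nat_lit 2), (nat_lit 1), (nat_lit 1), (nat_lit 2), (nat_lit 1)],
  [(nat_lit 0), (nat_lit 1), (nat_lit 1), (nat_lit 0), (nat_lit 1), (nat_lit 2), (nat_lit 1), (nat_lit 1), (nat_lit 2), (nat_lit 1)],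
  [(nat_lit 1), (nat_lit 1), (nat_lit 1), (nat_lit 0), (nat_lit 1), (nat_lit 0), (nat_lit 2), (nat_lit 1), (nat_lit 2), (nat_lit 1)],
  [(nat_lit 1), (nat_lit 1), (nat_lit 0), (nat_lit 1), (nat_lit 1), (nat_lit 0), (nat_lit 2), (nat_lit 1), (nat_lit 2), (nat_lit 1)],
  [(nat_lit 0), (nat_lit 2), (nat_lit 0), (nat_lit 2), (nat_lit 1), (nat_lit 0), (nat_lit 1), (nat_lit 0), (nat_lit 2)],
  [(nat_lit 1), (nat_lit 1), (nat_lit 0), (nat_lit 2)],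
  [(nat_lit 2), (nat_lit 0), (nat_lit 1), (nat_lit 2), (nat_lit 1), (nat_lit 1), (nat_lit 1), (nat_lit 2), (nat_lit 1)],
  [(nat_lit 0), (nat_lit 1), (nat_lit 1), (nat_lit 1), (nat_lit 1), (nat_lit 2), (nat_lit 1), (nat_lit 1), (nat_lit 1), (nat_lit 2)],
  [(nat_lit 0), (nat_lit 2), (nat_lit 1), (nat_lit 0), (nat_lit 2), (nat_lit 1), (nat_lit 1), (nat_lit 1), (nat_lit 2), (nat_lit 1)],
  [(nat_lit 1), (nat_lit 0), (nat_lit 1), (nat_lit 1), (nat_lit 1), (nat_lit 0), (nat_lit 2), (nat_lit 1), (nat_lit 1), (nat_lit 1), (nat_lit 2)],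
  [(nat_lit 2), (nat_lit 1), (nat_lit 2), (nat_lit 1), (nat_lit 0), (nat_lit 1), (nat_lit 1), (nat_lit 2), (nat_lit 1)],
  [(nat_lit 0), (nat_lit 2), (nat_lit 1), (nat_lit 2), (nat_lit 1), (nat_lit 1), (nat_lit 2), (nat_lit 1), (nat_lit 2), (nat_lit 1)],
  [(nat_lit 2), (nat_lit 1), (nat_lit 2), (nat_lit 1), (nat_lit 1), (nat_lit 0), (nat_lit 1), (nat_lit 2), (nat_lit 1)],
  [(nat_lit 0), (nat_lit 1), (nat_lit 1), (nat_lit 2), (nat_lit 1), (nat_lit 1), (nat_lit 2), (nat_lit 1), (nat_lit 1), (nat_lit 1)],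
  [(nat_lit 0), (nat_lit 1), (nat_lit 0), (nat_lit 2), (nat_lit 1), (nat_lit 2), (nat_lit 1), (nat_lit 1), (nat_lit 1)],
  [(nat_lit 1), (nat_lit 2), (nat_lit 1), (nat_lit 2), (nat_lit 1), (nat_lit 1), (nat_lit 0), (nat_lit 1)],
  [(nat_lit 2), (nat_lit 0), (nat_lit 1), (nat_lit 1), (nat_lit 1), (nat_lit 0), (nat_lit 2), (nat_lit 1), (nat_lit 2), (nat_lit 1), (nat_lit 1)],
  [(nat_lit 2), (nat_lit 0), (nat_lit 1), (nat_lit 1), (nat_lit 0), (nat_lit 1), (nat_lit 2), (nat_lit 1), (nat_lit 2), (nat_lit 1), (nat_lit 1)],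
  [(nat_lit 0), (nat_lit 1), (nat_lit 2), (nat_lit 1), (nat_lit 0), (nat_lit 2), (nat_lit 1), (nat_lit 1), (nat_lit 2), (nat_lit 1)],
  [(nat_lit 0), (nat_lit 1), (nat_lit 2), (nat_lit 1), (nat_lit 2), (nat_lit 1), (nat_lit 0), (nat_lit 1), (nat_lit 2), (nat_lit 1)],
  [(nat_lit 0), (nat_lit 2), (nat_lit 1), (nat_lit 1), (nat_lit 0), (nat_lit 2)],
  [(nat_lit 2), (nat_lit 0), (nat_lit 1), (nat_lit 0), (nat_lit 1), (nat_lit 0), (nat_lit 2)],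
  [(nat_lit 1), (nat_lit 2), (nat_lit 1), (nat_lit 2), (nat_lit 1), (nat_lit 0), (nat_lit 1), (nat_lit 1)],
  [(nat_lit 1), (nat_lit 2), (nat_lit 1), (nat_lit 0), (nat_lit 2), (nat_lit 1), (nat_lit 1), (nat_lit 1)],
  [(nat_lit 2), (nat_lit 1), (nat_lit 1), (nat_lit 0), (nat_lit 1), (nat_lit 0), (nat_lit 2), (nat_lit 1), (nat_lit 2), (nat_lit 1), (nat_lit 1)],
  [(nat_lit 2), (nat_lit 1), (nat_lit 1), (nat_lit 1), (nat_lit 2), (nat_lit 1), (nat_lit 2), (nat_lit 1), (nat_lit 1)],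
  [(nat_lit 0), (nat_lit 1), (nat_lit 2), (nat_lit 1), (nat_lit 2), (nat_lit 1), (nat_lit 1), (nat_lit 0), (nat_lit 2), (nat_lit 1)],
  [(nat_lit 1), (nat_lit 0), (nat_lit 2), (nat_lit 1), (nat_lit 2), (nat_lit 1), (nat_lit 1), (nat_lit 2), (nat_lit 1)],
  [(nat_lit 0), (nat_lit 2), (nat_lit 0), (nat_lit 1), (nat_lit 1), (nat_lit 2)],
  [(nat_lit 2), (nat_lit 1), (nat_lit 0), (nat_lit 1), (nat_lit 2)],
  [(nat_lit 1), (nat_lit 1), (nat_lit 2), (nat_lit 1), (nat_lit 0), (nat_lit 2)],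
  [(nat_lit 1), (nat_lit 0), (nat_lit 1), (nat_lit 0), (nat_lit 2), (nat_lit 1), (nat_lit 1), (nat_lit 2), (nat_lit 1), (nat_lit 2), (nat_lit 1), (nat_lit 1)],
  [(nat_lit 1), (nat_lit 1), (nat_lit 0), (nat_lit 2), (nat_lit 1), (nat_lit 2)],
  [(nat_lit 1), (nat_lit 0), (nat_lit 1), (nat_lit 2), (nat_lit 1), (nat_lit 0), (nat_lit 1), (nat_lit 2), (nat_lit 1), (nat_lit 2), (nat_lit 1), (nat_lit 1)],
  [(nat_lit 0), (nat_lit 1), (nat_lit 0), (nat_lit 1), (nat_lit 2), (nat_lit 1), (nat_lit 2)],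
  [(nat_lit 1), (nat_lit 0), (nat_lit 1), (nat_lit 2), (nat_lit 1), (nat_lit 1), (nat_lit 0), (nat_lit 2), (nat_lit 1), (nat_lit 2), (nat_lit 1), (nat_lit 1)],
  [(nat_lit 2), (nat_lit 0), (nat_lit 2), (nat_lit 1), (nat_lit 1), (nat_lit 2), (nat_lit 1), (nat_lit 2)],
  [(nat_lit 1), (nat_lit 1), (nat_lit 1), (nat_lit 1), (nat_lit 2), (nat_lit 1), (nat_lit 2), (nat_lit 1), (nat_lit 1), (nat_lit 2)],
  [(nat_lit 1), (nat_lit 0), (nat_lit 1), (nat_lit 1), (nat_lit 0), (nat_lit 1), (nat_lit 1), (nat_lit 1)],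
  [(nat_lit 1), (nat_lit 0), (nat_lit 1), (nat_lit 0), (nat_lit 1), (nat_lit 1), (nat_lit 1), (nat_lit 1)],
  [(nat_lit 0), (nat_lit 1), (nat_lit 1), (nat_lit 1), (nat_lit 2), (nat_lit 1), (nat_lit 1), (nat_lit 1)],
  [(nat_lit 1), (nat_lit 0), (nat_lit 1), (nat_lit 1), (nat_lit 2), (nat_lit 1), (nat_lit 0), (nat_lit 1), (nat_lit 1)],
  [(nat_lit 1), (nat_lit 1), (nat_lit 1), (nat_lit 1), (nat_lit 0), (nat_lit 2), (nat_lit 1), (nat_lit 1)],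
  [(nat_lit 0), (nat_lit 1), (nat_lit 0), (nat_lit 1), (nat_lit 1), (nat_lit 1), (nat_lit 2), (nat_lit 1), (nat_lit 1)],
  [(nat_lit 1), (nat_lit 1), (nat_lit 0), (nat_lit 1), (nat_lit 2), (nat_lit 1), (nat_lit 2), (nat_lit 1), (nat_lit 1)],
  [(nat_lit 1), (nat_lit 1), (nat_lit 1), (nat_lit 0), (nat_lit 2), (nat_lit 1), (nat_lit 2), (nat_lit 1), (nat_lit 1)],
  [(nat_lit 0), (nat_lit 1)],
  [(nat_lit 2), (nat_lit 0), (nat_lit 2), (nat_lit 1), (nat_lit 0)],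
  [(nat_lit 1), (nat_lit 0), (nat_lit 1), (nat_lit 1), (nat_lit 0), (nat_lit 2), (nat_lit 1), (nat_lit 1), (nat_lit 1)],
  [(nat_lit 1), (nat_lit 0), (nat_lit 1), (nat_lit 0), (nat_lit 1), (nat_lit 2), (nat_lit 1), (nat_lit 1), (nat_lit 1)],
  [(nat_lit 1), (nat_lit 1), (nat_lit 0), (nat_lit 1), (nat_lit 1), (nat_lit 2), (nat_lit 1), (nat_lit 1)],
  [(nat_lit 1), (nat_lit 1), (nat_lit 1), (nat_lit 0), (nat_lit 1), (nat_lit 2), (nat_lit 1), (nat_lit 1)],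
  [(nat_lit 1), (nat_lit 1), (nat_lit 1), (nat_lit 2), (nat_lit 1), (nat_lit 0), (nat_lit 2), (nat_lit 1), (nat_lit 1)],
  [(nat_lit 0), (nat_lit 1), (nat_lit 0), (nat_lit 1), (nat_lit 1), (nat_lit 2), (nat_lit 1), (nat_lit 2), (nat_lit 1), (nat_lit 1)],
  [(nat_lit 2), (nat_lit 1), (nat_lit 2), (nat_lit 1), (nat_lit 0), (nat_lit 1), (nat_lit 0), (nat_lit 1), (nat_lit 1)],
  [(nat_lit 0), (nat_lit 2), (nat_lit 1), (nat_lit 2), (nat_lit 1), (nat_lit 1), (nat_lit 0), (nat_lit 2), (nat_lit 1), (nat_lit 1)],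
  [(nat_lit 2), (nat_lit 1), (nat_lit 2), (nat_lit 1), (nat_lit 1), (nat_lit 1), (nat_lit 1)],
  [(nat_lit 0), (nat_lit 2), (nat_lit 1), (nat_lit 2), (nat_lit 1), (nat_lit 0), (nat_lit 1), (nat_lit 2), (nat_lit 1), (nat_lit 1)],
  [(nat_lit 2), (nat_lit 0), (nat_lit 1), (nat_lit 2), (nat_lit 1), (nat_lit 1), (nat_lit 0), (nat_lit 1), (nat_lit 1)],
  [(nat_lit 2), (nat_lit 1), (nat_lit 0), (nat_lit 2), (nat_lit 1), (nat_lit 1), (nat_lit 2), (nat_lit 1), (nat_lit 1)],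
  [(nat_lit 2), (nat_lit 0), (nat_lit 1), (nat_lit 2), (nat_lit 1), (nat_lit 0), (nat_lit 1), (nat_lit 1), (nat_lit 1)],
  [(nat_lit 0), (nat_lit 2), (nat_lit 0), (nat_lit 1), (nat_lit 2), (nat_lit 1), (nat_lit 1), (nat_lit 2), (nat_lit 1), (nat_lit 1)],
  [(nat_lit 0), (nat_lit 2), (nat_lit 0), (nat_lit 1), (nat_lit 0)],
  [(nat_lit 2), (nat_lit 1)],
  [(nat_lit 0), (nat_lit 2), (nat_lit 1), (nat_lit 1), (nat_lit 1), (nat_lit 0), (nat_lit 2), (nat_lit 1), (nat_lit 1), (nat_lit 1)],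
  [(nat_lit 0), (nat_lit 2), (nat_lit 1), (nat_lit 1), (nat_lit 0), (nat_lit 1), (nat_lit 2), (nat_lit 1), (nat_lit 1), (nat_lit 1)],
  [(nat_lit 0), (nat_lit 1), (nat_lit 1), (nat_lit 1), (nat_lit 0), (nat_lit 1), (nat_lit 2), (nat_lit 1), (nat_lit 2), (nat_lit 1)],
  [(nat_lit 0), (nat_lit 1), (nat_lit 1), (nat_lit 0), (nat_lit 1), (nat_lit 1), (nat_lit 2), (nat_lit 1), (nat_lit 2), (nat_lit 1)],
  [(nat_lit 1), (nat_lit 0), (nat_lit 1), (nat_lit 0), (nat_lit 2)],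
  [(nat_lit 0), (nat_lit 2), (nat_lit 0), (nat_lit 2), (nat_lit 1), (nat_lit 1), (nat_lit 0), (nat_lit 2)],
  [(nat_lit 1), (nat_lit 1), (nat_lit 1), (nat_lit 0), (nat_lit 1), (nat_lit 0), (nat_lit 1), (nat_lit 2), (nat_lit 1)],
  [(nat_lit 1), (nat_lit 1), (nat_lit 0), (nat_lit 1), (nat_lit 1), (nat_lit 0), (nat_lit 1), (nat_lit 2), (nat_lit 1)],
  [(nat_lit 2), (nat_lit 1), (nat_lit 0), (nat_lit 1), (nat_lit 1), (nat_lit 2), (nat_lit 1), (nat_lit 1), (nat_lit 1)],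
  [(nat_lit 1), (nat_lit 1), (nat_lit 1), (nat_lit 2), (nat_lit 1), (nat_lit 1), (nat_lit 2), (nat_lit 1)],
  [(nat_lit 1), (nat_lit 0), (nat_lit 1), (nat_lit 1), (nat_lit 1), (nat_lit 2), (nat_lit 1), (nat_lit 2), (nat_lit 1)],
  [(nat_lit 0), (nat_lit 1), (nat_lit 1), (nat_lit 1), (nat_lit 1), (nat_lit 0), (nat_lit 2), (nat_lit 1), (nat_lit 2), (nat_lit 1)],
  [(nat_lit 2), (nat_lit 0), (nat_lit 2), (nat_lit 1), (nat_lit 0), (nat_lit 1), (nat_lit 2)],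
  [(nat_lit 0), (nat_lit 1), (nat_lit 1), (nat_lit 2)],
  [(nat_lit 2), (nat_lit 1), (nat_lit 0), (nat_lit 2), (nat_lit 1), (nat_lit 1), (nat_lit 0), (nat_lit 1), (nat_lit 2), (nat_lit 1)],
  [(nat_lit 1), (nat_lit 1), (nat_lit 0), (nat_lit 1), (nat_lit 1), (nat_lit 2), (nat_lit 1), (nat_lit 1), (nat_lit 1), (nat_lit 2)],
  [(nat_lit 2), (nat_lit 1), (nat_lit 0), (nat_lit 2), (nat_lit 1), (nat_lit 0), (nat_lit 1), (nat_lit 1), (nat_lit 2), (nat_lit 1)],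
  [(nat_lit 1), (nat_lit 1), (nat_lit 1), (nat_lit 0), (nat_lit 1), (nat_lit 2), (nat_lit 1), (nat_lit 1), (nat_lit 1), (nat_lit 2)],
  [(nat_lit 0), (nat_lit 2), (nat_lit 1), (nat_lit 2), (nat_lit 1), (nat_lit 1), (nat_lit 1), (nat_lit 2), (nat_lit 1)],
  [(nat_lit 1), (nat_lit 1), (nat_lit 1), (nat_lit 1), (nat_lit 0), (nat_lit 2), (nat_lit 1), (nat_lit 1), (nat_lit 1), (nat_lit 2)],
  [(nat_lit 2), (nat_lit 0), (nat_lit 1), (nat_lit 0), (nat_lit 2), (nat_lit 1), (nat_lit 1), (nat_lit 1), (nat_lit 2), (nat_lit 1)],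
  [(nat_lit 1), (nat_lit 1), (nat_lit 0), (nat_lit 2), (nat_lit 1), (nat_lit 1), (nat_lit 2), (nat_lit 1), (nat_lit 1), (nat_lit 1)],
  [(nat_lit 1), (nat_lit 0), (nat_lit 2), (nat_lit 1), (nat_lit 0), (nat_lit 2), (nat_lit 1), (nat_lit 1), (nat_lit 1)],
  [(nat_lit 1), (nat_lit 0), (nat_lit 2), (nat_lit 1), (nat_lit 2), (nat_lit 1), (nat_lit 0), (nat_lit 1), (nat_lit 1)],
  [(nat_lit 1), (nat_lit 1), (nat_lit 2), (nat_lit 1), (nat_lit 1), (nat_lit 1), (nat_lit 2), (nat_lit 1), (nat_lit 2), (nat_lit 1)],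
  [(nat_lit 0), (nat_lit 2), (nat_lit 0), (nat_lit 1), (nat_lit 1), (nat_lit 1), (nat_lit 2), (nat_lit 1), (nat_lit 2), (nat_lit 1), (nat_lit 1)],
  [(nat_lit 1), (nat_lit 2), (nat_lit 1), (nat_lit 2), (nat_lit 1), (nat_lit 1), (nat_lit 2), (nat_lit 1)],
  [(nat_lit 1), (nat_lit 2), (nat_lit 1), (nat_lit 0), (nat_lit 2), (nat_lit 1), (nat_lit 0), (nat_lit 1), (nat_lit 2), (nat_lit 1)],
  [(nat_lit 2), (nat_lit 1), (nat_lit 1), (nat_lit 2)],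
  [(nat_lit 0), (nat_lit 2), (nat_lit 0), (nat_lit 1), (nat_lit 0), (nat_lit 1), (nat_lit 2)],
  [(nat_lit 1), (nat_lit 0), (nat_lit 2), (nat_lit 1), (nat_lit 2), (nat_lit 1), (nat_lit 1), (nat_lit 0), (nat_lit 1)],
  [(nat_lit 0), (nat_lit 1), (nat_lit 2), (nat_lit 1), (nat_lit 2), (nat_lit 1), (nat_lit 1), (nat_lit 1)],
  [(nat_lit 0), (nat_lit 2), (nat_lit 1), (nat_lit 1), (nat_lit 1), (nat_lit 0), (nat_lit 2), (nat_lit 1), (nat_lit 2), (nat_lit 1), (nat_lit 1)],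
  [(nat_lit 0), (nat_lit 2), (nat_lit 1), (nat_lit 1), (nat_lit 0), (nat_lit 1), (nat_lit 2), (nat_lit 1), (nat_lit 2), (nat_lit 1), (nat_lit 1)],
  [(nat_lit 1), (nat_lit 2), (nat_lit 1), (nat_lit 0), (nat_lit 2), (nat_lit 1), (nat_lit 1), (nat_lit 0), (nat_lit 2), (nat_lit 1)],
  [(nat_lit 1), (nat_lit 1), (nat_lit 1), (nat_lit 2), (nat_lit 1), (nat_lit 1), (nat_lit 2), (nat_lit 1), (nat_lit 1), (nat_lit 2)],
  [(nat_lit 2), (nat_lit 0), (nat_lit 1), (nat_lit 1), (nat_lit 0), (nat_lit 2)],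
  [(nat_lit 0), (nat_lit 2), (nat_lit 1), (nat_lit 0), (nat_lit 1), (nat_lit 0), (nat_lit 2)],
  [(nat_lit 0), (nat_lit 1), (nat_lit 1), (nat_lit 0), (nat_lit 2), (nat_lit 1), (nat_lit 0), (nat_lit 2)],
  [(nat_lit 1), (nat_lit 0), (nat_lit 1), (nat_lit 1), (nat_lit 1), (nat_lit 2), (nat_lit 1), (nat_lit 2), (nat_lit 1), (nat_lit 1), (nat_lit 2)],
  [(nat_lit 0), (nat_lit 1), (nat_lit 1), (nat_lit 2), (nat_lit 1), (nat_lit 2)],
  [(nat_lit 1), (nat_lit 1), (nat_lit 2), (nat_lit 1), (nat_lit 1), (nat_lit 0), (nat_lit 2), (nat_lit 1), (nat_lit 2), (nat_lit 1), (nat_lit 1)],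
  [(nat_lit 1), (nat_lit 0), (nat_lit 1), (nat_lit 0), (nat_lit 2), (nat_lit 1), (nat_lit 2)],
  [(nat_lit 1), (nat_lit 1), (nat_lit 2), (nat_lit 1), (nat_lit 0), (nat_lit 1), (nat_lit 2), (nat_lit 1), (nat_lit 2), (nat_lit 1), (nat_lit 1)],
  [(nat_lit 1), (nat_lit 0), (nat_lit 1), (nat_lit 2), (nat_lit 1), (nat_lit 0), (nat_lit 2)],
  [(nat_lit 1), (nat_lit 1), (nat_lit 0), (nat_lit 2), (nat_lit 1), (nat_lit 1), (nat_lit 2), (nat_lit 1), (nat_lit 2), (nat_lit 1), (nat_lit 1)],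
  [(nat_lit 1), (nat_lit 2), (nat_lit 1), (nat_lit 1), (nat_lit 1), (nat_lit 0), (nat_lit 1)],
  [(nat_lit 1), (nat_lit 2), (nat_lit 1), (nat_lit 0), (nat_lit 1), (nat_lit 2), (nat_lit 1), (nat_lit 1)],
  [(nat_lit 0), (nat_lit 1), (nat_lit 0), (nat_lit 2), (nat_lit 1), (nat_lit 1), (nat_lit 1), (nat_lit 1)],
  [(nat_lit 1), (nat_lit 2), (nat_lit 1), (nat_lit 1), (nat_lit 0), (nat_lit 2), (nat_lit 1), (nat_lit 1)],
  [(nat_lit 0), (nat_lit 1), (nat_lit 2), (nat_lit 1), (nat_lit 1), (nat_lit 0), (nat_lit 1), (nat_lit 2), (nat_lit 1)],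
  [(nat_lit 1), (nat_lit 0), (nat_lit 2), (nat_lit 1), (nat_lit 1), (nat_lit 2), (nat_lit 1), (nat_lit 2), (nat_lit 1)],
  [(nat_lit 0), (nat_lit 1), (nat_lit 2), (nat_lit 1), (nat_lit 0), (nat_lit 1), (nat_lit 1), (nat_lit 2), (nat_lit 1)],
  [(nat_lit 0), (nat_lit 1), (nat_lit 2), (nat_lit 1), (nat_lit 1), (nat_lit 2), (nat_lit 1), (nat_lit 0), (nat_lit 2), (nat_lit 1)],
  [(nat_lit 2), (nat_lit 1), (nat_lit 1), (nat_lit 2), (nat_lit 1), (nat_lit 2)],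
  [(nat_lit 1), (nat_lit 2), (nat_lit 1), (nat_lit 2), (nat_lit 1), (nat_lit 1), (nat_lit 2), (nat_lit 1), (nat_lit 1), (nat_lit 2)],
  [(nat_lit 2), (nat_lit 1), (nat_lit 1), (nat_lit 0), (nat_lit 2), (nat_lit 1), (nat_lit 0), (nat_lit 2)],
  [(nat_lit 1), (nat_lit 2), (nat_lit 1), (nat_lit 0), (nat_lit 2), (nat_lit 1), (nat_lit 0), (nat_lit 1), (nat_lit 2), (nat_lit 1), (nat_lit 1), (nat_lit 2)],
  [(nat_lit 1), (nat_lit 2), (nat_lit 1), (nat_lit 0), (nat_lit 1), (nat_lit 1), (nat_lit 1)],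
  [(nat_lit 1), (nat_lit 2), (nat_lit 1), (nat_lit 1), (nat_lit 2), (nat_lit 1), (nat_lit 0), (nat_lit 1)],
  [(nat_lit 1), (nat_lit 2), (nat_lit 1), (nat_lit 1), (nat_lit 0), (nat_lit 1), (nat_lit 1)],
  [(nat_lit 0), (nat_lit 1), (nat_lit 0), (nat_lit 2), (nat_lit 1), (nat_lit 1), (nat_lit 2), (nat_lit 1), (nat_lit 1)],
  [(nat_lit 1), (nat_lit 0), (nat_lit 2), (nat_lit 1), (nat_lit 1), (nat_lit 1), (nat_lit 2), (nat_lit 1)],
  [(nat_lit 0), (nat_lit 1), (nat_lit 2), (nat_lit 1), (nat_lit 1), (nat_lit 0), (nat_lit 2), (nat_lit 1), (nat_lit 2), (nat_lit 1)],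
  [(nat_lit 0), (nat_lit 1), (nat_lit 2), (nat_lit 1), (nat_lit 1), (nat_lit 1), (nat_lit 0), (nat_lit 2), (nat_lit 1)],
  [(nat_lit 0), (nat_lit 1), (nat_lit 2), (nat_lit 1), (nat_lit 0), (nat_lit 1), (nat_lit 2), (nat_lit 1), (nat_lit 2), (nat_lit 1)],
  [(nat_lit 2), (nat_lit 0), (nat_lit 1), (nat_lit 1), (nat_lit 0), (nat_lit 2), (nat_lit 1), (nat_lit 2)],
  [(nat_lit 1), (nat_lit 2), (nat_lit 1), (nat_lit 0), (nat_lit 2), (nat_lit 1), (nat_lit 1), (nat_lit 0), (nat_lit 2), (nat_lit 1), (nat_lit 1), (nat_lit 2)],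
  [(nat_lit 2), (nat_lit 0), (nat_lit 1), (nat_lit 1), (nat_lit 2), (nat_lit 1), (nat_lit 0), (nat_lit 2)],
  [(nat_lit 1), (nat_lit 1), (nat_lit 1), (nat_lit 2), (nat_lit 1), (nat_lit 1), (nat_lit 2), (nat_lit 1), (nat_lit 1), (nat_lit 2), (nat_lit 1), (nat_lit 2)],
  [(nat_lit 1), (nat_lit 0), (nat_lit 2), (nat_lit 1), (nat_lit 1), (nat_lit 0), (nat_lit 1), (nat_lit 1)],
  [(nat_lit 0), (nat_lit 1), (nat_lit 2), (nat_lit 1), (nat_lit 1), (nat_lit 2), (nat_lit 1), (nat_lit 1)],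
  [(nat_lit 1), (nat_lit 0), (nat_lit 2), (nat_lit 1), (nat_lit 0), (nat_lit 1), (nat_lit 1), (nat_lit 1)],
  [(nat_lit 1), (nat_lit 0), (nat_lit 2), (nat_lit 1), (nat_lit 1), (nat_lit 2), (nat_lit 1), (nat_lit 0), (nat_lit 1)],
  [(nat_lit 1), (nat_lit 2), (nat_lit 1), (nat_lit 0), (nat_lit 1), (nat_lit 0), (nat_lit 1), (nat_lit 2), (nat_lit 1)],
  [(nat_lit 1), (nat_lit 2), (nat_lit 1), (nat_lit 1), (nat_lit 0), (nat_lit 2), (nat_lit 1), (nat_lit 0), (nat_lit 2), (nat_lit 1)],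
  [(nat_lit 1), (nat_lit 2), (nat_lit 1), (nat_lit 1), (nat_lit 1), (nat_lit 2), (nat_lit 1)],
  [(nat_lit 1), (nat_lit 2), (nat_lit 1), (nat_lit 0), (nat_lit 1), (nat_lit 2), (nat_lit 1), (nat_lit 0), (nat_lit 2), (nat_lit 1)],
  [(nat_lit 0), (nat_lit 2), (nat_lit 1), (nat_lit 1), (nat_lit 0), (nat_lit 2), (nat_lit 1), (nat_lit 2)],
  [(nat_lit 0), (nat_lit 1), (nat_lit 2), (nat_lit 1), (nat_lit 0), (nat_lit 2), (nat_lit 1), (nat_lit 1), (nat_lit 2), (nat_lit 1), (nat_lit 1), (nat_lit 2)],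
  [(nat_lit 0), (nat_lit 2), (nat_lit 1), (nat_lit 1), (nat_lit 2), (nat_lit 1), (nat_lit 0), (nat_lit 2)],
  [(nat_lit 0), (nat_lit 1), (nat_lit 2), (nat_lit 1), (nat_lit 2), (nat_lit 1), (nat_lit 0), (nat_lit 1), (nat_lit 2), (nat_lit 1), (nat_lit 1), (nat_lit 2)],
  [(nat_lit 0), (nat_lit 1), (nat_lit 2), (nat_lit 1), (nat_lit 1), (nat_lit 1), (nat_lit 1)],
  [(nat_lit 1), (nat_lit 0), (nat_lit 2), (nat_lit 1), (nat_lit 1), (nat_lit 0), (nat_lit 2), (nat_lit 1), (nat_lit 1)],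
  [(nat_lit 1), (nat_lit 0), (nat_lit 2), (nat_lit 1), (nat_lit 1), (nat_lit 1), (nat_lit 0), (nat_lit 1)],
  [(nat_lit 1), (nat_lit 0), (nat_lit 2), (nat_lit 1), (nat_lit 0), (nat_lit 1), (nat_lit 2), (nat_lit 1), (nat_lit 1)],
  [(nat_lit 1), (nat_lit 2), (nat_lit 1), (nat_lit 1), (nat_lit 0), (nat_lit 1), (nat_lit 0), (nat_lit 2), (nat_lit 1)],
  [(nat_lit 1), (nat_lit 2), (nat_lit 1), (nat_lit 0), (nat_lit 1), (nat_lit 0), (nat_lit 2), (nat_lit 1), (nat_lit 2), (nat_lit 1)],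
  [(nat_lit 1), (nat_lit 2), (nat_lit 1), (nat_lit 0), (nat_lit 1), (nat_lit 1), (nat_lit 0), (nat_lit 2), (nat_lit 1)],
  [(nat_lit 1), (nat_lit 2), (nat_lit 1), (nat_lit 1), (nat_lit 2), (nat_lit 1), (nat_lit 2), (nat_lit 1)],
  [(nat_lit 0), (nat_lit 2), (nat_lit 0), (nat_lit 1), (nat_lit 1), (nat_lit 2), (nat_lit 1), (nat_lit 2)],
  [(nat_lit 2), (nat_lit 1), (nat_lit 1), (nat_lit 2), (nat_lit 1), (nat_lit 1), (nat_lit 2), (nat_lit 1), (nat_lit 2), (nat_lit 1), (nat_lit 1)],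
  [(nat_lit 2), (nat_lit 1), (nat_lit 0), (nat_lit 1), (nat_lit 2), (nat_lit 1), (nat_lit 2)],
  [(nat_lit 1), (nat_lit 0), (nat_lit 2), (nat_lit 1), (nat_lit 2), (nat_lit 1), (nat_lit 1), (nat_lit 2), (nat_lit 1), (nat_lit 1), (nat_lit 2)],
  [(nat_lit 1), (nat_lit 0), (nat_lit 1), (nat_lit 1), (nat_lit 0), (nat_lit 1), (nat_lit 1), (nat_lit 1), (nat_lit 2)],
  [(nat_lit 1), (nat_lit 0), (nat_lit 1), (nat_lit 0), (nat_lit 1), (nat_lit 1), (nat_lit 1), (nat_lit 1), (nat_lit 2)],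
  [(nat_lit 0), (nat_lit 1), (nat_lit 1), (nat_lit 1), (nat_lit 2), (nat_lit 1), (nat_lit 1), (nat_lit 1), (nat_lit 2)],
  [(nat_lit 0), (nat_lit 1), (nat_lit 2), (nat_lit 1), (nat_lit 1), (nat_lit 2), (nat_lit 1), (nat_lit 1), (nat_lit 1)],
  [(nat_lit 1), (nat_lit 1), (nat_lit 1), (nat_lit 1), (nat_lit 0), (nat_lit 2), (nat_lit 1), (nat_lit 1), (nat_lit 2)],
  [(nat_lit 1), (nat_lit 2), (nat_lit 1), (nat_lit 1), (nat_lit 1), (nat_lit 2), (nat_lit 1), (nat_lit 1)],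
  [(nat_lit 1), (nat_lit 1), (nat_lit 0), (nat_lit 1), (nat_lit 2), (nat_lit 1), (nat_lit 2), (nat_lit 1), (nat_lit 1), (nat_lit 2)],
  [(nat_lit 1), (nat_lit 1), (nat_lit 1), (nat_lit 0), (nat_lit 2), (nat_lit 1), (nat_lit 2), (nat_lit 1), (nat_lit 1), (nat_lit 2)],
  [(nat_lit 0), (nat_lit 1), (nat_lit 2)],
  [(nat_lit 2), (nat_lit 0), (nat_lit 2), (nat_lit 1), (nat_lit 0), (nat_lit 2)],
  [(nat_lit 1), (nat_lit 0), (nat_lit 1), (nat_lit 1), (nat_lit 0), (nat_lit 2), (nat_lit 1), (nat_lit 1), (nat_lit 1), (nat_lit 2)],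
  [(nat_lit 1), (nat_lit 0), (nat_lit 1), (nat_lit 0), (nat_lit 1), (nat_lit 2), (nat_lit 1), (nat_lit 1), (nat_lit 1), (nat_lit 2)],
  [(nat_lit 1), (nat_lit 1), (nat_lit 0), (nat_lit 1), (nat_lit 1), (nat_lit 2), (nat_lit 1), (nat_lit 1), (nat_lit 2)],
  [(nat_lit 1), (nat_lit 1), (nat_lit 1), (nat_lit 0), (nat_lit 1), (nat_lit 2), (nat_lit 1), (nat_lit 1), (nat_lit 2)],
  [(nat_lit 1), (nat_lit 2), (nat_lit 1), (nat_lit 1), (nat_lit 2), (nat_lit 1), (nat_lit 2), (nat_lit 1), (nat_lit 1)],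
  [(nat_lit 0), (nat_lit 1), (nat_lit 0), (nat_lit 1), (nat_lit 1), (nat_lit 2), (nat_lit 1), (nat_lit 2), (nat_lit 1), (nat_lit 1), (nat_lit 2)],
  [(nat_lit 0), (nat_lit 2), (nat_lit 0), (nat_lit 1), (nat_lit 1), (nat_lit 2), (nat_lit 1), (nat_lit 2), (nat_lit 1)],
  [(nat_lit 0), (nat_lit 2), (nat_lit 1), (nat_lit 2), (nat_lit 1), (nat_lit 1), (nat_lit 0), (nat_lit 2), (nat_lit 1), (nat_lit 1), (nat_lit 2)],
  [(nat_lit 2), (nat_lit 1), (nat_lit 0), (nat_lit 1), (nat_lit 2), (nat_lit 1), (nat_lit 2), (nat_lit 1)],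
  [(nat_lit 0), (nat_lit 2), (nat_lit 1), (nat_lit 2), (nat_lit 1), (nat_lit 0), (nat_lit 1), (nat_lit 2), (nat_lit 1), (nat_lit 1), (nat_lit 2)],
  [(nat_lit 0), (nat_lit 2), (nat_lit 1), (nat_lit 1), (nat_lit 0), (nat_lit 2), (nat_lit 1), (nat_lit 2), (nat_lit 1)],
  [(nat_lit 2), (nat_lit 1), (nat_lit 0), (nat_lit 2), (nat_lit 1), (nat_lit 1), (nat_lit 2), (nat_lit 1), (nat_lit 1), (nat_lit 2)],
  [(nat_lit 0), (nat_lit 2), (nat_lit 1), (nat_lit 1), (nat_lit 2), (nat_lit 1), (nat_lit 0), (nat_lit 2), (nat_lit 1)],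
  [(nat_lit 0), (nat_lit 2), (nat_lit 0), (nat_lit 1), (nat_lit 2), (nat_lit 1), (nat_lit 1), (nat_lit 2), (nat_lit 1), (nat_lit 1), (nat_lit 2)],
  [(nat_lit 2), (nat_lit 0), (nat_lit 2), (nat_lit 1), (nat_lit 2)],
  [(nat_lit 0), (nat_lit 1), (nat_lit 0), (nat_lit 2)],
  [(nat_lit 1), (nat_lit 1), (nat_lit 0), (nat_lit 1), (nat_lit 2), (nat_lit 1), (nat_lit 1), (nat_lit 1), (nat_lit 2)],
  [(nat_lit 1), (nat_lit 1), (nat_lit 1), (nat_lit 0), (nat_lit 2), (nat_lit 1), (nat_lit 1), (nat_lit 1), (nat_lit 2)],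
  [(nat_lit 0), (nat_lit 1), (nat_lit 2), (nat_lit 1), (nat_lit 1), (nat_lit 0), (nat_lit 1), (nat_lit 2), (nat_lit 1), (nat_lit 1)],
  [(nat_lit 0), (nat_lit 1), (nat_lit 2), (nat_lit 1), (nat_lit 0), (nat_lit 1), (nat_lit 1), (nat_lit 2), (nat_lit 1), (nat_lit 1)],
  [(nat_lit 0), (nat_lit 1), (nat_lit 1), (nat_lit 1), (nat_lit 2), (nat_lit 1), (nat_lit 2), (nat_lit 1), (nat_lit 1), (nat_lit 2)],
  [(nat_lit 1), (nat_lit 0), (nat_lit 2), (nat_lit 1), (nat_lit 1), (nat_lit 2), (nat_lit 1), (nat_lit 2), (nat_lit 1), (nat_lit 1)],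
  [(nat_lit 1), (nat_lit 1), (nat_lit 0), (nat_lit 1), (nat_lit 1), (nat_lit 1), (nat_lit 1), (nat_lit 2)],
  [(nat_lit 1), (nat_lit 1), (nat_lit 1), (nat_lit 0), (nat_lit 1), (nat_lit 1), (nat_lit 1), (nat_lit 2)],
  [(nat_lit 1), (nat_lit 1), (nat_lit 1), (nat_lit 2), (nat_lit 1), (nat_lit 0), (nat_lit 1), (nat_lit 1), (nat_lit 2)],
  [(nat_lit 1), (nat_lit 2), (nat_lit 1), (nat_lit 1), (nat_lit 2), (nat_lit 1), (nat_lit 0), (nat_lit 1), (nat_lit 1)],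
  [(nat_lit 0), (nat_lit 1), (nat_lit 1), (nat_lit 1), (nat_lit 1), (nat_lit 2), (nat_lit 1), (nat_lit 1), (nat_lit 2)],
  [(nat_lit 0), (nat_lit 1), (nat_lit 2), (nat_lit 1), (nat_lit 1), (nat_lit 1), (nat_lit 0), (nat_lit 2), (nat_lit 1), (nat_lit 1)],
  [(nat_lit 0), (nat_lit 1), (nat_lit 2), (nat_lit 1), (nat_lit 0), (nat_lit 1), (nat_lit 2), (nat_lit 1), (nat_lit 2), (nat_lit 1), (nat_lit 1)],
  [(nat_lit 0), (nat_lit 1), (nat_lit 2), (nat_lit 1), (nat_lit 1), (nat_lit 0), (nat_lit 2), (nat_lit 1), (nat_lit 2), (nat_lit 1), (nat_lit 1)],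
  [(nat_lit 2), (nat_lit 0), (nat_lit 1), (nat_lit 1), (nat_lit 0), (nat_lit 2), (nat_lit 1), (nat_lit 2), (nat_lit 1)],
  [(nat_lit 1), (nat_lit 1), (nat_lit 2), (nat_lit 1), (nat_lit 1), (nat_lit 2), (nat_lit 1), (nat_lit 1), (nat_lit 2), (nat_lit 1), (nat_lit 2)],
  [(nat_lit 2), (nat_lit 0), (nat_lit 1), (nat_lit 1), (nat_lit 2), (nat_lit 1), (nat_lit 0), (nat_lit 2), (nat_lit 1)],
  [(nat_lit 2), (nat_lit 1), (nat_lit 2), (nat_lit 1), (nat_lit 1), (nat_lit 2), (nat_lit 1), (nat_lit 1), (nat_lit 2)],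
  [(nat_lit 2), (nat_lit 1), (nat_lit 1), (nat_lit 2), (nat_lit 1), (nat_lit 2), (nat_lit 1)],
  [(nat_lit 1), (nat_lit 2), (nat_lit 1), (nat_lit 2), (nat_lit 1), (nat_lit 1), (nat_lit 2), (nat_lit 1), (nat_lit 1), (nat_lit 2), (nat_lit 1)],
  [(nat_lit 2), (nat_lit 1), (nat_lit 1), (nat_lit 0), (nat_lit 2), (nat_lit 1), (nat_lit 0), (nat_lit 2), (nat_lit 1)],
  [(nat_lit 2), (nat_lit 0), (nat_lit 1), (nat_lit 2), (nat_lit 1), (nat_lit 0), (nat_lit 1), (nat_lit 2), (nat_lit 1), (nat_lit 1), (nat_lit 2)],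
  [(nat_lit 2), (nat_lit 1), (nat_lit 0), (nat_lit 2)],
  [(nat_lit 0), (nat_lit 2), (nat_lit 0), (nat_lit 1), (nat_lit 2)],
  [(nat_lit 0), (nat_lit 1), (nat_lit 1), (nat_lit 1), (nat_lit 0), (nat_lit 2), (nat_lit 1), (nat_lit 1), (nat_lit 2), (nat_lit 1), (nat_lit 2)],
  [(nat_lit 0), (nat_lit 1), (nat_lit 1), (nat_lit 0), (nat_lit 1), (nat_lit 2), (nat_lit 1), (nat_lit 1), (nat_lit 2), (nat_lit 1), (nat_lit 2)],
  [(nat_lit 0), (nat_lit 1), (nat_lit 1), (nat_lit 1), (nat_lit 0), (nat_lit 1), (nat_lit 1), (nat_lit 2), (nat_lit 1), (nat_lit 2)],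
  [(nat_lit 0), (nat_lit 1), (nat_lit 1), (nat_lit 0), (nat_lit 1), (nat_lit 1), (nat_lit 1), (nat_lit 2), (nat_lit 1), (nat_lit 2)],
  [(nat_lit 2), (nat_lit 1), (nat_lit 2), (nat_lit 1), (nat_lit 1), (nat_lit 2), (nat_lit 1), (nat_lit 1), (nat_lit 1)],
  [(nat_lit 2), (nat_lit 1), (nat_lit 1), (nat_lit 1), (nat_lit 2), (nat_lit 1), (nat_lit 1), (nat_lit 1), (nat_lit 2)],
  [(nat_lit 1), (nat_lit 1), (nat_lit 1), (nat_lit 0), (nat_lit 2), (nat_lit 1), (nat_lit 1), (nat_lit 1), (nat_lit 1)],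
  [(nat_lit 1), (nat_lit 1), (nat_lit 0), (nat_lit 1), (nat_lit 2), (nat_lit 1), (nat_lit 1), (nat_lit 1), (nat_lit 1)],
  [(nat_lit 0), (nat_lit 1), (nat_lit 0), (nat_lit 1)],
  [(nat_lit 2), (nat_lit 0), (nat_lit 2), (nat_lit 1), (nat_lit 1)],
  [(nat_lit 0), (nat_lit 1), (nat_lit 0), (nat_lit 1), (nat_lit 1), (nat_lit 2), (nat_lit 1), (nat_lit 1), (nat_lit 1), (nat_lit 1)],
  [(nat_lit 1), (nat_lit 1), (nat_lit 1), (nat_lit 2), (nat_lit 1), (nat_lit 0), (nat_lit 1), (nat_lit 1), (nat_lit 1)],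
  [(nat_lit 0), (nat_lit 2), (nat_lit 0), (nat_lit 2), (nat_lit 1), (nat_lit 0), (nat_lit 1), (nat_lit 0)],
  [(nat_lit 1), (nat_lit 1), (nat_lit 0)],
  [(nat_lit 0), (nat_lit 2), (nat_lit 1), (nat_lit 0), (nat_lit 2), (nat_lit 1), (nat_lit 1), (nat_lit 1), (nat_lit 2), (nat_lit 1), (nat_lit 2)],
  [(nat_lit 2), (nat_lit 0), (nat_lit 1), (nat_lit 2), (nat_lit 1), (nat_lit 1), (nat_lit 1), (nat_lit 2), (nat_lit 1), (nat_lit 2)],
  [(nat_lit 0), (nat_lit 1), (nat_lit 1), (nat_lit 1), (nat_lit 1), (nat_lit 2), (nat_lit 1), (nat_lit 1), (nat_lit 1)],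
  [(nat_lit 1), (nat_lit 0), (nat_lit 1), (nat_lit 1), (nat_lit 1), (nat_lit 0), (nat_lit 2), (nat_lit 1), (nat_lit 1), (nat_lit 1)],
  [(nat_lit 2), (nat_lit 1), (nat_lit 2), (nat_lit 1), (nat_lit 1), (nat_lit 0), (nat_lit 1), (nat_lit 2), (nat_lit 1), (nat_lit 2)],
  [(nat_lit 0), (nat_lit 1), (nat_lit 1), (nat_lit 1), (nat_lit 2), (nat_lit 1), (nat_lit 2), (nat_lit 1), (nat_lit 1), (nat_lit 1)],
  [(nat_lit 1), (nat_lit 0), (nat_lit 1), (nat_lit 1), (nat_lit 0), (nat_lit 1), (nat_lit 2), (nat_lit 1), (nat_lit 1), (nat_lit 1)],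
  [(nat_lit 1), (nat_lit 0), (nat_lit 1), (nat_lit 0), (nat_lit 1), (nat_lit 1), (nat_lit 2), (nat_lit 1), (nat_lit 1), (nat_lit 1)],
  [(nat_lit 1), (nat_lit 2), (nat_lit 1), (nat_lit 2), (nat_lit 1), (nat_lit 0), (nat_lit 1), (nat_lit 1), (nat_lit 2)],
  [(nat_lit 1), (nat_lit 2), (nat_lit 1), (nat_lit 0), (nat_lit 2), (nat_lit 1), (nat_lit 1), (nat_lit 1), (nat_lit 2)],
  [(nat_lit 0), (nat_lit 1), (nat_lit 1), (nat_lit 2), (nat_lit 1), (nat_lit 1), (nat_lit 2), (nat_lit 1), (nat_lit 1), (nat_lit 1), (nat_lit 1)],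
  [(nat_lit 2), (nat_lit 1), (nat_lit 1), (nat_lit 1), (nat_lit 2), (nat_lit 1), (nat_lit 2), (nat_lit 1), (nat_lit 1), (nat_lit 2)],
  [(nat_lit 0), (nat_lit 1), (nat_lit 0), (nat_lit 2), (nat_lit 1), (nat_lit 2), (nat_lit 1), (nat_lit 1), (nat_lit 1), (nat_lit 2)],
  [(nat_lit 1), (nat_lit 2), (nat_lit 1), (nat_lit 2), (nat_lit 1), (nat_lit 1), (nat_lit 0), (nat_lit 1), (nat_lit 2)],
  [(nat_lit 1), (nat_lit 0), (nat_lit 1), (nat_lit 1), (nat_lit 1), (nat_lit 0), (nat_lit 2), (nat_lit 1), (nat_lit 1), (nat_lit 1), (nat_lit 2), (nat_lit 1)],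
  [(nat_lit 0), (nat_lit 1), (nat_lit 1), (nat_lit 1), (nat_lit 1), (nat_lit 2), (nat_lit 1), (nat_lit 1), (nat_lit 1), (nat_lit 2), (nat_lit 1)],
  [(nat_lit 2), (nat_lit 1), (nat_lit 1), (nat_lit 1), (nat_lit 2), (nat_lit 1), (nat_lit 1), (nat_lit 1), (nat_lit 1)],
  [(nat_lit 1), (nat_lit 0), (nat_lit 1), (nat_lit 1), (nat_lit 2), (nat_lit 1), (nat_lit 1), (nat_lit 2), (nat_lit 1), (nat_lit 1)],
  [(nat_lit 0), (nat_lit 2), (nat_lit 1), (nat_lit 1), (nat_lit 0)],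
  [(nat_lit 2), (nat_lit 0), (nat_lit 1), (nat_lit 0), (nat_lit 1), (nat_lit 0)],
  [(nat_lit 1), (nat_lit 0), (nat_lit 2), (nat_lit 1), (nat_lit 2), (nat_lit 1), (nat_lit 1), (nat_lit 2), (nat_lit 1), (nat_lit 2)],
  [(nat_lit 0), (nat_lit 1), (nat_lit 1), (nat_lit 1), (nat_lit 0), (nat_lit 2), (nat_lit 1), (nat_lit 1), (nat_lit 2), (nat_lit 1), (nat_lit 1)],
  [(nat_lit 0), (nat_lit 2), (nat_lit 0), (nat_lit 1), (nat_lit 1)],
  [(nat_lit 2), (nat_lit 1), (nat_lit 0), (nat_lit 1)],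
  [(nat_lit 1), (nat_lit 1), (nat_lit 0), (nat_lit 2), (nat_lit 1)],
  [(nat_lit 1), (nat_lit 1), (nat_lit 2), (nat_lit 1), (nat_lit 0)],
  [(nat_lit 1), (nat_lit 1), (nat_lit 1), (nat_lit 0), (nat_lit 1), (nat_lit 0), (nat_lit 2), (nat_lit 1), (nat_lit 2), (nat_lit 1), (nat_lit 1)],
  [(nat_lit 1), (nat_lit 1), (nat_lit 0), (nat_lit 1), (nat_lit 1), (nat_lit 0), (nat_lit 2), (nat_lit 1), (nat_lit 2), (nat_lit 1), (nat_lit 1)],
  [(nat_lit 2), (nat_lit 0), (nat_lit 2), (nat_lit 1), (nat_lit 1), (nat_lit 2), (nat_lit 1)],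
  [(nat_lit 0), (nat_lit 1), (nat_lit 0), (nat_lit 1), (nat_lit 2), (nat_lit 1)],
  [(nat_lit 1), (nat_lit 1), (nat_lit 0), (nat_lit 1), (nat_lit 0), (nat_lit 1), (nat_lit 2), (nat_lit 1), (nat_lit 2), (nat_lit 1), (nat_lit 1)],
  [(nat_lit 1), (nat_lit 1), (nat_lit 1), (nat_lit 1), (nat_lit 2), (nat_lit 1), (nat_lit 2), (nat_lit 1), (nat_lit 1)],
  [(nat_lit 1), (nat_lit 1), (nat_lit 1), (nat_lit 0), (nat_lit 1), (nat_lit 0), (nat_lit 1), (nat_lit 2), (nat_lit 1), (nat_lit 2)],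
  [(nat_lit 1), (nat_lit 1), (nat_lit 0), (nat_lit 1), (nat_lit 1), (nat_lit 0), (nat_lit 1), (nat_lit 2), (nat_lit 1), (nat_lit 2)],
  [(nat_lit 2), (nat_lit 1), (nat_lit 0), (nat_lit 1), (nat_lit 1), (nat_lit 2), (nat_lit 1), (nat_lit 1), (nat_lit 1), (nat_lit 2)],
  [(nat_lit 1), (nat_lit 1), (nat_lit 1), (nat_lit 2), (nat_lit 1), (nat_lit 1), (nat_lit 2), (nat_lit 1), (nat_lit 2)],
  [(nat_lit 0), (nat_lit 2), (nat_lit 0), (nat_lit 1), (nat_lit 0), (nat_lit 2)],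
  [(nat_lit 2), (nat_lit 1), (nat_lit 2)],
  [(nat_lit 0), (nat_lit 2), (nat_lit 1), (nat_lit 1), (nat_lit 1), (nat_lit 0), (nat_lit 2), (nat_lit 1), (nat_lit 1), (nat_lit 1), (nat_lit 2)],
  [(nat_lit 0), (nat_lit 2), (nat_lit 1), (nat_lit 1), (nat_lit 0), (nat_lit 1), (nat_lit 2), (nat_lit 1), (nat_lit 1), (nat_lit 1), (nat_lit 2)],
  [(nat_lit 1), (nat_lit 0), (nat_lit 1), (nat_lit 1), (nat_lit 2), (nat_lit 1), (nat_lit 0), (nat_lit 1), (nat_lit 1), (nat_lit 1)],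
  [(nat_lit 0), (nat_lit 1), (nat_lit 1), (nat_lit 1), (nat_lit 2), (nat_lit 1), (nat_lit 1), (nat_lit 1), (nat_lit 1)],
  [(nat_lit 1), (nat_lit 0), (nat_lit 1), (nat_lit 0)],
  [(nat_lit 0), (nat_lit 2), (nat_lit 0), (nat_lit 2), (nat_lit 1), (nat_lit 1), (nat_lit 0)],
  [(nat_lit 1), (nat_lit 0), (nat_lit 1), (nat_lit 0), (nat_lit 1), (nat_lit 2), (nat_lit 1), (nat_lit 1), (nat_lit 1), (nat_lit 1)],
  [(nat_lit 1), (nat_lit 0), (nat_lit 1), (nat_lit 1), (nat_lit 0), (nat_lit 2), (nat_lit 1), (nat_lit 1), (nat_lit 1), (nat_lit 1)],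
  [(nat_lit 2), (nat_lit 0), (nat_lit 2), (nat_lit 1), (nat_lit 0), (nat_lit 1)],
  [(nat_lit 0), (nat_lit 1), (nat_lit 1)],
  [(nat_lit 0), (nat_lit 1), (nat_lit 0), (nat_lit 1), (nat_lit 1), (nat_lit 2), (nat_lit 1), (nat_lit 2), (nat_lit 1), (nat_lit 1), (nat_lit 1)],
  [(nat_lit 1), (nat_lit 1), (nat_lit 1), (nat_lit 2), (nat_lit 1), (nat_lit 0), (nat_lit 2), (nat_lit 1), (nat_lit 1), (nat_lit 1)],
  [(nat_lit 1), (nat_lit 1), (nat_lit 0), (nat_lit 1), (nat_lit 1), (nat_lit 2), (nat_lit 1), (nat_lit 1), (nat_lit 1)],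
  [(nat_lit 1), (nat_lit 1), (nat_lit 1), (nat_lit 0), (nat_lit 1), (nat_lit 2), (nat_lit 1), (nat_lit 1), (nat_lit 1)],
  [(nat_lit 1), (nat_lit 1), (nat_lit 1), (nat_lit 0), (nat_lit 2), (nat_lit 1), (nat_lit 2), (nat_lit 1), (nat_lit 1), (nat_lit 1)],
  [(nat_lit 0), (nat_lit 2), (nat_lit 1), (nat_lit 2), (nat_lit 1), (nat_lit 1), (nat_lit 1), (nat_lit 2), (nat_lit 1), (nat_lit 2)],
  [(nat_lit 1), (nat_lit 1), (nat_lit 1), (nat_lit 1), (nat_lit 0), (nat_lit 2), (nat_lit 1), (nat_lit 1), (nat_lit 1)],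
  [(nat_lit 0), (nat_lit 1), (nat_lit 0), (nat_lit 1), (nat_lit 1), (nat_lit 1), (nat_lit 2), (nat_lit 1), (nat_lit 1), (nat_lit 1)],
  [(nat_lit 0), (nat_lit 2), (nat_lit 1), (nat_lit 2), (nat_lit 1), (nat_lit 1), (nat_lit 1), (nat_lit 2), (nat_lit 1), (nat_lit 1)],
  [(nat_lit 0), (nat_lit 1), (nat_lit 2), (nat_lit 1), (nat_lit 2), (nat_lit 1), (nat_lit 1), (nat_lit 1), (nat_lit 2)],
  [(nat_lit 1), (nat_lit 1), (nat_lit 0), (nat_lit 2), (nat_lit 1), (nat_lit 1), (nat_lit 2), (nat_lit 1), (nat_lit 1), (nat_lit 1), (nat_lit 1)],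
  [(nat_lit 1), (nat_lit 1), (nat_lit 1), (nat_lit 1), (nat_lit 0), (nat_lit 2), (nat_lit 1), (nat_lit 1), (nat_lit 1), (nat_lit 2), (nat_lit 1)],
  [(nat_lit 1), (nat_lit 0), (nat_lit 2), (nat_lit 1), (nat_lit 0), (nat_lit 2), (nat_lit 1), (nat_lit 1), (nat_lit 1), (nat_lit 2)],
  [(nat_lit 1), (nat_lit 0), (nat_lit 2), (nat_lit 1), (nat_lit 2), (nat_lit 1), (nat_lit 0), (nat_lit 1), (nat_lit 1), (nat_lit 2)],
  [(nat_lit 1), (nat_lit 1), (nat_lit 1), (nat_lit 0), (nat_lit 1), (nat_lit 2), (nat_lit 1), (nat_lit 1), (nat_lit 1), (nat_lit 2), (nat_lit 1)],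
  [(nat_lit 1), (nat_lit 1), (nat_lit 0), (nat_lit 1), (nat_lit 1), (nat_lit 2), (nat_lit 1), (nat_lit 1), (nat_lit 1), (nat_lit 2), (nat_lit 1)],
  [(nat_lit 0), (nat_lit 2), (nat_lit 1), (nat_lit 1), (nat_lit 0), (nat_lit 1), (nat_lit 2), (nat_lit 1), (nat_lit 1), (nat_lit 1), (nat_lit 1)],
  [(nat_lit 1), (nat_lit 2), (nat_lit 1), (nat_lit 2), (nat_lit 1), (nat_lit 1), (nat_lit 2), (nat_lit 1), (nat_lit 2)],
  [(nat_lit 2), (nat_lit 1), (nat_lit 1)],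
  [(nat_lit 0), (nat_lit 2), (nat_lit 0), (nat_lit 1), (nat_lit 0), (nat_lit 1)],
  [(nat_lit 1), (nat_lit 1), (nat_lit 1), (nat_lit 2), (nat_lit 1), (nat_lit 1), (nat_lit 2), (nat_lit 1), (nat_lit 1)],
  [(nat_lit 2), (nat_lit 1), (nat_lit 0), (nat_lit 1), (nat_lit 1), (nat_lit 2), (nat_lit 1), (nat_lit 1), (nat_lit 1), (nat_lit 1)],
  [(nat_lit 2), (nat_lit 0), (nat_lit 1), (nat_lit 1), (nat_lit 0)],
  [(nat_lit 0), (nat_lit 2), (nat_lit 1), (nat_lit 0), (nat_lit 1), (nat_lit 0)],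
  [(nat_lit 0), (nat_lit 1), (nat_lit 1), (nat_lit 2), (nat_lit 1)],
  [(nat_lit 0), (nat_lit 1), (nat_lit 1), (nat_lit 0), (nat_lit 2), (nat_lit 1), (nat_lit 0)],
  [(nat_lit 1), (nat_lit 0), (nat_lit 1), (nat_lit 1), (nat_lit 1), (nat_lit 2), (nat_lit 1), (nat_lit 2), (nat_lit 1), (nat_lit 1)],
  [(nat_lit 0), (nat_lit 1), (nat_lit 1), (nat_lit 1), (nat_lit 1), (nat_lit 0), (nat_lit 2), (nat_lit 1), (nat_lit 2), (nat_lit 1), (nat_lit 1)],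
  [(nat_lit 1), (nat_lit 0), (nat_lit 1), (nat_lit 2), (nat_lit 1), (nat_lit 0)],
  [(nat_lit 1), (nat_lit 0), (nat_lit 1), (nat_lit 0), (nat_lit 2), (nat_lit 1)],
  [(nat_lit 0), (nat_lit 1), (nat_lit 1), (nat_lit 1), (nat_lit 0), (nat_lit 1), (nat_lit 2), (nat_lit 1), (nat_lit 2), (nat_lit 1), (nat_lit 1)],
  [(nat_lit 0), (nat_lit 1), (nat_lit 1), (nat_lit 0), (nat_lit 1), (nat_lit 1), (nat_lit 2), (nat_lit 1), (nat_lit 2), (nat_lit 1), (nat_lit 1)],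
  [(nat_lit 1), (nat_lit 0), (nat_lit 1), (nat_lit 0), (nat_lit 2), (nat_lit 1), (nat_lit 2), (nat_lit 1)],
  [(nat_lit 1), (nat_lit 2), (nat_lit 1), (nat_lit 1), (nat_lit 2), (nat_lit 1), (nat_lit 0), (nat_lit 1), (nat_lit 2)],
  [(nat_lit 1), (nat_lit 0), (nat_lit 1), (nat_lit 2), (nat_lit 1), (nat_lit 0), (nat_lit 2), (nat_lit 1)],
  [(nat_lit 0), (nat_lit 1), (nat_lit 0), (nat_lit 2), (nat_lit 1), (nat_lit 1), (nat_lit 2), (nat_lit 1), (nat_lit 1), (nat_lit 2)],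
  [(nat_lit 1), (nat_lit 0), (nat_lit 1), (nat_lit 2), (nat_lit 1), (nat_lit 2), (nat_lit 1), (nat_lit 0)],
  [(nat_lit 1), (nat_lit 2), (nat_lit 1), (nat_lit 0), (nat_lit 1), (nat_lit 2), (nat_lit 1), (nat_lit 1), (nat_lit 2)],
  [(nat_lit 0), (nat_lit 1), (nat_lit 1), (nat_lit 2), (nat_lit 1), (nat_lit 2), (nat_lit 1)],
  [(nat_lit 1), (nat_lit 2), (nat_lit 1), (nat_lit 1), (nat_lit 0), (nat_lit 2), (nat_lit 1), (nat_lit 1), (nat_lit 2)],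
  [(nat_lit 0), (nat_lit 1), (nat_lit 2), (nat_lit 1), (nat_lit 0), (nat_lit 1), (nat_lit 1), (nat_lit 2), (nat_lit 1), (nat_lit 2)],
  [(nat_lit 0), (nat_lit 1), (nat_lit 2), (nat_lit 1), (nat_lit 1), (nat_lit 0), (nat_lit 1), (nat_lit 2), (nat_lit 1), (nat_lit 2)],
  [(nat_lit 1), (nat_lit 0), (nat_lit 2), (nat_lit 1), (nat_lit 0), (nat_lit 2), (nat_lit 1), (nat_lit 1), (nat_lit 1), (nat_lit 1)],
  [(nat_lit 1), (nat_lit 0), (nat_lit 2), (nat_lit 1), (nat_lit 2), (nat_lit 1), (nat_lit 0), (nat_lit 1), (nat_lit 1), (nat_lit 1)],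
  [(nat_lit 2), (nat_lit 1), (nat_lit 1), (nat_lit 0), (nat_lit 2), (nat_lit 1), (nat_lit 0)],
  [(nat_lit 2), (nat_lit 1), (nat_lit 1), (nat_lit 2), (nat_lit 1)],
  [(nat_lit 1), (nat_lit 2), (nat_lit 1), (nat_lit 2), (nat_lit 1), (nat_lit 1), (nat_lit 2), (nat_lit 1), (nat_lit 1)],
  [(nat_lit 1), (nat_lit 2), (nat_lit 1), (nat_lit 0), (nat_lit 2), (nat_lit 1), (nat_lit 0), (nat_lit 1), (nat_lit 2), (nat_lit 1), (nat_lit 1)],
  [(nat_lit 0), (nat_lit 1), (nat_lit 2), (nat_lit 1), (nat_lit 1), (nat_lit 1), (nat_lit 0), (nat_lit 2), (nat_lit 1), (nat_lit 2)],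
  [(nat_lit 1), (nat_lit 0), (nat_lit 2), (nat_lit 1), (nat_lit 1), (nat_lit 1), (nat_lit 2), (nat_lit 1), (nat_lit 2)],
  [(nat_lit 1), (nat_lit 0), (nat_lit 2), (nat_lit 1), (nat_lit 2), (nat_lit 1), (nat_lit 1), (nat_lit 0), (nat_lit 1), (nat_lit 1)],
  [(nat_lit 0), (nat_lit 1), (nat_lit 2), (nat_lit 1), (nat_lit 2), (nat_lit 1), (nat_lit 1), (nat_lit 1), (nat_lit 1)],
  [(nat_lit 2), (nat_lit 0), (nat_lit 1), (nat_lit 1), (nat_lit 2), (nat_lit 1), (nat_lit 0)],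
  [(nat_lit 2), (nat_lit 0), (nat_lit 1), (nat_lit 1), (nat_lit 0), (nat_lit 2), (nat_lit 1)],
  [(nat_lit 1), (nat_lit 2), (nat_lit 1), (nat_lit 0), (nat_lit 2), (nat_lit 1), (nat_lit 1), (nat_lit 0), (nat_lit 2), (nat_lit 1), (nat_lit 1)],
  [(nat_lit 1), (nat_lit 1), (nat_lit 1), (nat_lit 2), (nat_lit 1), (nat_lit 1), (nat_lit 2), (nat_lit 1), (nat_lit 1), (nat_lit 2), (nat_lit 1)],
  [(nat_lit 0), (nat_lit 1), (nat_lit 0), (nat_lit 1), (nat_lit 2), (nat_lit 1), (nat_lit 2), (nat_lit 1)],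
  [(nat_lit 1), (nat_lit 0), (nat_lit 2), (nat_lit 1), (nat_lit 1), (nat_lit 0), (nat_lit 2), (nat_lit 1), (nat_lit 1), (nat_lit 2)],
  [(nat_lit 1), (nat_lit 1), (nat_lit 2), (nat_lit 1), (nat_lit 2), (nat_lit 1), (nat_lit 0)],
  [(nat_lit 1), (nat_lit 0), (nat_lit 2), (nat_lit 1), (nat_lit 0), (nat_lit 1), (nat_lit 2), (nat_lit 1), (nat_lit 1), (nat_lit 2)],
  [(nat_lit 1), (nat_lit 1), (nat_lit 2), (nat_lit 1), (nat_lit 0), (nat_lit 2), (nat_lit 1)],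
  [(nat_lit 0), (nat_lit 1), (nat_lit 2), (nat_lit 1), (nat_lit 1), (nat_lit 2), (nat_lit 1), (nat_lit 1), (nat_lit 2)],
  [(nat_lit 1), (nat_lit 1), (nat_lit 0), (nat_lit 2), (nat_lit 1), (nat_lit 2), (nat_lit 1)],
  [(nat_lit 1), (nat_lit 0), (nat_lit 2), (nat_lit 1), (nat_lit 1), (nat_lit 2), (nat_lit 1), (nat_lit 0), (nat_lit 1), (nat_lit 2)],
  [(nat_lit 1), (nat_lit 2), (nat_lit 1), (nat_lit 1), (nat_lit 1), (nat_lit 2), (nat_lit 1), (nat_lit 2)],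
  [(nat_lit 1), (nat_lit 2), (nat_lit 1), (nat_lit 0), (nat_lit 1), (nat_lit 0), (nat_lit 1), (nat_lit 2), (nat_lit 1), (nat_lit 2)],
  [(nat_lit 0), (nat_lit 1), (nat_lit 0), (nat_lit 2), (nat_lit 1), (nat_lit 2), (nat_lit 1), (nat_lit 1), (nat_lit 1), (nat_lit 1)],
  [(nat_lit 1), (nat_lit 2), (nat_lit 1), (nat_lit 2), (nat_lit 1), (nat_lit 1), (nat_lit 0), (nat_lit 1), (nat_lit 1)],
  [(nat_lit 0), (nat_lit 2), (nat_lit 1), (nat_lit 1), (nat_lit 2), (nat_lit 1), (nat_lit 0)],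
  [(nat_lit 0), (nat_lit 2), (nat_lit 1), (nat_lit 1), (nat_lit 0), (nat_lit 2), (nat_lit 1)],
  [(nat_lit 0), (nat_lit 1), (nat_lit 2), (nat_lit 1), (nat_lit 0), (nat_lit 2), (nat_lit 1), (nat_lit 1), (nat_lit 2), (nat_lit 1), (nat_lit 1)],
  [(nat_lit 0), (nat_lit 1), (nat_lit 2), (nat_lit 1), (nat_lit 2), (nat_lit 1), (nat_lit 0), (nat_lit 1), (nat_lit 2), (nat_lit 1), (nat_lit 1)],
  [(nat_lit 1), (nat_lit 2), (nat_lit 1), (nat_lit 0), (nat_lit 1), (nat_lit 1), (nat_lit 0), (nat_lit 2), (nat_lit 1), (nat_lit 2)],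
  [(nat_lit 1), (nat_lit 2), (nat_lit 1), (nat_lit 1), (nat_lit 0), (nat_lit 1), (nat_lit 0), (nat_lit 2), (nat_lit 1), (nat_lit 2)],
  [(nat_lit 1), (nat_lit 2), (nat_lit 1), (nat_lit 2), (nat_lit 1), (nat_lit 0), (nat_lit 1), (nat_lit 1), (nat_lit 1)],
  [(nat_lit 1), (nat_lit 2), (nat_lit 1), (nat_lit 0), (nat_lit 2), (nat_lit 1), (nat_lit 1), (nat_lit 1), (nat_lit 1)],
  [(nat_lit 2), (nat_lit 1), (nat_lit 0), (nat_lit 1), (nat_lit 2), (nat_lit 1)],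
  [(nat_lit 0), (nat_lit 2), (nat_lit 0), (nat_lit 1), (nat_lit 1), (nat_lit 2), (nat_lit 1)],
  [(nat_lit 0), (nat_lit 1), (nat_lit 2), (nat_lit 1), (nat_lit 2), (nat_lit 1), (nat_lit 1), (nat_lit 0), (nat_lit 2), (nat_lit 1), (nat_lit 1)],
  [(nat_lit 1), (nat_lit 0), (nat_lit 2), (nat_lit 1), (nat_lit 2), (nat_lit 1), (nat_lit 1), (nat_lit 2), (nat_lit 1), (nat_lit 1)],
  [(nat_lit 1), (nat_lit 0), (nat_lit 1), (nat_lit 0), (nat_lit 2), (nat_lit 1), (nat_lit 2), (nat_lit 1), (nat_lit 1)],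
  [(nat_lit 1), (nat_lit 0), (nat_lit 1), (nat_lit 2), (nat_lit 1), (nat_lit 0), (nat_lit 2), (nat_lit 1), (nat_lit 1)],
  [(nat_lit 1), (nat_lit 2), (nat_lit 1), (nat_lit 1), (nat_lit 2), (nat_lit 1), (nat_lit 0), (nat_lit 1), (nat_lit 2), (nat_lit 1)],
  [(nat_lit 0), (nat_lit 1), (nat_lit 0), (nat_lit 2), (nat_lit 1), (nat_lit 1), (nat_lit 2), (nat_lit 1), (nat_lit 1), (nat_lit 2), (nat_lit 1)],
  [(nat_lit 1), (nat_lit 0), (nat_lit 1), (nat_lit 2), (nat_lit 1), (nat_lit 2), (nat_lit 1), (nat_lit 0), (nat_lit 1)],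
  [(nat_lit 0), (nat_lit 1), (nat_lit 1), (nat_lit 2), (nat_lit 1), (nat_lit 2), (nat_lit 1), (nat_lit 1)],
  [(nat_lit 1), (nat_lit 2), (nat_lit 1), (nat_lit 0), (nat_lit 1), (nat_lit 2), (nat_lit 1), (nat_lit 1), (nat_lit 2), (nat_lit 1)],
  [(nat_lit 1), (nat_lit 2), (nat_lit 1), (nat_lit 1), (nat_lit 0), (nat_lit 2), (nat_lit 1), (nat_lit 1), (nat_lit 2), (nat_lit 1)],
  [(nat_lit 0), (nat_lit 1), (nat_lit 1), (nat_lit 1), (nat_lit 2), (nat_lit 1), (nat_lit 1), (nat_lit 1), (nat_lit 2), (nat_lit 1), (nat_lit 2)],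
  [(nat_lit 0), (nat_lit 1), (nat_lit 2), (nat_lit 1), (nat_lit 1), (nat_lit 0), (nat_lit 1), (nat_lit 2), (nat_lit 1), (nat_lit 2), (nat_lit 1)],
  [(nat_lit 1), (nat_lit 0), (nat_lit 2), (nat_lit 1), (nat_lit 0), (nat_lit 2)],
  [(nat_lit 0), (nat_lit 2), (nat_lit 0), (nat_lit 2), (nat_lit 1), (nat_lit 2), (nat_lit 1), (nat_lit 0), (nat_lit 2)],
  [(nat_lit 0), (nat_lit 1), (nat_lit 2), (nat_lit 1), (nat_lit 1), (nat_lit 1), (nat_lit 0), (nat_lit 2), (nat_lit 1), (nat_lit 2), (nat_lit 1)],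
  [(nat_lit 1), (nat_lit 0), (nat_lit 2), (nat_lit 1), (nat_lit 1), (nat_lit 1), (nat_lit 2), (nat_lit 1), (nat_lit 2), (nat_lit 1)],
  [(nat_lit 2), (nat_lit 0), (nat_lit 2), (nat_lit 1), (nat_lit 0), (nat_lit 2), (nat_lit 1), (nat_lit 2)],
  [(nat_lit 0), (nat_lit 1), (nat_lit 2), (nat_lit 1), (nat_lit 2)],
  [(nat_lit 2), (nat_lit 1), (nat_lit 1), (nat_lit 0), (nat_lit 2), (nat_lit 1), (nat_lit 0), (nat_lit 1)],
  [(nat_lit 2), (nat_lit 1), (nat_lit 1), (nat_lit 2), (nat_lit 1), (nat_lit 1)],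
  [(nat_lit 1), (nat_lit 2), (nat_lit 1), (nat_lit 2), (nat_lit 1), (nat_lit 1), (nat_lit 2), (nat_lit 1), (nat_lit 1), (nat_lit 1)],
  [(nat_lit 1), (nat_lit 1), (nat_lit 1), (nat_lit 0), (nat_lit 1), (nat_lit 2), (nat_lit 1), (nat_lit 1), (nat_lit 2), (nat_lit 1), (nat_lit 2)],
  [(nat_lit 2), (nat_lit 0), (nat_lit 1), (nat_lit 1), (nat_lit 2), (nat_lit 1), (nat_lit 0), (nat_lit 1)],
  [(nat_lit 2), (nat_lit 0), (nat_lit 1), (nat_lit 1), (nat_lit 0), (nat_lit 2), (nat_lit 1), (nat_lit 1)],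
  [(nat_lit 1), (nat_lit 1), (nat_lit 1), (nat_lit 1), (nat_lit 0), (nat_lit 2), (nat_lit 1), (nat_lit 1), (nat_lit 2), (nat_lit 1), (nat_lit 2)],
  [(nat_lit 1), (nat_lit 2), (nat_lit 1), (nat_lit 1), (nat_lit 1), (nat_lit 2), (nat_lit 1), (nat_lit 1), (nat_lit 1), (nat_lit 2)],
  [(nat_lit 0), (nat_lit 2), (nat_lit 0), (nat_lit 1), (nat_lit 1), (nat_lit 2), (nat_lit 1), (nat_lit 2), (nat_lit 1), (nat_lit 1)],
  [(nat_lit 2), (nat_lit 1), (nat_lit 0), (nat_lit 1), (nat_lit 2), (nat_lit 1), (nat_lit 2), (nat_lit 1), (nat_lit 1)],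
  [(nat_lit 0), (nat_lit 1), (nat_lit 0), (nat_lit 2), (nat_lit 1), (nat_lit 1), (nat_lit 2), (nat_lit 1), (nat_lit 1), (nat_lit 2), (nat_lit 1), (nat_lit 2)],
  [(nat_lit 1), (nat_lit 2), (nat_lit 1), (nat_lit 1), (nat_lit 2), (nat_lit 1), (nat_lit 0), (nat_lit 1), (nat_lit 2), (nat_lit 1), (nat_lit 2)],
  [(nat_lit 0), (nat_lit 2), (nat_lit 1), (nat_lit 1), (nat_lit 0), (nat_lit 2), (nat_lit 1), (nat_lit 2), (nat_lit 1), (nat_lit 1)],
  [(nat_lit 0), (nat_lit 1), (nat_lit 1), (nat_lit 2), (nat_lit 1), (nat_lit 2), (nat_lit 1), (nat_lit 1), (nat_lit 2)],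
  [(nat_lit 1), (nat_lit 2), (nat_lit 1), (nat_lit 1), (nat_lit 0), (nat_lit 2), (nat_lit 1), (nat_lit 1), (nat_lit 2), (nat_lit 1), (nat_lit 2)],
  [(nat_lit 1), (nat_lit 2), (nat_lit 1), (nat_lit 0), (nat_lit 1), (nat_lit 2), (nat_lit 1), (nat_lit 1), (nat_lit 2), (nat_lit 1), (nat_lit 2)],
  [(nat_lit 0), (nat_lit 1), (nat_lit 1), (nat_lit 1), (nat_lit 2), (nat_lit 1), (nat_lit 1), (nat_lit 1), (nat_lit 2), (nat_lit 1)],
  [(nat_lit 0), (nat_lit 1), (nat_lit 2), (nat_lit 1), (nat_lit 1), (nat_lit 2), (nat_lit 1), (nat_lit 1), (nat_lit 1), (nat_lit 1)],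
  [(nat_lit 0), (nat_lit 2), (nat_lit 0), (nat_lit 2), (nat_lit 1), (nat_lit 2), (nat_lit 1), (nat_lit 0)],
  [(nat_lit 1), (nat_lit 0), (nat_lit 2), (nat_lit 1), (nat_lit 0)],
  [(nat_lit 1), (nat_lit 0), (nat_lit 1), (nat_lit 1), (nat_lit 0), (nat_lit 2), (nat_lit 1), (nat_lit 1), (nat_lit 1), (nat_lit 2), (nat_lit 1)],
  [(nat_lit 1), (nat_lit 0), (nat_lit 1), (nat_lit 0), (nat_lit 1), (nat_lit 2), (nat_lit 1), (nat_lit 1), (nat_lit 1), (nat_lit 2), (nat_lit 1)],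
  [(nat_lit 0), (nat_lit 1), (nat_lit 2), (nat_lit 1)],
  [(nat_lit 2), (nat_lit 0), (nat_lit 2), (nat_lit 1), (nat_lit 0), (nat_lit 2), (nat_lit 1)],
  [(nat_lit 2), (nat_lit 0), (nat_lit 1), (nat_lit 1), (nat_lit 2), (nat_lit 1), (nat_lit 0), (nat_lit 1), (nat_lit 2)],
  [(nat_lit 2), (nat_lit 0), (nat_lit 1), (nat_lit 1), (nat_lit 0), (nat_lit 2), (nat_lit 1), (nat_lit 1), (nat_lit 2)],
  [(nat_lit 1), (nat_lit 1), (nat_lit 1), (nat_lit 1), (nat_lit 0), (nat_lit 2), (nat_lit 1), (nat_lit 1), (nat_lit 2), (nat_lit 1)],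
  [(nat_lit 1), (nat_lit 2), (nat_lit 1), (nat_lit 1), (nat_lit 1), (nat_lit 2), (nat_lit 1), (nat_lit 1), (nat_lit 1)],
  [(nat_lit 2), (nat_lit 1), (nat_lit 1), (nat_lit 0), (nat_lit 2), (nat_lit 1), (nat_lit 0), (nat_lit 1), (nat_lit 2)],
  [(nat_lit 2), (nat_lit 1), (nat_lit 1), (nat_lit 2), (nat_lit 1), (nat_lit 1), (nat_lit 2)],
  [(nat_lit 1), (nat_lit 1), (nat_lit 0), (nat_lit 1), (nat_lit 1), (nat_lit 2), (nat_lit 1), (nat_lit 1), (nat_lit 2), (nat_lit 1)],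
  [(nat_lit 1), (nat_lit 1), (nat_lit 1), (nat_lit 0), (nat_lit 1), (nat_lit 2), (nat_lit 1), (nat_lit 1), (nat_lit 2), (nat_lit 1)],
  [(nat_lit 0), (nat_lit 1), (nat_lit 0), (nat_lit 1), (nat_lit 2), (nat_lit 1), (nat_lit 2), (nat_lit 1), (nat_lit 1)],
  [(nat_lit 1), (nat_lit 1), (nat_lit 2), (nat_lit 1), (nat_lit 2), (nat_lit 1), (nat_lit 0), (nat_lit 1)],
  [(nat_lit 1), (nat_lit 0), (nat_lit 2), (nat_lit 1), (nat_lit 1), (nat_lit 0), (nat_lit 2), (nat_lit 1), (nat_lit 1), (nat_lit 2), (nat_lit 1)],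
  [(nat_lit 1), (nat_lit 0), (nat_lit 2), (nat_lit 1), (nat_lit 0), (nat_lit 1), (nat_lit 2), (nat_lit 1), (nat_lit 1), (nat_lit 2), (nat_lit 1)],
  [(nat_lit 1), (nat_lit 1), (nat_lit 2), (nat_lit 1), (nat_lit 0), (nat_lit 2), (nat_lit 1), (nat_lit 1)],
  [(nat_lit 1), (nat_lit 1), (nat_lit 0), (nat_lit 2), (nat_lit 1), (nat_lit 2), (nat_lit 1), (nat_lit 1)],
  [(nat_lit 0), (nat_lit 1), (nat_lit 2), (nat_lit 1), (nat_lit 1), (nat_lit 2), (nat_lit 1), (nat_lit 1), (nat_lit 2), (nat_lit 1)],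
  [(nat_lit 1), (nat_lit 0), (nat_lit 2), (nat_lit 1), (nat_lit 1), (nat_lit 2), (nat_lit 1), (nat_lit 0), (nat_lit 1), (nat_lit 2), (nat_lit 1)],
  [(nat_lit 1), (nat_lit 2), (nat_lit 1), (nat_lit 1), (nat_lit 1), (nat_lit 2), (nat_lit 1), (nat_lit 2), (nat_lit 1)],
  [(nat_lit 1), (nat_lit 1), (nat_lit 1), (nat_lit 0), (nat_lit 2), (nat_lit 1), (nat_lit 1), (nat_lit 1), (nat_lit 2), (nat_lit 1), (nat_lit 2)],
  [(nat_lit 0), (nat_lit 1), (nat_lit 0), (nat_lit 2), (nat_lit 1), (nat_lit 2)],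
  [(nat_lit 2), (nat_lit 0), (nat_lit 2), (nat_lit 1), (nat_lit 2), (nat_lit 1), (nat_lit 2)],
  [(nat_lit 1), (nat_lit 1), (nat_lit 1), (nat_lit 2), (nat_lit 1), (nat_lit 0), (nat_lit 1), (nat_lit 1), (nat_lit 2), (nat_lit 1), (nat_lit 2)],
  [(nat_lit 1), (nat_lit 2), (nat_lit 1), (nat_lit 1), (nat_lit 0), (nat_lit 1), (nat_lit 0), (nat_lit 2), (nat_lit 1), (nat_lit 2), (nat_lit 1)],
  [(nat_lit 0), (nat_lit 2), (nat_lit 0), (nat_lit 2), (nat_lit 1), (nat_lit 0), (nat_lit 2), (nat_lit 1), (nat_lit 0), (nat_lit 2)],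
  [(nat_lit 1), (nat_lit 2), (nat_lit 1), (nat_lit 0), (nat_lit 2)],
  [(nat_lit 0), (nat_lit 2), (nat_lit 1), (nat_lit 1), (nat_lit 2), (nat_lit 1), (nat_lit 0), (nat_lit 1)],
  [(nat_lit 0), (nat_lit 2), (nat_lit 1), (nat_lit 1), (nat_lit 0), (nat_lit 2), (nat_lit 1), (nat_lit 1)],
  [(nat_lit 0), (nat_lit 1), (nat_lit 1), (nat_lit 1), (nat_lit 1), (nat_lit 2), (nat_lit 1), (nat_lit 1), (nat_lit 2), (nat_lit 1), (nat_lit 2)],
  [(nat_lit 0), (nat_lit 1), (nat_lit 2), (nat_lit 1), (nat_lit 1), (nat_lit 1), (nat_lit 0), (nat_lit 2), (nat_lit 1), (nat_lit 1), (nat_lit 1), (nat_lit 2)],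
  [(nat_lit 2), (nat_lit 1), (nat_lit 0), (nat_lit 1), (nat_lit 2), (nat_lit 1), (nat_lit 1)],
  [(nat_lit 0), (nat_lit 2), (nat_lit 0), (nat_lit 1), (nat_lit 1), (nat_lit 2), (nat_lit 1), (nat_lit 1)],
  [(nat_lit 0), (nat_lit 1), (nat_lit 2), (nat_lit 1), (nat_lit 1), (nat_lit 0), (nat_lit 1), (nat_lit 2), (nat_lit 1), (nat_lit 1), (nat_lit 1), (nat_lit 2)],
  [(nat_lit 1), (nat_lit 0), (nat_lit 2), (nat_lit 1), (nat_lit 2), (nat_lit 1), (nat_lit 1), (nat_lit 2), (nat_lit 1), (nat_lit 1), (nat_lit 1)],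
  [(nat_lit 0), (nat_lit 1), (nat_lit 0), (nat_lit 1), (nat_lit 2), (nat_lit 1), (nat_lit 2), (nat_lit 1), (nat_lit 1), (nat_lit 2)],
  [(nat_lit 1), (nat_lit 1), (nat_lit 2), (nat_lit 1), (nat_lit 2), (nat_lit 1), (nat_lit 0), (nat_lit 1), (nat_lit 2)],
  [(nat_lit 1), (nat_lit 0), (nat_lit 2), (nat_lit 1), (nat_lit 0), (nat_lit 1), (nat_lit 2), (nat_lit 1), (nat_lit 1), (nat_lit 2), (nat_lit 1), (nat_lit 2)],
  [(nat_lit 2), (nat_lit 1), (nat_lit 2), (nat_lit 1), (nat_lit 1), (nat_lit 2), (nat_lit 1), (nat_lit 1), (nat_lit 2), (nat_lit 1)],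
  [(nat_lit 2), (nat_lit 1), (nat_lit 1), (nat_lit 2), (nat_lit 1), (nat_lit 2), (nat_lit 1), (nat_lit 1)],
  [(nat_lit 1), (nat_lit 1), (nat_lit 0), (nat_lit 2), (nat_lit 1), (nat_lit 2), (nat_lit 1), (nat_lit 1), (nat_lit 2)],
  [(nat_lit 1), (nat_lit 0), (nat_lit 2), (nat_lit 1), (nat_lit 1), (nat_lit 2), (nat_lit 1), (nat_lit 0), (nat_lit 1), (nat_lit 2), (nat_lit 1), (nat_lit 2)],
  [(nat_lit 0), (nat_lit 1), (nat_lit 2), (nat_lit 1), (nat_lit 1), (nat_lit 2), (nat_lit 1), (nat_lit 1), (nat_lit 2), (nat_lit 1), (nat_lit 2)],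
  [(nat_lit 1), (nat_lit 1), (nat_lit 0), (nat_lit 1), (nat_lit 2), (nat_lit 1), (nat_lit 1), (nat_lit 1), (nat_lit 2), (nat_lit 1)],
  [(nat_lit 1), (nat_lit 1), (nat_lit 1), (nat_lit 0), (nat_lit 2), (nat_lit 1), (nat_lit 1), (nat_lit 1), (nat_lit 2), (nat_lit 1)],
  [(nat_lit 2), (nat_lit 0), (nat_lit 2), (nat_lit 1), (nat_lit 2), (nat_lit 1)],
  [(nat_lit 0), (nat_lit 1), (nat_lit 0), (nat_lit 2), (nat_lit 1)],
  [(nat_lit 1), (nat_lit 1), (nat_lit 1), (nat_lit 2), (nat_lit 1), (nat_lit 0), (nat_lit 1), (nat_lit 1), (nat_lit 2), (nat_lit 1)],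
  [(nat_lit 1), (nat_lit 2), (nat_lit 1), (nat_lit 1), (nat_lit 2), (nat_lit 1), (nat_lit 0), (nat_lit 1), (nat_lit 1), (nat_lit 1)],
  [(nat_lit 1), (nat_lit 2), (nat_lit 1), (nat_lit 0)],
  [(nat_lit 0), (nat_lit 2), (nat_lit 0), (nat_lit 2), (nat_lit 1), (nat_lit 0), (nat_lit 2), (nat_lit 1), (nat_lit 0)],
  [(nat_lit 2), (nat_lit 1), (nat_lit 0), (nat_lit 1), (nat_lit 2), (nat_lit 1), (nat_lit 1), (nat_lit 2)],
  [(nat_lit 0), (nat_lit 2), (nat_lit 0), (nat_lit 1), (nat_lit 1), (nat_lit 2), (nat_lit 1), (nat_lit 1), (nat_lit 2)],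
  [(nat_lit 0), (nat_lit 1), (nat_lit 2), (nat_lit 1), (nat_lit 1), (nat_lit 0), (nat_lit 1), (nat_lit 2), (nat_lit 1), (nat_lit 1), (nat_lit 1)],
  [(nat_lit 0), (nat_lit 1), (nat_lit 2), (nat_lit 1), (nat_lit 0), (nat_lit 1), (nat_lit 1), (nat_lit 2), (nat_lit 1), (nat_lit 1), (nat_lit 1)],
  [(nat_lit 0), (nat_lit 2), (nat_lit 1), (nat_lit 1), (nat_lit 2), (nat_lit 1), (nat_lit 0), (nat_lit 1), (nat_lit 2)],
  [(nat_lit 0), (nat_lit 2), (nat_lit 1), (nat_lit 1), (nat_lit 0), (nat_lit 2), (nat_lit 1), (nat_lit 1), (nat_lit 2)],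
  [(nat_lit 0), (nat_lit 1), (nat_lit 1), (nat_lit 1), (nat_lit 1), (nat_lit 2), (nat_lit 1), (nat_lit 1), (nat_lit 2), (nat_lit 1)],
  [(nat_lit 0), (nat_lit 1), (nat_lit 2), (nat_lit 1), (nat_lit 1), (nat_lit 1), (nat_lit 0), (nat_lit 2), (nat_lit 1), (nat_lit 1), (nat_lit 1)],
  [(nat_lit 0), (nat_lit 2), (nat_lit 1), (nat_lit 0), (nat_lit 2), (nat_lit 1), (nat_lit 1), (nat_lit 1), (nat_lit 2), (nat_lit 1), (nat_lit 2), (nat_lit 1)],
  [(nat_lit 2), (nat_lit 0), (nat_lit 1), (nat_lit 2), (nat_lit 1), (nat_lit 1), (nat_lit 1), (nat_lit 2), (nat_lit 1), (nat_lit 2), (nat_lit 1)],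
  [(nat_lit 0), (nat_lit 2), (nat_lit 0), (nat_lit 1), (nat_lit 2), (nat_lit 1), (nat_lit 2)],
  [(nat_lit 2), (nat_lit 1), (nat_lit 0), (nat_lit 2), (nat_lit 1), (nat_lit 2)],
  [(nat_lit 0), (nat_lit 1), (nat_lit 1), (nat_lit 1), (nat_lit 0), (nat_lit 2), (nat_lit 1), (nat_lit 1), (nat_lit 2), (nat_lit 1), (nat_lit 2), (nat_lit 1)],
  [(nat_lit 0), (nat_lit 1), (nat_lit 1), (nat_lit 0), (nat_lit 1), (nat_lit 2), (nat_lit 1), (nat_lit 1), (nat_lit 2), (nat_lit 1), (nat_lit 2), (nat_lit 1)],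
  [(nat_lit 2), (nat_lit 1), (nat_lit 0), (nat_lit 2), (nat_lit 1)],
  [(nat_lit 0), (nat_lit 2), (nat_lit 0), (nat_lit 1), (nat_lit 2), (nat_lit 1)],
  [(nat_lit 2), (nat_lit 1), (nat_lit 2), (nat_lit 1), (nat_lit 1), (nat_lit 0), (nat_lit 1), (nat_lit 2), (nat_lit 1), (nat_lit 2), (nat_lit 1)],
  [(nat_lit 0), (nat_lit 1), (nat_lit 1), (nat_lit 1), (nat_lit 2), (nat_lit 1), (nat_lit 2), (nat_lit 1), (nat_lit 1), (nat_lit 1), (nat_lit 1)],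
  [(nat_lit 0), (nat_lit 2), (nat_lit 1), (nat_lit 2), (nat_lit 1), (nat_lit 0), (nat_lit 2)],
  [(nat_lit 2), (nat_lit 0), (nat_lit 1), (nat_lit 0), (nat_lit 2), (nat_lit 1), (nat_lit 0), (nat_lit 2)],
  [(nat_lit 2), (nat_lit 1), (nat_lit 2), (nat_lit 1), (nat_lit 1), (nat_lit 2), (nat_lit 1), (nat_lit 1), (nat_lit 1), (nat_lit 1)],
  [(nat_lit 2), (nat_lit 1), (nat_lit 1), (nat_lit 1), (nat_lit 2), (nat_lit 1), (nat_lit 1), (nat_lit 1), (nat_lit 2), (nat_lit 1)],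
  [(nat_lit 2), (nat_lit 0), (nat_lit 1), (nat_lit 0), (nat_lit 2), (nat_lit 1), (nat_lit 0)],
  [(nat_lit 0), (nat_lit 2), (nat_lit 1), (nat_lit 2), (nat_lit 1), (nat_lit 0)],
  [(nat_lit 0), (nat_lit 1), (nat_lit 0), (nat_lit 1), (nat_lit 1)],
  [(nat_lit 1), (nat_lit 1), (nat_lit 1), (nat_lit 0), (nat_lit 2)],
  [(nat_lit 2), (nat_lit 0), (nat_lit 2), (nat_lit 1), (nat_lit 1), (nat_lit 1)],
  [(nat_lit 1), (nat_lit 1), (nat_lit 0), (nat_lit 1), (nat_lit 2)],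
  [(nat_lit 1), (nat_lit 1), (nat_lit 1), (nat_lit 0)],
  [(nat_lit 0), (nat_lit 1), (nat_lit 0), (nat_lit 1), (nat_lit 1), (nat_lit 2)],
  [(nat_lit 1), (nat_lit 1), (nat_lit 0), (nat_lit 1)],
  [(nat_lit 2), (nat_lit 0), (nat_lit 2), (nat_lit 1), (nat_lit 1), (nat_lit 1), (nat_lit 2)],
  [(nat_lit 0), (nat_lit 1), (nat_lit 0), (nat_lit 1), (nat_lit 1), (nat_lit 2), (nat_lit 1), (nat_lit 2), (nat_lit 1), (nat_lit 1), (nat_lit 1), (nat_lit 1)],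
  [(nat_lit 1), (nat_lit 1), (nat_lit 1), (nat_lit 2), (nat_lit 1), (nat_lit 0), (nat_lit 2), (nat_lit 1), (nat_lit 1), (nat_lit 1), (nat_lit 1)],
  [(nat_lit 2), (nat_lit 0), (nat_lit 1), (nat_lit 2), (nat_lit 1), (nat_lit 0), (nat_lit 2)],
  [(nat_lit 0), (nat_lit 2), (nat_lit 1), (nat_lit 0), (nat_lit 2), (nat_lit 1), (nat_lit 0), (nat_lit 2)],
  [(nat_lit 2), (nat_lit 1), (nat_lit 0), (nat_lit 1), (nat_lit 1), (nat_lit 2), (nat_lit 1), (nat_lit 1), (nat_lit 1), (nat_lit 2), (nat_lit 1)],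
  [(nat_lit 1), (nat_lit 1), (nat_lit 1), (nat_lit 2), (nat_lit 1), (nat_lit 1), (nat_lit 2), (nat_lit 1), (nat_lit 2), (nat_lit 1)],
  [(nat_lit 0), (nat_lit 2), (nat_lit 1), (nat_lit 0), (nat_lit 2), (nat_lit 1), (nat_lit 0)],
  [(nat_lit 2), (nat_lit 0), (nat_lit 1), (nat_lit 2), (nat_lit 1), (nat_lit 0)],
  [(nat_lit 1), (nat_lit 1), (nat_lit 1), (nat_lit 0), (nat_lit 2), (nat_lit 1), (nat_lit 2), (nat_lit 1), (nat_lit 1), (nat_lit 1), (nat_lit 1)],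
  [(nat_lit 0), (nat_lit 2), (nat_lit 1), (nat_lit 2), (nat_lit 1), (nat_lit 1), (nat_lit 1), (nat_lit 2), (nat_lit 1), (nat_lit 2), (nat_lit 1)],
  [(nat_lit 2), (nat_lit 1), (nat_lit 2), (nat_lit 1), (nat_lit 2)],
  [(nat_lit 0), (nat_lit 2), (nat_lit 0), (nat_lit 1), (nat_lit 0), (nat_lit 2), (nat_lit 1), (nat_lit 2)],
  [(nat_lit 0), (nat_lit 2), (nat_lit 1), (nat_lit 1), (nat_lit 1), (nat_lit 0), (nat_lit 2), (nat_lit 1), (nat_lit 1), (nat_lit 1), (nat_lit 2), (nat_lit 1)],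
  [(nat_lit 0), (nat_lit 2), (nat_lit 1), (nat_lit 1), (nat_lit 0), (nat_lit 1), (nat_lit 2), (nat_lit 1), (nat_lit 1), (nat_lit 1), (nat_lit 2), (nat_lit 1)],
  [(nat_lit 0), (nat_lit 2), (nat_lit 0), (nat_lit 1), (nat_lit 0), (nat_lit 2), (nat_lit 1)],
  [(nat_lit 2), (nat_lit 1), (nat_lit 2), (nat_lit 1)],
  [(nat_lit 1), (nat_lit 0), (nat_lit 1), (nat_lit 0), (nat_lit 1)],
  [(nat_lit 0), (nat_lit 1), (nat_lit 1), (nat_lit 0), (nat_lit 1), (nat_lit 0), (nat_lit 2)],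
  [(nat_lit 1), (nat_lit 0), (nat_lit 1), (nat_lit 1), (nat_lit 0)],
  [(nat_lit 0), (nat_lit 1), (nat_lit 1), (nat_lit 1), (nat_lit 2)],
  [(nat_lit 0), (nat_lit 1), (nat_lit 1), (nat_lit 0), (nat_lit 1), (nat_lit 0)],
  [(nat_lit 1), (nat_lit 0), (nat_lit 1), (nat_lit 0), (nat_lit 1), (nat_lit 2)],
  [(nat_lit 0), (nat_lit 1), (nat_lit 1), (nat_lit 1)],
  [(nat_lit 1), (nat_lit 0), (nat_lit 1), (nat_lit 1), (nat_lit 0), (nat_lit 2)],
  [(nat_lit 1), (nat_lit 1), (nat_lit 0), (nat_lit 2), (nat_lit 1), (nat_lit 1)],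
  [(nat_lit 1), (nat_lit 1), (nat_lit 2), (nat_lit 1), (nat_lit 0), (nat_lit 1)],
  [(nat_lit 0), (nat_lit 2), (nat_lit 1), (nat_lit 2), (nat_lit 1), (nat_lit 1), (nat_lit 1), (nat_lit 2), (nat_lit 1), (nat_lit 1), (nat_lit 1), (nat_lit 2)],
  [(nat_lit 0), (nat_lit 1), (nat_lit 2), (nat_lit 1), (nat_lit 2), (nat_lit 1), (nat_lit 1), (nat_lit 1), (nat_lit 2), (nat_lit 1), (nat_lit 2)],
  [(nat_lit 0), (nat_lit 1), (nat_lit 1), (nat_lit 2), (nat_lit 1), (nat_lit 1), (nat_lit 2)],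
  [(nat_lit 1), (nat_lit 0), (nat_lit 1), (nat_lit 2), (nat_lit 1), (nat_lit 1), (nat_lit 0), (nat_lit 2)],
  [(nat_lit 1), (nat_lit 2), (nat_lit 1), (nat_lit 2), (nat_lit 1), (nat_lit 0), (nat_lit 1), (nat_lit 1), (nat_lit 2), (nat_lit 1)],
  [(nat_lit 1), (nat_lit 2), (nat_lit 1), (nat_lit 0), (nat_lit 2), (nat_lit 1), (nat_lit 1), (nat_lit 1), (nat_lit 2), (nat_lit 1)],
  [(nat_lit 1), (nat_lit 1), (nat_lit 2), (nat_lit 1), (nat_lit 1), (nat_lit 0)],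
  [(nat_lit 0), (nat_lit 1), (nat_lit 0), (nat_lit 1), (nat_lit 2), (nat_lit 1), (nat_lit 1)],
  [(nat_lit 1), (nat_lit 0), (nat_lit 2), (nat_lit 1), (nat_lit 0), (nat_lit 2), (nat_lit 1), (nat_lit 1), (nat_lit 1), (nat_lit 2), (nat_lit 1), (nat_lit 2)],
  [(nat_lit 1), (nat_lit 1), (nat_lit 1), (nat_lit 1), (nat_lit 2), (nat_lit 1), (nat_lit 2), (nat_lit 1), (nat_lit 1), (nat_lit 1)],
  [(nat_lit 1), (nat_lit 0), (nat_lit 1), (nat_lit 2), (nat_lit 1), (nat_lit 0), (nat_lit 1), (nat_lit 2)],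
  [(nat_lit 1), (nat_lit 0), (nat_lit 1), (nat_lit 0), (nat_lit 2), (nat_lit 1), (nat_lit 1), (nat_lit 2)],
  [(nat_lit 0), (nat_lit 1), (nat_lit 0), (nat_lit 2), (nat_lit 1), (nat_lit 2), (nat_lit 1), (nat_lit 1), (nat_lit 1), (nat_lit 2), (nat_lit 1)],
  [(nat_lit 1), (nat_lit 2), (nat_lit 1), (nat_lit 2), (nat_lit 1), (nat_lit 1), (nat_lit 0), (nat_lit 1), (nat_lit 2), (nat_lit 1)],
  [(nat_lit 0), (nat_lit 2), (nat_lit 1), (nat_lit 1), (nat_lit 0), (nat_lit 1)],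
  [(nat_lit 2), (nat_lit 1), (nat_lit 1), (nat_lit 1), (nat_lit 2)],
  [(nat_lit 0), (nat_lit 2), (nat_lit 1), (nat_lit 1), (nat_lit 1), (nat_lit 0)],
  [(nat_lit 2), (nat_lit 1), (nat_lit 1), (nat_lit 0), (nat_lit 1), (nat_lit 0), (nat_lit 2)],
  [(nat_lit 0), (nat_lit 2), (nat_lit 0), (nat_lit 1), (nat_lit 1), (nat_lit 1)],
  [(nat_lit 2), (nat_lit 0), (nat_lit 1), (nat_lit 1), (nat_lit 0), (nat_lit 1), (nat_lit 2)],
  [(nat_lit 2), (nat_lit 1), (nat_lit 0), (nat_lit 1), (nat_lit 1)],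
  [(nat_lit 2), (nat_lit 0), (nat_lit 1), (nat_lit 1), (nat_lit 1), (nat_lit 0), (nat_lit 2)],
  [(nat_lit 0), (nat_lit 1), (nat_lit 1), (nat_lit 2), (nat_lit 1), (nat_lit 1)],
  [(nat_lit 1), (nat_lit 0), (nat_lit 1), (nat_lit 2), (nat_lit 1), (nat_lit 1), (nat_lit 0)],
  [(nat_lit 1), (nat_lit 0), (nat_lit 1), (nat_lit 1), (nat_lit 1), (nat_lit 2), (nat_lit 1), (nat_lit 2), (nat_lit 1), (nat_lit 1), (nat_lit 1)],
  [(nat_lit 1), (nat_lit 2), (nat_lit 1), (nat_lit 0), (nat_lit 2), (nat_lit 1), (nat_lit 1), (nat_lit 1), (nat_lit 2), (nat_lit 1), (nat_lit 2)],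
  [(nat_lit 1), (nat_lit 1), (nat_lit 0), (nat_lit 2), (nat_lit 1), (nat_lit 1), (nat_lit 2)],
  [(nat_lit 1), (nat_lit 1), (nat_lit 2), (nat_lit 1), (nat_lit 0), (nat_lit 1), (nat_lit 2)],
  [(nat_lit 0), (nat_lit 2), (nat_lit 1), (nat_lit 2), (nat_lit 1), (nat_lit 1), (nat_lit 1), (nat_lit 2), (nat_lit 1), (nat_lit 1), (nat_lit 1)],
  [(nat_lit 0), (nat_lit 1), (nat_lit 2), (nat_lit 1), (nat_lit 2), (nat_lit 1), (nat_lit 1), (nat_lit 1), (nat_lit 2), (nat_lit 1)],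
  [(nat_lit 1), (nat_lit 0), (nat_lit 1), (nat_lit 2), (nat_lit 1), (nat_lit 0), (nat_lit 1)],
  [(nat_lit 1), (nat_lit 0), (nat_lit 1), (nat_lit 0), (nat_lit 2), (nat_lit 1), (nat_lit 1)],
  [(nat_lit 0), (nat_lit 1), (nat_lit 0), (nat_lit 2), (nat_lit 1), (nat_lit 2), (nat_lit 1), (nat_lit 1), (nat_lit 1), (nat_lit 2), (nat_lit 1), (nat_lit 2)],
  [(nat_lit 1), (nat_lit 2), (nat_lit 1), (nat_lit 2), (nat_lit 1), (nat_lit 1), (nat_lit 0), (nat_lit 1), (nat_lit 2), (nat_lit 1), (nat_lit 2)],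
  [(nat_lit 1), (nat_lit 1), (nat_lit 2), (nat_lit 1), (nat_lit 1), (nat_lit 0), (nat_lit 2)],
  [(nat_lit 0), (nat_lit 1), (nat_lit 0), (nat_lit 1), (nat_lit 2), (nat_lit 1), (nat_lit 1), (nat_lit 2)],
  [(nat_lit 1), (nat_lit 0), (nat_lit 2), (nat_lit 1), (nat_lit 0), (nat_lit 2), (nat_lit 1), (nat_lit 1), (nat_lit 1), (nat_lit 2), (nat_lit 1)],
  [(nat_lit 1), (nat_lit 0), (nat_lit 2), (nat_lit 1), (nat_lit 2), (nat_lit 1), (nat_lit 0), (nat_lit 1), (nat_lit 1), (nat_lit 2), (nat_lit 1)],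
  [(nat_lit 2), (nat_lit 1), (nat_lit 1), (nat_lit 1)],
  [(nat_lit 0), (nat_lit 2), (nat_lit 1), (nat_lit 1), (nat_lit 0), (nat_lit 1), (nat_lit 2)],
  [(nat_lit 2), (nat_lit 1), (nat_lit 1), (nat_lit 0), (nat_lit 1), (nat_lit 0)],
  [(nat_lit 0), (nat_lit 2), (nat_lit 1), (nat_lit 1), (nat_lit 1), (nat_lit 0), (nat_lit 2)],
  [(nat_lit 2), (nat_lit 0), (nat_lit 1), (nat_lit 1), (nat_lit 0), (nat_lit 1)],
  [(nat_lit 0), (nat_lit 2), (nat_lit 0), (nat_lit 1), (nat_lit 1), (nat_lit 1), (nat_lit 2)],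
  [(nat_lit 2), (nat_lit 0), (nat_lit 1), (nat_lit 1), (nat_lit 1), (nat_lit 0)],
  [(nat_lit 2), (nat_lit 1), (nat_lit 0), (nat_lit 1), (nat_lit 1), (nat_lit 2)],
  [(nat_lit 0), (nat_lit 1), (nat_lit 1), (nat_lit 2), (nat_lit 1), (nat_lit 1), (nat_lit 1)],
  [(nat_lit 1), (nat_lit 0), (nat_lit 1), (nat_lit 2), (nat_lit 1), (nat_lit 1), (nat_lit 0), (nat_lit 1)],
  [(nat_lit 1), (nat_lit 2), (nat_lit 1), (nat_lit 0), (nat_lit 2), (nat_lit 1), (nat_lit 1), (nat_lit 1), (nat_lit 2), (nat_lit 1), (nat_lit 2), (nat_lit 1)],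
  [(nat_lit 1), (nat_lit 0), (nat_lit 1), (nat_lit 1), (nat_lit 1), (nat_lit 2), (nat_lit 1), (nat_lit 2), (nat_lit 1), (nat_lit 1), (nat_lit 1), (nat_lit 1)],
  [(nat_lit 1), (nat_lit 1), (nat_lit 0), (nat_lit 2), (nat_lit 1), (nat_lit 1), (nat_lit 2), (nat_lit 1)],
  [(nat_lit 1), (nat_lit 1), (nat_lit 2), (nat_lit 1), (nat_lit 0), (nat_lit 1), (nat_lit 2), (nat_lit 1)],
  [(nat_lit 0), (nat_lit 1), (nat_lit 2), (nat_lit 1), (nat_lit 2), (nat_lit 1), (nat_lit 1), (nat_lit 1), (nat_lit 2), (nat_lit 1), (nat_lit 1)],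
  [(nat_lit 1), (nat_lit 0), (nat_lit 1), (nat_lit 2), (nat_lit 1), (nat_lit 0), (nat_lit 2), (nat_lit 1), (nat_lit 1), (nat_lit 1), (nat_lit 2)],
  [(nat_lit 1), (nat_lit 0), (nat_lit 1), (nat_lit 2), (nat_lit 1), (nat_lit 0), (nat_lit 1), (nat_lit 1)],
  [(nat_lit 1), (nat_lit 0), (nat_lit 1), (nat_lit 0), (nat_lit 2), (nat_lit 1), (nat_lit 1), (nat_lit 1)],
  [(nat_lit 1), (nat_lit 2), (nat_lit 1), (nat_lit 2), (nat_lit 1), (nat_lit 1), (nat_lit 0), (nat_lit 1), (nat_lit 2), (nat_lit 1), (nat_lit 2), (nat_lit 1)],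
  [(nat_lit 0), (nat_lit 1), (nat_lit 0), (nat_lit 2), (nat_lit 1), (nat_lit 2), (nat_lit 1), (nat_lit 1), (nat_lit 1), (nat_lit 2), (nat_lit 1), (nat_lit 2), (nat_lit 1)],
  [(nat_lit 1), (nat_lit 1), (nat_lit 2), (nat_lit 1), (nat_lit 1), (nat_lit 0), (nat_lit 2), (nat_lit 1)],
  [(nat_lit 0), (nat_lit 1), (nat_lit 0), (nat_lit 1), (nat_lit 2), (nat_lit 1), (nat_lit 1), (nat_lit 2), (nat_lit 1)],
  [(nat_lit 1), (nat_lit 0), (nat_lit 1), (nat_lit 2), (nat_lit 1), (nat_lit 2), (nat_lit 1), (nat_lit 0), (nat_lit 1), (nat_lit 1), (nat_lit 2)],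
  [(nat_lit 0), (nat_lit 1), (nat_lit 1), (nat_lit 2), (nat_lit 1), (nat_lit 2), (nat_lit 1), (nat_lit 1), (nat_lit 1), (nat_lit 2)],
  [(nat_lit 2), (nat_lit 0), (nat_lit 1), (nat_lit 1), (nat_lit 0), (nat_lit 1), (nat_lit 1)],
  [(nat_lit 0), (nat_lit 2), (nat_lit 0), (nat_lit 1), (nat_lit 1), (nat_lit 1), (nat_lit 2), (nat_lit 1)],
  [(nat_lit 2), (nat_lit 0), (nat_lit 1), (nat_lit 1), (nat_lit 1), (nat_lit 0), (nat_lit 1)],
  [(nat_lit 2), (nat_lit 1), (nat_lit 0), (nat_lit 1), (nat_lit 1), (nat_lit 2), (nat_lit 1)],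
  [(nat_lit 2), (nat_lit 1), (nat_lit 1), (nat_lit 1), (nat_lit 1)],
  [(nat_lit 0), (nat_lit 2), (nat_lit 1), (nat_lit 1), (nat_lit 0), (nat_lit 1), (nat_lit 2), (nat_lit 1)],
  [(nat_lit 2), (nat_lit 1), (nat_lit 1), (nat_lit 0), (nat_lit 1), (nat_lit 0), (nat_lit 1)],
  [(nat_lit 0), (nat_lit 2), (nat_lit 1), (nat_lit 1), (nat_lit 1), (nat_lit 0), (nat_lit 2), (nat_lit 1)],
  [(nat_lit 0), (nat_lit 1), (nat_lit 1), (nat_lit 2), (nat_lit 1), (nat_lit 1), (nat_lit 1), (nat_lit 2)],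
  [(nat_lit 1), (nat_lit 0), (nat_lit 1), (nat_lit 2), (nat_lit 1), (nat_lit 1), (nat_lit 0), (nat_lit 1), (nat_lit 2)],
  [(nat_lit 1), (nat_lit 2), (nat_lit 1), (nat_lit 1), (nat_lit 1), (nat_lit 2), (nat_lit 1), (nat_lit 1), (nat_lit 1), (nat_lit 2), (nat_lit 1)],
  [(nat_lit 1), (nat_lit 1), (nat_lit 1), (nat_lit 1), (nat_lit 0), (nat_lit 2), (nat_lit 1), (nat_lit 1), (nat_lit 2), (nat_lit 1), (nat_lit 2), (nat_lit 1)],
  [(nat_lit 1), (nat_lit 1), (nat_lit 0), (nat_lit 2), (nat_lit 1), (nat_lit 1), (nat_lit 2), (nat_lit 1), (nat_lit 2)],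
  [(nat_lit 1), (nat_lit 1), (nat_lit 2), (nat_lit 1), (nat_lit 0), (nat_lit 1), (nat_lit 2), (nat_lit 1), (nat_lit 2)],
  [(nat_lit 1), (nat_lit 0), (nat_lit 1), (nat_lit 2), (nat_lit 1), (nat_lit 0), (nat_lit 2), (nat_lit 1), (nat_lit 1), (nat_lit 1)],
  [(nat_lit 1), (nat_lit 0), (nat_lit 1), (nat_lit 0), (nat_lit 2), (nat_lit 1), (nat_lit 2), (nat_lit 1), (nat_lit 1), (nat_lit 1)],
  [(nat_lit 1), (nat_lit 0), (nat_lit 1), (nat_lit 2), (nat_lit 1), (nat_lit 0), (nat_lit 1), (nat_lit 1), (nat_lit 2)],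
  [(nat_lit 2), (nat_lit 1), (nat_lit 1), (nat_lit 2), (nat_lit 1), (nat_lit 1), (nat_lit 1)],
  [(nat_lit 1), (nat_lit 1), (nat_lit 1), (nat_lit 0), (nat_lit 1), (nat_lit 2), (nat_lit 1), (nat_lit 1), (nat_lit 2), (nat_lit 1), (nat_lit 2), (nat_lit 1)],
  [(nat_lit 1), (nat_lit 2), (nat_lit 1), (nat_lit 2), (nat_lit 1), (nat_lit 1), (nat_lit 2), (nat_lit 1), (nat_lit 1), (nat_lit 1), (nat_lit 1)],
  [(nat_lit 1), (nat_lit 1), (nat_lit 2), (nat_lit 1), (nat_lit 1), (nat_lit 0), (nat_lit 2), (nat_lit 1), (nat_lit 2)],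
  [(nat_lit 0), (nat_lit 1), (nat_lit 0), (nat_lit 1), (nat_lit 2), (nat_lit 1), (nat_lit 1), (nat_lit 2), (nat_lit 1), (nat_lit 2)],
  [(nat_lit 0), (nat_lit 1), (nat_lit 1), (nat_lit 2), (nat_lit 1), (nat_lit 2), (nat_lit 1), (nat_lit 1), (nat_lit 1)],
  [(nat_lit 1), (nat_lit 0), (nat_lit 1), (nat_lit 2), (nat_lit 1), (nat_lit 2), (nat_lit 1), (nat_lit 0), (nat_lit 1), (nat_lit 1)],
  [(nat_lit 0), (nat_lit 1), (nat_lit 2), (nat_lit 1), (nat_lit 2), (nat_lit 1)],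
  [(nat_lit 0), (nat_lit 2), (nat_lit 1), (nat_lit 1), (nat_lit 0), (nat_lit 1), (nat_lit 2), (nat_lit 1), (nat_lit 2)],
  [(nat_lit 0), (nat_lit 1), (nat_lit 2), (nat_lit 1), (nat_lit 0), (nat_lit 2), (nat_lit 1), (nat_lit 0)],
  [(nat_lit 0), (nat_lit 2), (nat_lit 1), (nat_lit 1), (nat_lit 1), (nat_lit 0), (nat_lit 2), (nat_lit 1), (nat_lit 2)],
  [(nat_lit 1), (nat_lit 0), (nat_lit 2), (nat_lit 1), (nat_lit 2), (nat_lit 1), (nat_lit 0)],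
  [(nat_lit 0), (nat_lit 2), (nat_lit 0), (nat_lit 1), (nat_lit 1), (nat_lit 1), (nat_lit 2), (nat_lit 1), (nat_lit 2)],
  [(nat_lit 1), (nat_lit 0), (nat_lit 2), (nat_lit 1), (nat_lit 0), (nat_lit 2), (nat_lit 1)],
  [(nat_lit 2), (nat_lit 1), (nat_lit 0), (nat_lit 1), (nat_lit 1), (nat_lit 2), (nat_lit 1), (nat_lit 2)],
  [(nat_lit 2), (nat_lit 1), (nat_lit 1), (nat_lit 0), (nat_lit 2), (nat_lit 1), (nat_lit 0), (nat_lit 1), (nat_lit 2), (nat_lit 1)],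
  [(nat_lit 2), (nat_lit 1), (nat_lit 1), (nat_lit 2), (nat_lit 1), (nat_lit 1), (nat_lit 2), (nat_lit 1)],
  [(nat_lit 1), (nat_lit 1), (nat_lit 1), (nat_lit 0), (nat_lit 1), (nat_lit 2), (nat_lit 1), (nat_lit 1), (nat_lit 2), (nat_lit 1), (nat_lit 1)],
  [(nat_lit 1), (nat_lit 1), (nat_lit 0), (nat_lit 1), (nat_lit 1), (nat_lit 2), (nat_lit 1), (nat_lit 1), (nat_lit 2), (nat_lit 1), (nat_lit 1)],
  [(nat_lit 2), (nat_lit 1), (nat_lit 1), (nat_lit 0), (nat_lit 2), (nat_lit 1), (nat_lit 0), (nat_lit 1), (nat_lit 2), (nat_lit 1), (nat_lit 2)],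
  [(nat_lit 2), (nat_lit 1), (nat_lit 1), (nat_lit 2), (nat_lit 1), (nat_lit 1), (nat_lit 2), (nat_lit 1), (nat_lit 2)],
  [(nat_lit 2), (nat_lit 1), (nat_lit 0), (nat_lit 1), (nat_lit 2), (nat_lit 1), (nat_lit 2), (nat_lit 1), (nat_lit 1), (nat_lit 1)],
  [(nat_lit 0), (nat_lit 2), (nat_lit 0), (nat_lit 1), (nat_lit 1), (nat_lit 2), (nat_lit 1), (nat_lit 2), (nat_lit 1), (nat_lit 1), (nat_lit 1)],
  [(nat_lit 2), (nat_lit 0), (nat_lit 1), (nat_lit 1), (nat_lit 2), (nat_lit 1), (nat_lit 0), (nat_lit 1), (nat_lit 2), (nat_lit 1)],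
  [(nat_lit 2), (nat_lit 0), (nat_lit 1), (nat_lit 1), (nat_lit 0), (nat_lit 2), (nat_lit 1), (nat_lit 1), (nat_lit 2), (nat_lit 1)],
  [(nat_lit 1), (nat_lit 2), (nat_lit 1), (nat_lit 1), (nat_lit 1), (nat_lit 2), (nat_lit 1), (nat_lit 1), (nat_lit 1), (nat_lit 1)],
  [(nat_lit 0), (nat_lit 1), (nat_lit 1), (nat_lit 2), (nat_lit 1), (nat_lit 2), (nat_lit 1), (nat_lit 1), (nat_lit 2), (nat_lit 1), (nat_lit 2)],
  [(nat_lit 2), (nat_lit 0), (nat_lit 1), (nat_lit 1), (nat_lit 2), (nat_lit 1), (nat_lit 0), (nat_lit 1), (nat_lit 2), (nat_lit 1), (nat_lit 2)],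
  [(nat_lit 2), (nat_lit 0), (nat_lit 1), (nat_lit 1), (nat_lit 0), (nat_lit 2), (nat_lit 1), (nat_lit 1), (nat_lit 2), (nat_lit 1), (nat_lit 2)],
  [(nat_lit 0), (nat_lit 1), (nat_lit 1), (nat_lit 2), (nat_lit 1), (nat_lit 2), (nat_lit 1), (nat_lit 1), (nat_lit 2), (nat_lit 1)],
  [(nat_lit 0), (nat_lit 2), (nat_lit 1), (nat_lit 1), (nat_lit 0), (nat_lit 2), (nat_lit 1), (nat_lit 2), (nat_lit 1), (nat_lit 1), (nat_lit 1)],
  [(nat_lit 0), (nat_lit 1), (nat_lit 2), (nat_lit 1), (nat_lit 0), (nat_lit 1), (nat_lit 0)],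
  [(nat_lit 1), (nat_lit 0), (nat_lit 2), (nat_lit 1), (nat_lit 0), (nat_lit 1), (nat_lit 2)],
  [(nat_lit 0), (nat_lit 1), (nat_lit 2), (nat_lit 1), (nat_lit 1)],
  [(nat_lit 1), (nat_lit 0), (nat_lit 2), (nat_lit 1), (nat_lit 1), (nat_lit 0), (nat_lit 2)],
  [(nat_lit 1), (nat_lit 0), (nat_lit 2), (nat_lit 1), (nat_lit 0), (nat_lit 1)],
  [(nat_lit 0), (nat_lit 1), (nat_lit 2), (nat_lit 1), (nat_lit 0), (nat_lit 1), (nat_lit 0), (nat_lit 2)],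
  [(nat_lit 1), (nat_lit 0), (nat_lit 2), (nat_lit 1), (nat_lit 1), (nat_lit 0)],
  [(nat_lit 0), (nat_lit 1), (nat_lit 2), (nat_lit 1), (nat_lit 1), (nat_lit 2)],
  [(nat_lit 1), (nat_lit 1), (nat_lit 0), (nat_lit 2), (nat_lit 1), (nat_lit 1), (nat_lit 1)],
  [(nat_lit 1), (nat_lit 1), (nat_lit 2), (nat_lit 1), (nat_lit 0), (nat_lit 1), (nat_lit 1)],
  [(nat_lit 0), (nat_lit 1), (nat_lit 2), (nat_lit 1), (nat_lit 2), (nat_lit 1), (nat_lit 1), (nat_lit 1), (nat_lit 2), (nat_lit 1), (nat_lit 2), (nat_lit 1)],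
  [(nat_lit 0), (nat_lit 2), (nat_lit 1), (nat_lit 2), (nat_lit 1), (nat_lit 1), (nat_lit 1), (nat_lit 2), (nat_lit 1), (nat_lit 1), (nat_lit 1), (nat_lit 2), (nat_lit 1)],
  [(nat_lit 0), (nat_lit 1), (nat_lit 1), (nat_lit 2), (nat_lit 1), (nat_lit 1), (nat_lit 2), (nat_lit 1)],
  [(nat_lit 1), (nat_lit 0), (nat_lit 1), (nat_lit 2), (nat_lit 1), (nat_lit 1), (nat_lit 0), (nat_lit 2), (nat_lit 1)],
  [(nat_lit 0), (nat_lit 1), (nat_lit 0), (nat_lit 1), (nat_lit 2), (nat_lit 1), (nat_lit 2), (nat_lit 1), (nat_lit 1), (nat_lit 1), (nat_lit 2)],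
  [(nat_lit 1), (nat_lit 1), (nat_lit 2), (nat_lit 1), (nat_lit 2), (nat_lit 1), (nat_lit 0), (nat_lit 1), (nat_lit 1), (nat_lit 2)],
  [(nat_lit 1), (nat_lit 1), (nat_lit 2), (nat_lit 1), (nat_lit 1), (nat_lit 0), (nat_lit 1)],
  [(nat_lit 0), (nat_lit 1), (nat_lit 0), (nat_lit 1), (nat_lit 2), (nat_lit 1), (nat_lit 1), (nat_lit 1)],
  [(nat_lit 1), (nat_lit 1), (nat_lit 1), (nat_lit 1), (nat_lit 2), (nat_lit 1), (nat_lit 2), (nat_lit 1), (nat_lit 1), (nat_lit 1), (nat_lit 1)],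
  [(nat_lit 1), (nat_lit 0), (nat_lit 2), (nat_lit 1), (nat_lit 0), (nat_lit 2), (nat_lit 1), (nat_lit 1), (nat_lit 1), (nat_lit 2), (nat_lit 1), (nat_lit 2), (nat_lit 1)],
  [(nat_lit 1), (nat_lit 0), (nat_lit 1), (nat_lit 2), (nat_lit 1), (nat_lit 0), (nat_lit 1), (nat_lit 2), (nat_lit 1)],
  [(nat_lit 1), (nat_lit 0), (nat_lit 1), (nat_lit 0), (nat_lit 2), (nat_lit 1), (nat_lit 1), (nat_lit 2), (nat_lit 1)],
  [(nat_lit 1), (nat_lit 1), (nat_lit 2), (nat_lit 1), (nat_lit 0), (nat_lit 2), (nat_lit 1), (nat_lit 1), (nat_lit 1), (nat_lit 2)],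
  [(nat_lit 1), (nat_lit 1), (nat_lit 0), (nat_lit 2), (nat_lit 1), (nat_lit 2), (nat_lit 1), (nat_lit 1), (nat_lit 1), (nat_lit 2)],
  [(nat_lit 0), (nat_lit 2), (nat_lit 0), (nat_lit 1), (nat_lit 1), (nat_lit 1), (nat_lit 1)],
  [(nat_lit 2), (nat_lit 0), (nat_lit 1), (nat_lit 1), (nat_lit 0), (nat_lit 1), (nat_lit 2), (nat_lit 1)],
  [(nat_lit 2), (nat_lit 1), (nat_lit 0), (nat_lit 1), (nat_lit 1), (nat_lit 1)],
  [(nat_lit 2), (nat_lit 0), (nat_lit 1), (nat_lit 1), (nat_lit 1), (nat_lit 0), (nat_lit 2), (nat_lit 1)],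
  [(nat_lit 0), (nat_lit 2), (nat_lit 1), (nat_lit 1), (nat_lit 0), (nat_lit 1), (nat_lit 1)],
  [(nat_lit 2), (nat_lit 1), (nat_lit 1), (nat_lit 1), (nat_lit 2), (nat_lit 1)],
  [(nat_lit 0), (nat_lit 2), (nat_lit 1), (nat_lit 1), (nat_lit 1), (nat_lit 0), (nat_lit 1)],
  [(nat_lit 2), (nat_lit 1), (nat_lit 1), (nat_lit 0), (nat_lit 1), (nat_lit 0), (nat_lit 2), (nat_lit 1)],
  [(nat_lit 1), (nat_lit 1), (nat_lit 0), (nat_lit 2), (nat_lit 1), (nat_lit 1), (nat_lit 1), (nat_lit 2)],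
  [(nat_lit 1), (nat_lit 1), (nat_lit 2), (nat_lit 1), (nat_lit 0), (nat_lit 1), (nat_lit 1), (nat_lit 2)],
  [(nat_lit 1), (nat_lit 0), (nat_lit 2), (nat_lit 1), (nat_lit 2), (nat_lit 1), (nat_lit 1), (nat_lit 2), (nat_lit 1), (nat_lit 1), (nat_lit 1), (nat_lit 1)],
  [(nat_lit 0), (nat_lit 1), (nat_lit 2), (nat_lit 1), (nat_lit 1), (nat_lit 0), (nat_lit 1), (nat_lit 2), (nat_lit 1), (nat_lit 1), (nat_lit 1), (nat_lit 2), (nat_lit 1)],
  [(nat_lit 0), (nat_lit 1), (nat_lit 1), (nat_lit 2), (nat_lit 1), (nat_lit 1), (nat_lit 2), (nat_lit 1), (nat_lit 2)],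
  [(nat_lit 1), (nat_lit 0), (nat_lit 1), (nat_lit 2), (nat_lit 1), (nat_lit 1), (nat_lit 0), (nat_lit 2), (nat_lit 1), (nat_lit 2)],
  [(nat_lit 1), (nat_lit 1), (nat_lit 2), (nat_lit 1), (nat_lit 2), (nat_lit 1), (nat_lit 0), (nat_lit 1), (nat_lit 1)],
  [(nat_lit 0), (nat_lit 1), (nat_lit 0), (nat_lit 1), (nat_lit 2), (nat_lit 1), (nat_lit 2), (nat_lit 1), (nat_lit 1), (nat_lit 1)],
  [(nat_lit 1), (nat_lit 1), (nat_lit 2), (nat_lit 1), (nat_lit 1), (nat_lit 0), (nat_lit 1), (nat_lit 2)],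
  [(nat_lit 0), (nat_lit 1), (nat_lit 0), (nat_lit 1), (nat_lit 2), (nat_lit 1), (nat_lit 1), (nat_lit 1), (nat_lit 2)],
  [(nat_lit 0), (nat_lit 1), (nat_lit 2), (nat_lit 1), (nat_lit 1), (nat_lit 1), (nat_lit 0), (nat_lit 2), (nat_lit 1), (nat_lit 1), (nat_lit 1), (nat_lit 2), (nat_lit 1)],
  [(nat_lit 0), (nat_lit 1), (nat_lit 1), (nat_lit 1), (nat_lit 1), (nat_lit 2), (nat_lit 1), (nat_lit 1), (nat_lit 2), (nat_lit 1), (nat_lit 2), (nat_lit 1)],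
  [(nat_lit 1), (nat_lit 0), (nat_lit 1), (nat_lit 2), (nat_lit 1), (nat_lit 0), (nat_lit 1), (nat_lit 2), (nat_lit 1), (nat_lit 2)],
  [(nat_lit 1), (nat_lit 0), (nat_lit 1), (nat_lit 0), (nat_lit 2), (nat_lit 1), (nat_lit 1), (nat_lit 2), (nat_lit 1), (nat_lit 2)],
  [(nat_lit 1), (nat_lit 1), (nat_lit 0), (nat_lit 2), (nat_lit 1), (nat_lit 2), (nat_lit 1), (nat_lit 1), (nat_lit 1)],
  [(nat_lit 1), (nat_lit 1), (nat_lit 2), (nat_lit 1), (nat_lit 0), (nat_lit 2), (nat_lit 1), (nat_lit 1), (nat_lit 1)],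
  [(nat_lit 1), (nat_lit 2), (nat_lit 1), (nat_lit 0), (nat_lit 2), (nat_lit 1)],
  [(nat_lit 2), (nat_lit 1), (nat_lit 1), (nat_lit 1), (nat_lit 2), (nat_lit 1), (nat_lit 2)],
  [(nat_lit 1), (nat_lit 2), (nat_lit 1), (nat_lit 2), (nat_lit 1), (nat_lit 0)],
  [(nat_lit 2), (nat_lit 1), (nat_lit 1), (nat_lit 0), (nat_lit 1), (nat_lit 0), (nat_lit 2), (nat_lit 1), (nat_lit 2)],
  [(nat_lit 0), (nat_lit 2), (nat_lit 0), (nat_lit 1), (nat_lit 1), (nat_lit 1), (nat_lit 1), (nat_lit 2)],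
  [(nat_lit 2), (nat_lit 0), (nat_lit 1), (nat_lit 1), (nat_lit 0), (nat_lit 1), (nat_lit 2), (nat_lit 1), (nat_lit 2)],
  [(nat_lit 0), (nat_lit 1), (nat_lit 0), (nat_lit 2), (nat_lit 1), (nat_lit 2), (nat_lit 1)],
  [(nat_lit 2), (nat_lit 0), (nat_lit 1), (nat_lit 1), (nat_lit 1), (nat_lit 0), (nat_lit 2), (nat_lit 1), (nat_lit 2)],
  [(nat_lit 0), (nat_lit 2), (nat_lit 1), (nat_lit 1), (nat_lit 2), (nat_lit 1), (nat_lit 0), (nat_lit 1), (nat_lit 2), (nat_lit 1)],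
  [(nat_lit 0), (nat_lit 2), (nat_lit 1), (nat_lit 1), (nat_lit 0), (nat_lit 2), (nat_lit 1), (nat_lit 1), (nat_lit 2), (nat_lit 1)],
  [(nat_lit 0), (nat_lit 1), (nat_lit 0), (nat_lit 1), (nat_lit 2), (nat_lit 1), (nat_lit 2), (nat_lit 1), (nat_lit 1), (nat_lit 2), (nat_lit 1), (nat_lit 2)],
  [(nat_lit 0), (nat_lit 1), (nat_lit 1), (nat_lit 1), (nat_lit 1), (nat_lit 2), (nat_lit 1), (nat_lit 1), (nat_lit 2), (nat_lit 1), (nat_lit 1)],
  [(nat_lit 0), (nat_lit 2), (nat_lit 1), (nat_lit 1), (nat_lit 2), (nat_lit 1), (nat_lit 0), (nat_lit 1), (nat_lit 2), (nat_lit 1), (nat_lit 2)],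
  [(nat_lit 0), (nat_lit 2), (nat_lit 1), (nat_lit 1), (nat_lit 0), (nat_lit 2), (nat_lit 1), (nat_lit 1), (nat_lit 2), (nat_lit 1), (nat_lit 2)],
  [(nat_lit 1), (nat_lit 1), (nat_lit 2), (nat_lit 1), (nat_lit 2), (nat_lit 1), (nat_lit 0), (nat_lit 1), (nat_lit 2), (nat_lit 1)],
  [(nat_lit 0), (nat_lit 1), (nat_lit 0), (nat_lit 1), (nat_lit 2), (nat_lit 1), (nat_lit 2), (nat_lit 1), (nat_lit 1), (nat_lit 2), (nat_lit 1)],
  [(nat_lit 2), (nat_lit 1), (nat_lit 0), (nat_lit 1), (nat_lit 2), (nat_lit 1), (nat_lit 1), (nat_lit 2), (nat_lit 1)],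
  [(nat_lit 0), (nat_lit 2), (nat_lit 0), (nat_lit 1), (nat_lit 1), (nat_lit 2), (nat_lit 1), (nat_lit 1), (nat_lit 2), (nat_lit 1)],
  [(nat_lit 2), (nat_lit 1), (nat_lit 1), (nat_lit 2), (nat_lit 1), (nat_lit 2), (nat_lit 1), (nat_lit 1), (nat_lit 1), (nat_lit 2)],
  [(nat_lit 1), (nat_lit 1), (nat_lit 0), (nat_lit 2), (nat_lit 1), (nat_lit 2), (nat_lit 1), (nat_lit 1), (nat_lit 2), (nat_lit 1), (nat_lit 2)],
  [(nat_lit 2), (nat_lit 1), (nat_lit 0), (nat_lit 1), (nat_lit 2), (nat_lit 1), (nat_lit 1), (nat_lit 2), (nat_lit 1), (nat_lit 2)],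
  [(nat_lit 0), (nat_lit 2), (nat_lit 0), (nat_lit 1), (nat_lit 1), (nat_lit 2), (nat_lit 1), (nat_lit 1), (nat_lit 2), (nat_lit 1), (nat_lit 2)],
  [(nat_lit 1), (nat_lit 1), (nat_lit 0), (nat_lit 2), (nat_lit 1), (nat_lit 2), (nat_lit 1), (nat_lit 1), (nat_lit 2), (nat_lit 1)],
  [(nat_lit 2), (nat_lit 1), (nat_lit 1), (nat_lit 2), (nat_lit 1), (nat_lit 2), (nat_lit 1), (nat_lit 1), (nat_lit 1)],
  [(nat_lit 1), (nat_lit 2), (nat_lit 1), (nat_lit 1), (nat_lit 0)],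
  [(nat_lit 0), (nat_lit 1), (nat_lit 0), (nat_lit 2), (nat_lit 1), (nat_lit 1), (nat_lit 2)],
  [(nat_lit 1), (nat_lit 2), (nat_lit 1), (nat_lit 0), (nat_lit 1)],
  [(nat_lit 2), (nat_lit 0), (nat_lit 2), (nat_lit 1), (nat_lit 2), (nat_lit 1), (nat_lit 1), (nat_lit 2)],
  [(nat_lit 0), (nat_lit 1), (nat_lit 0), (nat_lit 2), (nat_lit 1), (nat_lit 1)],
  [(nat_lit 1), (nat_lit 2), (nat_lit 1), (nat_lit 1), (nat_lit 0), (nat_lit 2)],
  [(nat_lit 2), (nat_lit 0), (nat_lit 2), (nat_lit 1), (nat_lit 2), (nat_lit 1), (nat_lit 1)],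
  [(nat_lit 1), (nat_lit 2), (nat_lit 1), (nat_lit 0), (nat_lit 1), (nat_lit 2)],
  [(nat_lit 1), (nat_lit 0), (nat_lit 1), (nat_lit 1), (nat_lit 1), (nat_lit 0)],
  [(nat_lit 1), (nat_lit 0), (nat_lit 1), (nat_lit 0), (nat_lit 1), (nat_lit 2), (nat_lit 1)],
  [(nat_lit 0), (nat_lit 1), (nat_lit 1), (nat_lit 1), (nat_lit 1)],
  [(nat_lit 1), (nat_lit 0), (nat_lit 1), (nat_lit 1), (nat_lit 0), (nat_lit 2), (nat_lit 1)],
  [(nat_lit 1), (nat_lit 1), (nat_lit 1), (nat_lit 0), (nat_lit 1), (nat_lit 2)],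
  [(nat_lit 0), (nat_lit 1), (nat_lit 0), (nat_lit 1), (nat_lit 1), (nat_lit 2), (nat_lit 1), (nat_lit 2)],
  [(nat_lit 1), (nat_lit 1), (nat_lit 0), (nat_lit 1), (nat_lit 1), (nat_lit 2)],
  [(nat_lit 1), (nat_lit 1), (nat_lit 1), (nat_lit 2), (nat_lit 1), (nat_lit 0), (nat_lit 2)],
  [(nat_lit 2), (nat_lit 0), (nat_lit 1), (nat_lit 2), (nat_lit 1), (nat_lit 0), (nat_lit 1)],
  [(nat_lit 0), (nat_lit 2), (nat_lit 0), (nat_lit 1), (nat_lit 2), (nat_lit 1), (nat_lit 1), (nat_lit 2)],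
  [(nat_lit 2), (nat_lit 0), (nat_lit 1), (nat_lit 2), (nat_lit 1), (nat_lit 1), (nat_lit 0)],
  [(nat_lit 2), (nat_lit 1), (nat_lit 0), (nat_lit 2), (nat_lit 1), (nat_lit 1), (nat_lit 2)],
  [(nat_lit 1), (nat_lit 0), (nat_lit 1), (nat_lit 0), (nat_lit 1), (nat_lit 1)],
  [(nat_lit 1), (nat_lit 0), (nat_lit 1), (nat_lit 1), (nat_lit 2), (nat_lit 1), (nat_lit 0)],
  [(nat_lit 1), (nat_lit 0), (nat_lit 1), (nat_lit 1), (nat_lit 0), (nat_lit 1)],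
  [(nat_lit 0), (nat_lit 1), (nat_lit 1), (nat_lit 1), (nat_lit 2), (nat_lit 1)],
  [(nat_lit 0), (nat_lit 1), (nat_lit 0), (nat_lit 1), (nat_lit 1), (nat_lit 1), (nat_lit 2)],
  [(nat_lit 1), (nat_lit 1), (nat_lit 1), (nat_lit 0), (nat_lit 2), (nat_lit 1), (nat_lit 2)],
  [(nat_lit 1), (nat_lit 1), (nat_lit 1), (nat_lit 1), (nat_lit 0), (nat_lit 2)],
  [(nat_lit 1), (nat_lit 1), (nat_lit 0), (nat_lit 1), (nat_lit 2), (nat_lit 1), (nat_lit 2)],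
  [(nat_lit 2), (nat_lit 1), (nat_lit 2), (nat_lit 1), (nat_lit 1)],
  [(nat_lit 0), (nat_lit 2), (nat_lit 1), (nat_lit 2), (nat_lit 1), (nat_lit 0), (nat_lit 1), (nat_lit 2)],
  [(nat_lit 2), (nat_lit 1), (nat_lit 2), (nat_lit 1), (nat_lit 0), (nat_lit 1), (nat_lit 0)],
  [(nat_lit 0), (nat_lit 2), (nat_lit 1), (nat_lit 2), (nat_lit 1), (nat_lit 1), (nat_lit 0), (nat_lit 2)],
  [(nat_lit 1), (nat_lit 1), (nat_lit 1), (nat_lit 0), (nat_lit 1)],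
  [(nat_lit 0), (nat_lit 1), (nat_lit 0), (nat_lit 1), (nat_lit 1), (nat_lit 2), (nat_lit 1)],
  [(nat_lit 1), (nat_lit 1), (nat_lit 0), (nat_lit 1), (nat_lit 1)],
  [(nat_lit 1), (nat_lit 1), (nat_lit 1), (nat_lit 2), (nat_lit 1), (nat_lit 0)],
  [(nat_lit 1), (nat_lit 0), (nat_lit 1), (nat_lit 1), (nat_lit 1), (nat_lit 0), (nat_lit 2)],
  [(nat_lit 1), (nat_lit 0), (nat_lit 1), (nat_lit 0), (nat_lit 1), (nat_lit 2), (nat_lit 1), (nat_lit 2)],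
  [(nat_lit 0), (nat_lit 1), (nat_lit 1), (nat_lit 1), (nat_lit 1), (nat_lit 2)],
  [(nat_lit 1), (nat_lit 0), (nat_lit 1), (nat_lit 1), (nat_lit 0), (nat_lit 2), (nat_lit 1), (nat_lit 2)],
  [(nat_lit 0), (nat_lit 2), (nat_lit 0), (nat_lit 1), (nat_lit 2), (nat_lit 1), (nat_lit 1)],
  [(nat_lit 2), (nat_lit 0), (nat_lit 1), (nat_lit 2), (nat_lit 1), (nat_lit 0), (nat_lit 1), (nat_lit 2)],
  [(nat_lit 2), (nat_lit 1), (nat_lit 0), (nat_lit 2), (nat_lit 1), (nat_lit 1)],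
  [(nat_lit 2), (nat_lit 0), (nat_lit 1), (nat_lit 2), (nat_lit 1), (nat_lit 1), (nat_lit 0), (nat_lit 2)],
  [(nat_lit 0), (nat_lit 1), (nat_lit 0), (nat_lit 1), (nat_lit 1), (nat_lit 1)],
  [(nat_lit 1), (nat_lit 1), (nat_lit 1), (nat_lit 0), (nat_lit 2), (nat_lit 1)],
  [(nat_lit 1), (nat_lit 1), (nat_lit 1), (nat_lit 1), (nat_lit 0)],
  [(nat_lit 1), (nat_lit 1), (nat_lit 0), (nat_lit 1), (nat_lit 2), (nat_lit 1)],
  [(nat_lit 1), (nat_lit 0), (nat_lit 1), (nat_lit 0), (nat_lit 1), (nat_lit 1), (nat_lit 2)],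
  [(nat_lit 1), (nat_lit 0), (nat_lit 1), (nat_lit 1), (nat_lit 2), (nat_lit 1), (nat_lit 0), (nat_lit 2)],
  [(nat_lit 1), (nat_lit 0), (nat_lit 1), (nat_lit 1), (nat_lit 0), (nat_lit 1), (nat_lit 2)],
  [(nat_lit 0), (nat_lit 1), (nat_lit 1), (nat_lit 1), (nat_lit 2), (nat_lit 1), (nat_lit 2)],
  [(nat_lit 0), (nat_lit 2), (nat_lit 1), (nat_lit 2), (nat_lit 1), (nat_lit 0), (nat_lit 1)],
  [(nat_lit 2), (nat_lit 1), (nat_lit 2), (nat_lit 1), (nat_lit 1), (nat_lit 2)],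
  [(nat_lit 0), (nat_lit 2), (nat_lit 1), (nat_lit 2), (nat_lit 1), (nat_lit 1), (nat_lit 0)],
  [(nat_lit 2), (nat_lit 1), (nat_lit 2), (nat_lit 1), (nat_lit 0), (nat_lit 1), (nat_lit 0), (nat_lit 2)],
  [(nat_lit 1), (nat_lit 1), (nat_lit 0), (nat_lit 1), (nat_lit 1), (nat_lit 0), (nat_lit 1), (nat_lit 1)],
  [(nat_lit 1), (nat_lit 1), (nat_lit 1), (nat_lit 0), (nat_lit 1), (nat_lit 0), (nat_lit 1), (nat_lit 1)],
  [(nat_lit 1), (nat_lit 1), (nat_lit 1), (nat_lit 2), (nat_lit 1), (nat_lit 1), (nat_lit 1)],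
  [(nat_lit 1), (nat_lit 1), (nat_lit 0), (nat_lit 1), (nat_lit 0), (nat_lit 2), (nat_lit 1), (nat_lit 1), (nat_lit 1)],
  [(nat_lit 0), (nat_lit 1), (nat_lit 1), (nat_lit 1), (nat_lit 1), (nat_lit 0), (nat_lit 2), (nat_lit 1), (nat_lit 1)],
  [(nat_lit 1), (nat_lit 0), (nat_lit 1), (nat_lit 1), (nat_lit 1), (nat_lit 2), (nat_lit 1), (nat_lit 1)],
  [(nat_lit 0), (nat_lit 1), (nat_lit 1), (nat_lit 0), (nat_lit 1), (nat_lit 2), (nat_lit 1), (nat_lit 2), (nat_lit 1), (nat_lit 1)],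
  [(nat_lit 0), (nat_lit 1), (nat_lit 1), (nat_lit 1), (nat_lit 0), (nat_lit 2), (nat_lit 1), (nat_lit 2), (nat_lit 1), (nat_lit 1)],
  [(nat_lit 1)],
  [(nat_lit 0), (nat_lit 2), (nat_lit 0), (nat_lit 2), (nat_lit 1), (nat_lit 0)],
  [(nat_lit 1), (nat_lit 1), (nat_lit 0), (nat_lit 1), (nat_lit 2), (nat_lit 1), (nat_lit 0), (nat_lit 1), (nat_lit 1)],
  [(nat_lit 1), (nat_lit 1), (nat_lit 1), (nat_lit 0), (nat_lit 2), (nat_lit 1), (nat_lit 0), (nat_lit 1), (nat_lit 1)],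
  [(nat_lit 0), (nat_lit 1), (nat_lit 1), (nat_lit 0), (nat_lit 1), (nat_lit 1), (nat_lit 2), (nat_lit 1), (nat_lit 1)],
  [(nat_lit 0), (nat_lit 1), (nat_lit 1), (nat_lit 1), (nat_lit 0), (nat_lit 1), (nat_lit 2), (nat_lit 1), (nat_lit 1)],
  [(nat_lit 0), (nat_lit 1), (nat_lit 1), (nat_lit 1), (nat_lit 2), (nat_lit 1), (nat_lit 0), (nat_lit 2), (nat_lit 1), (nat_lit 1)],
  [(nat_lit 1), (nat_lit 0), (nat_lit 1), (nat_lit 1), (nat_lit 2), (nat_lit 1), (nat_lit 2), (nat_lit 1), (nat_lit 1)],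
  [(nat_lit 2), (nat_lit 0), (nat_lit 1), (nat_lit 0), (nat_lit 2), (nat_lit 1), (nat_lit 1), (nat_lit 1), (nat_lit 1)],
  [(nat_lit 2), (nat_lit 1), (nat_lit 2), (nat_lit 1), (nat_lit 1), (nat_lit 0), (nat_lit 2), (nat_lit 1), (nat_lit 1)],
  [(nat_lit 0), (nat_lit 2), (nat_lit 1), (nat_lit 2), (nat_lit 1), (nat_lit 1), (nat_lit 1), (nat_lit 1)],
  [(nat_lit 2), (nat_lit 1), (nat_lit 2), (nat_lit 1), (nat_lit 0), (nat_lit 1), (nat_lit 2), (nat_lit 1), (nat_lit 1)],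
  [(nat_lit 2), (nat_lit 1), (nat_lit 0), (nat_lit 2), (nat_lit 1), (nat_lit 0), (nat_lit 1), (nat_lit 1), (nat_lit 1)],
  [(nat_lit 0), (nat_lit 2), (nat_lit 1), (nat_lit 0), (nat_lit 2), (nat_lit 1), (nat_lit 1), (nat_lit 2), (nat_lit 1), (nat_lit 1)],
  [(nat_lit 2), (nat_lit 1), (nat_lit 0), (nat_lit 2), (nat_lit 1), (nat_lit 1), (nat_lit 0), (nat_lit 1), (nat_lit 1)],
  [(nat_lit 2), (nat_lit 0), (nat_lit 1), (nat_lit 2), (nat_lit 1), (nat_lit 1), (nat_lit 2), (nat_lit 1), (nat_lit 1)],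
  [(nat_lit 2), (nat_lit 0), (nat_lit 1), (nat_lit 0)],
  [(nat_lit 0), (nat_lit 2), (nat_lit 1)],
  [(nat_lit 2), (nat_lit 1), (nat_lit 1), (nat_lit 1), (nat_lit 0), (nat_lit 2), (nat_lit 1), (nat_lit 1), (nat_lit 1)],
  [(nat_lit 2), (nat_lit 1), (nat_lit 1), (nat_lit 0), (nat_lit 1), (nat_lit 2), (nat_lit 1), (nat_lit 1), (nat_lit 1)],
  [(nat_lit 1), (nat_lit 1), (nat_lit 1), (nat_lit 0), (nat_lit 1), (nat_lit 2), (nat_lit 1), (nat_lit 2), (nat_lit 1)],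
  [(nat_lit 1), (nat_lit 1), (nat_lit 0), (nat_lit 1), (nat_lit 1), (nat_lit 2), (nat_lit 1), (nat_lit 2), (nat_lit 1)],
  [(nat_lit 0), (nat_lit 1), (nat_lit 0), (nat_lit 1), (nat_lit 0), (nat_lit 2)],
  [(nat_lit 2), (nat_lit 0), (nat_lit 2), (nat_lit 1), (nat_lit 1), (nat_lit 0), (nat_lit 2)],
  [(nat_lit 1), (nat_lit 0), (nat_lit 1), (nat_lit 0), (nat_lit 1), (nat_lit 1), (nat_lit 1), (nat_lit 2), (nat_lit 1)],
  [(nat_lit 1), (nat_lit 0), (nat_lit 1), (nat_lit 1), (nat_lit 0), (nat_lit 1), (nat_lit 1), (nat_lit 2), (nat_lit 1)],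
  [(nat_lit 0), (nat_lit 2), (nat_lit 1), (nat_lit 0), (nat_lit 1), (nat_lit 1), (nat_lit 2), (nat_lit 1), (nat_lit 1), (nat_lit 1)],
  [(nat_lit 0), (nat_lit 1), (nat_lit 1), (nat_lit 1), (nat_lit 2), (nat_lit 1), (nat_lit 1), (nat_lit 2), (nat_lit 1)],
  [(nat_lit 0), (nat_lit 1), (nat_lit 0), (nat_lit 1), (nat_lit 1), (nat_lit 1), (nat_lit 2), (nat_lit 1), (nat_lit 2), (nat_lit 1)],
  [(nat_lit 1), (nat_lit 1), (nat_lit 1), (nat_lit 1), (nat_lit 0), (nat_lit 2), (nat_lit 1), (nat_lit 2), (nat_lit 1)],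
  [(nat_lit 0), (nat_lit 2), (nat_lit 0), (nat_lit 2), (nat_lit 1), (nat_lit 0), (nat_lit 1), (nat_lit 2)],
  [(nat_lit 1), (nat_lit 1), (nat_lit 2)],
  [(nat_lit 2), (nat_lit 0), (nat_lit 1), (nat_lit 2), (nat_lit 1), (nat_lit 0), (nat_lit 1), (nat_lit 1), (nat_lit 2), (nat_lit 1)],
  [(nat_lit 1), (nat_lit 0), (nat_lit 1), (nat_lit 2), (nat_lit 1), (nat_lit 1), (nat_lit 2), (nat_lit 1), (nat_lit 1), (nat_lit 1)],
  [(nat_lit 2), (nat_lit 0), (nat_lit 1), (nat_lit 2), (nat_lit 1), (nat_lit 1), (nat_lit 0), (nat_lit 1), (nat_lit 2), (nat_lit 1)],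
  [(nat_lit 2), (nat_lit 1), (nat_lit 0), (nat_lit 2), (nat_lit 1), (nat_lit 1), (nat_lit 2), (nat_lit 1), (nat_lit 2), (nat_lit 1)],
  [(nat_lit 2), (nat_lit 1), (nat_lit 2), (nat_lit 1), (nat_lit 1), (nat_lit 1), (nat_lit 2), (nat_lit 1)],
  [(nat_lit 0), (nat_lit 1), (nat_lit 1), (nat_lit 1), (nat_lit 1), (nat_lit 0), (nat_lit 2), (nat_lit 1), (nat_lit 1), (nat_lit 1), (nat_lit 2)],
  [(nat_lit 2), (nat_lit 1), (nat_lit 2), (nat_lit 1), (nat_lit 0), (nat_lit 1), (nat_lit 0), (nat_lit 1), (nat_lit 2), (nat_lit 1)],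
  [(nat_lit 1), (nat_lit 0), (nat_lit 1), (nat_lit 1), (nat_lit 1), (nat_lit 2), (nat_lit 1), (nat_lit 1), (nat_lit 1), (nat_lit 2)],
  [(nat_lit 1), (nat_lit 2), (nat_lit 1), (nat_lit 2), (nat_lit 1), (nat_lit 0), (nat_lit 1), (nat_lit 0), (nat_lit 1)],
  [(nat_lit 1), (nat_lit 2), (nat_lit 1), (nat_lit 0), (nat_lit 2), (nat_lit 1), (nat_lit 1), (nat_lit 0), (nat_lit 1)],
  [(nat_lit 0), (nat_lit 1), (nat_lit 1), (nat_lit 2), (nat_lit 1), (nat_lit 1), (nat_lit 1), (nat_lit 2), (nat_lit 1), (nat_lit 2), (nat_lit 1)],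
  [(nat_lit 2), (nat_lit 0), (nat_lit 1), (nat_lit 1), (nat_lit 1), (nat_lit 2), (nat_lit 1), (nat_lit 2), (nat_lit 1), (nat_lit 1)],
  [(nat_lit 0), (nat_lit 1), (nat_lit 2), (nat_lit 1), (nat_lit 2), (nat_lit 1), (nat_lit 1), (nat_lit 2), (nat_lit 1)],
  [(nat_lit 1), (nat_lit 0), (nat_lit 2), (nat_lit 1), (nat_lit 2), (nat_lit 1), (nat_lit 1), (nat_lit 0), (nat_lit 2), (nat_lit 1)],
  [(nat_lit 0), (nat_lit 2), (nat_lit 1), (nat_lit 1), (nat_lit 2)],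
  [(nat_lit 2), (nat_lit 0), (nat_lit 1), (nat_lit 0), (nat_lit 1), (nat_lit 2)],
  [(nat_lit 1), (nat_lit 2), (nat_lit 1), (nat_lit 0), (nat_lit 2), (nat_lit 1), (nat_lit 0), (nat_lit 1), (nat_lit 1)],
  [(nat_lit 1), (nat_lit 2), (nat_lit 1), (nat_lit 2), (nat_lit 1), (nat_lit 1), (nat_lit 1)],
  [(nat_lit 2), (nat_lit 1), (nat_lit 1), (nat_lit 1), (nat_lit 0), (nat_lit 2), (nat_lit 1), (nat_lit 2), (nat_lit 1), (nat_lit 1)],
  [(nat_lit 2), (nat_lit 1), (nat_lit 1), (nat_lit 0), (nat_lit 1), (nat_lit 2), (nat_lit 1), (nat_lit 2), (nat_lit 1), (nat_lit 1)],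
  [(nat_lit 1), (nat_lit 0), (nat_lit 2), (nat_lit 1), (nat_lit 2), (nat_lit 1), (nat_lit 0), (nat_lit 1), (nat_lit 2), (nat_lit 1)],
  [(nat_lit 1), (nat_lit 0), (nat_lit 2), (nat_lit 1), (nat_lit 0), (nat_lit 2), (nat_lit 1), (nat_lit 1), (nat_lit 2), (nat_lit 1)],
  [(nat_lit 0), (nat_lit 2), (nat_lit 0), (nat_lit 1), (nat_lit 1), (nat_lit 0), (nat_lit 2)],
  [(nat_lit 2), (nat_lit 1), (nat_lit 0), (nat_lit 1), (nat_lit 0), (nat_lit 2)],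
  [(nat_lit 1), (nat_lit 1), (nat_lit 0), (nat_lit 2), (nat_lit 1), (nat_lit 0), (nat_lit 2)],
  [(nat_lit 1), (nat_lit 0), (nat_lit 1), (nat_lit 2), (nat_lit 1), (nat_lit 1), (nat_lit 2), (nat_lit 1), (nat_lit 2), (nat_lit 1), (nat_lit 1)],
  [(nat_lit 1), (nat_lit 1), (nat_lit 2), (nat_lit 1), (nat_lit 2)],
  [(nat_lit 1), (nat_lit 1), (nat_lit 1), (nat_lit 1), (nat_lit 0), (nat_lit 2), (nat_lit 1), (nat_lit 2), (nat_lit 1), (nat_lit 1), (nat_lit 2)],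
  [(nat_lit 0), (nat_lit 1), (nat_lit 0), (nat_lit 1), (nat_lit 0), (nat_lit 2), (nat_lit 1), (nat_lit 2)],
  [(nat_lit 1), (nat_lit 1), (nat_lit 1), (nat_lit 0), (nat_lit 1), (nat_lit 2), (nat_lit 1), (nat_lit 2), (nat_lit 1), (nat_lit 1), (nat_lit 2)],
  [(nat_lit 0), (nat_lit 1), (nat_lit 0), (nat_lit 1), (nat_lit 2), (nat_lit 1), (nat_lit 0), (nat_lit 2)],
  [(nat_lit 1), (nat_lit 1), (nat_lit 0), (nat_lit 1), (nat_lit 1), (nat_lit 2), (nat_lit 1), (nat_lit 2), (nat_lit 1), (nat_lit 1), (nat_lit 2)],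
  [(nat_lit 0), (nat_lit 2), (nat_lit 0), (nat_lit 2), (nat_lit 1)],
  [(nat_lit 1), (nat_lit 0)],
  [(nat_lit 0), (nat_lit 1), (nat_lit 1), (nat_lit 0), (nat_lit 1), (nat_lit 2), (nat_lit 1), (nat_lit 1), (nat_lit 1)],
  [(nat_lit 0), (nat_lit 1), (nat_lit 1), (nat_lit 1), (nat_lit 0), (nat_lit 2), (nat_lit 1), (nat_lit 1), (nat_lit 1)],
  [(nat_lit 1), (nat_lit 1), (nat_lit 0), (nat_lit 1), (nat_lit 1), (nat_lit 0), (nat_lit 2), (nat_lit 1), (nat_lit 1)],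
  [(nat_lit 1), (nat_lit 1), (nat_lit 1), (nat_lit 0), (nat_lit 1), (nat_lit 0), (nat_lit 2), (nat_lit 1), (nat_lit 1)],
  [(nat_lit 1), (nat_lit 1), (nat_lit 1), (nat_lit 2), (nat_lit 1), (nat_lit 2), (nat_lit 1), (nat_lit 1)],
  [(nat_lit 1), (nat_lit 1), (nat_lit 0), (nat_lit 1), (nat_lit 0), (nat_lit 2), (nat_lit 1), (nat_lit 2), (nat_lit 1), (nat_lit 1)],
  [(nat_lit 0), (nat_lit 1), (nat_lit 1), (nat_lit 0), (nat_lit 1), (nat_lit 1), (nat_lit 1), (nat_lit 1)],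
  [(nat_lit 0), (nat_lit 1), (nat_lit 1), (nat_lit 1), (nat_lit 0), (nat_lit 1), (nat_lit 1), (nat_lit 1)],
  [(nat_lit 0), (nat_lit 1), (nat_lit 1), (nat_lit 1), (nat_lit 2), (nat_lit 1), (nat_lit 0), (nat_lit 1), (nat_lit 1)],
  [(nat_lit 1), (nat_lit 0), (nat_lit 1), (nat_lit 1), (nat_lit 2), (nat_lit 1), (nat_lit 1), (nat_lit 1)],
  [(nat_lit 1), (nat_lit 1), (nat_lit 1), (nat_lit 1), (nat_lit 2), (nat_lit 1), (nat_lit 1)],
  [(nat_lit 1), (nat_lit 1), (nat_lit 0), (nat_lit 1), (nat_lit 0), (nat_lit 1), (nat_lit 2), (nat_lit 1), (nat_lit 1)],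
  [(nat_lit 1), (nat_lit 1), (nat_lit 0), (nat_lit 1), (nat_lit 2), (nat_lit 1), (nat_lit 0), (nat_lit 2), (nat_lit 1), (nat_lit 1)],
  [(nat_lit 1), (nat_lit 1), (nat_lit 1), (nat_lit 0), (nat_lit 2), (nat_lit 1), (nat_lit 0), (nat_lit 2), (nat_lit 1), (nat_lit 1)],
  [(nat_lit 2), (nat_lit 1), (nat_lit 2), (nat_lit 1), (nat_lit 1), (nat_lit 0), (nat_lit 1), (nat_lit 1)],
  [(nat_lit 2), (nat_lit 0), (nat_lit 1), (nat_lit 0), (nat_lit 2), (nat_lit 1), (nat_lit 1), (nat_lit 2), (nat_lit 1), (nat_lit 1)],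
  [(nat_lit 2), (nat_lit 1), (nat_lit 2), (nat_lit 1), (nat_lit 0), (nat_lit 1), (nat_lit 1), (nat_lit 1)],
  [(nat_lit 0), (nat_lit 2), (nat_lit 1), (nat_lit 2), (nat_lit 1), (nat_lit 1), (nat_lit 2), (nat_lit 1), (nat_lit 1)],
  [(nat_lit 0), (nat_lit 2), (nat_lit 1), (nat_lit 0), (nat_lit 2), (nat_lit 1), (nat_lit 1), (nat_lit 1), (nat_lit 1)],
  [(nat_lit 2), (nat_lit 1), (nat_lit 0), (nat_lit 2), (nat_lit 1), (nat_lit 0), (nat_lit 1), (nat_lit 2), (nat_lit 1), (nat_lit 1)],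
  [(nat_lit 2), (nat_lit 0), (nat_lit 1), (nat_lit 2), (nat_lit 1), (nat_lit 1), (nat_lit 1), (nat_lit 1)],
  [(nat_lit 2), (nat_lit 1), (nat_lit 0), (nat_lit 2), (nat_lit 1), (nat_lit 1), (nat_lit 0), (nat_lit 2), (nat_lit 1), (nat_lit 1)],
  [(nat_lit 1), (nat_lit 1), (nat_lit 1), (nat_lit 0), (nat_lit 1), (nat_lit 1), (nat_lit 2), (nat_lit 1)],
  [(nat_lit 1), (nat_lit 1), (nat_lit 0), (nat_lit 1), (nat_lit 1), (nat_lit 1), (nat_lit 2), (nat_lit 1)],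
  [(nat_lit 0), (nat_lit 1), (nat_lit 0), (nat_lit 1), (nat_lit 1), (nat_lit 2), (nat_lit 1), (nat_lit 1), (nat_lit 2), (nat_lit 1)],
  [(nat_lit 0), (nat_lit 2), (nat_lit 1), (nat_lit 1), (nat_lit 1), (nat_lit 2), (nat_lit 1), (nat_lit 1), (nat_lit 1)],
  [(nat_lit 1), (nat_lit 0), (nat_lit 1), (nat_lit 1), (nat_lit 1), (nat_lit 0), (nat_lit 2), (nat_lit 1), (nat_lit 2), (nat_lit 1)],
  [(nat_lit 0), (nat_lit 1), (nat_lit 1), (nat_lit 1), (nat_lit 1), (nat_lit 2), (nat_lit 1), (nat_lit 2), (nat_lit 1)],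
  [(nat_lit 1), (nat_lit 0), (nat_lit 1), (nat_lit 2)],
  [(nat_lit 0), (nat_lit 2), (nat_lit 0), (nat_lit 2), (nat_lit 1), (nat_lit 1), (nat_lit 2)],
  [(nat_lit 0), (nat_lit 2), (nat_lit 1), (nat_lit 0)],
  [(nat_lit 2), (nat_lit 0), (nat_lit 1)],
  [(nat_lit 1), (nat_lit 1), (nat_lit 1), (nat_lit 0), (nat_lit 2), (nat_lit 1), (nat_lit 1), (nat_lit 2), (nat_lit 1)],
  [(nat_lit 1), (nat_lit 1), (nat_lit 0), (nat_lit 1), (nat_lit 2), (nat_lit 1), (nat_lit 1), (nat_lit 2), (nat_lit 1)],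
  [(nat_lit 1), (nat_lit 0), (nat_lit 1), (nat_lit 0), (nat_lit 1), (nat_lit 1), (nat_lit 2), (nat_lit 1), (nat_lit 2), (nat_lit 1)],
  [(nat_lit 1), (nat_lit 0), (nat_lit 1), (nat_lit 1), (nat_lit 0), (nat_lit 1), (nat_lit 2), (nat_lit 1), (nat_lit 2), (nat_lit 1)],
  [(nat_lit 2), (nat_lit 0), (nat_lit 2), (nat_lit 1), (nat_lit 0), (nat_lit 1), (nat_lit 0), (nat_lit 2)],
  [(nat_lit 0), (nat_lit 1), (nat_lit 1), (nat_lit 0), (nat_lit 2)],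
  [(nat_lit 0), (nat_lit 2), (nat_lit 0), (nat_lit 1), (nat_lit 2), (nat_lit 1), (nat_lit 1), (nat_lit 1), (nat_lit 2), (nat_lit 1)],
  [(nat_lit 1), (nat_lit 1), (nat_lit 1), (nat_lit 1), (nat_lit 2), (nat_lit 1), (nat_lit 1), (nat_lit 1), (nat_lit 2)],
  [(nat_lit 2), (nat_lit 1), (nat_lit 0), (nat_lit 2), (nat_lit 1), (nat_lit 1), (nat_lit 1), (nat_lit 2), (nat_lit 1)],
  [(nat_lit 1), (nat_lit 1), (nat_lit 0), (nat_lit 1), (nat_lit 0), (nat_lit 1), (nat_lit 2), (nat_lit 1), (nat_lit 1), (nat_lit 1), (nat_lit 2)],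
  [(nat_lit 0), (nat_lit 2), (nat_lit 1), (nat_lit 2), (nat_lit 1), (nat_lit 0), (nat_lit 1), (nat_lit 1), (nat_lit 2), (nat_lit 1)],
  [(nat_lit 2), (nat_lit 1), (nat_lit 2), (nat_lit 1), (nat_lit 1), (nat_lit 2), (nat_lit 1), (nat_lit 2), (nat_lit 1)],
  [(nat_lit 0), (nat_lit 2), (nat_lit 1), (nat_lit 2), (nat_lit 1), (nat_lit 1), (nat_lit 0), (nat_lit 1), (nat_lit 2), (nat_lit 1)],
  [(nat_lit 1), (nat_lit 1), (nat_lit 2), (nat_lit 1), (nat_lit 1), (nat_lit 2), (nat_lit 1), (nat_lit 1), (nat_lit 1)],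
  [(nat_lit 1), (nat_lit 0), (nat_lit 2), (nat_lit 1), (nat_lit 2), (nat_lit 1), (nat_lit 1), (nat_lit 1)],
  [(nat_lit 0), (nat_lit 1), (nat_lit 2), (nat_lit 1), (nat_lit 2), (nat_lit 1), (nat_lit 1), (nat_lit 0), (nat_lit 1)],
  [(nat_lit 1), (nat_lit 1), (nat_lit 0), (nat_lit 2), (nat_lit 1), (nat_lit 1), (nat_lit 1), (nat_lit 2), (nat_lit 1), (nat_lit 2), (nat_lit 1)],
  [(nat_lit 1), (nat_lit 1), (nat_lit 1), (nat_lit 1), (nat_lit 2), (nat_lit 1), (nat_lit 1), (nat_lit 1), (nat_lit 2), (nat_lit 1), (nat_lit 2)],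
  [(nat_lit 1), (nat_lit 2), (nat_lit 1), (nat_lit 0), (nat_lit 2), (nat_lit 1), (nat_lit 1), (nat_lit 2), (nat_lit 1)],
  [(nat_lit 1), (nat_lit 2), (nat_lit 1), (nat_lit 2), (nat_lit 1), (nat_lit 0), (nat_lit 1), (nat_lit 2), (nat_lit 1)],
  [(nat_lit 2), (nat_lit 1), (nat_lit 1), (nat_lit 0), (nat_lit 2)],
  [(nat_lit 0), (nat_lit 2), (nat_lit 0), (nat_lit 1), (nat_lit 0), (nat_lit 1), (nat_lit 0), (nat_lit 2)],
  [(nat_lit 0), (nat_lit 1), (nat_lit 2), (nat_lit 1), (nat_lit 2), (nat_lit 1), (nat_lit 0), (nat_lit 1), (nat_lit 1)],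
  [(nat_lit 0), (nat_lit 1), (nat_lit 2), (nat_lit 1), (nat_lit 0), (nat_lit 2), (nat_lit 1), (nat_lit 1), (nat_lit 1)],
  [(nat_lit 1), (nat_lit 1), (nat_lit 2), (nat_lit 1), (nat_lit 1), (nat_lit 0), (nat_lit 1), (nat_lit 2), (nat_lit 1), (nat_lit 2), (nat_lit 1)],
  [(nat_lit 0), (nat_lit 2), (nat_lit 1), (nat_lit 1), (nat_lit 1), (nat_lit 2), (nat_lit 1), (nat_lit 2), (nat_lit 1), (nat_lit 1)],
  [(nat_lit 1), (nat_lit 2), (nat_lit 1), (nat_lit 2), (nat_lit 1), (nat_lit 1), (nat_lit 0), (nat_lit 2), (nat_lit 1)],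
  [(nat_lit 0), (nat_lit 1), (nat_lit 0), (nat_lit 2), (nat_lit 1), (nat_lit 2), (nat_lit 1), (nat_lit 1), (nat_lit 2), (nat_lit 1)],
  [(nat_lit 2), (nat_lit 0), (nat_lit 1), (nat_lit 1), (nat_lit 2)],
  [(nat_lit 0), (nat_lit 2), (nat_lit 1), (nat_lit 0), (nat_lit 1), (nat_lit 2)],
  [(nat_lit 0), (nat_lit 1), (nat_lit 1), (nat_lit 2), (nat_lit 1), (nat_lit 0), (nat_lit 2)],
  [(nat_lit 1), (nat_lit 0), (nat_lit 1), (nat_lit 0), (nat_lit 1), (nat_lit 1), (nat_lit 2), (nat_lit 1), (nat_lit 2), (nat_lit 1), (nat_lit 1), (nat_lit 2)],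
  [(nat_lit 0), (nat_lit 1), (nat_lit 1), (nat_lit 0), (nat_lit 2), (nat_lit 1), (nat_lit 2)],
  [(nat_lit 1), (nat_lit 0), (nat_lit 1), (nat_lit 1), (nat_lit 0), (nat_lit 1), (nat_lit 2), (nat_lit 1), (nat_lit 2), (nat_lit 1), (nat_lit 1), (nat_lit 2)],
  [(nat_lit 1), (nat_lit 0), (nat_lit 1), (nat_lit 2), (nat_lit 1), (nat_lit 2)],
  [(nat_lit 1), (nat_lit 0), (nat_lit 1), (nat_lit 1), (nat_lit 1), (nat_lit 0), (nat_lit 2), (nat_lit 1), (nat_lit 2), (nat_lit 1), (nat_lit 1), (nat_lit 2)],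
  [(nat_lit 1), (nat_lit 0), (nat_lit 1), (nat_lit 0), (nat_lit 2), (nat_lit 1), (nat_lit 0), (nat_lit 2)],
  [(nat_lit 1), (nat_lit 1), (nat_lit 2), (nat_lit 1), (nat_lit 1), (nat_lit 2), (nat_lit 1), (nat_lit 2), (nat_lit 1), (nat_lit 1)],
  [(nat_lit 1), (nat_lit 2), (nat_lit 1), (nat_lit 0), (nat_lit 1), (nat_lit 1), (nat_lit 0), (nat_lit 1)],
  [(nat_lit 1), (nat_lit 2), (nat_lit 1), (nat_lit 1), (nat_lit 2), (nat_lit 1), (nat_lit 1)],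
  [(nat_lit 1), (nat_lit 2), (nat_lit 1), (nat_lit 1), (nat_lit 0), (nat_lit 1), (nat_lit 0), (nat_lit 1)],
  [(nat_lit 1), (nat_lit 2), (nat_lit 1), (nat_lit 0), (nat_lit 1), (nat_lit 0), (nat_lit 2), (nat_lit 1), (nat_lit 1)],
  [(nat_lit 1), (nat_lit 0), (nat_lit 2), (nat_lit 1), (nat_lit 1), (nat_lit 1), (nat_lit 0), (nat_lit 2), (nat_lit 1)],
  [(nat_lit 1), (nat_lit 0), (nat_lit 2), (nat_lit 1), (nat_lit 0), (nat_lit 1), (nat_lit 2), (nat_lit 1), (nat_lit 2), (nat_lit 1)],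
  [(nat_lit 0), (nat_lit 1), (nat_lit 2), (nat_lit 1), (nat_lit 1), (nat_lit 1), (nat_lit 2), (nat_lit 1)],
  [(nat_lit 1), (nat_lit 0), (nat_lit 2), (nat_lit 1), (nat_lit 1), (nat_lit 0), (nat_lit 2), (nat_lit 1), (nat_lit 2), (nat_lit 1)],
  [(nat_lit 2), (nat_lit 1), (nat_lit 1), (nat_lit 0), (nat_lit 2), (nat_lit 1), (nat_lit 2)],
  [(nat_lit 1), (nat_lit 2), (nat_lit 1), (nat_lit 0), (nat_lit 2), (nat_lit 1), (nat_lit 1), (nat_lit 2), (nat_lit 1), (nat_lit 1), (nat_lit 2)],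
  [(nat_lit 2), (nat_lit 1), (nat_lit 1), (nat_lit 2), (nat_lit 1), (nat_lit 0), (nat_lit 2)],
  [(nat_lit 1), (nat_lit 2), (nat_lit 1), (nat_lit 2), (nat_lit 1), (nat_lit 0), (nat_lit 1), (nat_lit 2), (nat_lit 1), (nat_lit 1), (nat_lit 2)],
  [(nat_lit 1), (nat_lit 2), (nat_lit 1), (nat_lit 1), (nat_lit 1), (nat_lit 1)],
  [(nat_lit 1), (nat_lit 2), (nat_lit 1), (nat_lit 0), (nat_lit 1), (nat_lit 2), (nat_lit 1), (nat_lit 0), (nat_lit 1)],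
  [(nat_lit 1), (nat_lit 2), (nat_lit 1), (nat_lit 0), (nat_lit 1), (nat_lit 0), (nat_lit 1), (nat_lit 1)],
  [(nat_lit 1), (nat_lit 2), (nat_lit 1), (nat_lit 1), (nat_lit 0), (nat_lit 2), (nat_lit 1), (nat_lit 0), (nat_lit 1)],
  [(nat_lit 1), (nat_lit 0), (nat_lit 2), (nat_lit 1), (nat_lit 0), (nat_lit 1), (nat_lit 1), (nat_lit 2), (nat_lit 1)],
  [(nat_lit 1), (nat_lit 0), (nat_lit 2), (nat_lit 1), (nat_lit 1), (nat_lit 2), (nat_lit 1), (nat_lit 0), (nat_lit 2), (nat_lit 1)],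
  [(nat_lit 1), (nat_lit 0), (nat_lit 2), (nat_lit 1), (nat_lit 1), (nat_lit 0), (nat_lit 1), (nat_lit 2), (nat_lit 1)],
  [(nat_lit 0), (nat_lit 1), (nat_lit 2), (nat_lit 1), (nat_lit 1), (nat_lit 2), (nat_lit 1), (nat_lit 2), (nat_lit 1)],
  [(nat_lit 2), (nat_lit 0), (nat_lit 1), (nat_lit 1), (nat_lit 2), (nat_lit 1), (nat_lit 2)],
  [(nat_lit 1), (nat_lit 2), (nat_lit 1), (nat_lit 2), (nat_lit 1), (nat_lit 1), (nat_lit 0), (nat_lit 2), (nat_lit 1), (nat_lit 1), (nat_lit 2)],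
  [(nat_lit 0), (nat_lit 2), (nat_lit 1), (nat_lit 0), (nat_lit 1), (nat_lit 2), (nat_lit 1), (nat_lit 2)],
  [(nat_lit 0), (nat_lit 1), (nat_lit 0), (nat_lit 2), (nat_lit 1), (nat_lit 2), (nat_lit 1), (nat_lit 1), (nat_lit 2), (nat_lit 1), (nat_lit 1), (nat_lit 2)],
  [(nat_lit 0), (nat_lit 1), (nat_lit 2), (nat_lit 1), (nat_lit 1), (nat_lit 1), (nat_lit 0), (nat_lit 1)],
  [(nat_lit 0), (nat_lit 1), (nat_lit 2), (nat_lit 1), (nat_lit 0), (nat_lit 1), (nat_lit 2), (nat_lit 1), (nat_lit 1)],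
  [(nat_lit 1), (nat_lit 0), (nat_lit 2), (nat_lit 1), (nat_lit 1), (nat_lit 1), (nat_lit 1)],
  [(nat_lit 0), (nat_lit 1), (nat_lit 2), (nat_lit 1), (nat_lit 1), (nat_lit 0), (nat_lit 2), (nat_lit 1), (nat_lit 1)],
  [(nat_lit 1), (nat_lit 2), (nat_lit 1), (nat_lit 1), (nat_lit 0), (nat_lit 1), (nat_lit 2), (nat_lit 1)],
  [(nat_lit 0), (nat_lit 1), (nat_lit 0), (nat_lit 2), (nat_lit 1), (nat_lit 1), (nat_lit 2), (nat_lit 1), (nat_lit 2), (nat_lit 1)],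
  [(nat_lit 1), (nat_lit 2), (nat_lit 1), (nat_lit 0), (nat_lit 1), (nat_lit 1), (nat_lit 2), (nat_lit 1)],
  [(nat_lit 1), (nat_lit 2), (nat_lit 1), (nat_lit 1), (nat_lit 2), (nat_lit 1), (nat_lit 0), (nat_lit 2), (nat_lit 1)],
  [(nat_lit 0), (nat_lit 2), (nat_lit 1), (nat_lit 1), (nat_lit 2), (nat_lit 1), (nat_lit 2)],
  [(nat_lit 0), (nat_lit 1), (nat_lit 2), (nat_lit 1), (nat_lit 2), (nat_lit 1), (nat_lit 1), (nat_lit 2), (nat_lit 1), (nat_lit 1), (nat_lit 2)],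
  [(nat_lit 2), (nat_lit 0), (nat_lit 1), (nat_lit 0), (nat_lit 1), (nat_lit 2), (nat_lit 1), (nat_lit 2)],
  [(nat_lit 1), (nat_lit 0), (nat_lit 2), (nat_lit 1), (nat_lit 2), (nat_lit 1), (nat_lit 1), (nat_lit 0), (nat_lit 2), (nat_lit 1), (nat_lit 1), (nat_lit 2)],
  [(nat_lit 0), (nat_lit 1), (nat_lit 2), (nat_lit 1), (nat_lit 0), (nat_lit 1), (nat_lit 1), (nat_lit 1)],
  [(nat_lit 0), (nat_lit 1), (nat_lit 2), (nat_lit 1), (nat_lit 1), (nat_lit 2), (nat_lit 1), (nat_lit 0), (nat_lit 1)],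
  [(nat_lit 0), (nat_lit 1), (nat_lit 2), (nat_lit 1), (nat_lit 1), (nat_lit 0), (nat_lit 1), (nat_lit 1)],
  [(nat_lit 1), (nat_lit 0), (nat_lit 2), (nat_lit 1), (nat_lit 1), (nat_lit 2), (nat_lit 1), (nat_lit 1)],
  [(nat_lit 0), (nat_lit 1), (nat_lit 0), (nat_lit 2), (nat_lit 1), (nat_lit 1), (nat_lit 1), (nat_lit 2), (nat_lit 1)],
  [(nat_lit 1), (nat_lit 2), (nat_lit 1), (nat_lit 1), (nat_lit 0), (nat_lit 2), (nat_lit 1), (nat_lit 2), (nat_lit 1)],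
  [(nat_lit 1), (nat_lit 2), (nat_lit 1), (nat_lit 1), (nat_lit 1), (nat_lit 0), (nat_lit 2), (nat_lit 1)],
  [(nat_lit 1), (nat_lit 2), (nat_lit 1), (nat_lit 0), (nat_lit 1), (nat_lit 2), (nat_lit 1), (nat_lit 2), (nat_lit 1)],
  [(nat_lit 2), (nat_lit 1), (nat_lit 0), (nat_lit 1), (nat_lit 2), (nat_lit 1), (nat_lit 0), (nat_lit 2)],
  [(nat_lit 1), (nat_lit 0), (nat_lit 2), (nat_lit 1), (nat_lit 2), (nat_lit 1), (nat_lit 0), (nat_lit 1), (nat_lit 2), (nat_lit 1), (nat_lit 1), (nat_lit 2)],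
  [(nat_lit 2), (nat_lit 1), (nat_lit 0), (nat_lit 1), (nat_lit 0), (nat_lit 2), (nat_lit 1), (nat_lit 2)],
  [(nat_lit 1), (nat_lit 0), (nat_lit 2), (nat_lit 1), (nat_lit 0), (nat_lit 2), (nat_lit 1), (nat_lit 1), (nat_lit 2), (nat_lit 1), (nat_lit 1), (nat_lit 2)],
  [(nat_lit 0), (nat_lit 2), (nat_lit 0), (nat_lit 2), (nat_lit 1), (nat_lit 2)],
  [(nat_lit 1), (nat_lit 0), (nat_lit 2)],
  [(nat_lit 0), (nat_lit 1), (nat_lit 1), (nat_lit 0), (nat_lit 1), (nat_lit 2), (nat_lit 1), (nat_lit 1), (nat_lit 1), (nat_lit 2)],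
  [(nat_lit 0), (nat_lit 1), (nat_lit 1), (nat_lit 1), (nat_lit 0), (nat_lit 2), (nat_lit 1), (nat_lit 1), (nat_lit 1), (nat_lit 2)],
  [(nat_lit 1), (nat_lit 2), (nat_lit 1), (nat_lit 1), (nat_lit 0), (nat_lit 1), (nat_lit 2), (nat_lit 1), (nat_lit 1)],
  [(nat_lit 1), (nat_lit 2), (nat_lit 1), (nat_lit 0), (nat_lit 1), (nat_lit 1), (nat_lit 2), (nat_lit 1), (nat_lit 1)],
  [(nat_lit 1), (nat_lit 1), (nat_lit 1), (nat_lit 2), (nat_lit 1), (nat_lit 2), (nat_lit 1), (nat_lit 1), (nat_lit 2)],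
  [(nat_lit 0), (nat_lit 1), (nat_lit 0), (nat_lit 2), (nat_lit 1), (nat_lit 1), (nat_lit 2), (nat_lit 1), (nat_lit 2), (nat_lit 1), (nat_lit 1)],
  [(nat_lit 0), (nat_lit 1), (nat_lit 1), (nat_lit 0), (nat_lit 1), (nat_lit 1), (nat_lit 1), (nat_lit 1), (nat_lit 2)],
  [(nat_lit 0), (nat_lit 1), (nat_lit 1), (nat_lit 1), (nat_lit 0), (nat_lit 1), (nat_lit 1), (nat_lit 1), (nat_lit 2)],
  [(nat_lit 1), (nat_lit 0), (nat_lit 2), (nat_lit 1), (nat_lit 1), (nat_lit 2), (nat_lit 1), (nat_lit 1), (nat_lit 1)],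
  [(nat_lit 1), (nat_lit 0), (nat_lit 1), (nat_lit 1), (nat_lit 2), (nat_lit 1), (nat_lit 1), (nat_lit 1), (nat_lit 2)],
  [(nat_lit 1), (nat_lit 1), (nat_lit 1), (nat_lit 1), (nat_lit 2), (nat_lit 1), (nat_lit 1), (nat_lit 2)],
  [(nat_lit 1), (nat_lit 2), (nat_lit 1), (nat_lit 1), (nat_lit 1), (nat_lit 0), (nat_lit 2), (nat_lit 1), (nat_lit 1)],
  [(nat_lit 1), (nat_lit 2), (nat_lit 1), (nat_lit 0), (nat_lit 1), (nat_lit 2), (nat_lit 1), (nat_lit 2), (nat_lit 1), (nat_lit 1)],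
  [(nat_lit 1), (nat_lit 2), (nat_lit 1), (nat_lit 1), (nat_lit 0), (nat_lit 2), (nat_lit 1), (nat_lit 2), (nat_lit 1), (nat_lit 1)],
  [(nat_lit 2), (nat_lit 1), (nat_lit 0), (nat_lit 1), (nat_lit 2), (nat_lit 1), (nat_lit 0), (nat_lit 2), (nat_lit 1)],
  [(nat_lit 2), (nat_lit 0), (nat_lit 1), (nat_lit 0), (nat_lit 2), (nat_lit 1), (nat_lit 1), (nat_lit 2), (nat_lit 1), (nat_lit 1), (nat_lit 2)],
  [(nat_lit 2), (nat_lit 1), (nat_lit 0), (nat_lit 1), (nat_lit 0), (nat_lit 2), (nat_lit 1), (nat_lit 2), (nat_lit 1)],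
  [(nat_lit 0), (nat_lit 2), (nat_lit 1), (nat_lit 2), (nat_lit 1), (nat_lit 1), (nat_lit 2), (nat_lit 1), (nat_lit 1), (nat_lit 2)],
  [(nat_lit 0), (nat_lit 2), (nat_lit 1), (nat_lit 1), (nat_lit 2), (nat_lit 1), (nat_lit 2), (nat_lit 1)],
  [(nat_lit 2), (nat_lit 1), (nat_lit 0), (nat_lit 2), (nat_lit 1), (nat_lit 0), (nat_lit 1), (nat_lit 2), (nat_lit 1), (nat_lit 1), (nat_lit 2)],
  [(nat_lit 2), (nat_lit 0), (nat_lit 1), (nat_lit 0), (nat_lit 1), (nat_lit 2), (nat_lit 1), (nat_lit 2), (nat_lit 1)],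
  [(nat_lit 2), (nat_lit 1), (nat_lit 0), (nat_lit 2), (nat_lit 1), (nat_lit 1), (nat_lit 0), (nat_lit 2), (nat_lit 1), (nat_lit 1), (nat_lit 2)],
  [(nat_lit 1), (nat_lit 1), (nat_lit 0), (nat_lit 1), (nat_lit 1), (nat_lit 0), (nat_lit 1), (nat_lit 1), (nat_lit 2)],
  [(nat_lit 1), (nat_lit 1), (nat_lit 1), (nat_lit 0), (nat_lit 1), (nat_lit 0), (nat_lit 1), (nat_lit 1), (nat_lit 2)],
  [(nat_lit 1), (nat_lit 1), (nat_lit 1), (nat_lit 2), (nat_lit 1), (nat_lit 1), (nat_lit 1), (nat_lit 2)],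
  [(nat_lit 1), (nat_lit 2), (nat_lit 1), (nat_lit 1), (nat_lit 2), (nat_lit 1), (nat_lit 1), (nat_lit 1)],
  [(nat_lit 0), (nat_lit 1), (nat_lit 1), (nat_lit 1), (nat_lit 1), (nat_lit 0), (nat_lit 2), (nat_lit 1), (nat_lit 1), (nat_lit 2)],
  [(nat_lit 0), (nat_lit 1), (nat_lit 2), (nat_lit 1), (nat_lit 1), (nat_lit 1), (nat_lit 2), (nat_lit 1), (nat_lit 1)],
  [(nat_lit 0), (nat_lit 1), (nat_lit 1), (nat_lit 0), (nat_lit 1), (nat_lit 2), (nat_lit 1), (nat_lit 2), (nat_lit 1), (nat_lit 1), (nat_lit 2)],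
  [(nat_lit 0), (nat_lit 1), (nat_lit 1), (nat_lit 1), (nat_lit 0), (nat_lit 2), (nat_lit 1), (nat_lit 2), (nat_lit 1), (nat_lit 1), (nat_lit 2)],
  [(nat_lit 1), (nat_lit 2)],
  [(nat_lit 0), (nat_lit 2), (nat_lit 0), (nat_lit 2), (nat_lit 1), (nat_lit 0), (nat_lit 2)],
  [(nat_lit 1), (nat_lit 1), (nat_lit 0), (nat_lit 1), (nat_lit 2), (nat_lit 1), (nat_lit 0), (nat_lit 1), (nat_lit 1), (nat_lit 2)],
  [(nat_lit 1), (nat_lit 1), (nat_lit 1), (nat_lit 0), (nat_lit 2), (nat_lit 1), (nat_lit 0), (nat_lit 1), (nat_lit 1), (nat_lit 2)],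
  [(nat_lit 0), (nat_lit 1), (nat_lit 1), (nat_lit 0), (nat_lit 1), (nat_lit 1), (nat_lit 2), (nat_lit 1), (nat_lit 1), (nat_lit 2)],
  [(nat_lit 0), (nat_lit 1), (nat_lit 1), (nat_lit 1), (nat_lit 0), (nat_lit 1), (nat_lit 2), (nat_lit 1), (nat_lit 1), (nat_lit 2)],
  [(nat_lit 0), (nat_lit 1), (nat_lit 2), (nat_lit 1), (nat_lit 1), (nat_lit 2), (nat_lit 1), (nat_lit 2), (nat_lit 1), (nat_lit 1)],
  [(nat_lit 1), (nat_lit 0), (nat_lit 1), (nat_lit 1), (nat_lit 2), (nat_lit 1), (nat_lit 2), (nat_lit 1), (nat_lit 1), (nat_lit 2)],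
  [(nat_lit 2), (nat_lit 0), (nat_lit 1), (nat_lit 1), (nat_lit 2), (nat_lit 1), (nat_lit 2), (nat_lit 1)],
  [(nat_lit 2), (nat_lit 1), (nat_lit 2), (nat_lit 1), (nat_lit 1), (nat_lit 0), (nat_lit 2), (nat_lit 1), (nat_lit 1), (nat_lit 2)],
  [(nat_lit 0), (nat_lit 2), (nat_lit 1), (nat_lit 0), (nat_lit 1), (nat_lit 2), (nat_lit 1), (nat_lit 2), (nat_lit 1)],
  [(nat_lit 2), (nat_lit 1), (nat_lit 2), (nat_lit 1), (nat_lit 0), (nat_lit 1), (nat_lit 2), (nat_lit 1), (nat_lit 1), (nat_lit 2)],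
  [(nat_lit 2), (nat_lit 1), (nat_lit 1), (nat_lit 0), (nat_lit 2), (nat_lit 1), (nat_lit 2), (nat_lit 1)],
  [(nat_lit 0), (nat_lit 2), (nat_lit 1), (nat_lit 0), (nat_lit 2), (nat_lit 1), (nat_lit 1), (nat_lit 2), (nat_lit 1), (nat_lit 1), (nat_lit 2)],
  [(nat_lit 2), (nat_lit 1), (nat_lit 1), (nat_lit 2), (nat_lit 1), (nat_lit 0), (nat_lit 2), (nat_lit 1)],
  [(nat_lit 2), (nat_lit 0), (nat_lit 1), (nat_lit 2), (nat_lit 1), (nat_lit 1), (nat_lit 2), (nat_lit 1), (nat_lit 1), (nat_lit 2)],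
  [(nat_lit 1), (nat_lit 0), (nat_lit 1), (nat_lit 0), (nat_lit 1), (nat_lit 1), (nat_lit 1), (nat_lit 2), (nat_lit 1), (nat_lit 2)],
  [(nat_lit 1), (nat_lit 0), (nat_lit 1), (nat_lit 1), (nat_lit 0), (nat_lit 1), (nat_lit 1), (nat_lit 2), (nat_lit 1), (nat_lit 2)],
  [(nat_lit 2), (nat_lit 0), (nat_lit 1), (nat_lit 2), (nat_lit 1), (nat_lit 1), (nat_lit 2), (nat_lit 1), (nat_lit 1), (nat_lit 1)],
  [(nat_lit 0), (nat_lit 1), (nat_lit 1), (nat_lit 1), (nat_lit 2), (nat_lit 1), (nat_lit 1), (nat_lit 2), (nat_lit 1), (nat_lit 2)],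
  [(nat_lit 2), (nat_lit 0), (nat_lit 1), (nat_lit 0), (nat_lit 2)],
  [(nat_lit 0), (nat_lit 2), (nat_lit 1), (nat_lit 2)],
  [(nat_lit 2), (nat_lit 1), (nat_lit 1), (nat_lit 1), (nat_lit 0), (nat_lit 2), (nat_lit 1), (nat_lit 1), (nat_lit 1), (nat_lit 2)],
  [(nat_lit 2), (nat_lit 1), (nat_lit 1), (nat_lit 0), (nat_lit 1), (nat_lit 2), (nat_lit 1), (nat_lit 1), (nat_lit 1), (nat_lit 2)],
  [(nat_lit 1), (nat_lit 1), (nat_lit 0), (nat_lit 1), (nat_lit 0), (nat_lit 2), (nat_lit 1), (nat_lit 1), (nat_lit 1), (nat_lit 1)],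
  [(nat_lit 1), (nat_lit 1), (nat_lit 1), (nat_lit 2), (nat_lit 1), (nat_lit 1), (nat_lit 1), (nat_lit 1)],
  [(nat_lit 0), (nat_lit 1), (nat_lit 0), (nat_lit 1), (nat_lit 0)],
  [(nat_lit 2), (nat_lit 0), (nat_lit 2), (nat_lit 1), (nat_lit 1), (nat_lit 0)],
  [(nat_lit 1), (nat_lit 1), (nat_lit 1), (nat_lit 0), (nat_lit 2), (nat_lit 1), (nat_lit 0), (nat_lit 1), (nat_lit 1), (nat_lit 1)],
  [(nat_lit 1), (nat_lit 1), (nat_lit 0), (nat_lit 1), (nat_lit 2), (nat_lit 1), (nat_lit 0), (nat_lit 1), (nat_lit 1), (nat_lit 1)],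
  [(nat_lit 0), (nat_lit 2), (nat_lit 0), (nat_lit 2), (nat_lit 1), (nat_lit 0), (nat_lit 1)],
  [(nat_lit 1), (nat_lit 1)],
  [(nat_lit 1), (nat_lit 0), (nat_lit 1), (nat_lit 1), (nat_lit 2), (nat_lit 1), (nat_lit 2), (nat_lit 1), (nat_lit 1), (nat_lit 1)],
  [(nat_lit 0), (nat_lit 1), (nat_lit 1), (nat_lit 1), (nat_lit 2), (nat_lit 1), (nat_lit 0), (nat_lit 2), (nat_lit 1), (nat_lit 1), (nat_lit 1)],
  [(nat_lit 0), (nat_lit 1), (nat_lit 1), (nat_lit 0), (nat_lit 1), (nat_lit 1), (nat_lit 2), (nat_lit 1), (nat_lit 1), (nat_lit 1)],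
  [(nat_lit 0), (nat_lit 1), (nat_lit 1), (nat_lit 1), (nat_lit 0), (nat_lit 1), (nat_lit 2), (nat_lit 1), (nat_lit 1), (nat_lit 1)],
  [(nat_lit 0), (nat_lit 1), (nat_lit 1), (nat_lit 1), (nat_lit 0), (nat_lit 2), (nat_lit 1), (nat_lit 2), (nat_lit 1), (nat_lit 1), (nat_lit 1)],
  [(nat_lit 2), (nat_lit 1), (nat_lit 2), (nat_lit 1), (nat_lit 1), (nat_lit 1), (nat_lit 2), (nat_lit 1), (nat_lit 2)],
  [(nat_lit 0), (nat_lit 1), (nat_lit 1), (nat_lit 1), (nat_lit 1), (nat_lit 0), (nat_lit 2), (nat_lit 1), (nat_lit 1), (nat_lit 1)],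
  [(nat_lit 1), (nat_lit 0), (nat_lit 1), (nat_lit 1), (nat_lit 1), (nat_lit 2), (nat_lit 1), (nat_lit 1), (nat_lit 1)],
  [(nat_lit 2), (nat_lit 1), (nat_lit 2), (nat_lit 1), (nat_lit 1), (nat_lit 1), (nat_lit 2), (nat_lit 1), (nat_lit 1)],
  [(nat_lit 1), (nat_lit 2), (nat_lit 1), (nat_lit 2), (nat_lit 1), (nat_lit 1), (nat_lit 1), (nat_lit 2)],
  [(nat_lit 1), (nat_lit 0), (nat_lit 1), (nat_lit 1), (nat_lit 1), (nat_lit 2), (nat_lit 1), (nat_lit 1), (nat_lit 1), (nat_lit 2), (nat_lit 1)],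
  [(nat_lit 2), (nat_lit 1), (nat_lit 1), (nat_lit 0), (nat_lit 1), (nat_lit 2), (nat_lit 1), (nat_lit 2), (nat_lit 1), (nat_lit 1), (nat_lit 2)],
  [(nat_lit 1), (nat_lit 2), (nat_lit 1), (nat_lit 2), (nat_lit 1), (nat_lit 0), (nat_lit 1), (nat_lit 0), (nat_lit 1), (nat_lit 2)],
  [(nat_lit 1), (nat_lit 2), (nat_lit 1), (nat_lit 0), (nat_lit 2), (nat_lit 1), (nat_lit 1), (nat_lit 0), (nat_lit 1), (nat_lit 2)],
  [(nat_lit 2), (nat_lit 1), (nat_lit 0), (nat_lit 2), (nat_lit 1), (nat_lit 1), (nat_lit 2), (nat_lit 1), (nat_lit 2), (nat_lit 1), (nat_lit 1)],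
  [(nat_lit 1), (nat_lit 0), (nat_lit 1), (nat_lit 2), (nat_lit 1), (nat_lit 1), (nat_lit 2), (nat_lit 1), (nat_lit 1), (nat_lit 1), (nat_lit 1)],
  [(nat_lit 2), (nat_lit 1), (nat_lit 1), (nat_lit 0), (nat_lit 1), (nat_lit 2), (nat_lit 1), (nat_lit 1), (nat_lit 1), (nat_lit 1)],
  [(nat_lit 0), (nat_lit 1), (nat_lit 2), (nat_lit 1), (nat_lit 2), (nat_lit 1), (nat_lit 1), (nat_lit 2), (nat_lit 1), (nat_lit 2)],
  [(nat_lit 0), (nat_lit 2), (nat_lit 1), (nat_lit 1)],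
  [(nat_lit 2), (nat_lit 0), (nat_lit 1), (nat_lit 0), (nat_lit 1)],
  [(nat_lit 0), (nat_lit 1), (nat_lit 1), (nat_lit 1), (nat_lit 2), (nat_lit 1), (nat_lit 1), (nat_lit 2), (nat_lit 1), (nat_lit 1)],
  [(nat_lit 0), (nat_lit 2), (nat_lit 1), (nat_lit 0), (nat_lit 1), (nat_lit 1), (nat_lit 2), (nat_lit 1), (nat_lit 1), (nat_lit 1), (nat_lit 1)],
  [(nat_lit 0), (nat_lit 2), (nat_lit 0), (nat_lit 1), (nat_lit 1), (nat_lit 0)],
  [(nat_lit 2), (nat_lit 1), (nat_lit 0), (nat_lit 1), (nat_lit 0)],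
  [(nat_lit 1), (nat_lit 1), (nat_lit 2), (nat_lit 1)],
  [(nat_lit 1), (nat_lit 1), (nat_lit 0), (nat_lit 2), (nat_lit 1), (nat_lit 0)],
  [(nat_lit 0), (nat_lit 1), (nat_lit 0), (nat_lit 1), (nat_lit 1), (nat_lit 1), (nat_lit 2), (nat_lit 1), (nat_lit 2), (nat_lit 1), (nat_lit 1)],
  [(nat_lit 1), (nat_lit 1), (nat_lit 1), (nat_lit 1), (nat_lit 0), (nat_lit 2), (nat_lit 1), (nat_lit 2), (nat_lit 1), (nat_lit 1)],
  [(nat_lit 0), (nat_lit 1), (nat_lit 0), (nat_lit 1), (nat_lit 2), (nat_lit 1), (nat_lit 0)],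
  [(nat_lit 0), (nat_lit 1), (nat_lit 0), (nat_lit 1), (nat_lit 0), (nat_lit 2), (nat_lit 1)],
  [(nat_lit 1), (nat_lit 1), (nat_lit 1), (nat_lit 0), (nat_lit 1), (nat_lit 2), (nat_lit 1), (nat_lit 2), (nat_lit 1), (nat_lit 1)],
  [(nat_lit 1), (nat_lit 1), (nat_lit 0), (nat_lit 1), (nat_lit 1), (nat_lit 2), (nat_lit 1), (nat_lit 2), (nat_lit 1), (nat_lit 1)],
  [(nat_lit 0), (nat_lit 2), (nat_lit 1), (nat_lit 0), (nat_lit 2)],
  [(nat_lit 2), (nat_lit 0), (nat_lit 1), (nat_lit 2)],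
  [(nat_lit 1), (nat_lit 1), (nat_lit 1), (nat_lit 0), (nat_lit 2), (nat_lit 1), (nat_lit 1), (nat_lit 2), (nat_lit 1), (nat_lit 2)],
  [(nat_lit 1), (nat_lit 1), (nat_lit 0), (nat_lit 1), (nat_lit 2), (nat_lit 1), (nat_lit 1), (nat_lit 2), (nat_lit 1), (nat_lit 2)],
  [(nat_lit 1), (nat_lit 1), (nat_lit 1), (nat_lit 0), (nat_lit 1), (nat_lit 1), (nat_lit 2), (nat_lit 1), (nat_lit 2)],
  [(nat_lit 1), (nat_lit 1), (nat_lit 0), (nat_lit 1), (nat_lit 1), (nat_lit 1), (nat_lit 2), (nat_lit 1), (nat_lit 2)],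
  [(nat_lit 0), (nat_lit 2), (nat_lit 1), (nat_lit 2), (nat_lit 1), (nat_lit 1), (nat_lit 2), (nat_lit 1), (nat_lit 1), (nat_lit 1)],
  [(nat_lit 0), (nat_lit 2), (nat_lit 1), (nat_lit 1), (nat_lit 1), (nat_lit 2), (nat_lit 1), (nat_lit 1), (nat_lit 1), (nat_lit 2)],
  [(nat_lit 0), (nat_lit 1), (nat_lit 1), (nat_lit 1), (nat_lit 0), (nat_lit 2), (nat_lit 1), (nat_lit 1), (nat_lit 1), (nat_lit 1)],
  [(nat_lit 0), (nat_lit 1), (nat_lit 1), (nat_lit 0), (nat_lit 1), (nat_lit 2), (nat_lit 1), (nat_lit 1), (nat_lit 1), (nat_lit 1)],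
  [(nat_lit 1), (nat_lit 0), (nat_lit 1)],
  [(nat_lit 0), (nat_lit 2), (nat_lit 0), (nat_lit 2), (nat_lit 1), (nat_lit 1)],
  [(nat_lit 1), (nat_lit 0), (nat_lit 1), (nat_lit 1), (nat_lit 2), (nat_lit 1), (nat_lit 1), (nat_lit 1), (nat_lit 1)],
  [(nat_lit 0), (nat_lit 1), (nat_lit 1), (nat_lit 1), (nat_lit 2), (nat_lit 1), (nat_lit 0), (nat_lit 1), (nat_lit 1), (nat_lit 1)],
  [(nat_lit 2), (nat_lit 0), (nat_lit 2), (nat_lit 1), (nat_lit 0), (nat_lit 1), (nat_lit 0)],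
  [(nat_lit 0), (nat_lit 1), (nat_lit 1), (nat_lit 0)],
  [(nat_lit 2), (nat_lit 1), (nat_lit 0), (nat_lit 2), (nat_lit 1), (nat_lit 1), (nat_lit 1), (nat_lit 2), (nat_lit 1), (nat_lit 2)],
  [(nat_lit 0), (nat_lit 2), (nat_lit 0), (nat_lit 1), (nat_lit 2), (nat_lit 1), (nat_lit 1), (nat_lit 1), (nat_lit 2), (nat_lit 1), (nat_lit 2)],
  [(nat_lit 1), (nat_lit 1), (nat_lit 1), (nat_lit 1), (nat_lit 2), (nat_lit 1), (nat_lit 1), (nat_lit 1)],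
  [(nat_lit 1), (nat_lit 1), (nat_lit 0), (nat_lit 1), (nat_lit 0), (nat_lit 1), (nat_lit 2), (nat_lit 1), (nat_lit 1), (nat_lit 1)],
  [(nat_lit 0), (nat_lit 2), (nat_lit 1), (nat_lit 2), (nat_lit 1), (nat_lit 1), (nat_lit 0), (nat_lit 1), (nat_lit 2), (nat_lit 1), (nat_lit 2)],
  [(nat_lit 1), (nat_lit 1), (nat_lit 1), (nat_lit 2), (nat_lit 1), (nat_lit 2), (nat_lit 1), (nat_lit 1), (nat_lit 1)],
  [(nat_lit 1), (nat_lit 1), (nat_lit 0), (nat_lit 1), (nat_lit 1), (nat_lit 0), (nat_lit 2), (nat_lit 1), (nat_lit 1), (nat_lit 1)],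
  [(nat_lit 1), (nat_lit 1), (nat_lit 1), (nat_lit 0), (nat_lit 1), (nat_lit 0), (nat_lit 2), (nat_lit 1), (nat_lit 1), (nat_lit 1)],
  [(nat_lit 0), (nat_lit 1), (nat_lit 2), (nat_lit 1), (nat_lit 2), (nat_lit 1), (nat_lit 0), (nat_lit 1), (nat_lit 1), (nat_lit 2)],
  [(nat_lit 0), (nat_lit 1), (nat_lit 2), (nat_lit 1), (nat_lit 0), (nat_lit 2), (nat_lit 1), (nat_lit 1), (nat_lit 1), (nat_lit 2)],
  [(nat_lit 1), (nat_lit 1), (nat_lit 2), (nat_lit 1), (nat_lit 1), (nat_lit 2), (nat_lit 1), (nat_lit 1), (nat_lit 1), (nat_lit 1)],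
  [(nat_lit 2), (nat_lit 1), (nat_lit 2), (nat_lit 1), (nat_lit 1), (nat_lit 2), (nat_lit 1), (nat_lit 2), (nat_lit 1), (nat_lit 1)],
  [(nat_lit 1), (nat_lit 0), (nat_lit 2), (nat_lit 1), (nat_lit 2), (nat_lit 1), (nat_lit 1), (nat_lit 1), (nat_lit 2)],
  [(nat_lit 0), (nat_lit 1), (nat_lit 2), (nat_lit 1), (nat_lit 2), (nat_lit 1), (nat_lit 1), (nat_lit 0), (nat_lit 1), (nat_lit 2)],
  [(nat_lit 1), (nat_lit 1), (nat_lit 0), (nat_lit 1), (nat_lit 0), (nat_lit 1), (nat_lit 2), (nat_lit 1), (nat_lit 1), (nat_lit 1), (nat_lit 2), (nat_lit 1)],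
  [(nat_lit 1), (nat_lit 1), (nat_lit 1), (nat_lit 1), (nat_lit 2), (nat_lit 1), (nat_lit 1), (nat_lit 1), (nat_lit 2), (nat_lit 1)],
  [(nat_lit 0), (nat_lit 2), (nat_lit 1), (nat_lit 1), (nat_lit 1), (nat_lit 2), (nat_lit 1), (nat_lit 1), (nat_lit 1), (nat_lit 1)],
  [(nat_lit 1), (nat_lit 2), (nat_lit 1), (nat_lit 0), (nat_lit 2), (nat_lit 1), (nat_lit 1), (nat_lit 2), (nat_lit 1), (nat_lit 2)],
  [(nat_lit 2), (nat_lit 1), (nat_lit 1), (nat_lit 0)],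
  [(nat_lit 0), (nat_lit 2), (nat_lit 0), (nat_lit 1), (nat_lit 0), (nat_lit 1), (nat_lit 0)],
  [(nat_lit 1), (nat_lit 1), (nat_lit 0), (nat_lit 1), (nat_lit 2), (nat_lit 1), (nat_lit 1), (nat_lit 2), (nat_lit 1), (nat_lit 1)],
  [(nat_lit 1), (nat_lit 1), (nat_lit 1), (nat_lit 0), (nat_lit 2), (nat_lit 1), (nat_lit 1), (nat_lit 2), (nat_lit 1), (nat_lit 1)],
  [(nat_lit 2), (nat_lit 0), (nat_lit 1), (nat_lit 1)],
  [(nat_lit 0), (nat_lit 2), (nat_lit 1), (nat_lit 0), (nat_lit 1)],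
  [(nat_lit 0), (nat_lit 1), (nat_lit 1), (nat_lit 0), (nat_lit 2), (nat_lit 1)],
  [(nat_lit 0), (nat_lit 1), (nat_lit 1), (nat_lit 2), (nat_lit 1), (nat_lit 0)],
  [(nat_lit 1), (nat_lit 0), (nat_lit 1), (nat_lit 0), (nat_lit 1), (nat_lit 1), (nat_lit 2), (nat_lit 1), (nat_lit 2), (nat_lit 1), (nat_lit 1)],
  [(nat_lit 1), (nat_lit 0), (nat_lit 1), (nat_lit 1), (nat_lit 0), (nat_lit 1), (nat_lit 2), (nat_lit 1), (nat_lit 2), (nat_lit 1), (nat_lit 1)],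
  [(nat_lit 1), (nat_lit 0), (nat_lit 1), (nat_lit 0), (nat_lit 2), (nat_lit 1), (nat_lit 0)],
  [(nat_lit 1), (nat_lit 0), (nat_lit 1), (nat_lit 2), (nat_lit 1)],
  [(nat_lit 1), (nat_lit 0), (nat_lit 1), (nat_lit 1), (nat_lit 1), (nat_lit 0), (nat_lit 2), (nat_lit 1), (nat_lit 2), (nat_lit 1), (nat_lit 1)],
  [(nat_lit 0), (nat_lit 1), (nat_lit 1), (nat_lit 1), (nat_lit 1), (nat_lit 2), (nat_lit 1), (nat_lit 2), (nat_lit 1), (nat_lit 1)],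
  [(nat_lit 1), (nat_lit 0), (nat_lit 1), (nat_lit 2), (nat_lit 1), (nat_lit 2), (nat_lit 1)],
  [(nat_lit 1), (nat_lit 2), (nat_lit 1), (nat_lit 0), (nat_lit 1), (nat_lit 2), (nat_lit 1), (nat_lit 0), (nat_lit 1), (nat_lit 2)],
  [(nat_lit 0), (nat_lit 1), (nat_lit 1), (nat_lit 2), (nat_lit 1), (nat_lit 2), (nat_lit 1), (nat_lit 0)],
  [(nat_lit 1), (nat_lit 2), (nat_lit 1), (nat_lit 1), (nat_lit 0), (nat_lit 2), (nat_lit 1), (nat_lit 0), (nat_lit 1), (nat_lit 2)],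
  [(nat_lit 0), (nat_lit 1), (nat_lit 1), (nat_lit 2), (nat_lit 1), (nat_lit 0), (nat_lit 2), (nat_lit 1)],
  [(nat_lit 1), (nat_lit 2), (nat_lit 1), (nat_lit 1), (nat_lit 2), (nat_lit 1), (nat_lit 1), (nat_lit 2)],
  [(nat_lit 0), (nat_lit 1), (nat_lit 1), (nat_lit 0), (nat_lit 2), (nat_lit 1), (nat_lit 2), (nat_lit 1)],
  [(nat_lit 1), (nat_lit 2), (nat_lit 1), (nat_lit 0), (nat_lit 1), (nat_lit 0), (nat_lit 2), (nat_lit 1), (nat_lit 1), (nat_lit 2)],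
  [(nat_lit 0), (nat_lit 1), (nat_lit 2), (nat_lit 1), (nat_lit 1), (nat_lit 1), (nat_lit 2), (nat_lit 1), (nat_lit 2)],
  [(nat_lit 1), (nat_lit 0), (nat_lit 2), (nat_lit 1), (nat_lit 1), (nat_lit 1), (nat_lit 0), (nat_lit 2), (nat_lit 1), (nat_lit 2)],
  [(nat_lit 1), (nat_lit 0), (nat_lit 2), (nat_lit 1), (nat_lit 2), (nat_lit 1), (nat_lit 1), (nat_lit 1), (nat_lit 1)],
  [(nat_lit 0), (nat_lit 1), (nat_lit 2), (nat_lit 1), (nat_lit 2), (nat_lit 1), (nat_lit 1), (nat_lit 0), (nat_lit 1), (nat_lit 1)],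
  [(nat_lit 2), (nat_lit 1), (nat_lit 1), (nat_lit 2), (nat_lit 1), (nat_lit 0)],
  [(nat_lit 2), (nat_lit 1), (nat_lit 1), (nat_lit 0), (nat_lit 2), (nat_lit 1)],
  [(nat_lit 1), (nat_lit 2), (nat_lit 1), (nat_lit 0), (nat_lit 2), (nat_lit 1), (nat_lit 1), (nat_lit 2), (nat_lit 1), (nat_lit 1)],
  [(nat_lit 1), (nat_lit 2), (nat_lit 1), (nat_lit 2), (nat_lit 1), (nat_lit 0), (nat_lit 1), (nat_lit 2), (nat_lit 1), (nat_lit 1)],
  [(nat_lit 1), (nat_lit 0), (nat_lit 2), (nat_lit 1), (nat_lit 1), (nat_lit 0), (nat_lit 1), (nat_lit 2), (nat_lit 1), (nat_lit 2)],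
  [(nat_lit 1), (nat_lit 0), (nat_lit 2), (nat_lit 1), (nat_lit 0), (nat_lit 1), (nat_lit 1), (nat_lit 2), (nat_lit 1), (nat_lit 2)],
  [(nat_lit 0), (nat_lit 1), (nat_lit 2), (nat_lit 1), (nat_lit 2), (nat_lit 1), (nat_lit 0), (nat_lit 1), (nat_lit 1), (nat_lit 1)],
  [(nat_lit 0), (nat_lit 1), (nat_lit 2), (nat_lit 1), (nat_lit 0), (nat_lit 2), (nat_lit 1), (nat_lit 1), (nat_lit 1), (nat_lit 1)],
  [(nat_lit 0), (nat_lit 2), (nat_lit 1), (nat_lit 0), (nat_lit 1), (nat_lit 2), (nat_lit 1)],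
  [(nat_lit 2), (nat_lit 0), (nat_lit 1), (nat_lit 1), (nat_lit 2), (nat_lit 1)],
  [(nat_lit 1), (nat_lit 2), (nat_lit 1), (nat_lit 2), (nat_lit 1), (nat_lit 1), (nat_lit 0), (nat_lit 2), (nat_lit 1), (nat_lit 1)],
  [(nat_lit 0), (nat_lit 1), (nat_lit 0), (nat_lit 2), (nat_lit 1), (nat_lit 2), (nat_lit 1), (nat_lit 1), (nat_lit 2), (nat_lit 1), (nat_lit 1)],
  [(nat_lit 1), (nat_lit 1), (nat_lit 2), (nat_lit 1), (nat_lit 0), (nat_lit 2), (nat_lit 1), (nat_lit 0)],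
  [(nat_lit 0), (nat_lit 1), (nat_lit 2), (nat_lit 1), (nat_lit 1), (nat_lit 2), (nat_lit 1), (nat_lit 0), (nat_lit 1), (nat_lit 2)],
  [(nat_lit 1), (nat_lit 1), (nat_lit 0), (nat_lit 2), (nat_lit 1), (nat_lit 2), (nat_lit 1), (nat_lit 0)],
  [(nat_lit 1), (nat_lit 0), (nat_lit 2), (nat_lit 1), (nat_lit 1), (nat_lit 2), (nat_lit 1), (nat_lit 1), (nat_lit 2)],
  [(nat_lit 1), (nat_lit 1), (nat_lit 0), (nat_lit 2), (nat_lit 1), (nat_lit 0), (nat_lit 2), (nat_lit 1)],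
  [(nat_lit 0), (nat_lit 1), (nat_lit 2), (nat_lit 1), (nat_lit 0), (nat_lit 1), (nat_lit 2), (nat_lit 1), (nat_lit 1), (nat_lit 2)],
  [(nat_lit 1), (nat_lit 1), (nat_lit 2), (nat_lit 1), (nat_lit 2), (nat_lit 1)],
  [(nat_lit 0), (nat_lit 1), (nat_lit 2), (nat_lit 1), (nat_lit 1), (nat_lit 0), (nat_lit 2), (nat_lit 1), (nat_lit 1), (nat_lit 2)],
  [(nat_lit 1), (nat_lit 2), (nat_lit 1), (nat_lit 0), (nat_lit 1), (nat_lit 1), (nat_lit 2), (nat_lit 1), (nat_lit 2)],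
  [(nat_lit 1), (nat_lit 2), (nat_lit 1), (nat_lit 1), (nat_lit 0), (nat_lit 1), (nat_lit 2), (nat_lit 1), (nat_lit 2)],
  [(nat_lit 1), (nat_lit 2), (nat_lit 1), (nat_lit 2), (nat_lit 1), (nat_lit 0), (nat_lit 1), (nat_lit 0), (nat_lit 1), (nat_lit 1)],
  [(nat_lit 1), (nat_lit 2), (nat_lit 1), (nat_lit 0), (nat_lit 2), (nat_lit 1), (nat_lit 1), (nat_lit 0), (nat_lit 1), (nat_lit 1)],
  [(nat_lit 2), (nat_lit 0), (nat_lit 1), (nat_lit 0), (nat_lit 1), (nat_lit 2), (nat_lit 1)],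
  [(nat_lit 0), (nat_lit 2), (nat_lit 1), (nat_lit 1), (nat_lit 2), (nat_lit 1)],
  [(nat_lit 0), (nat_lit 1), (nat_lit 2), (nat_lit 1), (nat_lit 2), (nat_lit 1), (nat_lit 1), (nat_lit 2), (nat_lit 1), (nat_lit 1)],
  [(nat_lit 1), (nat_lit 0), (nat_lit 2), (nat_lit 1), (nat_lit 2), (nat_lit 1), (nat_lit 1), (nat_lit 0), (nat_lit 2), (nat_lit 1), (nat_lit 1)],
  [(nat_lit 1), (nat_lit 2), (nat_lit 1), (nat_lit 1), (nat_lit 1), (nat_lit 0), (nat_lit 2), (nat_lit 1), (nat_lit 2)],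
  [(nat_lit 0), (nat_lit 1), (nat_lit 0), (nat_lit 2), (nat_lit 1), (nat_lit 1), (nat_lit 1), (nat_lit 2), (nat_lit 1), (nat_lit 2)],
  [(nat_lit 1), (nat_lit 2), (nat_lit 1), (nat_lit 0), (nat_lit 2), (nat_lit 1), (nat_lit 0), (nat_lit 1), (nat_lit 1), (nat_lit 1)],
  [(nat_lit 1), (nat_lit 2), (nat_lit 1), (nat_lit 2), (nat_lit 1), (nat_lit 1), (nat_lit 1), (nat_lit 1)],
  [(nat_lit 2), (nat_lit 1), (nat_lit 0), (nat_lit 1), (nat_lit 0), (nat_lit 2), (nat_lit 1)],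
  [(nat_lit 2), (nat_lit 1), (nat_lit 0), (nat_lit 1), (nat_lit 2), (nat_lit 1), (nat_lit 0)],
  [(nat_lit 1), (nat_lit 0), (nat_lit 2), (nat_lit 1), (nat_lit 2), (nat_lit 1), (nat_lit 0), (nat_lit 1), (nat_lit 2), (nat_lit 1), (nat_lit 1)],
  [(nat_lit 1), (nat_lit 0), (nat_lit 2), (nat_lit 1), (nat_lit 0), (nat_lit 2), (nat_lit 1), (nat_lit 1), (nat_lit 2), (nat_lit 1), (nat_lit 1)],
  [(nat_lit 1), (nat_lit 0), (nat_lit 1), (nat_lit 2), (nat_lit 1), (nat_lit 2), (nat_lit 1), (nat_lit 1)],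
  [(nat_lit 0), (nat_lit 1), (nat_lit 1), (nat_lit 2), (nat_lit 1), (nat_lit 2), (nat_lit 1), (nat_lit 0), (nat_lit 1)],
  [(nat_lit 1), (nat_lit 2), (nat_lit 1), (nat_lit 0), (nat_lit 1), (nat_lit 2), (nat_lit 1), (nat_lit 0), (nat_lit 1), (nat_lit 2), (nat_lit 1)],
  [(nat_lit 1), (nat_lit 2), (nat_lit 1), (nat_lit 1), (nat_lit 0), (nat_lit 2), (nat_lit 1), (nat_lit 0), (nat_lit 1), (nat_lit 2), (nat_lit 1)],
  [(nat_lit 0), (nat_lit 1), (nat_lit 1), (nat_lit 2), (nat_lit 1), (nat_lit 0), (nat_lit 2), (nat_lit 1), (nat_lit 1)],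
  [(nat_lit 0), (nat_lit 1), (nat_lit 1), (nat_lit 0), (nat_lit 2), (nat_lit 1), (nat_lit 2), (nat_lit 1), (nat_lit 1)],
  [(nat_lit 1), (nat_lit 2), (nat_lit 1), (nat_lit 1), (nat_lit 2), (nat_lit 1), (nat_lit 1), (nat_lit 2), (nat_lit 1)],
  [(nat_lit 1), (nat_lit 2), (nat_lit 1), (nat_lit 0), (nat_lit 1), (nat_lit 0), (nat_lit 2), (nat_lit 1), (nat_lit 1), (nat_lit 2), (nat_lit 1)],
  [(nat_lit 0), (nat_lit 1), (nat_lit 2), (nat_lit 1), (nat_lit 1), (nat_lit 1), (nat_lit 2), (nat_lit 1), (nat_lit 2), (nat_lit 1)],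
  [(nat_lit 1), (nat_lit 0), (nat_lit 2), (nat_lit 1), (nat_lit 1), (nat_lit 1), (nat_lit 0), (nat_lit 2), (nat_lit 1), (nat_lit 2), (nat_lit 1)],
  [(nat_lit 1), (nat_lit 0), (nat_lit 2), (nat_lit 1), (nat_lit 2)],
  [(nat_lit 0), (nat_lit 2), (nat_lit 0), (nat_lit 2), (nat_lit 1), (nat_lit 2), (nat_lit 1), (nat_lit 2)],
  [(nat_lit 1), (nat_lit 0), (nat_lit 2), (nat_lit 1), (nat_lit 1), (nat_lit 0), (nat_lit 1), (nat_lit 2), (nat_lit 1), (nat_lit 2), (nat_lit 1)],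
  [(nat_lit 1), (nat_lit 0), (nat_lit 1), (nat_lit 1), (nat_lit 2), (nat_lit 1), (nat_lit 1), (nat_lit 1), (nat_lit 2), (nat_lit 1), (nat_lit 2)],
  [(nat_lit 2), (nat_lit 0), (nat_lit 2), (nat_lit 1), (nat_lit 0), (nat_lit 2), (nat_lit 1), (nat_lit 0), (nat_lit 2)],
  [(nat_lit 0), (nat_lit 1), (nat_lit 2), (nat_lit 1), (nat_lit 0), (nat_lit 2)],
  [(nat_lit 2), (nat_lit 1), (nat_lit 1), (nat_lit 2), (nat_lit 1), (nat_lit 0), (nat_lit 1)],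
  [(nat_lit 2), (nat_lit 1), (nat_lit 1), (nat_lit 0), (nat_lit 2), (nat_lit 1), (nat_lit 1)],
  [(nat_lit 1), (nat_lit 1), (nat_lit 1), (nat_lit 1), (nat_lit 2), (nat_lit 1), (nat_lit 1), (nat_lit 2), (nat_lit 1), (nat_lit 2)],
  [(nat_lit 1), (nat_lit 2), (nat_lit 1), (nat_lit 1), (nat_lit 1), (nat_lit 0), (nat_lit 2), (nat_lit 1), (nat_lit 1), (nat_lit 1), (nat_lit 2)],
  [(nat_lit 0), (nat_lit 2), (nat_lit 1), (nat_lit 0), (nat_lit 1), (nat_lit 2), (nat_lit 1), (nat_lit 1)],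
  [(nat_lit 2), (nat_lit 0), (nat_lit 1), (nat_lit 1), (nat_lit 2), (nat_lit 1), (nat_lit 1)],
  [(nat_lit 1), (nat_lit 2), (nat_lit 1), (nat_lit 1), (nat_lit 0), (nat_lit 1), (nat_lit 2), (nat_lit 1), (nat_lit 1), (nat_lit 1), (nat_lit 2)],
  [(nat_lit 1), (nat_lit 2), (nat_lit 1), (nat_lit 0), (nat_lit 1), (nat_lit 1), (nat_lit 2), (nat_lit 1), (nat_lit 1), (nat_lit 1), (nat_lit 2)],
  [(nat_lit 1), (nat_lit 0), (nat_lit 1), (nat_lit 2), (nat_lit 1), (nat_lit 2), (nat_lit 1), (nat_lit 1), (nat_lit 2)],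
  [(nat_lit 0), (nat_lit 1), (nat_lit 1), (nat_lit 2), (nat_lit 1), (nat_lit 2), (nat_lit 1), (nat_lit 0), (nat_lit 1), (nat_lit 2)],
  [(nat_lit 1), (nat_lit 2), (nat_lit 1), (nat_lit 1), (nat_lit 0), (nat_lit 2), (nat_lit 1), (nat_lit 0), (nat_lit 1), (nat_lit 2), (nat_lit 1), (nat_lit 2)],
  [(nat_lit 0), (nat_lit 2), (nat_lit 1), (nat_lit 2), (nat_lit 1), (nat_lit 1), (nat_lit 2), (nat_lit 1), (nat_lit 1), (nat_lit 2), (nat_lit 1)],
  [(nat_lit 0), (nat_lit 2), (nat_lit 1), (nat_lit 1), (nat_lit 2), (nat_lit 1), (nat_lit 2), (nat_lit 1), (nat_lit 1)],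
  [(nat_lit 0), (nat_lit 1), (nat_lit 1), (nat_lit 0), (nat_lit 2), (nat_lit 1), (nat_lit 2), (nat_lit 1), (nat_lit 1), (nat_lit 2)],
  [(nat_lit 1), (nat_lit 2), (nat_lit 1), (nat_lit 0), (nat_lit 1), (nat_lit 0), (nat_lit 2), (nat_lit 1), (nat_lit 1), (nat_lit 2), (nat_lit 1), (nat_lit 2)],
  [(nat_lit 1), (nat_lit 2), (nat_lit 1), (nat_lit 1), (nat_lit 2), (nat_lit 1), (nat_lit 1), (nat_lit 2), (nat_lit 1), (nat_lit 2)],
  [(nat_lit 0), (nat_lit 1), (nat_lit 1), (nat_lit 0), (nat_lit 1), (nat_lit 2), (nat_lit 1), (nat_lit 1), (nat_lit 1), (nat_lit 2), (nat_lit 1)],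
  [(nat_lit 0), (nat_lit 1), (nat_lit 1), (nat_lit 1), (nat_lit 0), (nat_lit 2), (nat_lit 1), (nat_lit 1), (nat_lit 1), (nat_lit 2), (nat_lit 1)],
  [(nat_lit 0), (nat_lit 2), (nat_lit 0), (nat_lit 2), (nat_lit 1), (nat_lit 2), (nat_lit 1)],
  [(nat_lit 1), (nat_lit 0), (nat_lit 2), (nat_lit 1)],
  [(nat_lit 1), (nat_lit 0), (nat_lit 2), (nat_lit 1), (nat_lit 1), (nat_lit 2), (nat_lit 1), (nat_lit 1), (nat_lit 1), (nat_lit 1)],
  [(nat_lit 1), (nat_lit 0), (nat_lit 1), (nat_lit 1), (nat_lit 2), (nat_lit 1), (nat_lit 1), (nat_lit 1), (nat_lit 2), (nat_lit 1)],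
  [(nat_lit 0), (nat_lit 1), (nat_lit 2), (nat_lit 1), (nat_lit 0)],
  [(nat_lit 2), (nat_lit 0), (nat_lit 2), (nat_lit 1), (nat_lit 0), (nat_lit 2), (nat_lit 1), (nat_lit 0)],
  [(nat_lit 0), (nat_lit 2), (nat_lit 1), (nat_lit 0), (nat_lit 1), (nat_lit 2), (nat_lit 1), (nat_lit 1), (nat_lit 2)],
  [(nat_lit 2), (nat_lit 0), (nat_lit 1), (nat_lit 1), (nat_lit 2), (nat_lit 1), (nat_lit 1), (nat_lit 2)],
  [(nat_lit 1), (nat_lit 2), (nat_lit 1), (nat_lit 1), (nat_lit 0), (nat_lit 1), (nat_lit 2), (nat_lit 1), (nat_lit 1), (nat_lit 1)],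
  [(nat_lit 1), (nat_lit 2), (nat_lit 1), (nat_lit 0), (nat_lit 1), (nat_lit 1), (nat_lit 2), (nat_lit 1), (nat_lit 1), (nat_lit 1)],
  [(nat_lit 2), (nat_lit 1), (nat_lit 1), (nat_lit 2), (nat_lit 1), (nat_lit 0), (nat_lit 1), (nat_lit 2)],
  [(nat_lit 2), (nat_lit 1), (nat_lit 1), (nat_lit 0), (nat_lit 2), (nat_lit 1), (nat_lit 1), (nat_lit 2)],
  [(nat_lit 1), (nat_lit 1), (nat_lit 1), (nat_lit 1), (nat_lit 2), (nat_lit 1), (nat_lit 1), (nat_lit 2), (nat_lit 1)],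
  [(nat_lit 1), (nat_lit 2), (nat_lit 1), (nat_lit 1), (nat_lit 1), (nat_lit 0), (nat_lit 2), (nat_lit 1), (nat_lit 1), (nat_lit 1)],
  [(nat_lit 1), (nat_lit 1), (nat_lit 2), (nat_lit 1), (nat_lit 0), (nat_lit 2), (nat_lit 1), (nat_lit 0), (nat_lit 1)],
  [(nat_lit 1), (nat_lit 1), (nat_lit 0), (nat_lit 2), (nat_lit 1), (nat_lit 2), (nat_lit 1), (nat_lit 0), (nat_lit 1)],
  [(nat_lit 0), (nat_lit 1), (nat_lit 2), (nat_lit 1), (nat_lit 1), (nat_lit 2), (nat_lit 1), (nat_lit 0), (nat_lit 1), (nat_lit 2), (nat_lit 1)],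
  [(nat_lit 1), (nat_lit 0), (nat_lit 2), (nat_lit 1), (nat_lit 1), (nat_lit 2), (nat_lit 1), (nat_lit 1), (nat_lit 2), (nat_lit 1)],
  [(nat_lit 1), (nat_lit 1), (nat_lit 0), (nat_lit 2), (nat_lit 1), (nat_lit 0), (nat_lit 2), (nat_lit 1), (nat_lit 1)],
  [(nat_lit 1), (nat_lit 1), (nat_lit 2), (nat_lit 1), (nat_lit 2), (nat_lit 1), (nat_lit 1)],
  [(nat_lit 0), (nat_lit 1), (nat_lit 2), (nat_lit 1), (nat_lit 0), (nat_lit 1), (nat_lit 2), (nat_lit 1), (nat_lit 1), (nat_lit 2), (nat_lit 1)],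
  [(nat_lit 0), (nat_lit 1), (nat_lit 2), (nat_lit 1), (nat_lit 1), (nat_lit 0), (nat_lit 2), (nat_lit 1), (nat_lit 1), (nat_lit 2), (nat_lit 1)],
  [(nat_lit 1), (nat_lit 1), (nat_lit 1), (nat_lit 2), (nat_lit 1), (nat_lit 1), (nat_lit 1), (nat_lit 2), (nat_lit 1), (nat_lit 2)],
  [(nat_lit 1), (nat_lit 2), (nat_lit 1), (nat_lit 1), (nat_lit 0), (nat_lit 1), (nat_lit 2), (nat_lit 1), (nat_lit 2), (nat_lit 1)],
  [(nat_lit 0), (nat_lit 1), (nat_lit 0), (nat_lit 2), (nat_lit 1), (nat_lit 0), (nat_lit 2)],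
  [(nat_lit 2), (nat_lit 0), (nat_lit 2), (nat_lit 1), (nat_lit 2), (nat_lit 1), (nat_lit 0), (nat_lit 2)],
  [(nat_lit 1), (nat_lit 2), (nat_lit 1), (nat_lit 1), (nat_lit 1), (nat_lit 0), (nat_lit 2), (nat_lit 1), (nat_lit 2), (nat_lit 1)],
  [(nat_lit 0), (nat_lit 1), (nat_lit 0), (nat_lit 2), (nat_lit 1), (nat_lit 1), (nat_lit 1), (nat_lit 2), (nat_lit 1), (nat_lit 2), (nat_lit 1)],
  [(nat_lit 0), (nat_lit 2), (nat_lit 0), (nat_lit 2), (nat_lit 1), (nat_lit 0), (nat_lit 2), (nat_lit 1), (nat_lit 2)],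
  [(nat_lit 1), (nat_lit 2), (nat_lit 1), (nat_lit 2)],
  [(nat_lit 2), (nat_lit 0), (nat_lit 1), (nat_lit 0), (nat_lit 1), (nat_lit 2), (nat_lit 1), (nat_lit 1)],
  [(nat_lit 0), (nat_lit 2), (nat_lit 1), (nat_lit 1), (nat_lit 2), (nat_lit 1), (nat_lit 1)],
  [(nat_lit 0), (nat_lit 1), (nat_lit 2), (nat_lit 1), (nat_lit 2), (nat_lit 1), (nat_lit 1), (nat_lit 2), (nat_lit 1), (nat_lit 1), (nat_lit 1)],
  [(nat_lit 0), (nat_lit 1), (nat_lit 1), (nat_lit 1), (nat_lit 0), (nat_lit 1), (nat_lit 2), (nat_lit 1), (nat_lit 1), (nat_lit 2), (nat_lit 1), (nat_lit 2)],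
  [(nat_lit 2), (nat_lit 1), (nat_lit 0), (nat_lit 1), (nat_lit 0), (nat_lit 2), (nat_lit 1), (nat_lit 1)],
  [(nat_lit 2), (nat_lit 1), (nat_lit 0), (nat_lit 1), (nat_lit 2), (nat_lit 1), (nat_lit 0), (nat_lit 1)],
  [(nat_lit 0), (nat_lit 1), (nat_lit 1), (nat_lit 1), (nat_lit 1), (nat_lit 0), (nat_lit 2), (nat_lit 1), (nat_lit 1), (nat_lit 2), (nat_lit 1), (nat_lit 2)],
  [(nat_lit 0), (nat_lit 1), (nat_lit 2), (nat_lit 1), (nat_lit 1), (nat_lit 1), (nat_lit 2), (nat_lit 1), (nat_lit 1), (nat_lit 1), (nat_lit 2)],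
  [(nat_lit 2), (nat_lit 0), (nat_lit 1), (nat_lit 1), (nat_lit 2), (nat_lit 1), (nat_lit 2), (nat_lit 1), (nat_lit 1)],
  [(nat_lit 0), (nat_lit 2), (nat_lit 1), (nat_lit 0), (nat_lit 1), (nat_lit 2), (nat_lit 1), (nat_lit 2), (nat_lit 1), (nat_lit 1)],
  [(nat_lit 1), (nat_lit 0), (nat_lit 2), (nat_lit 1), (nat_lit 1), (nat_lit 2), (nat_lit 1), (nat_lit 1), (nat_lit 2), (nat_lit 1), (nat_lit 2)],
  [(nat_lit 2), (nat_lit 1), (nat_lit 2), (nat_lit 1), (nat_lit 0), (nat_lit 1), (nat_lit 2), (nat_lit 1), (nat_lit 1), (nat_lit 2), (nat_lit 1)],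
  [(nat_lit 2), (nat_lit 1), (nat_lit 1), (nat_lit 0), (nat_lit 2), (nat_lit 1), (nat_lit 2), (nat_lit 1), (nat_lit 1)],
  [(nat_lit 1), (nat_lit 1), (nat_lit 2), (nat_lit 1), (nat_lit 2), (nat_lit 1), (nat_lit 1), (nat_lit 2)],
  [(nat_lit 0), (nat_lit 1), (nat_lit 2), (nat_lit 1), (nat_lit 1), (nat_lit 0), (nat_lit 2), (nat_lit 1), (nat_lit 1), (nat_lit 2), (nat_lit 1), (nat_lit 2)],
  [(nat_lit 2), (nat_lit 0), (nat_lit 1), (nat_lit 2), (nat_lit 1), (nat_lit 1), (nat_lit 2), (nat_lit 1), (nat_lit 1), (nat_lit 2), (nat_lit 1)],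
  [(nat_lit 1), (nat_lit 1), (nat_lit 1), (nat_lit 2), (nat_lit 1), (nat_lit 1), (nat_lit 1), (nat_lit 2), (nat_lit 1)],
  [(nat_lit 1), (nat_lit 2), (nat_lit 1), (nat_lit 1), (nat_lit 2), (nat_lit 1), (nat_lit 1), (nat_lit 1), (nat_lit 1)],
  [(nat_lit 2), (nat_lit 0), (nat_lit 2), (nat_lit 1), (nat_lit 2), (nat_lit 1), (nat_lit 0)],
  [(nat_lit 0), (nat_lit 1), (nat_lit 0), (nat_lit 2), (nat_lit 1), (nat_lit 0)],
  [(nat_lit 1), (nat_lit 1), (nat_lit 0), (nat_lit 1), (nat_lit 2), (nat_lit 1), (nat_lit 0), (nat_lit 1), (nat_lit 1), (nat_lit 2), (nat_lit 1)],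
  [(nat_lit 1), (nat_lit 1), (nat_lit 1), (nat_lit 0), (nat_lit 2), (nat_lit 1), (nat_lit 0), (nat_lit 1), (nat_lit 1), (nat_lit 2), (nat_lit 1)],
  [(nat_lit 1), (nat_lit 2), (nat_lit 1)],
  [(nat_lit 0), (nat_lit 2), (nat_lit 0), (nat_lit 2), (nat_lit 1), (nat_lit 0), (nat_lit 2), (nat_lit 1)],
  [(nat_lit 2), (nat_lit 1), (nat_lit 0), (nat_lit 1), (nat_lit 0), (nat_lit 2), (nat_lit 1), (nat_lit 1), (nat_lit 2)],
  [(nat_lit 2), (nat_lit 1), (nat_lit 0), (nat_lit 1), (nat_lit 2), (nat_lit 1), (nat_lit 0), (nat_lit 1), (nat_lit 2)],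
  [(nat_lit 0), (nat_lit 1), (nat_lit 1), (nat_lit 1), (nat_lit 1), (nat_lit 0), (nat_lit 2), (nat_lit 1), (nat_lit 1), (nat_lit 2), (nat_lit 1)],
  [(nat_lit 0), (nat_lit 1), (nat_lit 2), (nat_lit 1), (nat_lit 1), (nat_lit 1), (nat_lit 2), (nat_lit 1), (nat_lit 1), (nat_lit 1)],
  [(nat_lit 2), (nat_lit 0), (nat_lit 1), (nat_lit 0), (nat_lit 1), (nat_lit 2), (nat_lit 1), (nat_lit 1), (nat_lit 2)],
  [(nat_lit 0), (nat_lit 2), (nat_lit 1), (nat_lit 1), (nat_lit 2), (nat_lit 1), (nat_lit 1), (nat_lit 2)],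
  [(nat_lit 0), (nat_lit 1), (nat_lit 1), (nat_lit 0), (nat_lit 1), (nat_lit 1), (nat_lit 2), (nat_lit 1), (nat_lit 1), (nat_lit 2), (nat_lit 1)],
  [(nat_lit 0), (nat_lit 1), (nat_lit 1), (nat_lit 1), (nat_lit 0), (nat_lit 1), (nat_lit 2), (nat_lit 1), (nat_lit 1), (nat_lit 2), (nat_lit 1)],
  [(nat_lit 1), (nat_lit 0), (nat_lit 1), (nat_lit 1), (nat_lit 2), (nat_lit 1), (nat_lit 2), (nat_lit 1), (nat_lit 1), (nat_lit 1), (nat_lit 1)],
  [(nat_lit 0), (nat_lit 1), (nat_lit 1), (nat_lit 1), (nat_lit 2), (nat_lit 1), (nat_lit 0), (nat_lit 2), (nat_lit 1), (nat_lit 1), (nat_lit 1), (nat_lit 1)],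
  [(nat_lit 0), (nat_lit 2), (nat_lit 0), (nat_lit 1), (nat_lit 2), (nat_lit 1), (nat_lit 0), (nat_lit 2)],
  [(nat_lit 2), (nat_lit 1), (nat_lit 0), (nat_lit 2), (nat_lit 1), (nat_lit 0), (nat_lit 2)],
  [(nat_lit 2), (nat_lit 0), (nat_lit 1), (nat_lit 2), (nat_lit 1), (nat_lit 1), (nat_lit 2), (nat_lit 1), (nat_lit 1), (nat_lit 1), (nat_lit 1)],
  [(nat_lit 0), (nat_lit 1), (nat_lit 1), (nat_lit 1), (nat_lit 2), (nat_lit 1), (nat_lit 1), (nat_lit 2), (nat_lit 1), (nat_lit 2), (nat_lit 1)],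
  [(nat_lit 2), (nat_lit 1), (nat_lit 0), (nat_lit 2), (nat_lit 1), (nat_lit 0)],
  [(nat_lit 0), (nat_lit 2), (nat_lit 0), (nat_lit 1), (nat_lit 2), (nat_lit 1), (nat_lit 0)],
  [(nat_lit 0), (nat_lit 1), (nat_lit 1), (nat_lit 1), (nat_lit 0), (nat_lit 2), (nat_lit 1), (nat_lit 2), (nat_lit 1), (nat_lit 1), (nat_lit 1), (nat_lit 1)],
  [(nat_lit 2), (nat_lit 1), (nat_lit 2), (nat_lit 1), (nat_lit 1), (nat_lit 1), (nat_lit 2), (nat_lit 1), (nat_lit 2), (nat_lit 1)],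
  [(nat_lit 0), (nat_lit 2), (nat_lit 1), (nat_lit 2), (nat_lit 1), (nat_lit 2)],
  [(nat_lit 2), (nat_lit 0), (nat_lit 1), (nat_lit 0), (nat_lit 2), (nat_lit 1), (nat_lit 2)],
  [(nat_lit 2), (nat_lit 1), (nat_lit 1), (nat_lit 1), (nat_lit 0), (nat_lit 2), (nat_lit 1), (nat_lit 1), (nat_lit 1), (nat_lit 2), (nat_lit 1)],
  [(nat_lit 2), (nat_lit 1), (nat_lit 1), (nat_lit 0), (nat_lit 1), (nat_lit 2), (nat_lit 1), (nat_lit 1), (nat_lit 1), (nat_lit 2), (nat_lit 1)],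
  [(nat_lit 2), (nat_lit 0), (nat_lit 1), (nat_lit 0), (nat_lit 2), (nat_lit 1)],
  [(nat_lit 0), (nat_lit 2), (nat_lit 1), (nat_lit 2), (nat_lit 1)],
  [(nat_lit 0), (nat_lit 1), (nat_lit 0), (nat_lit 1), (nat_lit 0), (nat_lit 1)],
  [(nat_lit 1), (nat_lit 1), (nat_lit 0), (nat_lit 1), (nat_lit 0), (nat_lit 2)],
  [(nat_lit 0), (nat_lit 1), (nat_lit 0), (nat_lit 1), (nat_lit 1), (nat_lit 0)],
  [(nat_lit 1), (nat_lit 1), (nat_lit 1), (nat_lit 2)],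
  [(nat_lit 1), (nat_lit 1), (nat_lit 0), (nat_lit 1), (nat_lit 0)],
  [(nat_lit 0), (nat_lit 1), (nat_lit 0), (nat_lit 1), (nat_lit 0), (nat_lit 1), (nat_lit 2)],
  [(nat_lit 1), (nat_lit 1), (nat_lit 1)],
  [(nat_lit 0), (nat_lit 1), (nat_lit 0), (nat_lit 1), (nat_lit 1), (nat_lit 0), (nat_lit 2)],
  [(nat_lit 2), (nat_lit 1), (nat_lit 0), (nat_lit 2), (nat_lit 1), (nat_lit 1), (nat_lit 1), (nat_lit 2), (nat_lit 1), (nat_lit 2), (nat_lit 1)],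
  [(nat_lit 0), (nat_lit 2), (nat_lit 0), (nat_lit 1), (nat_lit 2), (nat_lit 1), (nat_lit 1), (nat_lit 1), (nat_lit 2), (nat_lit 1), (nat_lit 2), (nat_lit 1)],
  [(nat_lit 2), (nat_lit 0), (nat_lit 1), (nat_lit 2), (nat_lit 1), (nat_lit 2)],
  [(nat_lit 0), (nat_lit 2), (nat_lit 1), (nat_lit 0), (nat_lit 2), (nat_lit 1), (nat_lit 2)],
  [(nat_lit 1), (nat_lit 1), (nat_lit 1), (nat_lit 0), (nat_lit 2), (nat_lit 1), (nat_lit 1), (nat_lit 2), (nat_lit 1), (nat_lit 2), (nat_lit 1)],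
  [(nat_lit 1), (nat_lit 1), (nat_lit 0), (nat_lit 1), (nat_lit 2), (nat_lit 1), (nat_lit 1), (nat_lit 2), (nat_lit 1), (nat_lit 2), (nat_lit 1)],
  [(nat_lit 0), (nat_lit 2), (nat_lit 1), (nat_lit 0), (nat_lit 2), (nat_lit 1)],
  [(nat_lit 2), (nat_lit 0), (nat_lit 1), (nat_lit 2), (nat_lit 1)],
  [(nat_lit 0), (nat_lit 2), (nat_lit 1), (nat_lit 2), (nat_lit 1), (nat_lit 1), (nat_lit 0), (nat_lit 1), (nat_lit 2), (nat_lit 1), (nat_lit 2), (nat_lit 1)],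
  [(nat_lit 1), (nat_lit 1), (nat_lit 1), (nat_lit 2), (nat_lit 1), (nat_lit 2), (nat_lit 1), (nat_lit 1), (nat_lit 1), (nat_lit 1)],
  [(nat_lit 2), (nat_lit 1), (nat_lit 2), (nat_lit 1), (nat_lit 0), (nat_lit 2)],
  [(nat_lit 0), (nat_lit 2), (nat_lit 0), (nat_lit 1), (nat_lit 0), (nat_lit 2), (nat_lit 1), (nat_lit 0), (nat_lit 2)],
  [(nat_lit 0), (nat_lit 2), (nat_lit 1), (nat_lit 2), (nat_lit 1), (nat_lit 1), (nat_lit 2), (nat_lit 1), (nat_lit 1), (nat_lit 1), (nat_lit 1)],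
  [(nat_lit 0), (nat_lit 2), (nat_lit 1), (nat_lit 1), (nat_lit 1), (nat_lit 2), (nat_lit 1), (nat_lit 1), (nat_lit 1), (nat_lit 2), (nat_lit 1)],
  [(nat_lit 0), (nat_lit 2), (nat_lit 0), (nat_lit 1), (nat_lit 0), (nat_lit 2), (nat_lit 1), (nat_lit 0)],
  [(nat_lit 2), (nat_lit 1), (nat_lit 2), (nat_lit 1), (nat_lit 0)],
  [(nat_lit 1), (nat_lit 0), (nat_lit 1), (nat_lit 1)],
  [(nat_lit 0), (nat_lit 1), (nat_lit 1), (nat_lit 1), (nat_lit 0), (nat_lit 2)],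
  [(nat_lit 1), (nat_lit 0), (nat_lit 1), (nat_lit 0), (nat_lit 1), (nat_lit 0)],
  [(nat_lit 0), (nat_lit 1), (nat_lit 1), (nat_lit 0), (nat_lit 1), (nat_lit 2)],
  [(nat_lit 0), (nat_lit 1), (nat_lit 1), (nat_lit 1), (nat_lit 0)],
  [(nat_lit 1), (nat_lit 0), (nat_lit 1), (nat_lit 1), (nat_lit 2)],
  [(nat_lit 0), (nat_lit 1), (nat_lit 1), (nat_lit 0), (nat_lit 1)],
  [(nat_lit 1), (nat_lit 0), (nat_lit 1), (nat_lit 0), (nat_lit 1), (nat_lit 0), (nat_lit 2)],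
  [(nat_lit 1), (nat_lit 1), (nat_lit 2), (nat_lit 1), (nat_lit 1)],
  [(nat_lit 1), (nat_lit 1), (nat_lit 0), (nat_lit 2), (nat_lit 1), (nat_lit 0), (nat_lit 1)],
  [(nat_lit 0), (nat_lit 1), (nat_lit 0), (nat_lit 1), (nat_lit 1), (nat_lit 1), (nat_lit 2), (nat_lit 1), (nat_lit 2), (nat_lit 1), (nat_lit 1), (nat_lit 1)],
  [(nat_lit 1), (nat_lit 1), (nat_lit 1), (nat_lit 1), (nat_lit 0), (nat_lit 2), (nat_lit 1), (nat_lit 2), (nat_lit 1), (nat_lit 1), (nat_lit 1)],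
  [(nat_lit 0), (nat_lit 1), (nat_lit 1), (nat_lit 0), (nat_lit 2), (nat_lit 1), (nat_lit 1), (nat_lit 2)],
  [(nat_lit 0), (nat_lit 1), (nat_lit 1), (nat_lit 2), (nat_lit 1), (nat_lit 0), (nat_lit 1), (nat_lit 2)],
  [(nat_lit 2), (nat_lit 1), (nat_lit 2), (nat_lit 1), (nat_lit 1), (nat_lit 1), (nat_lit 2), (nat_lit 1), (nat_lit 1), (nat_lit 1)],
  [(nat_lit 1), (nat_lit 2), (nat_lit 1), (nat_lit 2), (nat_lit 1), (nat_lit 1), (nat_lit 1), (nat_lit 2), (nat_lit 1)],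
  [(nat_lit 1), (nat_lit 1), (nat_lit 0), (nat_lit 2), (nat_lit 1), (nat_lit 1), (nat_lit 0)],
  [(nat_lit 1), (nat_lit 1), (nat_lit 2), (nat_lit 1), (nat_lit 0), (nat_lit 1), (nat_lit 0)],
  [(nat_lit 1), (nat_lit 0), (nat_lit 2), (nat_lit 1), (nat_lit 2), (nat_lit 1), (nat_lit 1), (nat_lit 1), (nat_lit 2), (nat_lit 1), (nat_lit 2)],
  [(nat_lit 1), (nat_lit 1), (nat_lit 0), (nat_lit 1), (nat_lit 1), (nat_lit 2), (nat_lit 1), (nat_lit 2), (nat_lit 1), (nat_lit 1), (nat_lit 1)],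
  [(nat_lit 0), (nat_lit 1), (nat_lit 1), (nat_lit 2), (nat_lit 1), (nat_lit 1), (nat_lit 0), (nat_lit 2)],
  [(nat_lit 1), (nat_lit 0), (nat_lit 1), (nat_lit 2), (nat_lit 1), (nat_lit 1), (nat_lit 2)],
  [(nat_lit 1), (nat_lit 2), (nat_lit 1), (nat_lit 2), (nat_lit 1), (nat_lit 0), (nat_lit 1), (nat_lit 0), (nat_lit 1), (nat_lit 2), (nat_lit 1)],
  [(nat_lit 1), (nat_lit 2), (nat_lit 1), (nat_lit 0), (nat_lit 2), (nat_lit 1), (nat_lit 1), (nat_lit 0), (nat_lit 1), (nat_lit 2), (nat_lit 1)],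
  [(nat_lit 0), (nat_lit 2), (nat_lit 1), (nat_lit 1), (nat_lit 1)],
  [(nat_lit 2), (nat_lit 1), (nat_lit 1), (nat_lit 0), (nat_lit 1), (nat_lit 2)],
  [(nat_lit 2), (nat_lit 0), (nat_lit 1), (nat_lit 0), (nat_lit 1), (nat_lit 1)],
  [(nat_lit 2), (nat_lit 1), (nat_lit 1), (nat_lit 1), (nat_lit 0), (nat_lit 2)],
  [(nat_lit 2), (nat_lit 1), (nat_lit 0), (nat_lit 1), (nat_lit 1), (nat_lit 0)],
  [(nat_lit 2), (nat_lit 0), (nat_lit 1), (nat_lit 1), (nat_lit 1), (nat_lit 2)],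
  [(nat_lit 2), (nat_lit 1), (nat_lit 0), (nat_lit 1), (nat_lit 0), (nat_lit 1)],
  [(nat_lit 0), (nat_lit 2), (nat_lit 1), (nat_lit 0), (nat_lit 1), (nat_lit 1), (nat_lit 2)],
  [(nat_lit 0), (nat_lit 1), (nat_lit 1), (nat_lit 0), (nat_lit 2), (nat_lit 1), (nat_lit 1)],
  [(nat_lit 0), (nat_lit 1), (nat_lit 1), (nat_lit 2), (nat_lit 1), (nat_lit 0), (nat_lit 1)],
  [(nat_lit 2), (nat_lit 1), (nat_lit 2), (nat_lit 1), (nat_lit 1), (nat_lit 1), (nat_lit 2), (nat_lit 1), (nat_lit 1), (nat_lit 1), (nat_lit 2)],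
  [(nat_lit 1), (nat_lit 2), (nat_lit 1), (nat_lit 2), (nat_lit 1), (nat_lit 1), (nat_lit 1), (nat_lit 2), (nat_lit 1), (nat_lit 2)],
  [(nat_lit 1), (nat_lit 1), (nat_lit 2), (nat_lit 1), (nat_lit 1), (nat_lit 2)],
  [(nat_lit 1), (nat_lit 1), (nat_lit 0), (nat_lit 2), (nat_lit 1), (nat_lit 0), (nat_lit 1), (nat_lit 2)],
  [(nat_lit 0), (nat_lit 1), (nat_lit 2), (nat_lit 1), (nat_lit 2), (nat_lit 1), (nat_lit 0), (nat_lit 1), (nat_lit 1), (nat_lit 2), (nat_lit 1)],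
  [(nat_lit 0), (nat_lit 1), (nat_lit 2), (nat_lit 1), (nat_lit 0), (nat_lit 2), (nat_lit 1), (nat_lit 1), (nat_lit 1), (nat_lit 2), (nat_lit 1)],
  [(nat_lit 0), (nat_lit 1), (nat_lit 1), (nat_lit 2), (nat_lit 1), (nat_lit 1), (nat_lit 0)],
  [(nat_lit 1), (nat_lit 0), (nat_lit 1), (nat_lit 2), (nat_lit 1), (nat_lit 1)],
  [(nat_lit 1), (nat_lit 0), (nat_lit 1), (nat_lit 1), (nat_lit 1), (nat_lit 0), (nat_lit 2), (nat_lit 1), (nat_lit 2), (nat_lit 1), (nat_lit 1), (nat_lit 1)],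
  [(nat_lit 0), (nat_lit 1), (nat_lit 1), (nat_lit 1), (nat_lit 1), (nat_lit 2), (nat_lit 1), (nat_lit 2), (nat_lit 1), (nat_lit 1), (nat_lit 1)],
  [(nat_lit 1), (nat_lit 1), (nat_lit 0), (nat_lit 2), (nat_lit 1), (nat_lit 1), (nat_lit 0), (nat_lit 2)],
  [(nat_lit 1), (nat_lit 1), (nat_lit 2), (nat_lit 1), (nat_lit 0), (nat_lit 1), (nat_lit 0), (nat_lit 2)],
  [(nat_lit 1), (nat_lit 0), (nat_lit 2), (nat_lit 1), (nat_lit 2), (nat_lit 1), (nat_lit 1), (nat_lit 1), (nat_lit 2), (nat_lit 1)],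
  [(nat_lit 0), (nat_lit 1), (nat_lit 2), (nat_lit 1), (nat_lit 2), (nat_lit 1), (nat_lit 1), (nat_lit 0), (nat_lit 1), (nat_lit 2), (nat_lit 1)],
  [(nat_lit 2), (nat_lit 1), (nat_lit 1), (nat_lit 0), (nat_lit 1)],
  [(nat_lit 0), (nat_lit 2), (nat_lit 1), (nat_lit 1), (nat_lit 1), (nat_lit 2)],
  [(nat_lit 2), (nat_lit 1), (nat_lit 1), (nat_lit 1), (nat_lit 0)],
  [(nat_lit 2), (nat_lit 0), (nat_lit 1), (nat_lit 0), (nat_lit 1), (nat_lit 1), (nat_lit 2)],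
  [(nat_lit 2), (nat_lit 0), (nat_lit 1), (nat_lit 1), (nat_lit 1)],
  [(nat_lit 2), (nat_lit 1), (nat_lit 0), (nat_lit 1), (nat_lit 1), (nat_lit 0), (nat_lit 2)],
  [(nat_lit 0), (nat_lit 2), (nat_lit 1), (nat_lit 0), (nat_lit 1), (nat_lit 1)],
  [(nat_lit 2), (nat_lit 1), (nat_lit 0), (nat_lit 1), (nat_lit 0), (nat_lit 1), (nat_lit 2)],
  [(nat_lit 0), (nat_lit 1), (nat_lit 1), (nat_lit 0), (nat_lit 2), (nat_lit 1), (nat_lit 1), (nat_lit 1)],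
  [(nat_lit 0), (nat_lit 1), (nat_lit 1), (nat_lit 2), (nat_lit 1), (nat_lit 0), (nat_lit 1), (nat_lit 1)],
  [(nat_lit 1), (nat_lit 2), (nat_lit 1), (nat_lit 2), (nat_lit 1), (nat_lit 1), (nat_lit 1), (nat_lit 2), (nat_lit 1), (nat_lit 2), (nat_lit 1)],
  [(nat_lit 2), (nat_lit 1), (nat_lit 2), (nat_lit 1), (nat_lit 1), (nat_lit 1), (nat_lit 2), (nat_lit 1), (nat_lit 1), (nat_lit 1), (nat_lit 2), (nat_lit 1)],
  [(nat_lit 1), (nat_lit 1), (nat_lit 2), (nat_lit 1), (nat_lit 1), (nat_lit 2), (nat_lit 1)],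
  [(nat_lit 1), (nat_lit 1), (nat_lit 0), (nat_lit 2), (nat_lit 1), (nat_lit 0), (nat_lit 1), (nat_lit 2), (nat_lit 1)],
  [(nat_lit 1), (nat_lit 0), (nat_lit 1), (nat_lit 2), (nat_lit 1), (nat_lit 2), (nat_lit 1), (nat_lit 1), (nat_lit 1), (nat_lit 2)],
  [(nat_lit 0), (nat_lit 1), (nat_lit 1), (nat_lit 2), (nat_lit 1), (nat_lit 2), (nat_lit 1), (nat_lit 0), (nat_lit 1), (nat_lit 1), (nat_lit 2)],
  [(nat_lit 0), (nat_lit 1), (nat_lit 1), (nat_lit 2), (nat_lit 1), (nat_lit 1), (nat_lit 0), (nat_lit 1)],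
  [(nat_lit 1), (nat_lit 0), (nat_lit 1), (nat_lit 2), (nat_lit 1), (nat_lit 1), (nat_lit 1)],
  [(nat_lit 0), (nat_lit 1), (nat_lit 1), (nat_lit 1), (nat_lit 1), (nat_lit 2), (nat_lit 1), (nat_lit 2), (nat_lit 1), (nat_lit 1), (nat_lit 1), (nat_lit 1)],
  [(nat_lit 1), (nat_lit 0), (nat_lit 1), (nat_lit 1), (nat_lit 1), (nat_lit 0), (nat_lit 2), (nat_lit 1), (nat_lit 2), (nat_lit 1), (nat_lit 1), (nat_lit 1), (nat_lit 1)],
  [(nat_lit 1), (nat_lit 1), (nat_lit 0), (nat_lit 2), (nat_lit 1), (nat_lit 1), (nat_lit 0), (nat_lit 2), (nat_lit 1)],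
  [(nat_lit 1), (nat_lit 1), (nat_lit 2), (nat_lit 1), (nat_lit 0), (nat_lit 1), (nat_lit 0), (nat_lit 2), (nat_lit 1)],
  [(nat_lit 0), (nat_lit 1), (nat_lit 1), (nat_lit 2), (nat_lit 1), (nat_lit 0), (nat_lit 2), (nat_lit 1), (nat_lit 1), (nat_lit 1), (nat_lit 2)],
  [(nat_lit 0), (nat_lit 1), (nat_lit 1), (nat_lit 0), (nat_lit 2), (nat_lit 1), (nat_lit 2), (nat_lit 1), (nat_lit 1), (nat_lit 1), (nat_lit 2)],
  [(nat_lit 2), (nat_lit 0), (nat_lit 1), (nat_lit 1), (nat_lit 1), (nat_lit 1)],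
  [(nat_lit 2), (nat_lit 1), (nat_lit 0), (nat_lit 1), (nat_lit 1), (nat_lit 0), (nat_lit 2), (nat_lit 1)],
  [(nat_lit 0), (nat_lit 2), (nat_lit 1), (nat_lit 0), (nat_lit 1), (nat_lit 1), (nat_lit 1)],
  [(nat_lit 2), (nat_lit 1), (nat_lit 0), (nat_lit 1), (nat_lit 0), (nat_lit 1), (nat_lit 2), (nat_lit 1)],
  [(nat_lit 2), (nat_lit 1), (nat_lit 1), (nat_lit 0), (nat_lit 1), (nat_lit 1)],
  [(nat_lit 0), (nat_lit 2), (nat_lit 1), (nat_lit 1), (nat_lit 1), (nat_lit 2), (nat_lit 1)],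
  [(nat_lit 2), (nat_lit 1), (nat_lit 1), (nat_lit 1), (nat_lit 0), (nat_lit 1)],
  [(nat_lit 2), (nat_lit 0), (nat_lit 1), (nat_lit 0), (nat_lit 1), (nat_lit 1), (nat_lit 2), (nat_lit 1)],
  [(nat_lit 0), (nat_lit 1), (nat_lit 1), (nat_lit 0), (nat_lit 2), (nat_lit 1), (nat_lit 1), (nat_lit 1), (nat_lit 2)],
  [(nat_lit 2), (nat_lit 0), (nat_lit 1), (nat_lit 1), (nat_lit 2), (nat_lit 1), (nat_lit 1), (nat_lit 1)],
  [(nat_lit 1), (nat_lit 2), (nat_lit 1), (nat_lit 0), (nat_lit 1), (nat_lit 1), (nat_lit 2), (nat_lit 1), (nat_lit 1), (nat_lit 1), (nat_lit 2), (nat_lit 1)],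
  [(nat_lit 1), (nat_lit 2), (nat_lit 1), (nat_lit 1), (nat_lit 0), (nat_lit 1), (nat_lit 2), (nat_lit 1), (nat_lit 1), (nat_lit 1), (nat_lit 2), (nat_lit 1)],
  [(nat_lit 1), (nat_lit 1), (nat_lit 2), (nat_lit 1), (nat_lit 1), (nat_lit 2), (nat_lit 1), (nat_lit 2)],
  [(nat_lit 1), (nat_lit 1), (nat_lit 0), (nat_lit 2), (nat_lit 1), (nat_lit 0), (nat_lit 1), (nat_lit 2), (nat_lit 1), (nat_lit 2)],
  [(nat_lit 0), (nat_lit 1), (nat_lit 1), (nat_lit 2), (nat_lit 1), (nat_lit 2), (nat_lit 1), (nat_lit 0), (nat_lit 1), (nat_lit 1)],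
  [(nat_lit 1), (nat_lit 0), (nat_lit 1), (nat_lit 2), (nat_lit 1), (nat_lit 2), (nat_lit 1), (nat_lit 1), (nat_lit 1)],
  [(nat_lit 2), (nat_lit 1), (nat_lit 1), (nat_lit 2), (nat_lit 1), (nat_lit 0), (nat_lit 1), (nat_lit 1)],
  [(nat_lit 1), (nat_lit 0), (nat_lit 1), (nat_lit 2), (nat_lit 1), (nat_lit 1), (nat_lit 1), (nat_lit 2)],
  [(nat_lit 1), (nat_lit 2), (nat_lit 1), (nat_lit 1), (nat_lit 1), (nat_lit 0), (nat_lit 2), (nat_lit 1), (nat_lit 1), (nat_lit 1), (nat_lit 2), (nat_lit 1)],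
  [(nat_lit 1), (nat_lit 1), (nat_lit 1), (nat_lit 1), (nat_lit 2), (nat_lit 1), (nat_lit 1), (nat_lit 2), (nat_lit 1), (nat_lit 2), (nat_lit 1)],
  [(nat_lit 1), (nat_lit 1), (nat_lit 0), (nat_lit 2), (nat_lit 1), (nat_lit 1), (nat_lit 0), (nat_lit 2), (nat_lit 1), (nat_lit 2)],
  [(nat_lit 1), (nat_lit 1), (nat_lit 2), (nat_lit 1), (nat_lit 0), (nat_lit 1), (nat_lit 0), (nat_lit 2), (nat_lit 1), (nat_lit 2)],
  [(nat_lit 0), (nat_lit 1), (nat_lit 1), (nat_lit 0), (nat_lit 2), (nat_lit 1), (nat_lit 2), (nat_lit 1), (nat_lit 1), (nat_lit 1)],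
  [(nat_lit 0), (nat_lit 1), (nat_lit 1), (nat_lit 2), (nat_lit 1), (nat_lit 0), (nat_lit 2), (nat_lit 1), (nat_lit 1), (nat_lit 1)],
  [(nat_lit 0), (nat_lit 1), (nat_lit 2), (nat_lit 1), (nat_lit 0), (nat_lit 2), (nat_lit 1)],
  [(nat_lit 0), (nat_lit 2), (nat_lit 1), (nat_lit 1), (nat_lit 1), (nat_lit 2), (nat_lit 1), (nat_lit 2)],
  [(nat_lit 0), (nat_lit 1), (nat_lit 2), (nat_lit 1), (nat_lit 2), (nat_lit 1), (nat_lit 0)],
  [(nat_lit 2), (nat_lit 0), (nat_lit 1), (nat_lit 0), (nat_lit 1), (nat_lit 1), (nat_lit 2), (nat_lit 1), (nat_lit 2)],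
  [(nat_lit 2), (nat_lit 0), (nat_lit 1), (nat_lit 1), (nat_lit 1), (nat_lit 1), (nat_lit 2)],
  [(nat_lit 2), (nat_lit 1), (nat_lit 0), (nat_lit 1), (nat_lit 1), (nat_lit 0), (nat_lit 2), (nat_lit 1), (nat_lit 2)],
  [(nat_lit 1), (nat_lit 0), (nat_lit 2), (nat_lit 1), (nat_lit 2), (nat_lit 1)],
  [(nat_lit 2), (nat_lit 1), (nat_lit 0), (nat_lit 1), (nat_lit 0), (nat_lit 1), (nat_lit 2), (nat_lit 1), (nat_lit 2)],
  [(nat_lit 2), (nat_lit 1), (nat_lit 1), (nat_lit 2), (nat_lit 1), (nat_lit 0), (nat_lit 1), (nat_lit 2), (nat_lit 1)],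
  [(nat_lit 2), (nat_lit 1), (nat_lit 1), (nat_lit 0), (nat_lit 2), (nat_lit 1), (nat_lit 1), (nat_lit 2), (nat_lit 1)],
  [(nat_lit 1), (nat_lit 0), (nat_lit 1), (nat_lit 2), (nat_lit 1), (nat_lit 2), (nat_lit 1), (nat_lit 1), (nat_lit 2), (nat_lit 1), (nat_lit 2)],
  [(nat_lit 1), (nat_lit 1), (nat_lit 1), (nat_lit 1), (nat_lit 2), (nat_lit 1), (nat_lit 1), (nat_lit 2), (nat_lit 1), (nat_lit 1)],
  [(nat_lit 2), (nat_lit 1), (nat_lit 1), (nat_lit 2), (nat_lit 1), (nat_lit 0), (nat_lit 1), (nat_lit 2), (nat_lit 1), (nat_lit 2)],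
  [(nat_lit 2), (nat_lit 1), (nat_lit 1), (nat_lit 0), (nat_lit 2), (nat_lit 1), (nat_lit 1), (nat_lit 2), (nat_lit 1), (nat_lit 2)],
  [(nat_lit 0), (nat_lit 1), (nat_lit 1), (nat_lit 2), (nat_lit 1), (nat_lit 2), (nat_lit 1), (nat_lit 0), (nat_lit 1), (nat_lit 2), (nat_lit 1)],
  [(nat_lit 1), (nat_lit 0), (nat_lit 1), (nat_lit 2), (nat_lit 1), (nat_lit 2), (nat_lit 1), (nat_lit 1), (nat_lit 2), (nat_lit 1)],
  [(nat_lit 0), (nat_lit 2), (nat_lit 1), (nat_lit 0), (nat_lit 1), (nat_lit 2), (nat_lit 1), (nat_lit 1), (nat_lit 2), (nat_lit 1)],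
  [(nat_lit 2), (nat_lit 0), (nat_lit 1), (nat_lit 1), (nat_lit 2), (nat_lit 1), (nat_lit 1), (nat_lit 2), (nat_lit 1)],
  [(nat_lit 0), (nat_lit 2), (nat_lit 1), (nat_lit 1), (nat_lit 2), (nat_lit 1), (nat_lit 2), (nat_lit 1), (nat_lit 1), (nat_lit 1), (nat_lit 2)],
  [(nat_lit 1), (nat_lit 2), (nat_lit 1), (nat_lit 1), (nat_lit 0), (nat_lit 1), (nat_lit 2), (nat_lit 1), (nat_lit 1), (nat_lit 1), (nat_lit 1)],
  [(nat_lit 0), (nat_lit 2), (nat_lit 1), (nat_lit 0), (nat_lit 1), (nat_lit 2), (nat_lit 1), (nat_lit 1), (nat_lit 2), (nat_lit 1), (nat_lit 2)],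
  [(nat_lit 2), (nat_lit 0), (nat_lit 1), (nat_lit 1), (nat_lit 2), (nat_lit 1), (nat_lit 1), (nat_lit 2), (nat_lit 1), (nat_lit 2)],
  [(nat_lit 0), (nat_lit 1), (nat_lit 1), (nat_lit 0), (nat_lit 2), (nat_lit 1), (nat_lit 2), (nat_lit 1), (nat_lit 1), (nat_lit 2), (nat_lit 1)],
  [(nat_lit 0), (nat_lit 2), (nat_lit 1), (nat_lit 1), (nat_lit 2), (nat_lit 1), (nat_lit 2), (nat_lit 1), (nat_lit 1), (nat_lit 1)],
  [(nat_lit 0), (nat_lit 1), (nat_lit 2), (nat_lit 1), (nat_lit 1), (nat_lit 0)],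
  [(nat_lit 1), (nat_lit 0), (nat_lit 2), (nat_lit 1), (nat_lit 1), (nat_lit 2)],
  [(nat_lit 0), (nat_lit 1), (nat_lit 2), (nat_lit 1), (nat_lit 0), (nat_lit 1)],
  [(nat_lit 1), (nat_lit 0), (nat_lit 2), (nat_lit 1), (nat_lit 0), (nat_lit 1), (nat_lit 0), (nat_lit 2)],
  [(nat_lit 1), (nat_lit 0), (nat_lit 2), (nat_lit 1), (nat_lit 1)],
  [(nat_lit 0), (nat_lit 1), (nat_lit 2), (nat_lit 1), (nat_lit 1), (nat_lit 0), (nat_lit 2)],
  [(nat_lit 1), (nat_lit 0), (nat_lit 2), (nat_lit 1), (nat_lit 0), (nat_lit 1), (nat_lit 0)],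
  [(nat_lit 0), (nat_lit 1), (nat_lit 2), (nat_lit 1), (nat_lit 0), (nat_lit 1), (nat_lit 2)],
  [(nat_lit 1), (nat_lit 1), (nat_lit 2), (nat_lit 1), (nat_lit 1), (nat_lit 1)],
  [(nat_lit 1), (nat_lit 1), (nat_lit 0), (nat_lit 2), (nat_lit 1), (nat_lit 0), (nat_lit 1), (nat_lit 1)],
  [(nat_lit 1), (nat_lit 1), (nat_lit 1), (nat_lit 1), (nat_lit 0), (nat_lit 2), (nat_lit 1), (nat_lit 2), (nat_lit 1), (nat_lit 1), (nat_lit 1), (nat_lit 1)],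
  [(nat_lit 0), (nat_lit 1), (nat_lit 0), (nat_lit 1), (nat_lit 1), (nat_lit 1), (nat_lit 2), (nat_lit 1), (nat_lit 2), (nat_lit 1), (nat_lit 1), (nat_lit 1), (nat_lit 1)],
  [(nat_lit 0), (nat_lit 1), (nat_lit 1), (nat_lit 0), (nat_lit 2), (nat_lit 1), (nat_lit 1), (nat_lit 2), (nat_lit 1)],
  [(nat_lit 0), (nat_lit 1), (nat_lit 1), (nat_lit 2), (nat_lit 1), (nat_lit 0), (nat_lit 1), (nat_lit 2), (nat_lit 1)],
  [(nat_lit 1), (nat_lit 2), (nat_lit 1), (nat_lit 2), (nat_lit 1), (nat_lit 1), (nat_lit 1), (nat_lit 2), (nat_lit 1), (nat_lit 1)],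
  [(nat_lit 1), (nat_lit 1), (nat_lit 0), (nat_lit 2), (nat_lit 1), (nat_lit 2), (nat_lit 1), (nat_lit 0), (nat_lit 1), (nat_lit 1), (nat_lit 2)],
  [(nat_lit 1), (nat_lit 1), (nat_lit 0), (nat_lit 2), (nat_lit 1), (nat_lit 1), (nat_lit 0), (nat_lit 1)],
  [(nat_lit 1), (nat_lit 1), (nat_lit 2), (nat_lit 1), (nat_lit 0), (nat_lit 1), (nat_lit 0), (nat_lit 1)],
  [(nat_lit 1), (nat_lit 1), (nat_lit 0), (nat_lit 1), (nat_lit 1), (nat_lit 2), (nat_lit 1), (nat_lit 2), (nat_lit 1), (nat_lit 1), (nat_lit 1), (nat_lit 1)],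
  [(nat_lit 1), (nat_lit 0), (nat_lit 2), (nat_lit 1), (nat_lit 2), (nat_lit 1), (nat_lit 1), (nat_lit 1), (nat_lit 2), (nat_lit 1), (nat_lit 2), (nat_lit 1)],
  [(nat_lit 0), (nat_lit 1), (nat_lit 1), (nat_lit 2), (nat_lit 1), (nat_lit 1), (nat_lit 0), (nat_lit 2), (nat_lit 1)],
  [(nat_lit 1), (nat_lit 0), (nat_lit 1), (nat_lit 2), (nat_lit 1), (nat_lit 1), (nat_lit 2), (nat_lit 1)],
  [(nat_lit 1), (nat_lit 1), (nat_lit 0), (nat_lit 2), (nat_lit 1), (nat_lit 0), (nat_lit 2), (nat_lit 1), (nat_lit 1), (nat_lit 1), (nat_lit 2)],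
  [(nat_lit 1), (nat_lit 1), (nat_lit 2), (nat_lit 1), (nat_lit 2), (nat_lit 1), (nat_lit 1), (nat_lit 1), (nat_lit 2)],
  [(nat_lit 2), (nat_lit 1), (nat_lit 0), (nat_lit 1), (nat_lit 1), (nat_lit 0), (nat_lit 1)],
  [(nat_lit 2), (nat_lit 0), (nat_lit 1), (nat_lit 1), (nat_lit 1), (nat_lit 2), (nat_lit 1)],
  [(nat_lit 2), (nat_lit 1), (nat_lit 0), (nat_lit 1), (nat_lit 0), (nat_lit 1), (nat_lit 1)],
  [(nat_lit 0), (nat_lit 2), (nat_lit 1), (nat_lit 0), (nat_lit 1), (nat_lit 1), (nat_lit 2), (nat_lit 1)],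
  [(nat_lit 0), (nat_lit 2), (nat_lit 1), (nat_lit 1), (nat_lit 1), (nat_lit 1)],
  [(nat_lit 2), (nat_lit 1), (nat_lit 1), (nat_lit 0), (nat_lit 1), (nat_lit 2), (nat_lit 1)],
  [(nat_lit 2), (nat_lit 0), (nat_lit 1), (nat_lit 0), (nat_lit 1), (nat_lit 1), (nat_lit 1)],
  [(nat_lit 2), (nat_lit 1), (nat_lit 1), (nat_lit 1), (nat_lit 0), (nat_lit 2), (nat_lit 1)],
  [(nat_lit 1), (nat_lit 1), (nat_lit 2), (nat_lit 1), (nat_lit 1), (nat_lit 1), (nat_lit 2)],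
  [(nat_lit 1), (nat_lit 1), (nat_lit 0), (nat_lit 2), (nat_lit 1), (nat_lit 0), (nat_lit 1), (nat_lit 1), (nat_lit 2)],
  [(nat_lit 0), (nat_lit 1), (nat_lit 2), (nat_lit 1), (nat_lit 1), (nat_lit 1), (nat_lit 2), (nat_lit 1), (nat_lit 1), (nat_lit 1), (nat_lit 2), (nat_lit 1)],
  [(nat_lit 0), (nat_lit 1), (nat_lit 1), (nat_lit 1), (nat_lit 1), (nat_lit 0), (nat_lit 2), (nat_lit 1), (nat_lit 1), (nat_lit 2), (nat_lit 1), (nat_lit 2), (nat_lit 1)],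
  [(nat_lit 0), (nat_lit 1), (nat_lit 1), (nat_lit 0), (nat_lit 2), (nat_lit 1), (nat_lit 1), (nat_lit 2), (nat_lit 1), (nat_lit 2)],
  [(nat_lit 0), (nat_lit 1), (nat_lit 1), (nat_lit 2), (nat_lit 1), (nat_lit 0), (nat_lit 1), (nat_lit 2), (nat_lit 1), (nat_lit 2)],
  [(nat_lit 1), (nat_lit 1), (nat_lit 0), (nat_lit 2), (nat_lit 1), (nat_lit 2), (nat_lit 1), (nat_lit 0), (nat_lit 1), (nat_lit 1)],
  [(nat_lit 1), (nat_lit 1), (nat_lit 2), (nat_lit 1), (nat_lit 0), (nat_lit 2), (nat_lit 1), (nat_lit 0), (nat_lit 1), (nat_lit 1)],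
  [(nat_lit 1), (nat_lit 1), (nat_lit 0), (nat_lit 2), (nat_lit 1), (nat_lit 1), (nat_lit 0), (nat_lit 1), (nat_lit 2)],
  [(nat_lit 0), (nat_lit 2), (nat_lit 1), (nat_lit 1), (nat_lit 2), (nat_lit 1), (nat_lit 1), (nat_lit 1)],
  [(nat_lit 0), (nat_lit 1), (nat_lit 1), (nat_lit 1), (nat_lit 0), (nat_lit 1), (nat_lit 2), (nat_lit 1), (nat_lit 1), (nat_lit 2), (nat_lit 1), (nat_lit 2), (nat_lit 1)],
  [(nat_lit 0), (nat_lit 1), (nat_lit 2), (nat_lit 1), (nat_lit 2), (nat_lit 1), (nat_lit 1), (nat_lit 2), (nat_lit 1), (nat_lit 1), (nat_lit 1), (nat_lit 1)],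
  [(nat_lit 0), (nat_lit 1), (nat_lit 1), (nat_lit 2), (nat_lit 1), (nat_lit 1), (nat_lit 0), (nat_lit 2), (nat_lit 1), (nat_lit 2)],
  [(nat_lit 1), (nat_lit 0), (nat_lit 1), (nat_lit 2), (nat_lit 1), (nat_lit 1), (nat_lit 2), (nat_lit 1), (nat_lit 2)],
  [(nat_lit 1), (nat_lit 1), (nat_lit 2), (nat_lit 1), (nat_lit 2), (nat_lit 1), (nat_lit 1), (nat_lit 1)],
  [(nat_lit 1), (nat_lit 1), (nat_lit 0), (nat_lit 2), (nat_lit 1), (nat_lit 0), (nat_lit 2), (nat_lit 1), (nat_lit 1), (nat_lit 1)],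
  [(nat_lit 1), (nat_lit 2), (nat_lit 1), (nat_lit 2), (nat_lit 1)],
  [(nat_lit 2), (nat_lit 1), (nat_lit 1), (nat_lit 0), (nat_lit 1), (nat_lit 2), (nat_lit 1), (nat_lit 2)],
  [(nat_lit 1), (nat_lit 2), (nat_lit 1), (nat_lit 0), (nat_lit 2), (nat_lit 1), (nat_lit 0)],
  [(nat_lit 2), (nat_lit 1), (nat_lit 1), (nat_lit 1), (nat_lit 0), (nat_lit 2), (nat_lit 1), (nat_lit 2)],
  [(nat_lit 0), (nat_lit 1), (nat_lit 0), (nat_lit 2), (nat_lit 1), (nat_lit 2), (nat_lit 1), (nat_lit 0)],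
  [(nat_lit 2), (nat_lit 0), (nat_lit 1), (nat_lit 1), (nat_lit 1), (nat_lit 2), (nat_lit 1), (nat_lit 2)],
  [(nat_lit 0), (nat_lit 1), (nat_lit 0), (nat_lit 2), (nat_lit 1), (nat_lit 0), (nat_lit 2), (nat_lit 1)],
  [(nat_lit 0), (nat_lit 2), (nat_lit 1), (nat_lit 0), (nat_lit 1), (nat_lit 1), (nat_lit 2), (nat_lit 1), (nat_lit 2)],
  [(nat_lit 2), (nat_lit 0), (nat_lit 1), (nat_lit 0), (nat_lit 1), (nat_lit 2), (nat_lit 1), (nat_lit 1), (nat_lit 2), (nat_lit 1)],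
  [(nat_lit 0), (nat_lit 2), (nat_lit 1), (nat_lit 1), (nat_lit 2), (nat_lit 1), (nat_lit 1), (nat_lit 2), (nat_lit 1)],
  [(nat_lit 2), (nat_lit 0), (nat_lit 1), (nat_lit 1), (nat_lit 2), (nat_lit 1), (nat_lit 2), (nat_lit 1), (nat_lit 1), (nat_lit 1), (nat_lit 2)],
  [(nat_lit 0), (nat_lit 1), (nat_lit 1), (nat_lit 0), (nat_lit 1), (nat_lit 1), (nat_lit 2), (nat_lit 1), (nat_lit 1), (nat_lit 2), (nat_lit 1), (nat_lit 1)],
  [(nat_lit 2), (nat_lit 0), (nat_lit 1), (nat_lit 0), (nat_lit 1), (nat_lit 2), (nat_lit 1), (nat_lit 1), (nat_lit 2), (nat_lit 1), (nat_lit 2)],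
  [(nat_lit 0), (nat_lit 2), (nat_lit 1), (nat_lit 1), (nat_lit 2), (nat_lit 1), (nat_lit 1), (nat_lit 2), (nat_lit 1), (nat_lit 2)],
  [(nat_lit 0), (nat_lit 2), (nat_lit 1), (nat_lit 0), (nat_lit 1), (nat_lit 2), (nat_lit 1), (nat_lit 2), (nat_lit 1), (nat_lit 1), (nat_lit 1)],
  [(nat_lit 2), (nat_lit 0), (nat_lit 1), (nat_lit 1), (nat_lit 2), (nat_lit 1), (nat_lit 2), (nat_lit 1), (nat_lit 1), (nat_lit 1)],
  [(nat_lit 2), (nat_lit 1), (nat_lit 0), (nat_lit 1), (nat_lit 0), (nat_lit 2), (nat_lit 1), (nat_lit 1), (nat_lit 2), (nat_lit 1)],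
  [(nat_lit 2), (nat_lit 1), (nat_lit 0), (nat_lit 1), (nat_lit 2), (nat_lit 1), (nat_lit 0), (nat_lit 1), (nat_lit 2), (nat_lit 1)],
  [(nat_lit 0), (nat_lit 1), (nat_lit 2), (nat_lit 1), (nat_lit 1), (nat_lit 1), (nat_lit 2), (nat_lit 1), (nat_lit 1), (nat_lit 1), (nat_lit 1)],
  [(nat_lit 1), (nat_lit 1), (nat_lit 2), (nat_lit 1), (nat_lit 2), (nat_lit 1), (nat_lit 1), (nat_lit 2), (nat_lit 1), (nat_lit 2)],
  [(nat_lit 2), (nat_lit 1), (nat_lit 0), (nat_lit 1), (nat_lit 0), (nat_lit 2), (nat_lit 1), (nat_lit 1), (nat_lit 2), (nat_lit 1), (nat_lit 2)],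
  [(nat_lit 2), (nat_lit 1), (nat_lit 0), (nat_lit 1), (nat_lit 2), (nat_lit 1), (nat_lit 0), (nat_lit 1), (nat_lit 2), (nat_lit 1), (nat_lit 2)],
  [(nat_lit 1), (nat_lit 1), (nat_lit 2), (nat_lit 1), (nat_lit 2), (nat_lit 1), (nat_lit 1), (nat_lit 2), (nat_lit 1)],
  [(nat_lit 2), (nat_lit 1), (nat_lit 1), (nat_lit 0), (nat_lit 2), (nat_lit 1), (nat_lit 2), (nat_lit 1), (nat_lit 1), (nat_lit 1)],
  [(nat_lit 1), (nat_lit 2), (nat_lit 1), (nat_lit 0), (nat_lit 1), (nat_lit 0)],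
  [(nat_lit 0), (nat_lit 1), (nat_lit 0), (nat_lit 2), (nat_lit 1), (nat_lit 0), (nat_lit 1), (nat_lit 2)],
  [(nat_lit 1), (nat_lit 2), (nat_lit 1), (nat_lit 1)],
  [(nat_lit 0), (nat_lit 1), (nat_lit 0), (nat_lit 2), (nat_lit 1), (nat_lit 1), (nat_lit 0), (nat_lit 2)],
  [(nat_lit 0), (nat_lit 1), (nat_lit 0), (nat_lit 2), (nat_lit 1), (nat_lit 0), (nat_lit 1)],
  [(nat_lit 1), (nat_lit 2), (nat_lit 1), (nat_lit 0), (nat_lit 1), (nat_lit 0), (nat_lit 2)],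
  [(nat_lit 0), (nat_lit 1), (nat_lit 0), (nat_lit 2), (nat_lit 1), (nat_lit 1), (nat_lit 0)],
  [(nat_lit 1), (nat_lit 2), (nat_lit 1), (nat_lit 1), (nat_lit 2)],
  [(nat_lit 0), (nat_lit 1), (nat_lit 1), (nat_lit 1), (nat_lit 0), (nat_lit 1)],
  [(nat_lit 1), (nat_lit 0), (nat_lit 1), (nat_lit 1), (nat_lit 2), (nat_lit 1)],
  [(nat_lit 0), (nat_lit 1), (nat_lit 1), (nat_lit 0), (nat_lit 1), (nat_lit 1)],
  [(nat_lit 0), (nat_lit 1), (nat_lit 1), (nat_lit 1), (nat_lit 2), (nat_lit 1), (nat_lit 0)],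
  [(nat_lit 1), (nat_lit 1), (nat_lit 0), (nat_lit 1), (nat_lit 0), (nat_lit 1), (nat_lit 2)],
  [(nat_lit 1), (nat_lit 1), (nat_lit 1), (nat_lit 0), (nat_lit 2), (nat_lit 1), (nat_lit 0), (nat_lit 2)],
  [(nat_lit 1), (nat_lit 1), (nat_lit 1), (nat_lit 1), (nat_lit 2)],
  [(nat_lit 1), (nat_lit 1), (nat_lit 0), (nat_lit 1), (nat_lit 2), (nat_lit 1), (nat_lit 0), (nat_lit 2)],
  [(nat_lit 2), (nat_lit 0), (nat_lit 1), (nat_lit 2), (nat_lit 1), (nat_lit 1)],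
  [(nat_lit 2), (nat_lit 1), (nat_lit 0), (nat_lit 2), (nat_lit 1), (nat_lit 1), (nat_lit 0), (nat_lit 2)],
  [(nat_lit 0), (nat_lit 2), (nat_lit 1), (nat_lit 0), (nat_lit 2), (nat_lit 1), (nat_lit 1)],
  [(nat_lit 2), (nat_lit 1), (nat_lit 0), (nat_lit 2), (nat_lit 1), (nat_lit 0), (nat_lit 1), (nat_lit 2)],
  [(nat_lit 1), (nat_lit 0), (nat_lit 1), (nat_lit 1), (nat_lit 1)],
  [(nat_lit 0), (nat_lit 1), (nat_lit 1), (nat_lit 1), (nat_lit 0), (nat_lit 2), (nat_lit 1)],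
  [(nat_lit 0), (nat_lit 1), (nat_lit 1), (nat_lit 1), (nat_lit 1), (nat_lit 0)],
  [(nat_lit 0), (nat_lit 1), (nat_lit 1), (nat_lit 0), (nat_lit 1), (nat_lit 2), (nat_lit 1)],
  [(nat_lit 1), (nat_lit 1), (nat_lit 1), (nat_lit 0), (nat_lit 1), (nat_lit 0), (nat_lit 2)],
  [(nat_lit 1), (nat_lit 1), (nat_lit 0), (nat_lit 1), (nat_lit 0), (nat_lit 2), (nat_lit 1), (nat_lit 2)],
  [(nat_lit 1), (nat_lit 1), (nat_lit 0), (nat_lit 1), (nat_lit 1), (nat_lit 0), (nat_lit 2)],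
  [(nat_lit 1), (nat_lit 1), (nat_lit 1), (nat_lit 2), (nat_lit 1), (nat_lit 2)],
  [(nat_lit 2), (nat_lit 1), (nat_lit 2), (nat_lit 1), (nat_lit 0), (nat_lit 1)],
  [(nat_lit 0), (nat_lit 2), (nat_lit 1), (nat_lit 2), (nat_lit 1), (nat_lit 1), (nat_lit 2)],
  [(nat_lit 2), (nat_lit 1), (nat_lit 2), (nat_lit 1), (nat_lit 1), (nat_lit 0)],
  [(nat_lit 2), (nat_lit 0), (nat_lit 1), (nat_lit 0), (nat_lit 2), (nat_lit 1), (nat_lit 1), (nat_lit 2)],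
  [(nat_lit 1), (nat_lit 1), (nat_lit 0), (nat_lit 1), (nat_lit 0), (nat_lit 1)],
  [(nat_lit 1), (nat_lit 1), (nat_lit 1), (nat_lit 0), (nat_lit 2), (nat_lit 1), (nat_lit 0)],
  [(nat_lit 1), (nat_lit 1), (nat_lit 1), (nat_lit 1)],
  [(nat_lit 1), (nat_lit 1), (nat_lit 0), (nat_lit 1), (nat_lit 2), (nat_lit 1), (nat_lit 0)],
  [(nat_lit 0), (nat_lit 1), (nat_lit 1), (nat_lit 1), (nat_lit 0), (nat_lit 1), (nat_lit 2)],
  [(nat_lit 1), (nat_lit 0), (nat_lit 1), (nat_lit 1), (nat_lit 2), (nat_lit 1), (nat_lit 2)],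
  [(nat_lit 0), (nat_lit 1), (nat_lit 1), (nat_lit 0), (nat_lit 1), (nat_lit 1), (nat_lit 2)],
  [(nat_lit 0), (nat_lit 1), (nat_lit 1), (nat_lit 1), (nat_lit 2), (nat_lit 1), (nat_lit 0), (nat_lit 2)],
  [(nat_lit 2), (nat_lit 1), (nat_lit 0), (nat_lit 2), (nat_lit 1), (nat_lit 1), (nat_lit 0)],
  [(nat_lit 2), (nat_lit 0), (nat_lit 1), (nat_lit 2), (nat_lit 1), (nat_lit 1), (nat_lit 2)],
  [(nat_lit 2), (nat_lit 1), (nat_lit 0), (nat_lit 2), (nat_lit 1), (nat_lit 0), (nat_lit 1)],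
  [(nat_lit 0), (nat_lit 2), (nat_lit 1), (nat_lit 0), (nat_lit 2), (nat_lit 1), (nat_lit 1), (nat_lit 2)],
  [(nat_lit 1), (nat_lit 1), (nat_lit 1), (nat_lit 0), (nat_lit 1), (nat_lit 0)],
  [(nat_lit 1), (nat_lit 1), (nat_lit 0), (nat_lit 1), (nat_lit 0), (nat_lit 2), (nat_lit 1)],
  [(nat_lit 1), (nat_lit 1), (nat_lit 0), (nat_lit 1), (nat_lit 1), (nat_lit 0)],
  [(nat_lit 1), (nat_lit 1), (nat_lit 1), (nat_lit 2), (nat_lit 1)],
  [(nat_lit 1), (nat_lit 0), (nat_lit 1), (nat_lit 1), (nat_lit 1), (nat_lit 2)],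
  [(nat_lit 0), (nat_lit 1), (nat_lit 1), (nat_lit 1), (nat_lit 0), (nat_lit 2), (nat_lit 1), (nat_lit 2)],
  [(nat_lit 0), (nat_lit 1), (nat_lit 1), (nat_lit 1), (nat_lit 1), (nat_lit 0), (nat_lit 2)],
  [(nat_lit 0), (nat_lit 1), (nat_lit 1), (nat_lit 0), (nat_lit 1), (nat_lit 2), (nat_lit 1), (nat_lit 2)],
  [(nat_lit 0), (nat_lit 2), (nat_lit 1), (nat_lit 2), (nat_lit 1), (nat_lit 1)],
  [(nat_lit 2), (nat_lit 1), (nat_lit 2), (nat_lit 1), (nat_lit 0), (nat_lit 1), (nat_lit 2)],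
  [(nat_lit 2), (nat_lit 0), (nat_lit 1), (nat_lit 0), (nat_lit 2), (nat_lit 1), (nat_lit 1)],
  [(nat_lit 2), (nat_lit 1), (nat_lit 2), (nat_lit 1), (nat_lit 1), (nat_lit 0), (nat_lit 2)],
  [(nat_lit 0), (nat_lit 2), (nat_lit 1), (nat_lit 1), (nat_lit 0), (nat_lit 2), (nat_lit 1), (nat_lit 1), (nat_lit 2), (nat_lit 1), (nat_lit 2), (nat_lit 1)],
  [(nat_lit 0), (nat_lit 2), (nat_lit 1), (nat_lit 1), (nat_lit 2), (nat_lit 1), (nat_lit 0), (nat_lit 1), (nat_lit 2), (nat_lit 1), (nat_lit 2), (nat_lit 1)],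
  [(nat_lit 1), (nat_lit 1), (nat_lit 2), (nat_lit 1), (nat_lit 2), (nat_lit 1), (nat_lit 0), (nat_lit 1), (nat_lit 2), (nat_lit 1), (nat_lit 1)],
  [(nat_lit 0), (nat_lit 1), (nat_lit 0), (nat_lit 1), (nat_lit 2), (nat_lit 1), (nat_lit 2), (nat_lit 1), (nat_lit 1), (nat_lit 2), (nat_lit 1), (nat_lit 1)],
  [(nat_lit 0), (nat_lit 1), (nat_lit 2), (nat_lit 1), (nat_lit 1), (nat_lit 2), (nat_lit 1), (nat_lit 0), (nat_lit 2)],
  [(nat_lit 1), (nat_lit 0), (nat_lit 2), (nat_lit 1), (nat_lit 1), (nat_lit 2), (nat_lit 1), (nat_lit 2)],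
  [(nat_lit 0), (nat_lit 1), (nat_lit 2), (nat_lit 1), (nat_lit 0), (nat_lit 1), (nat_lit 1), (nat_lit 2)],
  [(nat_lit 0), (nat_lit 1), (nat_lit 2), (nat_lit 1), (nat_lit 1), (nat_lit 0), (nat_lit 1), (nat_lit 2)],
  [(nat_lit 0), (nat_lit 2), (nat_lit 0), (nat_lit 1), (nat_lit 1), (nat_lit 2), (nat_lit 1), (nat_lit 1), (nat_lit 2), (nat_lit 1), (nat_lit 2), (nat_lit 1)],
  [(nat_lit 2), (nat_lit 1), (nat_lit 0), (nat_lit 1), (nat_lit 2), (nat_lit 1), (nat_lit 1), (nat_lit 2), (nat_lit 1), (nat_lit 2), (nat_lit 1)],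
  [(nat_lit 1), (nat_lit 1), (nat_lit 0), (nat_lit 2), (nat_lit 1), (nat_lit 2), (nat_lit 1), (nat_lit 1), (nat_lit 2), (nat_lit 1), (nat_lit 1)],
  [(nat_lit 2), (nat_lit 1), (nat_lit 1), (nat_lit 2), (nat_lit 1), (nat_lit 2), (nat_lit 1), (nat_lit 1), (nat_lit 1), (nat_lit 1)],
  [(nat_lit 0), (nat_lit 1), (nat_lit 2), (nat_lit 1), (nat_lit 0), (nat_lit 1), (nat_lit 2), (nat_lit 1), (nat_lit 2)],
  [(nat_lit 0), (nat_lit 1), (nat_lit 2), (nat_lit 1), (nat_lit 1), (nat_lit 0), (nat_lit 2), (nat_lit 1), (nat_lit 2)],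
  [(nat_lit 0), (nat_lit 1), (nat_lit 2), (nat_lit 1), (nat_lit 1), (nat_lit 1), (nat_lit 0), (nat_lit 2)],
  [(nat_lit 1), (nat_lit 0), (nat_lit 2), (nat_lit 1), (nat_lit 1), (nat_lit 1), (nat_lit 2)],
  [(nat_lit 0), (nat_lit 1), (nat_lit 0), (nat_lit 2), (nat_lit 1), (nat_lit 1), (nat_lit 2), (nat_lit 1)],
  [(nat_lit 1), (nat_lit 2), (nat_lit 1), (nat_lit 0), (nat_lit 1), (nat_lit 1)],
  [(nat_lit 1), (nat_lit 2), (nat_lit 1), (nat_lit 1), (nat_lit 2), (nat_lit 1), (nat_lit 0)],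
  [(nat_lit 1), (nat_lit 2), (nat_lit 1), (nat_lit 1), (nat_lit 0), (nat_lit 1)],
  [(nat_lit 1), (nat_lit 2), (nat_lit 1), (nat_lit 1), (nat_lit 0), (nat_lit 2), (nat_lit 1)],
  [(nat_lit 1), (nat_lit 2), (nat_lit 1), (nat_lit 1), (nat_lit 1), (nat_lit 0)],
  [(nat_lit 1), (nat_lit 2), (nat_lit 1), (nat_lit 0), (nat_lit 1), (nat_lit 2), (nat_lit 1)],
  [(nat_lit 0), (nat_lit 1), (nat_lit 0), (nat_lit 2), (nat_lit 1), (nat_lit 1), (nat_lit 1)],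
  [(nat_lit 0), (nat_lit 1), (nat_lit 0), (nat_lit 1), (nat_lit 2), (nat_lit 1), (nat_lit 1), (nat_lit 2), (nat_lit 1), (nat_lit 2), (nat_lit 1)],
  [(nat_lit 1), (nat_lit 1), (nat_lit 2), (nat_lit 1), (nat_lit 1), (nat_lit 0), (nat_lit 2), (nat_lit 1), (nat_lit 2), (nat_lit 1)],
  [(nat_lit 0), (nat_lit 1), (nat_lit 1), (nat_lit 2), (nat_lit 1), (nat_lit 2), (nat_lit 1), (nat_lit 1), (nat_lit 1), (nat_lit 1)],
  [(nat_lit 1), (nat_lit 0), (nat_lit 1), (nat_lit 2), (nat_lit 1), (nat_lit 2), (nat_lit 1), (nat_lit 0), (nat_lit 1), (nat_lit 1), (nat_lit 1)],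
  [(nat_lit 1), (nat_lit 1), (nat_lit 2), (nat_lit 1), (nat_lit 0), (nat_lit 1), (nat_lit 2), (nat_lit 1), (nat_lit 2), (nat_lit 1)],
  [(nat_lit 1), (nat_lit 1), (nat_lit 0), (nat_lit 2), (nat_lit 1), (nat_lit 1), (nat_lit 2), (nat_lit 1), (nat_lit 2), (nat_lit 1)],
  [(nat_lit 1), (nat_lit 0), (nat_lit 1), (nat_lit 2), (nat_lit 1), (nat_lit 0), (nat_lit 2), (nat_lit 1), (nat_lit 1), (nat_lit 1), (nat_lit 1)],
  [(nat_lit 1), (nat_lit 0), (nat_lit 1), (nat_lit 0), (nat_lit 2), (nat_lit 1), (nat_lit 2), (nat_lit 1), (nat_lit 1), (nat_lit 1), (nat_lit 1)],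
  [(nat_lit 2), (nat_lit 1), (nat_lit 1), (nat_lit 2), (nat_lit 1), (nat_lit 1), (nat_lit 1), (nat_lit 1)],
  [(nat_lit 1), (nat_lit 0), (nat_lit 1), (nat_lit 2), (nat_lit 1), (nat_lit 0), (nat_lit 1), (nat_lit 1), (nat_lit 2), (nat_lit 1)],
  [(nat_lit 1), (nat_lit 2), (nat_lit 1), (nat_lit 0), (nat_lit 2), (nat_lit 1), (nat_lit 0), (nat_lit 1), (nat_lit 2)],
  [(nat_lit 1), (nat_lit 2), (nat_lit 1), (nat_lit 2), (nat_lit 1), (nat_lit 1), (nat_lit 2)],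
  [(nat_lit 1), (nat_lit 0), (nat_lit 1), (nat_lit 2), (nat_lit 1), (nat_lit 1), (nat_lit 0), (nat_lit 1), (nat_lit 2), (nat_lit 1)],
  [(nat_lit 0), (nat_lit 1), (nat_lit 1), (nat_lit 2), (nat_lit 1), (nat_lit 1), (nat_lit 1), (nat_lit 2), (nat_lit 1)],
  [(nat_lit 1), (nat_lit 2), (nat_lit 1), (nat_lit 2), (nat_lit 1), (nat_lit 0), (nat_lit 1), (nat_lit 0), (nat_lit 2)],
  [(nat_lit 1), (nat_lit 2), (nat_lit 1), (nat_lit 0), (nat_lit 2), (nat_lit 1), (nat_lit 1), (nat_lit 0), (nat_lit 2)],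
  [(nat_lit 0), (nat_lit 2), (nat_lit 1), (nat_lit 1), (nat_lit 1), (nat_lit 0), (nat_lit 2), (nat_lit 1), (nat_lit 2), (nat_lit 1)],
  [(nat_lit 0), (nat_lit 2), (nat_lit 1), (nat_lit 1), (nat_lit 0), (nat_lit 1), (nat_lit 2), (nat_lit 1), (nat_lit 2), (nat_lit 1)],
  [(nat_lit 1), (nat_lit 0), (nat_lit 2), (nat_lit 1), (nat_lit 2), (nat_lit 1), (nat_lit 1), (nat_lit 0)],
  [(nat_lit 0), (nat_lit 1), (nat_lit 2), (nat_lit 1), (nat_lit 2), (nat_lit 1), (nat_lit 1)],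
  [(nat_lit 1), (nat_lit 1), (nat_lit 2), (nat_lit 1), (nat_lit 1), (nat_lit 1), (nat_lit 2), (nat_lit 1), (nat_lit 2)],
  [(nat_lit 0), (nat_lit 2), (nat_lit 0), (nat_lit 1), (nat_lit 1), (nat_lit 1), (nat_lit 2), (nat_lit 1), (nat_lit 2), (nat_lit 1)],
  [(nat_lit 1), (nat_lit 0), (nat_lit 2), (nat_lit 1), (nat_lit 0), (nat_lit 2), (nat_lit 1), (nat_lit 1)],
  [(nat_lit 1), (nat_lit 0), (nat_lit 2), (nat_lit 1), (nat_lit 2), (nat_lit 1), (nat_lit 0), (nat_lit 1)],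
  [(nat_lit 2), (nat_lit 1), (nat_lit 1), (nat_lit 2), (nat_lit 1), (nat_lit 1), (nat_lit 2), (nat_lit 1), (nat_lit 2), (nat_lit 1)],
  [(nat_lit 2), (nat_lit 1), (nat_lit 1), (nat_lit 0), (nat_lit 2), (nat_lit 1), (nat_lit 0), (nat_lit 1), (nat_lit 2), (nat_lit 1), (nat_lit 2), (nat_lit 1)],
  [(nat_lit 2), (nat_lit 1), (nat_lit 0), (nat_lit 1), (nat_lit 2), (nat_lit 1), (nat_lit 2), (nat_lit 1), (nat_lit 1), (nat_lit 1), (nat_lit 1)],
  [(nat_lit 0), (nat_lit 2), (nat_lit 0), (nat_lit 1), (nat_lit 1), (nat_lit 2), (nat_lit 1), (nat_lit 2), (nat_lit 1), (nat_lit 1), (nat_lit 1), (nat_lit 1)],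
  [(nat_lit 1), (nat_lit 2), (nat_lit 1), (nat_lit 0), (nat_lit 1), (nat_lit 2), (nat_lit 1), (nat_lit 0), (nat_lit 2)],
  [(nat_lit 1), (nat_lit 2), (nat_lit 1), (nat_lit 1), (nat_lit 0), (nat_lit 2), (nat_lit 1), (nat_lit 0), (nat_lit 2)],
  [(nat_lit 1), (nat_lit 2), (nat_lit 1), (nat_lit 1), (nat_lit 1), (nat_lit 2)],
  [(nat_lit 1), (nat_lit 2), (nat_lit 1), (nat_lit 0), (nat_lit 1), (nat_lit 0), (nat_lit 1), (nat_lit 2)],
  [(nat_lit 2), (nat_lit 0), (nat_lit 1), (nat_lit 1), (nat_lit 0), (nat_lit 2), (nat_lit 1), (nat_lit 1), (nat_lit 2), (nat_lit 1), (nat_lit 2), (nat_lit 1)],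
  [(nat_lit 2), (nat_lit 0), (nat_lit 1), (nat_lit 1), (nat_lit 2), (nat_lit 1), (nat_lit 0), (nat_lit 1), (nat_lit 2), (nat_lit 1), (nat_lit 2), (nat_lit 1)],
  [(nat_lit 0), (nat_lit 1), (nat_lit 1), (nat_lit 2), (nat_lit 1), (nat_lit 2), (nat_lit 1), (nat_lit 1), (nat_lit 2), (nat_lit 1), (nat_lit 1)],
  [(nat_lit 0), (nat_lit 2), (nat_lit 1), (nat_lit 1), (nat_lit 0), (nat_lit 2), (nat_lit 1), (nat_lit 2), (nat_lit 1), (nat_lit 1), (nat_lit 1), (nat_lit 1)],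
  [(nat_lit 1), (nat_lit 2), (nat_lit 1), (nat_lit 1), (nat_lit 2), (nat_lit 1), (nat_lit 2)],
  [(nat_lit 1), (nat_lit 2), (nat_lit 1), (nat_lit 0), (nat_lit 1), (nat_lit 0), (nat_lit 2), (nat_lit 1), (nat_lit 2)],
  [(nat_lit 1), (nat_lit 2), (nat_lit 1), (nat_lit 0), (nat_lit 1), (nat_lit 1), (nat_lit 0), (nat_lit 2)],
  [(nat_lit 1), (nat_lit 2), (nat_lit 1), (nat_lit 1), (nat_lit 0), (nat_lit 1), (nat_lit 0), (nat_lit 2)],
  [(nat_lit 1), (nat_lit 0), (nat_lit 2), (nat_lit 1), (nat_lit 0), (nat_lit 1), (nat_lit 2), (nat_lit 1)],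
  [(nat_lit 0), (nat_lit 1), (nat_lit 2), (nat_lit 1), (nat_lit 1), (nat_lit 1)],
  [(nat_lit 1), (nat_lit 0), (nat_lit 2), (nat_lit 1), (nat_lit 1), (nat_lit 0), (nat_lit 2), (nat_lit 1)],
  [(nat_lit 1), (nat_lit 0), (nat_lit 2), (nat_lit 1), (nat_lit 1), (nat_lit 1), (nat_lit 0)],
  [(nat_lit 1), (nat_lit 0), (nat_lit 2), (nat_lit 1), (nat_lit 1), (nat_lit 2), (nat_lit 1), (nat_lit 0)],
  [(nat_lit 1), (nat_lit 0), (nat_lit 2), (nat_lit 1), (nat_lit 1), (nat_lit 0), (nat_lit 1)],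
  [(nat_lit 0), (nat_lit 1), (nat_lit 2), (nat_lit 1), (nat_lit 1), (nat_lit 2), (nat_lit 1)],
  [(nat_lit 1), (nat_lit 0), (nat_lit 2), (nat_lit 1), (nat_lit 0), (nat_lit 1), (nat_lit 1)],
  [(nat_lit 1), (nat_lit 0), (nat_lit 1), (nat_lit 2), (nat_lit 1), (nat_lit 0), (nat_lit 1), (nat_lit 2), (nat_lit 1), (nat_lit 1)],
  [(nat_lit 1), (nat_lit 0), (nat_lit 1), (nat_lit 0), (nat_lit 2), (nat_lit 1), (nat_lit 1), (nat_lit 2), (nat_lit 1), (nat_lit 1)],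
  [(nat_lit 0), (nat_lit 2), (nat_lit 1), (nat_lit 0), (nat_lit 2), (nat_lit 1), (nat_lit 1), (nat_lit 1), (nat_lit 2)],
  [(nat_lit 2), (nat_lit 0), (nat_lit 1), (nat_lit 2), (nat_lit 1), (nat_lit 1), (nat_lit 1), (nat_lit 2)],
  [(nat_lit 1), (nat_lit 1), (nat_lit 2), (nat_lit 1), (nat_lit 0), (nat_lit 1), (nat_lit 1), (nat_lit 1)],
  [(nat_lit 1), (nat_lit 1), (nat_lit 0), (nat_lit 2), (nat_lit 1), (nat_lit 1), (nat_lit 1), (nat_lit 1)],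
  [(nat_lit 1), (nat_lit 1), (nat_lit 0), (nat_lit 1), (nat_lit 1), (nat_lit 0), (nat_lit 2), (nat_lit 1), (nat_lit 2)],
  [(nat_lit 1), (nat_lit 1), (nat_lit 1), (nat_lit 0), (nat_lit 1), (nat_lit 0), (nat_lit 2), (nat_lit 1), (nat_lit 2)],
  [(nat_lit 0), (nat_lit 1), (nat_lit 1), (nat_lit 2), (nat_lit 1), (nat_lit 1), (nat_lit 2), (nat_lit 1), (nat_lit 1)],
  [(nat_lit 0), (nat_lit 2), (nat_lit 1), (nat_lit 2), (nat_lit 1), (nat_lit 1), (nat_lit 2), (nat_lit 1), (nat_lit 2)],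
  [(nat_lit 2), (nat_lit 1), (nat_lit 2), (nat_lit 1), (nat_lit 1), (nat_lit 0), (nat_lit 1), (nat_lit 2)],
  [(nat_lit 2), (nat_lit 1), (nat_lit 2), (nat_lit 1), (nat_lit 0), (nat_lit 1), (nat_lit 1), (nat_lit 2)],
  [(nat_lit 0), (nat_lit 1), (nat_lit 0), (nat_lit 1), (nat_lit 2), (nat_lit 1), (nat_lit 1), (nat_lit 1), (nat_lit 1)],
  [(nat_lit 1), (nat_lit 1), (nat_lit 2), (nat_lit 1), (nat_lit 1), (nat_lit 0), (nat_lit 1), (nat_lit 1)],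
  [(nat_lit 1), (nat_lit 1), (nat_lit 1), (nat_lit 1), (nat_lit 2), (nat_lit 1), (nat_lit 2)],
  [(nat_lit 1), (nat_lit 1), (nat_lit 0), (nat_lit 1), (nat_lit 0), (nat_lit 1), (nat_lit 2), (nat_lit 1), (nat_lit 2)],
  [(nat_lit 0), (nat_lit 1), (nat_lit 1), (nat_lit 1), (nat_lit 0), (nat_lit 2), (nat_lit 1), (nat_lit 1), (nat_lit 2)],
  [(nat_lit 0), (nat_lit 2), (nat_lit 0)],
  [(nat_lit 0), (nat_lit 1), (nat_lit 1), (nat_lit 0), (nat_lit 1), (nat_lit 2), (nat_lit 1), (nat_lit 1), (nat_lit 2)],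
  [(nat_lit 1), (nat_lit 0), (nat_lit 1), (nat_lit 1), (nat_lit 1), (nat_lit 1), (nat_lit 2)],
  [(nat_lit 1), (nat_lit 0), (nat_lit 1), (nat_lit 1), (nat_lit 2), (nat_lit 1), (nat_lit 1), (nat_lit 2)],
  [(nat_lit 0), (nat_lit 1), (nat_lit 1), (nat_lit 0), (nat_lit 1), (nat_lit 1), (nat_lit 1), (nat_lit 2)],
  [(nat_lit 2), (nat_lit 1), (nat_lit 1), (nat_lit 1), (nat_lit 2), (nat_lit 1), (nat_lit 1)],
  [(nat_lit 0), (nat_lit 1), (nat_lit 1), (nat_lit 1), (nat_lit 0), (nat_lit 1), (nat_lit 1), (nat_lit 2)],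
  [(nat_lit 1), (nat_lit 0), (nat_lit 1), (nat_lit 0), (nat_lit 2), (nat_lit 1), (nat_lit 1), (nat_lit 2), (nat_lit 1), (nat_lit 2), (nat_lit 1)],
  [(nat_lit 1), (nat_lit 0), (nat_lit 1), (nat_lit 2), (nat_lit 1), (nat_lit 0), (nat_lit 1), (nat_lit 2), (nat_lit 1), (nat_lit 2), (nat_lit 1)],
  [(nat_lit 1), (nat_lit 1), (nat_lit 0), (nat_lit 2), (nat_lit 1), (nat_lit 2), (nat_lit 1), (nat_lit 1), (nat_lit 1), (nat_lit 1)],
  [(nat_lit 1), (nat_lit 1), (nat_lit 2), (nat_lit 1), (nat_lit 0), (nat_lit 2), (nat_lit 1), (nat_lit 1), (nat_lit 1), (nat_lit 1)],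
  [(nat_lit 1), (nat_lit 0), (nat_lit 1), (nat_lit 2), (nat_lit 1), (nat_lit 1), (nat_lit 0), (nat_lit 2), (nat_lit 1), (nat_lit 2), (nat_lit 1)],
  [(nat_lit 0), (nat_lit 1), (nat_lit 1), (nat_lit 2), (nat_lit 1), (nat_lit 1), (nat_lit 2), (nat_lit 1), (nat_lit 2), (nat_lit 1)],
  [(nat_lit 1), (nat_lit 1), (nat_lit 2), (nat_lit 1), (nat_lit 2), (nat_lit 1), (nat_lit 0), (nat_lit 1), (nat_lit 1), (nat_lit 1)],
  [(nat_lit 0), (nat_lit 1), (nat_lit 0), (nat_lit 1), (nat_lit 2), (nat_lit 1), (nat_lit 2), (nat_lit 1), (nat_lit 1), (nat_lit 1), (nat_lit 1)],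
  [(nat_lit 0), (nat_lit 1), (nat_lit 0), (nat_lit 1), (nat_lit 2), (nat_lit 1), (nat_lit 1), (nat_lit 1), (nat_lit 2), (nat_lit 1)],
  [(nat_lit 1), (nat_lit 1), (nat_lit 2), (nat_lit 1), (nat_lit 1), (nat_lit 0), (nat_lit 1), (nat_lit 2), (nat_lit 1)],
  [(nat_lit 0), (nat_lit 1), (nat_lit 2), (nat_lit 1), (nat_lit 2), (nat_lit 1), (nat_lit 0), (nat_lit 1), (nat_lit 2)],
  [(nat_lit 0), (nat_lit 1), (nat_lit 2), (nat_lit 1), (nat_lit 0), (nat_lit 2), (nat_lit 1), (nat_lit 1), (nat_lit 2)],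
  [(nat_lit 1), (nat_lit 1), (nat_lit 2), (nat_lit 1), (nat_lit 0), (nat_lit 1), (nat_lit 1), (nat_lit 2), (nat_lit 1)],
  [(nat_lit 1), (nat_lit 1), (nat_lit 0), (nat_lit 2), (nat_lit 1), (nat_lit 1), (nat_lit 1), (nat_lit 2), (nat_lit 1)],
  [(nat_lit 1), (nat_lit 0), (nat_lit 2), (nat_lit 1), (nat_lit 2), (nat_lit 1), (nat_lit 1), (nat_lit 2)],
  [(nat_lit 0), (nat_lit 1), (nat_lit 2), (nat_lit 1), (nat_lit 2), (nat_lit 1), (nat_lit 1), (nat_lit 0), (nat_lit 2)],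
  [(nat_lit 2), (nat_lit 1), (nat_lit 1), (nat_lit 0), (nat_lit 1), (nat_lit 0), (nat_lit 2), (nat_lit 1), (nat_lit 2), (nat_lit 1)],
  [(nat_lit 2), (nat_lit 1), (nat_lit 1), (nat_lit 1), (nat_lit 2), (nat_lit 1), (nat_lit 2), (nat_lit 1)],
  [(nat_lit 1), (nat_lit 2), (nat_lit 1), (nat_lit 2), (nat_lit 1), (nat_lit 0), (nat_lit 1)],
  [(nat_lit 1), (nat_lit 2), (nat_lit 1), (nat_lit 0), (nat_lit 2), (nat_lit 1), (nat_lit 1)],
  [(nat_lit 2), (nat_lit 0), (nat_lit 1), (nat_lit 1), (nat_lit 1), (nat_lit 0), (nat_lit 2), (nat_lit 1), (nat_lit 2), (nat_lit 1)],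
  [(nat_lit 2), (nat_lit 0), (nat_lit 1), (nat_lit 1), (nat_lit 0), (nat_lit 1), (nat_lit 2), (nat_lit 1), (nat_lit 2), (nat_lit 1)],
  [(nat_lit 0), (nat_lit 1), (nat_lit 0), (nat_lit 2), (nat_lit 1), (nat_lit 2), (nat_lit 1), (nat_lit 1)],
  [(nat_lit 1), (nat_lit 2), (nat_lit 1), (nat_lit 2), (nat_lit 1), (nat_lit 1), (nat_lit 0)],
  [(nat_lit 1), (nat_lit 1), (nat_lit 2), (nat_lit 1), (nat_lit 1), (nat_lit 0), (nat_lit 2), (nat_lit 1), (nat_lit 1)],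
  [(nat_lit 2), (nat_lit 0), (nat_lit 1), (nat_lit 2), (nat_lit 1), (nat_lit 1), (nat_lit 2), (nat_lit 1), (nat_lit 2)],
  [(nat_lit 2), (nat_lit 1), (nat_lit 0), (nat_lit 2), (nat_lit 1), (nat_lit 0), (nat_lit 1), (nat_lit 1), (nat_lit 2)],
  [(nat_lit 2), (nat_lit 1), (nat_lit 0), (nat_lit 2), (nat_lit 1), (nat_lit 1), (nat_lit 0), (nat_lit 1), (nat_lit 2)],
  [(nat_lit 1), (nat_lit 0), (nat_lit 1), (nat_lit 2), (nat_lit 1), (nat_lit 1), (nat_lit 0), (nat_lit 1), (nat_lit 1)],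
  [(nat_lit 0), (nat_lit 1), (nat_lit 1), (nat_lit 2), (nat_lit 1), (nat_lit 1), (nat_lit 1), (nat_lit 1)],
  [(nat_lit 0), (nat_lit 1), (nat_lit 1), (nat_lit 1), (nat_lit 1), (nat_lit 0), (nat_lit 2), (nat_lit 1), (nat_lit 2)],
  [(nat_lit 1), (nat_lit 0), (nat_lit 1), (nat_lit 1), (nat_lit 1), (nat_lit 2), (nat_lit 1), (nat_lit 2)],
  [(nat_lit 1), (nat_lit 1), (nat_lit 0), (nat_lit 2), (nat_lit 1), (nat_lit 1), (nat_lit 2), (nat_lit 1), (nat_lit 1)],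
  [(nat_lit 1), (nat_lit 1), (nat_lit 2), (nat_lit 1), (nat_lit 0), (nat_lit 1), (nat_lit 2), (nat_lit 1), (nat_lit 1)],
  [(nat_lit 2), (nat_lit 0), (nat_lit 1), (nat_lit 0), (nat_lit 2), (nat_lit 1), (nat_lit 1), (nat_lit 1), (nat_lit 2)],
  [(nat_lit 0), (nat_lit 2), (nat_lit 1), (nat_lit 2), (nat_lit 1), (nat_lit 1), (nat_lit 1), (nat_lit 2)],
  [(nat_lit 1), (nat_lit 0), (nat_lit 1), (nat_lit 0), (nat_lit 2), (nat_lit 1), (nat_lit 1), (nat_lit 1), (nat_lit 1)],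
  [(nat_lit 1), (nat_lit 0), (nat_lit 1), (nat_lit 2), (nat_lit 1), (nat_lit 0), (nat_lit 1), (nat_lit 1), (nat_lit 1)],
  [(nat_lit 0), (nat_lit 1), (nat_lit 1), (nat_lit 0), (nat_lit 1), (nat_lit 1), (nat_lit 2), (nat_lit 1), (nat_lit 2)],
  [(nat_lit 0), (nat_lit 1), (nat_lit 1), (nat_lit 1), (nat_lit 0), (nat_lit 1), (nat_lit 2), (nat_lit 1), (nat_lit 2)],
  [(nat_lit 2), (nat_lit 1), (nat_lit 0), (nat_lit 1), (nat_lit 1), (nat_lit 2), (nat_lit 1), (nat_lit 1)],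
  [(nat_lit 1), (nat_lit 1), (nat_lit 0), (nat_lit 1), (nat_lit 1), (nat_lit 0), (nat_lit 1), (nat_lit 2)],
  [(nat_lit 1), (nat_lit 1), (nat_lit 1), (nat_lit 2), (nat_lit 1), (nat_lit 1), (nat_lit 2)],
  [(nat_lit 1), (nat_lit 1), (nat_lit 1), (nat_lit 0), (nat_lit 1), (nat_lit 0), (nat_lit 1), (nat_lit 2)],
  [(nat_lit 0), (nat_lit 2), (nat_lit 1), (nat_lit 1), (nat_lit 1), (nat_lit 0), (nat_lit 2), (nat_lit 1), (nat_lit 1)],
  [(nat_lit 2)],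
  [(nat_lit 0), (nat_lit 2), (nat_lit 1), (nat_lit 1), (nat_lit 0), (nat_lit 1), (nat_lit 2), (nat_lit 1), (nat_lit 1)],
  [(nat_lit 1), (nat_lit 1), (nat_lit 0), (nat_lit 1), (nat_lit 0), (nat_lit 1), (nat_lit 1), (nat_lit 2)],
  [(nat_lit 0), (nat_lit 2), (nat_lit 1), (nat_lit 2), (nat_lit 1), (nat_lit 0), (nat_lit 1), (nat_lit 2), (nat_lit 1)],
  [(nat_lit 2), (nat_lit 1), (nat_lit 2), (nat_lit 1), (nat_lit 0), (nat_lit 1), (nat_lit 0), (nat_lit 1)],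
  [(nat_lit 0), (nat_lit 2), (nat_lit 1), (nat_lit 2), (nat_lit 1), (nat_lit 1), (nat_lit 0), (nat_lit 2), (nat_lit 1)],
  [(nat_lit 2), (nat_lit 1), (nat_lit 2), (nat_lit 1), (nat_lit 1), (nat_lit 1)],
  [(nat_lit 1), (nat_lit 1), (nat_lit 1), (nat_lit 2), (nat_lit 1), (nat_lit 0), (nat_lit 2), (nat_lit 1)],
  [(nat_lit 0), (nat_lit 1), (nat_lit 0), (nat_lit 1), (nat_lit 1), (nat_lit 2), (nat_lit 1), (nat_lit 2), (nat_lit 1)],
  [(nat_lit 1), (nat_lit 1), (nat_lit 0), (nat_lit 1), (nat_lit 1), (nat_lit 2), (nat_lit 1)],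
  [(nat_lit 1), (nat_lit 1), (nat_lit 1), (nat_lit 0), (nat_lit 1), (nat_lit 2), (nat_lit 1)],
  [(nat_lit 0), (nat_lit 2), (nat_lit 0), (nat_lit 1), (nat_lit 2), (nat_lit 1), (nat_lit 1), (nat_lit 2), (nat_lit 1)],
  [(nat_lit 2), (nat_lit 0), (nat_lit 1), (nat_lit 2), (nat_lit 1), (nat_lit 1), (nat_lit 0), (nat_lit 1)],
  [(nat_lit 2), (nat_lit 1), (nat_lit 0), (nat_lit 2), (nat_lit 1), (nat_lit 1), (nat_lit 2), (nat_lit 1)],
  [(nat_lit 2), (nat_lit 0), (nat_lit 1), (nat_lit 2), (nat_lit 1), (nat_lit 0), (nat_lit 1), (nat_lit 1)],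
  [(nat_lit 0), (nat_lit 1), (nat_lit 1), (nat_lit 1), (nat_lit 2), (nat_lit 1), (nat_lit 1)],
  [(nat_lit 1), (nat_lit 0), (nat_lit 1), (nat_lit 0), (nat_lit 1), (nat_lit 1), (nat_lit 1)],
  [(nat_lit 1), (nat_lit 0), (nat_lit 1), (nat_lit 1), (nat_lit 2), (nat_lit 1), (nat_lit 0), (nat_lit 1)],
  [(nat_lit 1), (nat_lit 0), (nat_lit 1), (nat_lit 1), (nat_lit 0), (nat_lit 1), (nat_lit 1)],
  [(nat_lit 1), (nat_lit 1), (nat_lit 0), (nat_lit 1), (nat_lit 2), (nat_lit 1), (nat_lit 2), (nat_lit 1)],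
  [(nat_lit 1), (nat_lit 1), (nat_lit 1), (nat_lit 0), (nat_lit 2), (nat_lit 1), (nat_lit 2), (nat_lit 1)],
  [(nat_lit 1), (nat_lit 1), (nat_lit 1), (nat_lit 1), (nat_lit 0), (nat_lit 2), (nat_lit 1)],
  [(nat_lit 0), (nat_lit 1), (nat_lit 0), (nat_lit 1), (nat_lit 1), (nat_lit 1), (nat_lit 2), (nat_lit 1)],
  [(nat_lit 1), (nat_lit 0), (nat_lit 1), (nat_lit 1), (nat_lit 0), (nat_lit 2), (nat_lit 1), (nat_lit 1)],
  [(nat_lit 1), (nat_lit 0), (nat_lit 1), (nat_lit 1), (nat_lit 1), (nat_lit 0), (nat_lit 1)],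
  [(nat_lit 1), (nat_lit 0), (nat_lit 1), (nat_lit 0), (nat_lit 1), (nat_lit 2), (nat_lit 1), (nat_lit 1)],
  [(nat_lit 0)],
  [(nat_lit 2), (nat_lit 1), (nat_lit 2), (nat_lit 1), (nat_lit 1), (nat_lit 2), (nat_lit 1)],
  [(nat_lit 0), (nat_lit 2), (nat_lit 1), (nat_lit 2), (nat_lit 1), (nat_lit 1), (nat_lit 0), (nat_lit 1)],
  [(nat_lit 1), (nat_lit 1), (nat_lit 2), (nat_lit 1), (nat_lit 1), (nat_lit 2), (nat_lit 1), (nat_lit 1), (nat_lit 2)],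
  [(nat_lit 0), (nat_lit 2), (nat_lit 1), (nat_lit 2), (nat_lit 1), (nat_lit 0), (nat_lit 1), (nat_lit 1)],
  [(nat_lit 1), (nat_lit 0), (nat_lit 1), (nat_lit 1), (nat_lit 0), (nat_lit 2), (nat_lit 1), (nat_lit 2), (nat_lit 1)],
  [(nat_lit 1), (nat_lit 0), (nat_lit 1), (nat_lit 0), (nat_lit 1), (nat_lit 2), (nat_lit 1), (nat_lit 2), (nat_lit 1)],
  [(nat_lit 0), (nat_lit 1), (nat_lit 1), (nat_lit 1), (nat_lit 1), (nat_lit 2), (nat_lit 1)],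
  [(nat_lit 1), (nat_lit 0), (nat_lit 1), (nat_lit 1), (nat_lit 1), (nat_lit 0), (nat_lit 2), (nat_lit 1)],
  [(nat_lit 2), (nat_lit 0), (nat_lit 1), (nat_lit 2), (nat_lit 1), (nat_lit 0), (nat_lit 1), (nat_lit 2), (nat_lit 1)],
  [(nat_lit 2), (nat_lit 1), (nat_lit 0), (nat_lit 2), (nat_lit 1), (nat_lit 1), (nat_lit 1)],
  [(nat_lit 2), (nat_lit 0), (nat_lit 1), (nat_lit 2), (nat_lit 1), (nat_lit 1), (nat_lit 0), (nat_lit 2), (nat_lit 1)],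
  [(nat_lit 0), (nat_lit 2), (nat_lit 0), (nat_lit 1), (nat_lit 2), (nat_lit 1), (nat_lit 1), (nat_lit 1)],
  [(nat_lit 1), (nat_lit 1), (nat_lit 0), (nat_lit 1), (nat_lit 2), (nat_lit 1), (nat_lit 1)],
  [(nat_lit 0), (nat_lit 1), (nat_lit 0), (nat_lit 1), (nat_lit 1), (nat_lit 1), (nat_lit 1)],
  [(nat_lit 1), (nat_lit 1), (nat_lit 1), (nat_lit 0), (nat_lit 2), (nat_lit 1), (nat_lit 1)],
  [(nat_lit 2), (nat_lit 0), (nat_lit 2)],
  [(nat_lit 0), (nat_lit 1), (nat_lit 1), (nat_lit 1), (nat_lit 2), (nat_lit 1), (nat_lit 2), (nat_lit 1)],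
  [(nat_lit 1), (nat_lit 0), (nat_lit 1), (nat_lit 1), (nat_lit 2), (nat_lit 1), (nat_lit 0), (nat_lit 2), (nat_lit 1)],
  [(nat_lit 1), (nat_lit 0), (nat_lit 1), (nat_lit 1), (nat_lit 0), (nat_lit 1), (nat_lit 2), (nat_lit 1)],
  [(nat_lit 1), (nat_lit 0), (nat_lit 1), (nat_lit 0), (nat_lit 1), (nat_lit 1), (nat_lit 2), (nat_lit 1)],
  [(nat_lit 1), (nat_lit 1), (nat_lit 1), (nat_lit 2), (nat_lit 1), (nat_lit 0), (nat_lit 1)],
  [(nat_lit 1), (nat_lit 1), (nat_lit 1), (nat_lit 0), (nat_lit 1), (nat_lit 1)],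
  [(nat_lit 0), (nat_lit 1), (nat_lit 0), (nat_lit 1), (nat_lit 1), (nat_lit 2), (nat_lit 1), (nat_lit 1)],
  [(nat_lit 1), (nat_lit 1), (nat_lit 0), (nat_lit 1), (nat_lit 1), (nat_lit 1)],
  [(nat_lit 0), (nat_lit 2), (nat_lit 1), (nat_lit 1), (nat_lit 2), (nat_lit 1), (nat_lit 1), (nat_lit 2), (nat_lit 1), (nat_lit 2), (nat_lit 1)],
  [(nat_lit 2), (nat_lit 0), (nat_lit 1), (nat_lit 0), (nat_lit 1), (nat_lit 2), (nat_lit 1), (nat_lit 1), (nat_lit 2), (nat_lit 1), (nat_lit 2), (nat_lit 1)],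
  [(nat_lit 0), (nat_lit 2), (nat_lit 1), (nat_lit 0), (nat_lit 1), (nat_lit 2), (nat_lit 1), (nat_lit 2), (nat_lit 1), (nat_lit 1), (nat_lit 1), (nat_lit 1)],
  [(nat_lit 2), (nat_lit 0), (nat_lit 1), (nat_lit 1), (nat_lit 2), (nat_lit 1), (nat_lit 2), (nat_lit 1), (nat_lit 1), (nat_lit 1), (nat_lit 1)],
  [(nat_lit 1), (nat_lit 0), (nat_lit 2), (nat_lit 1), (nat_lit 1), (nat_lit 0), (nat_lit 2), (nat_lit 1), (nat_lit 2)],
  [(nat_lit 1), (nat_lit 0), (nat_lit 2), (nat_lit 1), (nat_lit 0), (nat_lit 1), (nat_lit 2), (nat_lit 1), (nat_lit 2)],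
  [(nat_lit 0), (nat_lit 1), (nat_lit 2), (nat_lit 1), (nat_lit 1), (nat_lit 1), (nat_lit 2)],
  [(nat_lit 1), (nat_lit 0), (nat_lit 2), (nat_lit 1), (nat_lit 1), (nat_lit 1), (nat_lit 0), (nat_lit 2)],
  [(nat_lit 2), (nat_lit 1), (nat_lit 0), (nat_lit 1), (nat_lit 2), (nat_lit 1), (nat_lit 0), (nat_lit 1), (nat_lit 2), (nat_lit 1), (nat_lit 2), (nat_lit 1)],
  [(nat_lit 2), (nat_lit 1), (nat_lit 0), (nat_lit 1), (nat_lit 0), (nat_lit 2), (nat_lit 1), (nat_lit 1), (nat_lit 2), (nat_lit 1), (nat_lit 2), (nat_lit 1)],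
  [(nat_lit 1), (nat_lit 1), (nat_lit 2), (nat_lit 1), (nat_lit 2), (nat_lit 1), (nat_lit 1), (nat_lit 2), (nat_lit 1), (nat_lit 1)],
  [(nat_lit 2), (nat_lit 1), (nat_lit 1), (nat_lit 0), (nat_lit 2), (nat_lit 1), (nat_lit 2), (nat_lit 1), (nat_lit 1), (nat_lit 1), (nat_lit 1)],
  [(nat_lit 0), (nat_lit 1), (nat_lit 2), (nat_lit 1), (nat_lit 1), (nat_lit 2), (nat_lit 1), (nat_lit 2)],
  [(nat_lit 1), (nat_lit 0), (nat_lit 2), (nat_lit 1), (nat_lit 1), (nat_lit 2), (nat_lit 1), (nat_lit 0), (nat_lit 2)],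
  [(nat_lit 1), (nat_lit 0), (nat_lit 2), (nat_lit 1), (nat_lit 1), (nat_lit 0), (nat_lit 1), (nat_lit 2)],
  [(nat_lit 1), (nat_lit 0), (nat_lit 2), (nat_lit 1), (nat_lit 0), (nat_lit 1), (nat_lit 1), (nat_lit 2)],
  [(nat_lit 1), (nat_lit 2), (nat_lit 1), (nat_lit 1), (nat_lit 0), (nat_lit 2), (nat_lit 1), (nat_lit 0)],
  [(nat_lit 1), (nat_lit 2), (nat_lit 1), (nat_lit 1), (nat_lit 1)],
  [(nat_lit 1), (nat_lit 2), (nat_lit 1), (nat_lit 0), (nat_lit 1), (nat_lit 2), (nat_lit 1), (nat_lit 0)],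
  [(nat_lit 1), (nat_lit 2), (nat_lit 1), (nat_lit 0), (nat_lit 1), (nat_lit 0), (nat_lit 1)],
  [(nat_lit 1), (nat_lit 2), (nat_lit 1), (nat_lit 0), (nat_lit 1), (nat_lit 0), (nat_lit 2), (nat_lit 1)],
  [(nat_lit 1), (nat_lit 2), (nat_lit 1), (nat_lit 0), (nat_lit 1), (nat_lit 1), (nat_lit 0)],
  [(nat_lit 1), (nat_lit 2), (nat_lit 1), (nat_lit 1), (nat_lit 2), (nat_lit 1)],
  [(nat_lit 1), (nat_lit 2), (nat_lit 1), (nat_lit 1), (nat_lit 0), (nat_lit 1), (nat_lit 0)],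
  [(nat_lit 1), (nat_lit 1), (nat_lit 2), (nat_lit 1), (nat_lit 0), (nat_lit 1), (nat_lit 0), (nat_lit 2), (nat_lit 1), (nat_lit 2), (nat_lit 1)],
  [(nat_lit 1), (nat_lit 1), (nat_lit 0), (nat_lit 2), (nat_lit 1), (nat_lit 1), (nat_lit 0), (nat_lit 2), (nat_lit 1), (nat_lit 2), (nat_lit 1)],
  [(nat_lit 0), (nat_lit 1), (nat_lit 1), (nat_lit 0), (nat_lit 2), (nat_lit 1), (nat_lit 2), (nat_lit 1), (nat_lit 1), (nat_lit 1), (nat_lit 1)],
  [(nat_lit 0), (nat_lit 1), (nat_lit 1), (nat_lit 2), (nat_lit 1), (nat_lit 0), (nat_lit 2), (nat_lit 1), (nat_lit 1), (nat_lit 1), (nat_lit 1)],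
  [(nat_lit 1), (nat_lit 1), (nat_lit 0), (nat_lit 2), (nat_lit 1), (nat_lit 0), (nat_lit 1), (nat_lit 2), (nat_lit 1), (nat_lit 2), (nat_lit 1)],
  [(nat_lit 1), (nat_lit 1), (nat_lit 2), (nat_lit 1), (nat_lit 1), (nat_lit 2), (nat_lit 1), (nat_lit 2), (nat_lit 1)],
  [(nat_lit 0), (nat_lit 1), (nat_lit 1), (nat_lit 2), (nat_lit 1), (nat_lit 2), (nat_lit 1), (nat_lit 0), (nat_lit 1), (nat_lit 1), (nat_lit 1)],
  [(nat_lit 1), (nat_lit 0), (nat_lit 1), (nat_lit 2), (nat_lit 1), (nat_lit 2), (nat_lit 1), (nat_lit 1), (nat_lit 1), (nat_lit 1)],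
  [(nat_lit 1), (nat_lit 0), (nat_lit 1), (nat_lit 2), (nat_lit 1), (nat_lit 1), (nat_lit 1), (nat_lit 2), (nat_lit 1)],
  [(nat_lit 2), (nat_lit 1), (nat_lit 1), (nat_lit 2), (nat_lit 1), (nat_lit 0), (nat_lit 1), (nat_lit 1), (nat_lit 1)],
  [(nat_lit 1), (nat_lit 2), (nat_lit 1), (nat_lit 2), (nat_lit 1), (nat_lit 0), (nat_lit 1), (nat_lit 2)],
  [(nat_lit 1), (nat_lit 2), (nat_lit 1), (nat_lit 0), (nat_lit 2), (nat_lit 1), (nat_lit 1), (nat_lit 2)],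
  [(nat_lit 2), (nat_lit 0), (nat_lit 1), (nat_lit 1), (nat_lit 2), (nat_lit 1), (nat_lit 1), (nat_lit 1), (nat_lit 1)],
  [(nat_lit 0), (nat_lit 1), (nat_lit 1), (nat_lit 0), (nat_lit 2), (nat_lit 1), (nat_lit 1), (nat_lit 1), (nat_lit 2), (nat_lit 1)],
  [(nat_lit 0), (nat_lit 1), (nat_lit 0), (nat_lit 2), (nat_lit 1), (nat_lit 2), (nat_lit 1), (nat_lit 1), (nat_lit 2)],
  [(nat_lit 1), (nat_lit 2), (nat_lit 1), (nat_lit 2), (nat_lit 1), (nat_lit 1), (nat_lit 0), (nat_lit 2)],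
  [(nat_lit 1), (nat_lit 1), (nat_lit 2), (nat_lit 1), (nat_lit 1), (nat_lit 0), (nat_lit 1), (nat_lit 2), (nat_lit 1), (nat_lit 2)],
  [(nat_lit 0), (nat_lit 2), (nat_lit 1), (nat_lit 1), (nat_lit 1), (nat_lit 2), (nat_lit 1), (nat_lit 2), (nat_lit 1)],
  [(nat_lit 0), (nat_lit 1), (nat_lit 2), (nat_lit 1), (nat_lit 2), (nat_lit 1), (nat_lit 0), (nat_lit 1)],
  [(nat_lit 0), (nat_lit 1), (nat_lit 2), (nat_lit 1), (nat_lit 0), (nat_lit 2), (nat_lit 1), (nat_lit 1)],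
  [(nat_lit 1), (nat_lit 1), (nat_lit 0), (nat_lit 2), (nat_lit 1), (nat_lit 1), (nat_lit 1), (nat_lit 2), (nat_lit 1), (nat_lit 2)],
  [(nat_lit 1), (nat_lit 1), (nat_lit 2), (nat_lit 1), (nat_lit 0), (nat_lit 1), (nat_lit 1), (nat_lit 2), (nat_lit 1), (nat_lit 2)],
  [(nat_lit 1), (nat_lit 0), (nat_lit 2), (nat_lit 1), (nat_lit 2), (nat_lit 1), (nat_lit 1)],
  [(nat_lit 0), (nat_lit 1), (nat_lit 2), (nat_lit 1), (nat_lit 2), (nat_lit 1), (nat_lit 1), (nat_lit 0)],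
  [(nat_lit 2), (nat_lit 1), (nat_lit 1), (nat_lit 0), (nat_lit 2), (nat_lit 1), (nat_lit 1), (nat_lit 2), (nat_lit 1), (nat_lit 2), (nat_lit 1)],
  [(nat_lit 2), (nat_lit 1), (nat_lit 1), (nat_lit 2), (nat_lit 1), (nat_lit 0), (nat_lit 1), (nat_lit 2), (nat_lit 1), (nat_lit 2), (nat_lit 1)],
  [(nat_lit 0), (nat_lit 1), (nat_lit 1), (nat_lit 2), (nat_lit 1), (nat_lit 2), (nat_lit 1), (nat_lit 0), (nat_lit 1), (nat_lit 2), (nat_lit 1), (nat_lit 1)],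
  [(nat_lit 1), (nat_lit 0), (nat_lit 1), (nat_lit 2), (nat_lit 1), (nat_lit 2), (nat_lit 1), (nat_lit 1), (nat_lit 2), (nat_lit 1), (nat_lit 1)],
  [(nat_lit 1), (nat_lit 2), (nat_lit 1), (nat_lit 1), (nat_lit 2), (nat_lit 1), (nat_lit 0), (nat_lit 2)],
  [(nat_lit 0), (nat_lit 1), (nat_lit 0), (nat_lit 2), (nat_lit 1), (nat_lit 1), (nat_lit 2), (nat_lit 1), (nat_lit 2)],
  [(nat_lit 1), (nat_lit 2), (nat_lit 1), (nat_lit 0), (nat_lit 1), (nat_lit 1), (nat_lit 2)],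
  [(nat_lit 1), (nat_lit 2), (nat_lit 1), (nat_lit 1), (nat_lit 0), (nat_lit 1), (nat_lit 2)],
  [(nat_lit 2), (nat_lit 0), (nat_lit 1), (nat_lit 1), (nat_lit 2), (nat_lit 1), (nat_lit 1), (nat_lit 2), (nat_lit 1), (nat_lit 2), (nat_lit 1)],
  [(nat_lit 0), (nat_lit 2), (nat_lit 1), (nat_lit 0), (nat_lit 1), (nat_lit 2), (nat_lit 1), (nat_lit 1), (nat_lit 2), (nat_lit 1), (nat_lit 2), (nat_lit 1)],
  [(nat_lit 0), (nat_lit 1), (nat_lit 1), (nat_lit 0), (nat_lit 2), (nat_lit 1), (nat_lit 2), (nat_lit 1), (nat_lit 1), (nat_lit 2), (nat_lit 1), (nat_lit 1)],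
  [(nat_lit 0), (nat_lit 2), (nat_lit 1), (nat_lit 1), (nat_lit 2), (nat_lit 1), (nat_lit 2), (nat_lit 1), (nat_lit 1), (nat_lit 1), (nat_lit 1)],
  [(nat_lit 1), (nat_lit 2), (nat_lit 1), (nat_lit 0), (nat_lit 1), (nat_lit 2), (nat_lit 1), (nat_lit 2)],
  [(nat_lit 1), (nat_lit 2), (nat_lit 1), (nat_lit 1), (nat_lit 0), (nat_lit 2), (nat_lit 1), (nat_lit 2)],
  [(nat_lit 1), (nat_lit 2), (nat_lit 1), (nat_lit 1), (nat_lit 1), (nat_lit 0), (nat_lit 2)],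
  [(nat_lit 0), (nat_lit 1), (nat_lit 0), (nat_lit 2), (nat_lit 1), (nat_lit 1), (nat_lit 1), (nat_lit 2)],
  [(nat_lit 1), (nat_lit 0), (nat_lit 2), (nat_lit 1), (nat_lit 1), (nat_lit 2), (nat_lit 1)],
  [(nat_lit 0), (nat_lit 1), (nat_lit 2), (nat_lit 1), (nat_lit 0), (nat_lit 1), (nat_lit 1)],
  [(nat_lit 0), (nat_lit 1), (nat_lit 2), (nat_lit 1), (nat_lit 1), (nat_lit 2), (nat_lit 1), (nat_lit 0)],
  [(nat_lit 0), (nat_lit 1), (nat_lit 2), (nat_lit 1), (nat_lit 1), (nat_lit 0), (nat_lit 1)],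
  [(nat_lit 0), (nat_lit 1), (nat_lit 2), (nat_lit 1), (nat_lit 1), (nat_lit 0), (nat_lit 2), (nat_lit 1)],
  [(nat_lit 0), (nat_lit 1), (nat_lit 2), (nat_lit 1), (nat_lit 1), (nat_lit 1), (nat_lit 0)],
  [(nat_lit 0), (nat_lit 1), (nat_lit 2), (nat_lit 1), (nat_lit 0), (nat_lit 1), (nat_lit 2), (nat_lit 1)],
  [(nat_lit 1), (nat_lit 0), (nat_lit 2), (nat_lit 1), (nat_lit 1), (nat_lit 1)],
  [(nat_lit 2), (nat_lit 1), (nat_lit 0), (nat_lit 2), (nat_lit 1), (nat_lit 1), (nat_lit 2), (nat_lit 1), (nat_lit 2)],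
  [(nat_lit 1), (nat_lit 0), (nat_lit 1), (nat_lit 2), (nat_lit 1), (nat_lit 1), (nat_lit 2), (nat_lit 1), (nat_lit 1)],
  [(nat_lit 2), (nat_lit 0), (nat_lit 1), (nat_lit 2), (nat_lit 1), (nat_lit 1), (nat_lit 0), (nat_lit 1), (nat_lit 2)],
  [(nat_lit 2), (nat_lit 0), (nat_lit 1), (nat_lit 2), (nat_lit 1), (nat_lit 0), (nat_lit 1), (nat_lit 1), (nat_lit 2)],
  [(nat_lit 1), (nat_lit 1), (nat_lit 0), (nat_lit 2), (nat_lit 1), (nat_lit 0), (nat_lit 1), (nat_lit 1), (nat_lit 1)],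
  [(nat_lit 1), (nat_lit 1), (nat_lit 2), (nat_lit 1), (nat_lit 1), (nat_lit 1), (nat_lit 1)],
  [(nat_lit 1), (nat_lit 1), (nat_lit 1), (nat_lit 1), (nat_lit 0), (nat_lit 2), (nat_lit 1), (nat_lit 2)],
  [(nat_lit 0), (nat_lit 1), (nat_lit 0), (nat_lit 1), (nat_lit 1), (nat_lit 1), (nat_lit 2), (nat_lit 1), (nat_lit 2)],
  [(nat_lit 0), (nat_lit 1), (nat_lit 1), (nat_lit 0), (nat_lit 2), (nat_lit 1), (nat_lit 1), (nat_lit 2), (nat_lit 1), (nat_lit 1)],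
  [(nat_lit 0), (nat_lit 1), (nat_lit 1), (nat_lit 2), (nat_lit 1), (nat_lit 0), (nat_lit 1), (nat_lit 2), (nat_lit 1), (nat_lit 1)],
  [(nat_lit 2), (nat_lit 1), (nat_lit 2), (nat_lit 1), (nat_lit 0), (nat_lit 1), (nat_lit 0), (nat_lit 1), (nat_lit 2)],
  [(nat_lit 2), (nat_lit 1), (nat_lit 2), (nat_lit 1), (nat_lit 1), (nat_lit 1), (nat_lit 2)],
  [(nat_lit 1), (nat_lit 1), (nat_lit 2), (nat_lit 1), (nat_lit 0), (nat_lit 1), (nat_lit 0), (nat_lit 1), (nat_lit 1)],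
  [(nat_lit 1), (nat_lit 1), (nat_lit 0), (nat_lit 2), (nat_lit 1), (nat_lit 1), (nat_lit 0), (nat_lit 1), (nat_lit 1)],
  [(nat_lit 1), (nat_lit 1), (nat_lit 0), (nat_lit 1), (nat_lit 1), (nat_lit 2), (nat_lit 1), (nat_lit 2)],
  [(nat_lit 1), (nat_lit 1), (nat_lit 1), (nat_lit 0), (nat_lit 1), (nat_lit 2), (nat_lit 1), (nat_lit 2)],
  [(nat_lit 0), (nat_lit 2), (nat_lit 1), (nat_lit 0), (nat_lit 1), (nat_lit 1), (nat_lit 2), (nat_lit 1), (nat_lit 1)],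
  [(nat_lit 1), (nat_lit 0), (nat_lit 1), (nat_lit 1), (nat_lit 0), (nat_lit 1), (nat_lit 1), (nat_lit 2)],
  [(nat_lit 0), (nat_lit 1), (nat_lit 1), (nat_lit 1), (nat_lit 2), (nat_lit 1), (nat_lit 1), (nat_lit 2)],
  [(nat_lit 1), (nat_lit 0), (nat_lit 1), (nat_lit 0), (nat_lit 1), (nat_lit 1), (nat_lit 1), (nat_lit 2)],
  [(nat_lit 2), (nat_lit 1), (nat_lit 1), (nat_lit 1), (nat_lit 0), (nat_lit 2), (nat_lit 1), (nat_lit 1)],
  [(nat_lit 0), (nat_lit 2)],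
  [(nat_lit 2), (nat_lit 1), (nat_lit 1), (nat_lit 0), (nat_lit 1), (nat_lit 2), (nat_lit 1), (nat_lit 1)],
  [(nat_lit 1), (nat_lit 0), (nat_lit 1), (nat_lit 1), (nat_lit 1), (nat_lit 0), (nat_lit 1), (nat_lit 2)],
  [(nat_lit 1), (nat_lit 0), (nat_lit 1), (nat_lit 2), (nat_lit 1), (nat_lit 1), (nat_lit 2), (nat_lit 1), (nat_lit 2), (nat_lit 1)],
  [(nat_lit 0), (nat_lit 1), (nat_lit 1), (nat_lit 2), (nat_lit 1), (nat_lit 1), (nat_lit 0), (nat_lit 2), (nat_lit 1), (nat_lit 2), (nat_lit 1)],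
  [(nat_lit 1), (nat_lit 1), (nat_lit 2), (nat_lit 1), (nat_lit 2), (nat_lit 1), (nat_lit 1), (nat_lit 1), (nat_lit 1)],
  [(nat_lit 1), (nat_lit 1), (nat_lit 0), (nat_lit 2), (nat_lit 1), (nat_lit 0), (nat_lit 2), (nat_lit 1), (nat_lit 1), (nat_lit 1), (nat_lit 1)],
  [(nat_lit 0), (nat_lit 1), (nat_lit 1), (nat_lit 2), (nat_lit 1), (nat_lit 0), (nat_lit 1), (nat_lit 2), (nat_lit 1), (nat_lit 2), (nat_lit 1)],
  [(nat_lit 0), (nat_lit 1), (nat_lit 1), (nat_lit 0), (nat_lit 2), (nat_lit 1), (nat_lit 1), (nat_lit 2), (nat_lit 1), (nat_lit 2), (nat_lit 1)],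
  [(nat_lit 1), (nat_lit 1), (nat_lit 0), (nat_lit 2), (nat_lit 1), (nat_lit 2), (nat_lit 1), (nat_lit 0), (nat_lit 1), (nat_lit 1), (nat_lit 1)],
  [(nat_lit 1), (nat_lit 1), (nat_lit 2), (nat_lit 1), (nat_lit 0), (nat_lit 2), (nat_lit 1), (nat_lit 0), (nat_lit 1), (nat_lit 1), (nat_lit 1)],
  [(nat_lit 0), (nat_lit 2), (nat_lit 1), (nat_lit 1), (nat_lit 2), (nat_lit 1), (nat_lit 1), (nat_lit 1), (nat_lit 1)],
  [(nat_lit 1), (nat_lit 1), (nat_lit 0), (nat_lit 2), (nat_lit 1), (nat_lit 1), (nat_lit 0), (nat_lit 1), (nat_lit 2), (nat_lit 1)],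
  [(nat_lit 1), (nat_lit 0), (nat_lit 2), (nat_lit 1), (nat_lit 2), (nat_lit 1), (nat_lit 1), (nat_lit 0), (nat_lit 2)],
  [(nat_lit 0), (nat_lit 1), (nat_lit 2), (nat_lit 1), (nat_lit 2), (nat_lit 1), (nat_lit 1), (nat_lit 2)],
  [(nat_lit 1), (nat_lit 1), (nat_lit 0), (nat_lit 2), (nat_lit 1), (nat_lit 0), (nat_lit 1), (nat_lit 1), (nat_lit 2), (nat_lit 1)],
  [(nat_lit 1), (nat_lit 1), (nat_lit 2), (nat_lit 1), (nat_lit 1), (nat_lit 1), (nat_lit 2), (nat_lit 1)],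
  [(nat_lit 1), (nat_lit 0), (nat_lit 2), (nat_lit 1), (nat_lit 0), (nat_lit 2), (nat_lit 1), (nat_lit 1), (nat_lit 2)],
  [(nat_lit 1), (nat_lit 0), (nat_lit 2), (nat_lit 1), (nat_lit 2), (nat_lit 1), (nat_lit 0), (nat_lit 1), (nat_lit 2)],
  [(nat_lit 2), (nat_lit 1), (nat_lit 1), (nat_lit 1), (nat_lit 0), (nat_lit 2), (nat_lit 1), (nat_lit 2), (nat_lit 1)],
  [(nat_lit 2), (nat_lit 1), (nat_lit 1), (nat_lit 0), (nat_lit 1), (nat_lit 2), (nat_lit 1), (nat_lit 2), (nat_lit 1)],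
  [(nat_lit 1), (nat_lit 2), (nat_lit 1), (nat_lit 0), (nat_lit 2), (nat_lit 1), (nat_lit 0), (nat_lit 1)],
  [(nat_lit 1), (nat_lit 2), (nat_lit 1), (nat_lit 2), (nat_lit 1), (nat_lit 1)],
  [(nat_lit 0), (nat_lit 1), (nat_lit 1), (nat_lit 2), (nat_lit 1), (nat_lit 1), (nat_lit 1), (nat_lit 2), (nat_lit 1), (nat_lit 2)],
  [(nat_lit 2), (nat_lit 0), (nat_lit 1), (nat_lit 1), (nat_lit 1), (nat_lit 2), (nat_lit 1), (nat_lit 2), (nat_lit 1)],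
  [(nat_lit 1), (nat_lit 2), (nat_lit 1), (nat_lit 2), (nat_lit 1), (nat_lit 0), (nat_lit 1), (nat_lit 0)],
  [(nat_lit 1), (nat_lit 2), (nat_lit 1), (nat_lit 0), (nat_lit 2), (nat_lit 1), (nat_lit 1), (nat_lit 0)],
  [(nat_lit 1), (nat_lit 1), (nat_lit 0), (nat_lit 2), (nat_lit 1), (nat_lit 1), (nat_lit 0), (nat_lit 2), (nat_lit 1), (nat_lit 1)],
  [(nat_lit 1), (nat_lit 1), (nat_lit 2), (nat_lit 1), (nat_lit 0), (nat_lit 1), (nat_lit 0), (nat_lit 2), (nat_lit 1), (nat_lit 1)],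
  [(nat_lit 2), (nat_lit 1), (nat_lit 0), (nat_lit 2), (nat_lit 1), (nat_lit 1), (nat_lit 1), (nat_lit 2)],
  [(nat_lit 0), (nat_lit 2), (nat_lit 0), (nat_lit 1), (nat_lit 2), (nat_lit 1), (nat_lit 1), (nat_lit 1), (nat_lit 2)],
  [(nat_lit 0), (nat_lit 1), (nat_lit 1), (nat_lit 2), (nat_lit 1), (nat_lit 0), (nat_lit 1), (nat_lit 1), (nat_lit 1)],
  [(nat_lit 0), (nat_lit 1), (nat_lit 1), (nat_lit 0), (nat_lit 2), (nat_lit 1), (nat_lit 1), (nat_lit 1), (nat_lit 1)],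
  [(nat_lit 1), (nat_lit 0), (nat_lit 1), (nat_lit 1), (nat_lit 0), (nat_lit 1), (nat_lit 2), (nat_lit 1), (nat_lit 2)],
  [(nat_lit 1), (nat_lit 0), (nat_lit 1), (nat_lit 0), (nat_lit 1), (nat_lit 1), (nat_lit 2), (nat_lit 1), (nat_lit 2)],
  [(nat_lit 1), (nat_lit 1), (nat_lit 2), (nat_lit 1), (nat_lit 1), (nat_lit 2), (nat_lit 1), (nat_lit 1)],
  [(nat_lit 2), (nat_lit 1), (nat_lit 2), (nat_lit 1), (nat_lit 1), (nat_lit 2), (nat_lit 1), (nat_lit 2)],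
  [(nat_lit 0), (nat_lit 2), (nat_lit 1), (nat_lit 2), (nat_lit 1), (nat_lit 1), (nat_lit 0), (nat_lit 1), (nat_lit 2)],
  [(nat_lit 0), (nat_lit 2), (nat_lit 1), (nat_lit 2), (nat_lit 1), (nat_lit 0), (nat_lit 1), (nat_lit 1), (nat_lit 2)],
  [(nat_lit 1), (nat_lit 0), (nat_lit 1), (nat_lit 2), (nat_lit 1), (nat_lit 1), (nat_lit 1), (nat_lit 1)],
  [(nat_lit 0), (nat_lit 1), (nat_lit 1), (nat_lit 2), (nat_lit 1), (nat_lit 1), (nat_lit 0), (nat_lit 1), (nat_lit 1)],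
  [(nat_lit 0), (nat_lit 1), (nat_lit 1), (nat_lit 1), (nat_lit 1), (nat_lit 2), (nat_lit 1), (nat_lit 2)],
  [(nat_lit 1), (nat_lit 0), (nat_lit 1), (nat_lit 1), (nat_lit 1), (nat_lit 0), (nat_lit 2), (nat_lit 1), (nat_lit 2)],
  [(nat_lit 1), (nat_lit 1), (nat_lit 1), (nat_lit 0), (nat_lit 2), (nat_lit 1), (nat_lit 1), (nat_lit 2)],
  [(nat_lit 2), (nat_lit 0)],
  [(nat_lit 1), (nat_lit 1), (nat_lit 0), (nat_lit 1), (nat_lit 2), (nat_lit 1), (nat_lit 1), (nat_lit 2)],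
  [(nat_lit 0), (nat_lit 1), (nat_lit 0), (nat_lit 1), (nat_lit 1), (nat_lit 1), (nat_lit 1), (nat_lit 2)],
  [(nat_lit 0), (nat_lit 1), (nat_lit 0), (nat_lit 1), (nat_lit 1), (nat_lit 2), (nat_lit 1), (nat_lit 1), (nat_lit 2)],
  [(nat_lit 1), (nat_lit 1), (nat_lit 0), (nat_lit 1), (nat_lit 1), (nat_lit 1), (nat_lit 2)],
  [(nat_lit 0), (nat_lit 2), (nat_lit 1), (nat_lit 1), (nat_lit 1), (nat_lit 2), (nat_lit 1), (nat_lit 1)],
  [(nat_lit 1), (nat_lit 1), (nat_lit 1), (nat_lit 0), (nat_lit 1), (nat_lit 1), (nat_lit 2)],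
  [(nat_lit 0), (nat_lit 2), (nat_lit 1), (nat_lit 2), (nat_lit 1), (nat_lit 1), (nat_lit 2), (nat_lit 1)],
  [(nat_lit 2), (nat_lit 1), (nat_lit 2), (nat_lit 1), (nat_lit 1), (nat_lit 0), (nat_lit 1)],
  [(nat_lit 2), (nat_lit 0), (nat_lit 1), (nat_lit 0), (nat_lit 2), (nat_lit 1), (nat_lit 1), (nat_lit 2), (nat_lit 1)],
  [(nat_lit 2), (nat_lit 1), (nat_lit 2), (nat_lit 1), (nat_lit 0), (nat_lit 1), (nat_lit 1)],
  [(nat_lit 1), (nat_lit 1), (nat_lit 0), (nat_lit 1), (nat_lit 2), (nat_lit 1), (nat_lit 0), (nat_lit 2), (nat_lit 1)],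
  [(nat_lit 1), (nat_lit 1), (nat_lit 1), (nat_lit 0), (nat_lit 2), (nat_lit 1), (nat_lit 0), (nat_lit 2), (nat_lit 1)],
  [(nat_lit 1), (nat_lit 1), (nat_lit 1), (nat_lit 1), (nat_lit 2), (nat_lit 1)],
  [(nat_lit 1), (nat_lit 1), (nat_lit 0), (nat_lit 1), (nat_lit 0), (nat_lit 1), (nat_lit 2), (nat_lit 1)],
  [(nat_lit 2), (nat_lit 1), (nat_lit 0), (nat_lit 2), (nat_lit 1), (nat_lit 1), (nat_lit 0), (nat_lit 2), (nat_lit 1)],
  [(nat_lit 0), (nat_lit 2), (nat_lit 1), (nat_lit 0), (nat_lit 2), (nat_lit 1), (nat_lit 1), (nat_lit 1)],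
  [(nat_lit 2), (nat_lit 1), (nat_lit 0), (nat_lit 2), (nat_lit 1), (nat_lit 0), (nat_lit 1), (nat_lit 2), (nat_lit 1)],
  [(nat_lit 2), (nat_lit 0), (nat_lit 1), (nat_lit 2), (nat_lit 1), (nat_lit 1), (nat_lit 1)],
  [(nat_lit 0), (nat_lit 1), (nat_lit 1), (nat_lit 0), (nat_lit 1), (nat_lit 2), (nat_lit 1), (nat_lit 1)],
  [(nat_lit 1), (nat_lit 0), (nat_lit 1), (nat_lit 1), (nat_lit 1), (nat_lit 1)],
  [(nat_lit 0), (nat_lit 1), (nat_lit 1), (nat_lit 1), (nat_lit 0), (nat_lit 2), (nat_lit 1), (nat_lit 1)],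
  [(nat_lit 0), (nat_lit 2), (nat_lit 0), (nat_lit 2)],
  [(nat_lit 1), (nat_lit 1), (nat_lit 1), (nat_lit 2), (nat_lit 1), (nat_lit 2), (nat_lit 1)],
  [(nat_lit 1), (nat_lit 1), (nat_lit 0), (nat_lit 1), (nat_lit 0), (nat_lit 2), (nat_lit 1), (nat_lit 2), (nat_lit 1)],
  [(nat_lit 1), (nat_lit 1), (nat_lit 0), (nat_lit 1), (nat_lit 1), (nat_lit 0), (nat_lit 2), (nat_lit 1)],
  [(nat_lit 1), (nat_lit 1), (nat_lit 1), (nat_lit 0), (nat_lit 1), (nat_lit 0), (nat_lit 2), (nat_lit 1)],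
  [(nat_lit 0), (nat_lit 1), (nat_lit 1), (nat_lit 1), (nat_lit 2), (nat_lit 1), (nat_lit 0), (nat_lit 1)],
  [(nat_lit 0), (nat_lit 1), (nat_lit 1), (nat_lit 1), (nat_lit 0), (nat_lit 1), (nat_lit 1)],
  [(nat_lit 1), (nat_lit 0), (nat_lit 1), (nat_lit 1), (nat_lit 2), (nat_lit 1), (nat_lit 1)],
  [(nat_lit 0), (nat_lit 1), (nat_lit 1), (nat_lit 0), (nat_lit 1), (nat_lit 1), (nat_lit 1)],
  [(nat_lit 2), (nat_lit 1), (nat_lit 2), (nat_lit 1), (nat_lit 0), (nat_lit 1), (nat_lit 2), (nat_lit 1)],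
  [(nat_lit 2), (nat_lit 0), (nat_lit 1), (nat_lit 0), (nat_lit 2), (nat_lit 1), (nat_lit 1), (nat_lit 1)],
  [(nat_lit 2), (nat_lit 1), (nat_lit 2), (nat_lit 1), (nat_lit 1), (nat_lit 0), (nat_lit 2), (nat_lit 1)],
  [(nat_lit 0), (nat_lit 2), (nat_lit 1), (nat_lit 2), (nat_lit 1), (nat_lit 1), (nat_lit 1)],
  [(nat_lit 0), (nat_lit 1), (nat_lit 1), (nat_lit 1), (nat_lit 2), (nat_lit 1), (nat_lit 0), (nat_lit 2), (nat_lit 1)],
  [(nat_lit 1), (nat_lit 0), (nat_lit 1), (nat_lit 1), (nat_lit 2), (nat_lit 1), (nat_lit 2), (nat_lit 1)],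
  [(nat_lit 0), (nat_lit 1), (nat_lit 1), (nat_lit 0), (nat_lit 1), (nat_lit 1), (nat_lit 2), (nat_lit 1)],
  [(nat_lit 0), (nat_lit 1), (nat_lit 1), (nat_lit 1), (nat_lit 0), (nat_lit 1), (nat_lit 2), (nat_lit 1)],
  [(nat_lit 2), (nat_lit 0), (nat_lit 1), (nat_lit 2), (nat_lit 1), (nat_lit 1), (nat_lit 2), (nat_lit 1)],
  [(nat_lit 2), (nat_lit 1), (nat_lit 0), (nat_lit 2), (nat_lit 1), (nat_lit 0), (nat_lit 1), (nat_lit 1)],
  [(nat_lit 0), (nat_lit 2), (nat_lit 1), (nat_lit 0), (nat_lit 2), (nat_lit 1), (nat_lit 1), (nat_lit 2), (nat_lit 1)],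
  [(nat_lit 2), (nat_lit 1), (nat_lit 0), (nat_lit 2), (nat_lit 1), (nat_lit 1), (nat_lit 0), (nat_lit 1)],
  [(nat_lit 1), (nat_lit 1), (nat_lit 1), (nat_lit 2), (nat_lit 1), (nat_lit 1)],
  [(nat_lit 1), (nat_lit 1), (nat_lit 1), (nat_lit 0), (nat_lit 1), (nat_lit 0), (nat_lit 1)],
  [(nat_lit 1), (nat_lit 1), (nat_lit 0), (nat_lit 1), (nat_lit 0), (nat_lit 2), (nat_lit 1), (nat_lit 1)],
  [(nat_lit 1), (nat_lit 1), (nat_lit 0), (nat_lit 1), (nat_lit 1), (nat_lit 0), (nat_lit 1)],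
  [(nat_lit 0), (nat_lit 1), (nat_lit 1), (nat_lit 0), (nat_lit 1), (nat_lit 2), (nat_lit 1), (nat_lit 2), (nat_lit 1)],
  [(nat_lit 0), (nat_lit 1), (nat_lit 1), (nat_lit 1), (nat_lit 0), (nat_lit 2), (nat_lit 1), (nat_lit 2), (nat_lit 1)],
  [(nat_lit 0), (nat_lit 1), (nat_lit 1), (nat_lit 1), (nat_lit 1), (nat_lit 0), (nat_lit 2), (nat_lit 1)],
  [(nat_lit 1), (nat_lit 0), (nat_lit 1), (nat_lit 1), (nat_lit 1), (nat_lit 2), (nat_lit 1)],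
  [(nat_lit 1), (nat_lit 1), (nat_lit 0), (nat_lit 1), (nat_lit 2), (nat_lit 1), (nat_lit 0), (nat_lit 1)],
  [(nat_lit 1), (nat_lit 1), (nat_lit 0), (nat_lit 1), (nat_lit 0), (nat_lit 1), (nat_lit 1)],
  [(nat_lit 1), (nat_lit 1), (nat_lit 1), (nat_lit 0), (nat_lit 2), (nat_lit 1), (nat_lit 0), (nat_lit 1)],
  []]
noncomputable def AN_lS_h (c : ℕ) : ℕ := Nat.mod c (nat_lit 0x14bc07)
noncomputable def AN_lS_T0 : ST := (.node (nat_lit 0x11a6c52dbc876f9b69d5dc5f8953e43a7c819420) (.node (nat_lit 0x119938297d6f33ab6dcfbc658a57c3217e742420) (.node (nat_lit 0x119706726aeb72f8ef1aa5a4ebd4fe4907f2a020) (.node (nat_lit 0x1194d9f590e2f528df1bada8ecbc9f28d1e49c20) (.node (nat_lit 0x1194d6766be42f276adbae1f1cd11f48c9e29c20) (.node (nat_lit 0x1194d5f613e32d2a635baddcfcc4bf40d3e21c20) (.node (nat_lit 0x1194d5ce1c676dade2afbc9d9a47e940fc521c20) (.leaf (nat_lit 0x1194d5b21d9f2d7ce254d55db7c7c540fe921c20))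 (.node (nat_lit 0x1194d5f20ceced57e2f9969d4dc53e40cbf21c20) (.leaf (nat_lit 0x1194d5ce1c676dade2afbc9d9a47e940fc521c20)) (.leaf (nat_lit 0x1194d5f20ceced57e2f9969d4dc53e40cbf21c20)))) (.node (nat_lit 0x1194d6427d5f2f8cea4eb55fb8d3c848fe429c20) (.node (nat_lit 0x1194d62e7c876f6deab1c49f9753e448fc829c20) (.leaf (nat_lit 0x1194d5f613e32d2a635baddcfcc4bf40d3e21c20)) (.leaf (nat_lit 0x1194d62e7c876f6deab1c49f9753e448fc829c20))) (.node (nat_lit 0x1194d67270eaef58eb19959eedd09e48d1f29c20) (.leaf (nat_lit 0x1194d6427d5f2f8cea4eb55fb8d3c848fe429c20)) (.leaf (nat_lit 0x1194d67270eaef58eb19959eedd09e48d1f29c20))))) (.node (nat_lit 0x1194d8756ce4f127dafbaea34cb93f20cbe41c20) (.node (nat_lit 0x1194d84d7d6731acda4fbd63ba3bc920fe541c20) (.node (nat_lit 0x1194d8317c9f717ddab4d4a397bbe520fc941c20) (.leaf (nat_lit 0x1194d6766be42f276adbae1f1cd11f48c9e29c20)) (.leaf (nat_lit 0x1194d8317c9f717ddab4d4a397bbe520fc941c20)))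 (.node (nat_lit 0x1194d87173eb315a5b5995e2fdb8be20d3f41c20) (.leaf (nat_lit 0x1194d84d7d6731acda4fbd63ba3bc920fe541c20)) (.leaf (nat_lit 0x1194d87173eb315a5b5995e2fdb8be20d3f41c20)))) (.node (nat_lit 0x1194d9c19c5f758ddeaeb4a998bfe828fc449c20) (.node (nat_lit 0x1194d9ad9d87356cde51c569b73fc428fe849c20) (.leaf (nat_lit 0x1194d8756ce4f127dafbaea34cb93f20cbe41c20)) (.leaf (nat_lit 0x1194d9ad9d87356cde51c569b73fc428fe849c20))) (.node (nat_lit 0x1194d9f18bec35575ed996291dbd1e28c9f49c20) (.leaf (nat_lit 0x1194d9c19c5f758ddeaeb4a998bfe828fc449c20)) (.leaf (nat_lit 0x1194d9f18bec35575ed996291dbd1e28c9f49c20)))))) (.node (nat_lit 0x1194dec3935b258a574eb5f2f8eca8f0d24f9c20) (.node (nat_lit 0x1194de43ac5ceb87caeeb6b748e528f8ca4f1c20) (.node (nat_lit 0x1194de2fb3832b6a4b51c5f6f764a4f8d28f1c20) (.leaf (nat_lit 0x1194d9f590e2f528df1bada8ecbc9f28d1e49c20)) (.node (nat_lit 0x1194de33ab9c2b774ad4d63717e505f8c89f1c20)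 (.leaf (nat_lit 0x1194de2fb3832b6a4b51c5f6f764a4f8d28f1c20)) (.leaf (nat_lit 0x1194de33ab9c2b774ad4d63717e505f8c89f1c20)))) (.node (nat_lit 0x1194deaf8c84e567d6f1c6b3476d24f0ca8f9c20) (.node (nat_lit 0x1194de4fb062eba8cb0fbdb6ea6489f8d05f1c20) (.leaf (nat_lit 0x1194de43ac5ceb87caeeb6b748e528f8ca4f1c20)) (.leaf (nat_lit 0x1194de4fb062eba8cb0fbdb6ea6489f8d05f1c20))) (.node (nat_lit 0x1194deb3909ae578d714d5b2e7ec85f0d09f9c20) (.leaf (nat_lit 0x1194deaf8c84e567d6f1c6b3476d24f0ca8f9c20)) (.leaf (nat_lit 0x1194deb3909ae578d714d5b2e7ec85f0d09f9c20))))) (.node (nat_lit 0x11970571b3eb30fadb7aa6632bb8be3913f1a020) (.node (nat_lit 0x11970531bc9f719bd9f5dd23a93be5393c91a020) (.node (nat_lit 0x1194decf8b6425a756cfbe331a6d09f0c85f9c20) (.leaf (nat_lit 0x1194dec3935b258a574eb5f2f8eca8f0d24f9c20)) (.leaf (nat_lit 0x1194decf8b6425a756cfbe331a6d09f0c85f9c20))) (.node (nat_lit 0x1197054dbd6731bd5a92cbe37abbc9393e51a020)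 (.leaf (nat_lit 0x11970531bc9f719bd9f5dd23a93be5393c91a020)) (.leaf (nat_lit 0x1197054dbd6731bd5a92cbe37abbc9393e51a020)))) (.node (nat_lit 0x1197062a7d6f338d6e8eb3e578d7c3493e72a020) (.node (nat_lit 0x11970575ace4f1495b377ee35d393f390be1a020) (.leaf (nat_lit 0x11970571b3eb30fadb7aa6632bb8be3913f1a020)) (.leaf (nat_lit 0x11970575ace4f1495b377ee35d393f390be1a020))) (.node (nat_lit 0x119706367c57736bedf1c525a757e7493c32a020) (.leaf (nat_lit 0x1197062a7d6f338d6e8eb3e578d7c3493e72a020)) (.leaf (nat_lit 0x119706367c57736bedf1c525a757e7493c32a020))))))) (.node (nat_lit 0x11970eb38a9b6998bf15ddb4e95ce5f1069fa020) (.node (nat_lit 0x119709b59d57376d6691c3eb774bc7293e34a020) (.node (nat_lit 0x119706cd5c676dbbe1f2cd1daac7e9193c53a020) (.node (nat_lit 0x119706766de2b3476ed77e251d547f490fe2a020) (.leaf (nat_lit 0x119706726aeb72f8ef1aa5a4ebd4fe4907f2a020)) (.node (nat_lit 0x119706b15d9f2d9d6295dbdd7947c5193e93a020)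 (.leaf (nat_lit 0x119706766de2b3476ed77e251d547f490fe2a020)) (.leaf (nat_lit 0x119706b15d9f2d9d6295dbdd7947c5193e93a020)))) (.node (nat_lit 0x119706f553e32d4ae3777e5d2d44bf1913e3a020) (.node (nat_lit 0x119706f14cececf9633aa6dd5bc53e190bf3a020) (.leaf (nat_lit 0x119706cd5c676dbbe1f2cd1daac7e9193c53a020)) (.leaf (nat_lit 0x119706f14cececf9633aa6dd5bc53e190bf3a020))) (.node (nat_lit 0x119709a99c6f778be5eeb52ba8cbe3293c74a020) (.leaf (nat_lit 0x119706f553e32d4ae3777e5d2d44bf1913e3a020)) (.leaf (nat_lit 0x119709a99c6f778be5eeb52ba8cbe3293c74a020))))) (.node (nat_lit 0x11970e33ad9a9f9752d5de2f196865f90e9f2020) (.node (nat_lit 0x119709f58ae37748e7177daaed48ff2907e4a020) (.node (nat_lit 0x119709f18deab6f766daa62b1bc87e290ff4a020) (.leaf (nat_lit 0x119709b59d57376d6691c3eb774bc7293e34a020)) (.leaf (nat_lit 0x119709f18deab6f766daa62b1bc87e290ff4a020))) (.node (nat_lit 0x11970e2bac6cdf89532eb6ef58e923f90a7f2020)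 (.leaf (nat_lit 0x119709f58ae37748e7177daaed48ff2907e4a020)) (.leaf (nat_lit 0x11970e2bac6cdf89532eb6ef58e923f90a7f2020)))) (.node (nat_lit 0x11970e4faa635fb8d312cdaeeae8e9f9065f2020) (.node (nat_lit 0x11970e37b3531f6ad371c66f2768a7f9123f2020) (.leaf (nat_lit 0x11970e33ad9a9f9752d5de2f196865f90e9f2020)) (.leaf (nat_lit 0x11970e37b3531f6ad371c66f2768a7f9123f2020))) (.node (nat_lit 0x11970eab936b298abf6eb67528dca3f1127fa020) (.leaf (nat_lit 0x11970e4faa635fb8d312cdaeeae8e9f9065f2020)) (.leaf (nat_lit 0x11970eab936b298abf6eb67528dca3f1127fa020)))))) (.node (nat_lit 0x119935aa1c6f77ac662fbbab6a4be3417c722420) (.node (nat_lit 0x1199352dbd8735bb5dd2cc698abfc4397e81a420) (.node (nat_lit 0x11970eb78c54e9693f31c6f5575d27f10a3fa020) (.leaf (nat_lit 0x11970eb38a9b6998bf15ddb4e95ce5f1069fa020)) (.node (nat_lit 0x11970ecf8d62a9b73ed2ce351adc69f10e5fa020) (.leaf (nat_lit 0x11970eb78c54e9693f31c6f5575d27f10a3fa020))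 (.leaf (nat_lit 0x11970ecf8d62a9b73ed2ce351adc69f10e5fa020)))) (.node (nat_lit 0x11993571abec351adf7676692c3d1e3949f1a420) (.node (nat_lit 0x11993541bc5f759c5e35dba9693fe8397c41a420) (.leaf (nat_lit 0x1199352dbd8735bb5dd2cc698abfc4397e81a420)) (.leaf (nat_lit 0x11993541bc5f759c5e35dba9693fe8397c41a420))) (.node (nat_lit 0x11993575b0e2f4e95f388ee95b3c9f3951e1a420) (.leaf (nat_lit 0x11993571abec351adf7676692c3d1e3949f1a420)) (.leaf (nat_lit 0x11993575b0e2f4e95f388ee95b3c9f3951e1a420))))) (.node (nat_lit 0x119936ad5c876fbc6a32cb9f6ad3e4197c83a420) (.node (nat_lit 0x119935f20deab717e6f676ab4c487e414ff22420) (.node (nat_lit 0x119935b61d57377b65d4d46b87cbc7417e322420) (.leaf (nat_lit 0x119935aa1c6f77ac662fbbab6a4be3417c722420)) (.leaf (nat_lit 0x119935b61d57377b65d4d46b87cbc7417e322420))) (.node (nat_lit 0x119935f60ae376ea67588deafb48ff4147e22420) (.leaf (nat_lit 0x119935f20deab717e6f676ab4c487e414ff22420))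 (.leaf (nat_lit 0x119935f60ae376ea67588deafb48ff4147e22420)))) (.node (nat_lit 0x119936f150eaef196b3676df5c509e1951f3a420) (.node (nat_lit 0x119936c15d5f2f9b69d5dc5f8953c8197e43a420) (.leaf (nat_lit 0x119936ad5c876fbc6a32cb9f6ad3e4197c83a420)) (.leaf (nat_lit 0x119936c15d5f2f9b69d5dc5f8953c8197e43a420))) (.node (nat_lit 0x119936f54be42eeaeb788e5f2b511f1949e3a420) (.leaf (nat_lit 0x119936f150eaef196b3676df5c509e1951f3a420)) (.leaf (nat_lit 0x119936f54be42eeaeb788e5f2b511f1949e3a420)))))))) (.node (nat_lit 0x119aae43b35b2567d6f1c6b3476ca8f9d24f0c20) (.node (nat_lit 0x119aa5f60ce4f15a5b5995e2fdb93f41cbe20c20) (.node (nat_lit 0x11993e43ad5aa397baf5deb1495868f94e4f2420) (.node (nat_lit 0x119938756de2b2e7eef88ea54b547f214fe42420) (.node (nat_lit 0x119938357c57737c6e34d3a567d7e7217c342420) (.leaf (nat_lit 0x119938297d6f33ab6dcfbc658a57c3217e742420)) (.node (nat_lit 0x119938716aeb731a6f5675e4fc54fe2147f42420)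 (.leaf (nat_lit 0x119938357c57737c6e34d3a567d7e7217c342420)) (.leaf (nat_lit 0x119938716aeb731a6f5675e4fc54fe2147f42420)))) (.node (nat_lit 0x11993e2faa8363ba3b52cdf0fad8e4f9468f2420) (.node (nat_lit 0x11993e2bb06ae3a93b2fbef15a5883f9507f2420) (.leaf (nat_lit 0x119938756de2b2e7eef88ea54b547f214fe42420)) (.leaf (nat_lit 0x11993e2bb06ae3a93b2fbef15a5883f9507f2420))) (.node (nat_lit 0x11993e37ab54237abb74d67127d907f9483f2420) (.leaf (nat_lit 0x11993e2faa8363ba3b52cdf0fad8e4f9468f2420)) (.leaf (nat_lit 0x11993e37ab54237abb74d67127d907f9483f2420))))) (.node (nat_lit 0x11993ec38a5b5d9a4755ddecf960e8f1464fa420) (.node (nat_lit 0x11993eaf8d829db7c6f2cead4ae064f14e8fa420) (.node (nat_lit 0x11993eab8b6c1daac76fbe6d2a6103f1487fa420) (.leaf (nat_lit 0x11993e43ad5aa397baf5deb1495868f94e4f2420)) (.leaf (nat_lit 0x11993eab8b6c1daac76fbe6d2a6103f1487fa420))) (.node (nat_lit 0x11993eb79052dd794734d6ed57e087f1503fa420)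 (.leaf (nat_lit 0x11993eaf8d829db7c6f2cead4ae064f14e8fa420)) (.leaf (nat_lit 0x11993eb79052dd794734d6ed57e087f1503fa420)))) (.node (nat_lit 0x119aa5ce1d67317ddab4d4a397bbc941fe520c20) (.node (nat_lit 0x119aa5b21c9f71acda4fbd63ba3be541fc920c20) (.leaf (nat_lit 0x11993ec38a5b5d9a4755ddecf960e8f1464fa420)) (.leaf (nat_lit 0x119aa5b21c9f71acda4fbd63ba3be541fc920c20))) (.node (nat_lit 0x119aa5f213eb3127dafbaea34cb8be41d3f20c20) (.leaf (nat_lit 0x119aa5ce1d67317ddab4d4a397bbc941fe520c20)) (.leaf (nat_lit 0x119aa5f213eb3127dafbaea34cb8be41d3f20c20)))))) (.node (nat_lit 0x119aa8716ceced2a635baddcfcc53e21cbf40c20) (.node (nat_lit 0x119aa6726bec3528df1bada8ecbd1e49c9f28c20) (.node (nat_lit 0x119aa62e7d87358ddeaeb4a998bfc449fe828c20) (.leaf (nat_lit 0x119aa5f60ce4f15a5b5995e2fdb93f41cbe20c20)) (.node (nat_lit 0x119aa6427c5f756cde51c569b73fe849fc428c20) (.leaf (nat_lit 0x119aa62e7d87358ddeaeb4a998bfc449fe828c20))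 (.leaf (nat_lit 0x119aa6427c5f756cde51c569b73fe849fc428c20)))) (.node (nat_lit 0x119aa8317d9f2dade2afbc9d9a47c521fe940c20) (.node (nat_lit 0x119aa67670e2f5575ed996291dbc9f49d1e28c20) (.leaf (nat_lit 0x119aa6726bec3528df1bada8ecbd1e49c9f28c20)) (.leaf (nat_lit 0x119aa67670e2f5575ed996291dbc9f49d1e28c20))) (.node (nat_lit 0x119aa84d7c676d7ce254d55db7c7e921fc540c20) (.leaf (nat_lit 0x119aa8317d9f2dade2afbc9d9a47c521fe940c20)) (.leaf (nat_lit 0x119aa84d7c676d7ce254d55db7c7e921fc540c20))))) (.node (nat_lit 0x119aa9f190eaef276adbae1f1cd09e29d1f48c20) (.node (nat_lit 0x119aa9ad9c876f8cea4eb55fb8d3e429fc848c20) (.node (nat_lit 0x119aa87573e32d57e2f9969d4dc4bf21d3e40c20) (.leaf (nat_lit 0x119aa8716ceced2a635baddcfcc53e21cbf40c20)) (.leaf (nat_lit 0x119aa87573e32d57e2f9969d4dc4bf21d3e40c20))) (.node (nat_lit 0x119aa9c19d5f2f6deab1c49f9753c829fe448c20) (.leaf (nat_lit 0x119aa9ad9c876f8cea4eb55fb8d3e429fc848c20))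 (.leaf (nat_lit 0x119aa9c19d5f2f6deab1c49f9753c829fe448c20)))) (.node (nat_lit 0x119aae2fac84e58a574eb5f2f8ed24f9ca8f0c20) (.node (nat_lit 0x119aa9f58be42f58eb19959eedd11f29c9e48c20) (.leaf (nat_lit 0x119aa9f190eaef276adbae1f1cd09e29d1f48c20)) (.leaf (nat_lit 0x119aa9f58be42f58eb19959eedd11f29c9e48c20))) (.node (nat_lit 0x119aae33b09ae5a756cfbe331a6c85f9d09f0c20) (.leaf (nat_lit 0x119aae2fac84e58a574eb5f2f8ed24f9ca8f0c20)) (.leaf (nat_lit 0x119aae33b09ae5a756cfbe331a6c85f9d09f0c20))))))) (.node (nat_lit 0x11a0b6cd5d67319bd9f5dd23a93bc91a3e539020) (.node (nat_lit 0x11a0b54dbc676d9d6295dbdd7947e93a3c519020) (.node (nat_lit 0x119aaeb38b9c2ba8cb0fbdb6ea6505f1c89f8c20) (.node (nat_lit 0x119aae4fab642578d714d5b2e7ed09f9c85f0c20) (.leaf (nat_lit 0x119aae43b35b2567d6f1c6b3476ca8f9d24f0c20)) (.node (nat_lit 0x119aaeaf93832b87caeeb6b748e4a4f1d28f8c20) (.leaf (nat_lit 0x119aae4fab642578d714d5b2e7ed09f9c85f0c20))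 (.leaf (nat_lit 0x119aaeaf93832b87caeeb6b748e4a4f1d28f8c20)))) (.node (nat_lit 0x119aaecf9062eb774ad4d63717e489f1d05f8c20) (.node (nat_lit 0x119aaec38c5ceb6a4b51c5f6f76528f1ca4f8c20) (.leaf (nat_lit 0x119aaeb38b9c2ba8cb0fbdb6ea6505f1c89f8c20)) (.leaf (nat_lit 0x119aaec38c5ceb6a4b51c5f6f76528f1ca4f8c20))) (.node (nat_lit 0x11a0b531bd9f2dbbe1f2cd1daac7c53a3e919020) (.leaf (nat_lit 0x119aaecf9062eb774ad4d63717e489f1d05f8c20)) (.leaf (nat_lit 0x11a0b531bd9f2dbbe1f2cd1daac7c53a3e919020))))) (.node (nat_lit 0x11a0b6367d57378be5eeb52ba8cbc74a3e329020) (.node (nat_lit 0x11a0b575b3e32cf9633aa6dd5bc4bf3a13e19020) (.node (nat_lit 0x11a0b571aceced4ae3777e5d2d453e3a0bf19020) (.leaf (nat_lit 0x11a0b54dbc676d9d6295dbdd7947e93a3c519020)) (.leaf (nat_lit 0x11a0b571aceced4ae3777e5d2d453e3a0bf19020))) (.node (nat_lit 0x11a0b62a7c6f776d6691c3eb774be34a3c729020) (.leaf (nat_lit 0x11a0b575b3e32cf9633aa6dd5bc4bf3a13e19020))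 (.leaf (nat_lit 0x11a0b62a7c6f776d6691c3eb774be34a3c729020)))) (.node (nat_lit 0x11a0b6766ae376f766daa62b1bc8ff4a07e29020) (.node (nat_lit 0x11a0b6726deab748e7177daaed487e4a0ff29020) (.leaf (nat_lit 0x11a0b6367d57378be5eeb52ba8cbc74a3e329020)) (.leaf (nat_lit 0x11a0b6726deab748e7177daaed487e4a0ff29020))) (.node (nat_lit 0x11a0b6b15c9f71bd5a92cbe37abbe51a3c939020) (.leaf (nat_lit 0x11a0b6766ae376f766daa62b1bc8ff4a07e29020)) (.leaf (nat_lit 0x11a0b6b15c9f71bd5a92cbe37abbe51a3c939020)))))) (.node (nat_lit 0x11a0be2bb36b29693f31c6f5575ca3fa127f1020) (.node (nat_lit 0x11a0b9a99d6f336bedf1c525a757c32a3e749020) (.node (nat_lit 0x11a0b6f153eb31495b377ee35d38be1a13f39020) (.leaf (nat_lit 0x11a0b6cd5d67319bd9f5dd23a93bc91a3e539020)) (.node (nat_lit 0x11a0b6f54ce4f0fadb7aa6632bb93f1a0be39020) (.leaf (nat_lit 0x11a0b6f153eb31495b377ee35d38be1a13f39020)) (.leaf (nat_lit 0x11a0b6f54ce4f0fadb7aa6632bb93f1a0be39020))))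 (.node (nat_lit 0x11a0b9f18aeb73476ed77e251d54fe2a07f49020) (.node (nat_lit 0x11a0b9b59c57738d6e8eb3e578d7e72a3c349020) (.leaf (nat_lit 0x11a0b9a99d6f336bedf1c525a757c32a3e749020)) (.leaf (nat_lit 0x11a0b9b59c57738d6e8eb3e578d7e72a3c349020))) (.node (nat_lit 0x11a0b9f58de2b2f8ef1aa5a4ebd47f2a0fe49020) (.leaf (nat_lit 0x11a0b9f18aeb73476ed77e251d54fe2a07f49020)) (.leaf (nat_lit 0x11a0b9f58de2b2f8ef1aa5a4ebd47f2a0fe49020))))) (.node (nat_lit 0x11a0beab8c6cdf6ad371c66f276923f20a7f9020) (.node (nat_lit 0x11a0be37ac54e98abf6eb67528dd27fa0a3f1020) (.node (nat_lit 0x11a0be33aa9b69b73ed2ce351adce5fa069f1020) (.leaf (nat_lit 0x11a0be2bb36b29693f31c6f5575ca3fa127f1020)) (.leaf (nat_lit 0x11a0be33aa9b69b73ed2ce351adce5fa069f1020))) (.node (nat_lit 0x11a0be4fad62a998bf15ddb4e95c69fa0e5f1020) (.leaf (nat_lit 0x11a0be37ac54e98abf6eb67528dd27fa0a3f1020)) (.leaf (nat_lit 0x11a0be4fad62a998bf15ddb4e95c69fa0e5f1020))))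 (.node (nat_lit 0x11a0beb793531f89532eb6ef58e8a7f2123f9020) (.node (nat_lit 0x11a0beb38d9a9fb8d312cdaeeae865f20e9f9020) (.leaf (nat_lit 0x11a0beab8c6cdf6ad371c66f276923f20a7f9020)) (.leaf (nat_lit 0x11a0beb38d9a9fb8d312cdaeeae865f20e9f9020))) (.node (nat_lit 0x11a0becf8a635f9752d5de2f1968e9f2065f9020) (.leaf (nat_lit 0x11a0beb793531f89532eb6ef58e8a7f2123f9020)) (.leaf (nat_lit 0x11a0becf8a635f9752d5de2f1968e9f2065f9020))))))))) (.node (nat_lit 0x11bbc6ad4c84e4fc563aa3b36bed241fca83f820) (.node (nat_lit 0x11b9d5b60c54e95b3dd994758ddd27478a327c20) (.node (nat_lit 0x11a6c8756ae37717e6f676ab4c48ff2247e41420) (.node (nat_lit 0x11a6c5f60de2b31a6f5675e4fc547f424fe21420) (.node (nat_lit 0x11a6c575abe42f196b3676df5c511f3a49e19420) (.node (nat_lit 0x11a6c541bd5f2fbc6a32cb9f6ad3c83a7e419420) (.leaf (nat_lit 0x11a6c52dbc876f9b69d5dc5f8953e43a7c819420)) (.node (nat_lit 0x11a6c571b0eaeeeaeb788e5f2b509e3a51f19420)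 (.leaf (nat_lit 0x11a6c541bd5f2fbc6a32cb9f6ad3c83a7e419420)) (.leaf (nat_lit 0x11a6c571b0eaeeeaeb788e5f2b509e3a51f19420)))) (.node (nat_lit 0x11a6c5b61c5773ab6dcfbc658a57e7427c321420) (.node (nat_lit 0x11a6c5aa1d6f337c6e34d3a567d7c3427e721420) (.leaf (nat_lit 0x11a6c575abe42f196b3676df5c511f3a49e19420)) (.leaf (nat_lit 0x11a6c5aa1d6f337c6e34d3a567d7c3427e721420))) (.node (nat_lit 0x11a6c5f20aeb72e7eef88ea54b54fe4247f21420) (.leaf (nat_lit 0x11a6c5b61c5773ab6dcfbc658a57e7427c321420)) (.leaf (nat_lit 0x11a6c5f20aeb72e7eef88ea54b54fe4247f21420))))) (.node (nat_lit 0x11a6c6f550e2f51adf7676692c3c9f1a51e39420) (.node (nat_lit 0x11a6c6c15c5f75bb5dd2cc698abfe81a7c439420) (.node (nat_lit 0x11a6c6ad5d87359c5e35dba9693fc41a7e839420) (.leaf (nat_lit 0x11a6c5f60de2b31a6f5675e4fc547f424fe21420)) (.leaf (nat_lit 0x11a6c6ad5d87359c5e35dba9693fc41a7e839420))) (.node (nat_lit 0x11a6c6f14bec34e95f388ee95b3d1e1a49f39420)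 (.leaf (nat_lit 0x11a6c6c15c5f75bb5dd2cc698abfe81a7c439420)) (.leaf (nat_lit 0x11a6c6f14bec34e95f388ee95b3d1e1a49f39420)))) (.node (nat_lit 0x11a6c8357d5737ac662fbbab6a4bc7227e341420) (.node (nat_lit 0x11a6c8297c6f777b65d4d46b87cbe3227c741420) (.leaf (nat_lit 0x11a6c6f550e2f51adf7676692c3c9f1a51e39420)) (.leaf (nat_lit 0x11a6c8297c6f777b65d4d46b87cbe3227c741420))) (.node (nat_lit 0x11a6c8716deab6ea67588deafb487e224ff41420) (.leaf (nat_lit 0x11a6c8357d5737ac662fbbab6a4bc7227e341420)) (.leaf (nat_lit 0x11a6c8716deab6ea67588deafb487e224ff41420)))))) (.node (nat_lit 0x11a6ceb78b5423a93b2fbef15a5907f2483f9420) (.node (nat_lit 0x11a6ce37b052ddaac76fbe6d2a6087fa503f1420) (.node (nat_lit 0x11a6ce2bab6c1d794734d6ed57e103fa487f1420) (.leaf (nat_lit 0x11a6c8756ae37717e6f676ab4c48ff2247e41420)) (.node (nat_lit 0x11a6ce2fad829d9a4755ddecf96064fa4e8f1420) (.leaf (nat_lit 0x11a6ce2bab6c1d794734d6ed57e103fa487f1420))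 (.leaf (nat_lit 0x11a6ce2fad829d9a4755ddecf96064fa4e8f1420)))) (.node (nat_lit 0x11a6ceab906ae37abb74d67127d883f2507f9420) (.node (nat_lit 0x11a6ce43aa5b5db7c6f2cead4ae0e8fa464f1420) (.leaf (nat_lit 0x11a6ce37b052ddaac76fbe6d2a6087fa503f1420)) (.leaf (nat_lit 0x11a6ce43aa5b5db7c6f2cead4ae0e8fa464f1420))) (.node (nat_lit 0x11a6ceaf8a836397baf5deb14958e4f2468f9420) (.leaf (nat_lit 0x11a6ceab906ae37abb74d67127d883f2507f9420)) (.leaf (nat_lit 0x11a6ceaf8a836397baf5deb14958e4f2468f9420))))) (.node (nat_lit 0x11b9d541b35b24fc563aa3b36beca83f9241fc20) (.node (nat_lit 0x11b9d52dac84e54b55d77c738d6d243f8a81fc20) (.node (nat_lit 0x11a6cec38d5aa3ba3b52cdf0fad868f24e4f9420) (.leaf (nat_lit 0x11a6ceb78b5423a93b2fbef15a5907f2483f9420)) (.leaf (nat_lit 0x11a6cec38d5aa3ba3b52cdf0fad868f24e4f9420))) (.node (nat_lit 0x11b9d531b09ae4ebd5f88d33ab6c853f9091fc20) (.leaf (nat_lit 0x11b9d52dac84e54b55d77c738d6d243f8a81fc20))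 (.leaf (nat_lit 0x11b9d531b09ae4ebd5f88d33ab6c853f9091fc20)))) (.node (nat_lit 0x11b9d5aa136b292c3e3babb56cdca34792727c20) (.node (nat_lit 0x11b9d54dab64251d569673f37c6d093f8851fc20) (.leaf (nat_lit 0x11b9d541b35b24fc563aa3b36beca83f9241fc20)) (.leaf (nat_lit 0x11b9d54dab64251d569673f37c6d093f8851fc20))) (.node (nat_lit 0x11b9d5b20a9b68ecbe588d75bb5ce54786927c20) (.leaf (nat_lit 0x11b9d5aa136b292c3e3babb56cdca34792727c20)) (.leaf (nat_lit 0x11b9d5b20a9b68ecbe588d75bb5ce54786927c20))))))) (.node (nat_lit 0x11b9d9ad8a83634cba577d71bd58e42f8684fc20) (.node (nat_lit 0x11b9d6b14b9c2aed4a988bf77b65051f8893fc20) (.node (nat_lit 0x11b9d62e6d829d4dc6b77cad9d60644f8e82fc20) (.node (nat_lit 0x11b9d5ce0d62a91dbeb674b59c5c69478e527c20) (.leaf (nat_lit 0x11b9d5b60c54e95b3dd994758ddd27478a327c20)) (.node (nat_lit 0x11b9d62a6b6c1d2d469babed7ce1034f8872fc20) (.leaf (nat_lit 0x11b9d5ce0d62a91dbeb674b59c5c69478e527c20))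 (.leaf (nat_lit 0x11b9d62a6b6c1d2d469babed7ce1034f8872fc20)))) (.node (nat_lit 0x11b9d6426a5b5cfcc65aa56dbbe0e84f8642fc20) (.node (nat_lit 0x11b9d6367052dd5bc5f9952dade0874f9032fc20) (.leaf (nat_lit 0x11b9d62e6d829d4dc6b77cad9d60644f8e82fc20)) (.leaf (nat_lit 0x11b9d6367052dd5bc5f9952dade0874f9032fc20))) (.node (nat_lit 0x11b9d6ad53832b4c4a377bb76d64a41f9283fc20) (.leaf (nat_lit 0x11b9d6426a5b5cfcc65aa56dbbe0e84f8642fc20)) (.leaf (nat_lit 0x11b9d6ad53832b4c4a377bb76d64a41f9283fc20))))) (.node (nat_lit 0x11b9d8316d9a9eedd2b88caf9b6865278e947c20) (.node (nat_lit 0x11b9d6cd5062eb1bc9f67537ac64891f9053fc20) (.node (nat_lit 0x11b9d6c14c5ceafb49daa4778be5281f8a43fc20) (.leaf (nat_lit 0x11b9d6b14b9c2aed4a988bf77b65051f8893fc20)) (.leaf (nat_lit 0x11b9d6c14c5ceafb49daa4778be5281f8a43fc20))) (.node (nat_lit 0x11b9d8296c6cdf2b51dbac6f8ce923278a747c20) (.leaf (nat_lit 0x11b9d6cd5062eb1bc9f67537ac64891f9053fc20))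 (.leaf (nat_lit 0x11b9d8296c6cdf2b51dbac6f8ce923278a747c20)))) (.node (nat_lit 0x11b9d84d6a635f1cd256756fbc68e92786547c20) (.node (nat_lit 0x11b9d83573531f5c523993af6de8a72792347c20) (.leaf (nat_lit 0x11b9d8316d9a9eedd2b88caf9b6865278e947c20)) (.leaf (nat_lit 0x11b9d83573531f5c523993af6de8a72792347c20))) (.node (nat_lit 0x11b9d9a9906ae32bb9fbad31acd8832f9074fc20) (.leaf (nat_lit 0x11b9d84d6a635f1cd256756fbc68e92786547c20)) (.leaf (nat_lit 0x11b9d9a9906ae32bb9fbad31acd8832f9074fc20)))))) (.node (nat_lit 0x11bbc5aa0c6cdf5c523993af6de92347ca727820) (.node (nat_lit 0x11bbc52db3832afb49daa4778be4a43fd281f820) (.node (nat_lit 0x11b9d9b58b54235d3a9993f17dd9072f8834fc20) (.leaf (nat_lit 0x11b9d9ad8a83634cba577d71bd58e42f8684fc20)) (.node (nat_lit 0x11b9d9c18d5aa2fdbabaa4b19bd8682f8e44fc20) (.leaf (nat_lit 0x11b9d9b58b54235d3a9993f17dd9072f8834fc20)) (.leaf (nat_lit 0x11b9d9c18d5aa2fdbabaa4b19bd8682f8e44fc20))))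 (.node (nat_lit 0x11bbc541ac5ceb4c4a377bb76d65283fca41f820) (.node (nat_lit 0x11bbc531ab9c2b1bc9f67537ac65053fc891f820) (.leaf (nat_lit 0x11bbc52db3832afb49daa4778be4a43fd281f820)) (.leaf (nat_lit 0x11bbc531ab9c2b1bc9f67537ac65053fc891f820))) (.node (nat_lit 0x11bbc54db062eaed4a988bf77b64893fd051f820) (.leaf (nat_lit 0x11bbc541ac5ceb4c4a377bb76d65283fca41f820)) (.leaf (nat_lit 0x11bbc54db062eaed4a988bf77b64893fd051f820))))) (.node (nat_lit 0x11bbc62a706ae35d3a9993f17dd8834fd072f820) (.node (nat_lit 0x11bbc5b613531f2b51dbac6f8ce8a747d2327820) (.node (nat_lit 0x11bbc5b20d9a9f1cd256756fbc686547ce927820) (.leaf (nat_lit 0x11bbc5aa0c6cdf5c523993af6de92347ca727820)) (.leaf (nat_lit 0x11bbc5b20d9a9f1cd256756fbc686547ce927820))) (.node (nat_lit 0x11bbc5ce0a635eedd2b88caf9b68e947c6527820) (.leaf (nat_lit 0x11bbc5b613531f2b51dbac6f8ce8a747d2327820)) (.leaf (nat_lit 0x11bbc5ce0a635eedd2b88caf9b68e947c6527820))))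 (.node (nat_lit 0x11bbc6366b54232bb9fbad31acd9074fc832f820) (.node (nat_lit 0x11bbc62e6a8362fdbabaa4b19bd8e44fc682f820) (.leaf (nat_lit 0x11bbc62a706ae35d3a9993f17dd8834fd072f820)) (.leaf (nat_lit 0x11bbc62e6a8362fdbabaa4b19bd8e44fc682f820))) (.node (nat_lit 0x11bbc6426d5aa34cba577d71bd58684fce42f820) (.leaf (nat_lit 0x11bbc6366b54232bb9fbad31acd9074fc832f820)) (.leaf (nat_lit 0x11bbc6426d5aa34cba577d71bd58684fce42f820)))))))) (.node (nat_lit 0x19d4dcc77473e5865750b5f935f4a8f1924f8820) (.node (nat_lit 0x19d4d76e2fcd2d59e2fc96a0cead3e418bf20820) (.node (nat_lit 0x11bbc84d6d62a8ecbe588d75bb5c6927ce547820) (.node (nat_lit 0x11bbc6cd4b6424ebd5f88d33ab6d091fc853f820) (.node (nat_lit 0x11bbc6b1509ae51d569673f37c6c851fd093f820) (.leaf (nat_lit 0x11bbc6ad4c84e4fc563aa3b36bed241fca83f820)) (.node (nat_lit 0x11bbc6c1535b254b55d77c738d6ca81fd243f820) (.leaf (nat_lit 0x11bbc6b1509ae51d569673f37c6c851fd093f820))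 (.leaf (nat_lit 0x11bbc6c1535b254b55d77c738d6ca81fd243f820)))) (.node (nat_lit 0x11bbc8316a9b691dbeb674b59c5ce527c6947820) (.node (nat_lit 0x11bbc829736b295b3dd994758ddca327d2747820) (.leaf (nat_lit 0x11bbc6cd4b6424ebd5f88d33ab6d091fc853f820)) (.leaf (nat_lit 0x11bbc829736b295b3dd994758ddca327d2747820))) (.node (nat_lit 0x11bbc8356c54e92c3e3babb56cdd2727ca347820) (.leaf (nat_lit 0x11bbc8316a9b691dbeb674b59c5ce527c6947820)) (.leaf (nat_lit 0x11bbc8356c54e92c3e3babb56cdd2727ca347820))))) (.node (nat_lit 0x11bbc9c18a5b5d4dc6b77cad9d60e82fc644f820) (.node (nat_lit 0x11bbc9ad8d829cfcc65aa56dbbe0642fce84f820) (.node (nat_lit 0x11bbc9a98b6c1d5bc5f9952dade1032fc874f820) (.leaf (nat_lit 0x11bbc84d6d62a8ecbe588d75bb5c6927ce547820)) (.leaf (nat_lit 0x11bbc9a98b6c1d5bc5f9952dade1032fc874f820))) (.node (nat_lit 0x11bbc9b59052dd2d469babed7ce0872fd034f820) (.leaf (nat_lit 0x11bbc9ad8d829cfcc65aa56dbbe0642fce84f820))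 (.leaf (nat_lit 0x11bbc9b59052dd2d469babed7ce0872fd034f820)))) (.node (nat_lit 0x19d4d7523b7e6daee2b3bca1c62fe941bc520820) (.node (nat_lit 0x19d4d73e39a6ed7e624cd561d9afc541be920820) (.leaf (nat_lit 0x11bbc9c18a5b5d4dc6b77cad9d60e82fc644f820)) (.leaf (nat_lit 0x19d4d73e39a6ed7e624cd561d9afc541be920820))) (.node (nat_lit 0x19d4d76634dbed26635dade13e2cbf4193e20820) (.leaf (nat_lit 0x19d4d7523b7e6daee2b3bca1c62fe941bc520820)) (.leaf (nat_lit 0x19d4d76634dbed26635dade13e2cbf4193e20820)))))) (.node (nat_lit 0x19d4d8e5cfdd3129dafdae96ce413f218be40820) (.node (nat_lit 0x19d4d7e68edc6f286addae26be311f4989e28820) (.node (nat_lit 0x19d4d7ba9b8e6f6eeaabc4a7c833e449bc828820) (.leaf (nat_lit 0x19d4d76e2fcd2d59e2fc96a0cead3e418bf20820)) (.node (nat_lit 0x19d4d7c69976ef8e6a50b567d5b3c849be428820) (.leaf (nat_lit 0x19d4d7ba9b8e6f6eeaabc4a7c833e449bc828820)) (.leaf (nat_lit 0x19d4d7c69976ef8e6a50b567d5b3c849be428820))))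 (.node (nat_lit 0x19d4d8bddba6717edaacd497c9c3e521bc940820) (.node (nat_lit 0x19d4d7ee91cbaf55eb1c95a70eb09e4991f28820) (.leaf (nat_lit 0x19d4d7e68edc6f286addae26be311f4989e28820)) (.leaf (nat_lit 0x19d4d7ee91cbaf55eb1c95a70eb09e4991f28820))) (.node (nat_lit 0x19d4d8d1d97ef1ae5a53bd57d643c921be540820) (.leaf (nat_lit 0x19d4d8bddba6717edaacd497c9c3e521bc940820)) (.leaf (nat_lit 0x19d4d8d1d97ef1ae5a53bd57d643c921be540820))))) (.node (nat_lit 0x19d4da65f1dbb525df1dad990e4c9f2991e48820) (.node (nat_lit 0x19d4da39f98ef56e5e4bc559d84fc429be848820) (.node (nat_lit 0x19d4d8edd4cbf1565b5c95d73ec0be2193f40820) (.leaf (nat_lit 0x19d4d8e5cfdd3129dafdae96ce413f218be40820)) (.leaf (nat_lit 0x19d4d8edd4cbf1565b5c95d73ec0be2193f40820))) (.node (nat_lit 0x19d4da45fb76758edeb0b499c5cfe829bc448820) (.leaf (nat_lit 0x19d4da39f98ef56e5e4bc559d84fc429be848820)) (.leaf (nat_lit 0x19d4da45fb76758edeb0b499c5cfe829bc448820))))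 (.node (nat_lit 0x19d4dcbb6f8d2569d6ebc6b8c87524f18a8f8820) (.node (nat_lit 0x19d4da6deecc75585edc9618becd1e2989f48820) (.leaf (nat_lit 0x19d4da65f1dbb525df1dad990e4c9f2991e48820)) (.leaf (nat_lit 0x19d4da6deecc75585edc9618becd1e2989f48820))) (.node (nat_lit 0x19d4dcbf71a3a575d70cd5b909f485f1909f8820) (.leaf (nat_lit 0x19d4dcbb6f8d2569d6ebc6b8c87524f18a8f8820)) (.leaf (nat_lit 0x19d4dcbf71a3a575d70cd5b909f485f1909f8820))))))) (.node (nat_lit 0x19daa8d1db7e6d7e624cd561d9afe920bc541820) (.node (nat_lit 0x19daa752397ef17edaacd497c9c3c940be521820) (.node (nat_lit 0x19d4ddbf2ea46b784accd63ab9f105f9889f0820) (.node (nat_lit 0x19d4dcd36e7c65a856d3be38b67509f1885f8820) (.leaf (nat_lit 0x19d4dcc77473e5865750b5f935f4a8f1924f8820)) (.node (nat_lit 0x19d4ddbb348beb664b4bc5fb3870a4f9928f0820) (.leaf (nat_lit 0x19d4dcd36e7c65a856d3be38b67509f1885f8820)) (.leaf (nat_lit 0x19d4ddbb348beb664b4bc5fb3870a4f9928f0820))))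 (.node (nat_lit 0x19d4ddd3317baba5cb13bdbb067089f9905f0820) (.node (nat_lit 0x19d4ddc72f752b89caf0b6bac5f128f98a4f0820) (.leaf (nat_lit 0x19d4ddbf2ea46b784accd63ab9f105f9889f0820)) (.leaf (nat_lit 0x19d4ddc72f752b89caf0b6bac5f128f98a4f0820))) (.node (nat_lit 0x19daa73e3ba671ae5a53bd57d643e540bc921820) (.leaf (nat_lit 0x19d4ddd3317baba5cb13bdbb067089f9905f0820)) (.leaf (nat_lit 0x19daa73e3ba671ae5a53bd57d643e540bc921820))))) (.node (nat_lit 0x19daa7c69b76756e5e4bc559d84fe848bc429820) (.node (nat_lit 0x19daa76e34cbf129dafdae96ce40be4093f21820) (.node (nat_lit 0x19daa7662fdd31565b5c95d73ec13f408be21820) (.leaf (nat_lit 0x19daa752397ef17edaacd497c9c3c940be521820)) (.leaf (nat_lit 0x19daa7662fdd31565b5c95d73ec13f408be21820))) (.node (nat_lit 0x19daa7ba998ef58edeb0b499c5cfc448be829820) (.leaf (nat_lit 0x19daa76e34cbf129dafdae96ce40be4093f21820)) (.leaf (nat_lit 0x19daa7ba998ef58edeb0b499c5cfc448be829820))))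 (.node (nat_lit 0x19daa7ee8ecc7525df1dad990e4d1e4889f29820) (.node (nat_lit 0x19daa7e691dbb5585edc9618becc9f4891e29820) (.leaf (nat_lit 0x19daa7c69b76756e5e4bc559d84fe848bc429820)) (.leaf (nat_lit 0x19daa7e691dbb5585edc9618becc9f4891e29820))) (.node (nat_lit 0x19daa8bdd9a6edaee2b3bca1c62fc520be941820) (.leaf (nat_lit 0x19daa7ee8ecc7525df1dad990e4d1e4889f29820)) (.leaf (nat_lit 0x19daa8bdd9a6edaee2b3bca1c62fc520be941820)))))) (.node (nat_lit 0x19daacbb748beb89caf0b6bac5f0a4f0928f9820) (.node (nat_lit 0x19daaa39fb8e6f8e6a50b567d5b3e428bc849820) (.node (nat_lit 0x19daa8e5d4dbed59e2fc96a0ceacbf2093e41820) (.leaf (nat_lit 0x19daa8d1db7e6d7e624cd561d9afe920bc541820)) (.node (nat_lit 0x19daa8edcfcd2d26635dade13e2d3e208bf41820) (.leaf (nat_lit 0x19daa8e5d4dbed59e2fc96a0ceacbf2093e41820)) (.leaf (nat_lit 0x19daa8edcfcd2d26635dade13e2d3e208bf41820)))) (.node (nat_lit 0x19daaa65eedc6f55eb1c95a70eb11f2889e49820)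 (.node (nat_lit 0x19daaa45f976ef6eeaabc4a7c833c828be449820) (.leaf (nat_lit 0x19daaa39fb8e6f8e6a50b567d5b3e428bc849820)) (.leaf (nat_lit 0x19daaa45f976ef6eeaabc4a7c833c828be449820))) (.node (nat_lit 0x19daaa6df1cbaf286addae26be309e2891f49820) (.leaf (nat_lit 0x19daaa65eedc6f55eb1c95a70eb11f2889e49820)) (.leaf (nat_lit 0x19daaa6df1cbaf286addae26be309e2891f49820))))) (.node (nat_lit 0x19daadbb2f8d25865750b5f935f524f88a8f1820) (.node (nat_lit 0x19daacc76f752b664b4bc5fb387128f08a4f9820) (.node (nat_lit 0x19daacbf6ea46ba5cb13bdbb067105f0889f9820) (.leaf (nat_lit 0x19daacbb748beb89caf0b6bac5f0a4f0928f9820)) (.leaf (nat_lit 0x19daacbf6ea46ba5cb13bdbb067105f0889f9820))) (.node (nat_lit 0x19daacd3717bab784accd63ab9f089f0905f9820) (.leaf (nat_lit 0x19daacc76f752b664b4bc5fb387128f08a4f9820)) (.leaf (nat_lit 0x19daacd3717bab784accd63ab9f089f0905f9820)))) (.node (nat_lit 0x19daadc73473e569d6ebc6b8c874a8f8924f1820)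 (.node (nat_lit 0x19daadbf31a3a5a856d3be38b67485f8909f1820) (.leaf (nat_lit 0x19daadbb2f8d25865750b5f935f524f88a8f1820)) (.leaf (nat_lit 0x19daadbf31a3a5a856d3be38b67485f8909f1820))) (.node (nat_lit 0x19daadd32e7c6575d70cd5b909f509f8885f1820) (.leaf (nat_lit 0x19daadc73473e569d6ebc6b8c874a8f8924f1820)) (.leaf (nat_lit 0x19daadd32e7c6575d70cd5b909f509f8885f1820))))))))))
noncomputable def AN_lS_T1 : ST := (.node (nat_lit 0x19f79539af8d24cb56179af98d7524178a837c20) (.node (nat_lit 0x19e2ea29f96ef96bf66bc325a857c62a3e249020) (.node (nat_lit 0x19df46e54edc6f0aebb85f272b311f3149e12420) (.node (nat_lit 0x19dd1a6dedcabb3872da662abbc8de2905f4a020) (.node (nat_lit 0x19dd16ed4fcd2d39639a67615bad3e310bf12020) (.node (nat_lit 0x19dd156db4cbf13adbba67172bc0be1113f32020) (.node (nat_lit 0x19dd1551b97ef1dd5992e4d77ac3c9113e532020) (.leaf (nat_lit 0x19dd153dbba671cbda75eb17a943e5113c932020))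 (.node (nat_lit 0x19dd1565afdd30c95b979f575d413f110be32020) (.leaf (nat_lit 0x19dd1551b97ef1dd5992e4d77ac3c9113e532020)) (.leaf (nat_lit 0x19dd1565afdd30c95b979f575d413f110be32020)))) (.node (nat_lit 0x19dd16d15b7e6ddbe272e321aaafe9313c512020) (.node (nat_lit 0x19dd16bd59a6edcd6195ece1792fc5313e912020) (.leaf (nat_lit 0x19dd156db4cbf13adbba67172bc0be1113f32020)) (.leaf (nat_lit 0x19dd16bd59a6edcd6195ece1792fc5313e912020))) (.node (nat_lit 0x19dd16e554dbeccae3b79f212d2cbf3113e12020) (.leaf (nat_lit 0x19dd16d15b7e6ddbe272e321aaafe9313c512020)) (.leaf (nat_lit 0x19dd16e554dbeccae3b79f212d2cbf3113e12020))))) (.node (nat_lit 0x19dd17ee8acb7935f71a65a50bd45e490df2a020) (.node (nat_lit 0x19dd17b69b56796bf66bc325a857e2493c62a020) (.node (nat_lit 0x19dd17aa996ef98d7590b4e575d7c6493e22a020) (.leaf (nat_lit 0x19dd16ed4fcd2d39639a67615bad3e310bf12020)) (.leaf (nat_lit 0x19dd17aa996ef98d7590b4e575d7c6493e22a020)))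 (.node (nat_lit 0x19dd17e68ddab8c876d79e24bd54df4905e2a020) (.leaf (nat_lit 0x19dd17b69b56796bf66bc325a857e2493c62a020)) (.leaf (nat_lit 0x19dd17e68ddab8c876d79e24bd54df4905e2a020)))) (.node (nat_lit 0x19dd1a35f956fb6d718bc4eb784bc2293e64a020) (.node (nat_lit 0x19dd1a29fb6e7b8bf270b32ba5cbe6293c24a020) (.leaf (nat_lit 0x19dd17ee8acb7935f71a65a50bd45e490df2a020)) (.leaf (nat_lit 0x19dd1a29fb6e7b8bf270b32ba5cbe6293c24a020))) (.node (nat_lit 0x19dd1a65eadb7ac5f3179dab0d485f290de4a020) (.leaf (nat_lit 0x19dd1a35f956fb6d718bc4eb784bc2293e64a020)) (.leaf (nat_lit 0x19dd1a65eadb7ac5f3179dab0d485f290de4a020)))))) (.node (nat_lit 0x19dd1dbf2da2a7c832d5ee2eb968c5f9049f2020) (.node (nat_lit 0x19dd1cbf6aa359c5cf15edb5095c45f10c9fa020) (.node (nat_lit 0x19dd1cab746bd98acfb0b73525dca6f1122fa020) (.leaf (nat_lit 0x19dd1a6dedcabb3872da662abbc8de2905f4a020)) (.node (nat_lit 0x19dd1cb76f5519694f8bc775585d22f10a6fa020)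 (.leaf (nat_lit 0x19dd1cab746bd98acfb0b73525dca6f1122fa020)) (.leaf (nat_lit 0x19dd1cb76f5519694f8bc775585d22f10a6fa020)))) (.node (nat_lit 0x19dd1dab2f6d27893390b76f55e926f90a2f2020) (.node (nat_lit 0x19dd1cd36d7a99d84ed2e634badcc9f1045fa020) (.leaf (nat_lit 0x19dd1cbf6aa359c5cf15edb5095c45f10c9fa020)) (.leaf (nat_lit 0x19dd1cd36d7a99d84ed2e634badcc9f1045fa020))) (.node (nat_lit 0x19dd1db73453e76ab3abc72f2868a2f9126f2020) (.leaf (nat_lit 0x19dd1dab2f6d27893390b76f55e926f90a2f2020)) (.leaf (nat_lit 0x19dd1db73453e76ab3abc72f2868a2f9126f2020))))) (.node (nat_lit 0x19df4565b1dbb5095f985f595b4c9f1151e32420) (.node (nat_lit 0x19df4539b98ef5db5e12e2d98acfc4117e832420) (.node (nat_lit 0x19dd1dd32a7b67d5b312e5af0ae849f90c5f2020) (.leaf (nat_lit 0x19dd1dbf2da2a7c832d5ee2eb968c5f9049f2020)) (.leaf (nat_lit 0x19dd1dd32a7b67d5b312e5af0ae849f90c5f2020))) (.node (nat_lit 0x19df4545bb7675cc5d75ec19694fe8117c432420)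 (.leaf (nat_lit 0x19df4539b98ef5db5e12e2d98acfc4117e832420)) (.leaf (nat_lit 0x19df4545bb7675cc5d75ec19694fe8117c432420)))) (.node (nat_lit 0x19df46b95b8e6fdc6972e4276ab3e4317c812420) (.node (nat_lit 0x19df456daecc74badfb687192c4d1e1149f32420) (.leaf (nat_lit 0x19df4565b1dbb5095f985f595b4c9f1151e32420)) (.leaf (nat_lit 0x19df456daecc74badfb687192c4d1e1149f32420))) (.node (nat_lit 0x19df46c55976efcb6a15eae78933c8317e412420) (.leaf (nat_lit 0x19df46b95b8e6fdc6972e4276ab3e4317c812420)) (.leaf (nat_lit 0x19df46c55976efcb6a15eae78933c8317e412420))))))) (.node (nat_lit 0x19df4db72e54577ac3acd73129d902f9486f2420) (.node (nat_lit 0x19df48b5db56797c756cd42569d7e2217c642420) (.node (nat_lit 0x19df47363956fb7b720cd2eb89cbc2417e622420) (.node (nat_lit 0x19df46ed51cbaeb96b9687675c309e3151f12420) (.leaf (nat_lit 0x19df46e54edc6f0aebb85f272b311f3149e12420)) (.node (nat_lit 0x19df472a3b6e7bac7173bc2b664be6417c222420)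 (.leaf (nat_lit 0x19df46ed51cbaeb96b9687675c309e3151f12420)) (.leaf (nat_lit 0x19df472a3b6e7bac7173bc2b664be6417c222420)))) (.node (nat_lit 0x19df476e2dcabab9f2f686aacc48de4145f22420) (.node (nat_lit 0x19df47662adb7b0673585deb3b485f414de22420) (.leaf (nat_lit 0x19df47363956fb7b720cd2eb89cbc2417e622420)) (.leaf (nat_lit 0x19df47662adb7b0673585deb3b485f414de22420))) (.node (nat_lit 0x19df48a9d96ef9ab7613bae58657c6217e242420) (.leaf (nat_lit 0x19df476e2dcabab9f2f686aacc48de4145f22420)) (.leaf (nat_lit 0x19df48a9d96ef9ab7613bae58657c6217e242420))))) (.node (nat_lit 0x19df4cb77153a1792f8cd76d59e082f1506fa420) (.node (nat_lit 0x19df48edcacb78b6775685e53c545e214df42420) (.node (nat_lit 0x19df48e5cddab909f6f85ea4cb54df2145e42420) (.leaf (nat_lit 0x19df48b5db56797c756cd42569d7e2217c642420)) (.leaf (nat_lit 0x19df48e5cddab909f6f85ea4cb54df2145e42420))) (.node (nat_lit 0x19df4cab6e6c61aaafb3bf2d266106f1482fa420)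 (.leaf (nat_lit 0x19df48edcacb78b6775685e53c545e214df42420)) (.leaf (nat_lit 0x19df4cab6e6c61aaafb3bf2d266106f1482fa420)))) (.node (nat_lit 0x19df4cc76a7361c62f55eded396048f14c4fa420) (.node (nat_lit 0x19df4cbb6d8aa1d9aef2e6accae0c4f1448fa420) (.leaf (nat_lit 0x19df4cb77153a1792f8cd76d59e082f1506fa420)) (.leaf (nat_lit 0x19df4cbb6d8aa1d9aef2e6accae0c4f1448fa420))) (.node (nat_lit 0x19df4dab316b97a94393bf71565886f9502f2420) (.leaf (nat_lit 0x19df4cc76a7361c62f55eded396048f14c4fa420)) (.leaf (nat_lit 0x19df4dab316b97a94393bf71565886f9502f2420)))))) (.node (nat_lit 0x19e2e6bd5ba671dd5992e4d77ac3e5323c911020) (.node (nat_lit 0x19e2e53db9a6eddbe272e321aaafc5123e931020) (.node (nat_lit 0x19df4dbb2a8b57d64352e5f13ad844f94c8f2420) (.leaf (nat_lit 0x19df4db72e54577ac3acd73129d902f9486f2420)) (.node (nat_lit 0x19df4dc72d7297c9c2f5eeb0c958c8f9444f2420) (.leaf (nat_lit 0x19df4dbb2a8b57d64352e5f13ad844f94c8f2420))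 (.leaf (nat_lit 0x19df4dc72d7297c9c2f5eeb0c958c8f9444f2420)))) (.node (nat_lit 0x19e2e565b4dbed39639a67615bacbf1213e31020) (.node (nat_lit 0x19e2e551bb7e6dcd6195ece1792fe9123c531020) (.leaf (nat_lit 0x19e2e53db9a6eddbe272e321aaafc5123e931020)) (.leaf (nat_lit 0x19e2e551bb7e6dcd6195ece1792fe9123c531020))) (.node (nat_lit 0x19e2e56dafcd2ccae3b79f212d2d3e120bf31020) (.leaf (nat_lit 0x19e2e565b4dbed39639a67615bacbf1213e31020)) (.leaf (nat_lit 0x19e2e56dafcd2ccae3b79f212d2d3e120bf31020))))) (.node (nat_lit 0x19e2e7aa9b6e7b6d718bc4eb784be64a3c229020) (.node (nat_lit 0x19e2e6e54fdd313adbba67172bc13f320be11020) (.node (nat_lit 0x19e2e6d1597ef1cbda75eb17a943c9323e511020) (.leaf (nat_lit 0x19e2e6bd5ba671dd5992e4d77ac3e5323c911020)) (.leaf (nat_lit 0x19e2e6d1597ef1cbda75eb17a943c9323e511020))) (.node (nat_lit 0x19e2e6ed54cbf0c95b979f575d40be3213f11020) (.leaf (nat_lit 0x19e2e6e54fdd313adbba67172bc13f320be11020))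 (.leaf (nat_lit 0x19e2e6ed54cbf0c95b979f575d40be3213f11020)))) (.node (nat_lit 0x19e2e7e68adb7b3872da662abbc85f4a0de29020) (.node (nat_lit 0x19e2e7b69956fb8bf270b32ba5cbc24a3e629020) (.leaf (nat_lit 0x19e2e7aa9b6e7b6d718bc4eb784be64a3c229020)) (.leaf (nat_lit 0x19e2e7b69956fb8bf270b32ba5cbc24a3e629020))) (.node (nat_lit 0x19e2e7ee8dcabac5f3179dab0d48de4a05f29020) (.leaf (nat_lit 0x19e2e7e68adb7b3872da662abbc85f4a0de29020)) (.leaf (nat_lit 0x19e2e7ee8dcabac5f3179dab0d48de4a05f29020)))))))) (.node (nat_lit 0x19e8fcbb6a8b57c9c2f5eeb0c95844f24c8f9420) (.node (nat_lit 0x19e8f56db1cbaf0aebb85f272b309e1251f31420) (.node (nat_lit 0x19e2ecd36a7b67c832d5ee2eb96849f20c5f9020) (.node (nat_lit 0x19e2ea6deacb78c876d79e24bd545e2a0df49020) (.node (nat_lit 0x19e2ea35fb56798d7590b4e575d7e22a3c649020) (.leaf (nat_lit 0x19e2ea29f96ef96bf66bc325a857c62a3e249020)) (.node (nat_lit 0x19e2ea65eddab935f71a65a50bd4df2a05e49020)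 (.leaf (nat_lit 0x19e2ea35fb56798d7590b4e575d7e22a3c649020)) (.leaf (nat_lit 0x19e2ea65eddab935f71a65a50bd4df2a05e49020)))) (.node (nat_lit 0x19e2ecb77453e7893390b76f55e8a2f2126f9020) (.node (nat_lit 0x19e2ecab6f6d276ab3abc72f286926f20a2f9020) (.leaf (nat_lit 0x19e2ea6deacb78c876d79e24bd545e2a0df49020)) (.leaf (nat_lit 0x19e2ecab6f6d276ab3abc72f286926f20a2f9020))) (.node (nat_lit 0x19e2ecbf6da2a7d5b312e5af0ae8c5f2049f9020) (.leaf (nat_lit 0x19e2ecb77453e7893390b76f55e8a2f2126f9020)) (.leaf (nat_lit 0x19e2ecbf6da2a7d5b312e5af0ae8c5f2049f9020))))) (.node (nat_lit 0x19e2edd32d7a99c5cf15edb5095cc9fa045f1020) (.node (nat_lit 0x19e2edb72f55198acfb0b73525dd22fa0a6f1020) (.node (nat_lit 0x19e2edab346bd9694f8bc775585ca6fa122f1020) (.leaf (nat_lit 0x19e2ecd36a7b67c832d5ee2eb96849f20c5f9020)) (.leaf (nat_lit 0x19e2edab346bd9694f8bc775585ca6fa122f1020))) (.node (nat_lit 0x19e2edbf2aa359d84ed2e634badc45fa0c9f1020)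 (.leaf (nat_lit 0x19e2edb72f55198acfb0b73525dd22fa0a6f1020)) (.leaf (nat_lit 0x19e2edbf2aa359d84ed2e634badc45fa0c9f1020)))) (.node (nat_lit 0x19e8f545b976efdc6972e4276ab3c8127e431420) (.node (nat_lit 0x19e8f539bb8e6fcb6a15eae78933e4127c831420) (.leaf (nat_lit 0x19e2edd32d7a99c5cf15edb5095cc9fa045f1020)) (.leaf (nat_lit 0x19e8f539bb8e6fcb6a15eae78933e4127c831420))) (.node (nat_lit 0x19e8f565aedc6eb96b9687675c311f1249e31420) (.leaf (nat_lit 0x19e8f545b976efdc6972e4276ab3c8127e431420)) (.leaf (nat_lit 0x19e8f565aedc6eb96b9687675c311f1249e31420)))))) (.node (nat_lit 0x19e8f7662ddab8b6775685e53c54df4245e21420) (.node (nat_lit 0x19e8f6e551dbb4badfb687192c4c9f3251e11420) (.node (nat_lit 0x19e8f6b9598ef5cc5d75ec19694fc4327e811420) (.leaf (nat_lit 0x19e8f56db1cbaf0aebb85f272b309e1251f31420)) (.node (nat_lit 0x19e8f6c55b7675db5e12e2d98acfe8327c411420) (.leaf (nat_lit 0x19e8f6b9598ef5cc5d75ec19694fc4327e811420))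 (.leaf (nat_lit 0x19e8f6c55b7675db5e12e2d98acfe8327c411420)))) (.node (nat_lit 0x19e8f72a396ef97c756cd42569d7c6427e221420) (.node (nat_lit 0x19e8f6ed4ecc75095f985f595b4d1e3249f11420) (.leaf (nat_lit 0x19e8f6e551dbb4badfb687192c4c9f3251e11420)) (.leaf (nat_lit 0x19e8f6ed4ecc75095f985f595b4d1e3249f11420))) (.node (nat_lit 0x19e8f7363b5679ab7613bae58657e2427c621420) (.leaf (nat_lit 0x19e8f72a396ef97c756cd42569d7c6427e221420)) (.leaf (nat_lit 0x19e8f7363b5679ab7613bae58657e2427c621420))))) (.node (nat_lit 0x19e8f8e5cadb7ab9f2f686aacc485f224de41420) (.node (nat_lit 0x19e8f8a9db6e7b7b720cd2eb89cbe6227c241420) (.node (nat_lit 0x19e8f76e2acb7909f6f85ea4cb545e424df21420) (.leaf (nat_lit 0x19e8f7662ddab8b6775685e53c54df4245e21420)) (.leaf (nat_lit 0x19e8f76e2acb7909f6f85ea4cb545e424df21420))) (.node (nat_lit 0x19e8f8b5d956fbac7173bc2b664bc2227e641420) (.leaf (nat_lit 0x19e8f8a9db6e7b7b720cd2eb89cbe6227c241420))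 (.leaf (nat_lit 0x19e8f8b5d956fbac7173bc2b664bc2227e641420)))) (.node (nat_lit 0x19e8fcab716b977ac3acd73129d886f2502f9420) (.node (nat_lit 0x19e8f8edcdcabb0673585deb3b48de2245f41420) (.leaf (nat_lit 0x19e8f8e5cadb7ab9f2f686aacc485f224de41420)) (.leaf (nat_lit 0x19e8f8edcdcabb0673585deb3b48de2245f41420))) (.node (nat_lit 0x19e8fcb76e5457a94393bf71565902f2486f9420) (.leaf (nat_lit 0x19e8fcab716b977ac3acd73129d886f2502f9420)) (.leaf (nat_lit 0x19e8fcb76e5457a94393bf71565902f2486f9420))))))) (.node (nat_lit 0x19f3b7363453e72b321daaef8e68a247d2627820) (.node (nat_lit 0x19f3b53daea46abbca76833bac710517c8937820) (.node (nat_lit 0x19e8fdb73153a1aaafb3bf2d266082fa506f1420) (.node (nat_lit 0x19e8fcc76d7297d64352e5f13ad8c8f2444f9420) (.leaf (nat_lit 0x19e8fcbb6a8b57c9c2f5eeb0c95844f24c8f9420)) (.node (nat_lit 0x19e8fdab2e6c61792f8cd76d59e106fa482f1420) (.leaf (nat_lit 0x19e8fcc76d7297d64352e5f13ad8c8f2444f9420))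 (.leaf (nat_lit 0x19e8fdab2e6c61792f8cd76d59e106fa482f1420)))) (.node (nat_lit 0x19e8fdc72a7361d9aef2e6accae048fa4c4f1420) (.node (nat_lit 0x19e8fdbb2d8aa1c62f55eded3960c4fa448f1420) (.leaf (nat_lit 0x19e8fdb73153a1aaafb3bf2d266082fa506f1420)) (.leaf (nat_lit 0x19e8fdbb2d8aa1c62f55eded3960c4fa448f1420))) (.node (nat_lit 0x19f3b539b48beb3b4a1a62fb8bf0a417d2837820) (.leaf (nat_lit 0x19e8fdc72a7361d9aef2e6accae048fa4c4f1420)) (.leaf (nat_lit 0x19f3b539b48beb3b4a1a62fb8bf0a417d2837820))))) (.node (nat_lit 0x19f3b6bd51a3a4bd559684f97c748537d0917820) (.node (nat_lit 0x19f3b551b17bab0d49985cfb7b708917d0537820) (.node (nat_lit 0x19f3b545af752acc49779c3b6d712817ca437820) (.leaf (nat_lit 0x19f3b53daea46abbca76833bac710517c8937820)) (.leaf (nat_lit 0x19f3b545af752acc49779c3b6d712817ca437820))) (.node (nat_lit 0x19f3b6b94f8d253c557a64396bf52437ca817820) (.leaf (nat_lit 0x19f3b551b17bab0d49985cfb7b708917d0537820))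 (.leaf (nat_lit 0x19f3b6b94f8d253c557a64396bf52437ca817820)))) (.node (nat_lit 0x19f3b6d14e7c650bd6785b39ab750937c8517820) (.node (nat_lit 0x19f3b6c55473e4cb56179af98d74a837d2417820) (.leaf (nat_lit 0x19f3b6bd51a3a4bd559684f97c748537d0917820)) (.leaf (nat_lit 0x19f3b6c55473e4cb56179af98d74a837d2417820))) (.node (nat_lit 0x19f3b72a2f6d275c317c942f6ee92647ca227820) (.leaf (nat_lit 0x19f3b6d14e7c650bd6785b39ab750937c8517820)) (.leaf (nat_lit 0x19f3b72a2f6d275c317c942f6ee92647ca227820)))))) (.node (nat_lit 0x19f3b8a9d46bd95b4e1c92f58edca627d2247820) (.node (nat_lit 0x19f3b7aa916b975d419c94f17ed8864fd022f820) (.node (nat_lit 0x19f3b73e2da2a6be3256856fdc68c547c4927820) (.leaf (nat_lit 0x19f3b7363453e72b321daaef8e68a247d2627820)) (.node (nat_lit 0x19f3b7522a7b670eb2b85cafcb684947cc527820) (.leaf (nat_lit 0x19f3b73e2da2a6be3256856fdc68c547c4927820)) (.leaf (nat_lit 0x19f3b7522a7b670eb2b85cafcb684947cc527820))))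 (.node (nat_lit 0x19f3b7ba8a8b573ec2ba64b1cbd8444fcc82f820) (.node (nat_lit 0x19f3b7b68e54572bc27dab31ae59024fc862f820) (.leaf (nat_lit 0x19f3b7aa916b975d419c94f17ed8864fd022f820)) (.leaf (nat_lit 0x19f3b7b68e54572bc27dab31ae59024fc862f820))) (.node (nat_lit 0x19f3b7c68d7296ce42579d71dd58c84fc442f820) (.leaf (nat_lit 0x19f3b7ba8a8b573ec2ba64b1cbd8444fcc82f820)) (.leaf (nat_lit 0x19f3b7c68d7296ce42579d71dd58c84fc442f820))))) (.node (nat_lit 0x19f3ba29ee6c615bae7c932daee1062fc824f820) (.node (nat_lit 0x19f3b8bdcaa358beceb684b5cc5c4527cc947820) (.node (nat_lit 0x19f3b8b5cf55192c4d7dac356e5d2227ca647820) (.leaf (nat_lit 0x19f3b8a9d46bd95b4e1c92f58edca627d2247820)) (.leaf (nat_lit 0x19f3b8b5cf55192c4d7dac356e5d2227ca647820))) (.node (nat_lit 0x19f3b8d1cd7a990e4e585d75db5cc927c4547820) (.leaf (nat_lit 0x19f3b8bdcaa358beceb684b5cc5c4527cc947820)) (.leaf (nat_lit 0x19f3b8d1cd7a990e4e585d75db5cc927c4547820))))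 (.node (nat_lit 0x19f3ba39ed8aa13e2e5a656ddbe0c42fc484f820) (.node (nat_lit 0x19f3ba35f153a12d2d9daced7e60822fd064f820) (.leaf (nat_lit 0x19f3ba29ee6c615bae7c932daee1062fc824f820)) (.leaf (nat_lit 0x19f3ba35f153a12d2d9daced7e60822fd064f820))) (.node (nat_lit 0x19f3ba45ea7360ceaeb79cadcd60482fcc44f820) (.leaf (nat_lit 0x19f3ba39ed8aa13e2e5a656ddbe0c42fc484f820)) (.leaf (nat_lit 0x19f3ba45ea7360ceaeb79cadcd60482fcc44f820))))))))) (.node (nat_lit 0x221d1aae5786bb8cf26ab31fb6d3e629fc248c20) (.node (nat_lit 0x221708ddd5d4b0f65b7ca65b3ea8be3993f18820) (.node (nat_lit 0x19f797c68a73613e2e5a656ddbe0484f8c42fc20) (.node (nat_lit 0x19f796d1517baabbca76833bac70893790517c20) (.node (nat_lit 0x19f79551ae7c64bd559684f97c75091788537c20) (.node (nat_lit 0x19f7953db1a3a50bd6785b39ab74851790937c20) (.leaf (nat_lit 0x19f79539af8d24cb56179af98d7524178a837c20)) (.node (nat_lit 0x19f79545b473e53c557a64396bf4a81792437c20)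 (.leaf (nat_lit 0x19f7953db1a3a50bd6785b39ab74851790937c20)) (.leaf (nat_lit 0x19f79545b473e53c557a64396bf4a81792437c20)))) (.node (nat_lit 0x19f796bd4ea46b0d49985cfb7b71053788917c20) (.node (nat_lit 0x19f796b9548beacc49779c3b6d70a43792817c20) (.leaf (nat_lit 0x19f79551ae7c64bd559684f97c75091788537c20)) (.leaf (nat_lit 0x19f796b9548beacc49779c3b6d70a43792817c20))) (.node (nat_lit 0x19f796c54f752b3b4a1a62fb8bf128378a417c20) (.leaf (nat_lit 0x19f796bd4ea46b0d49985cfb7b71053788917c20)) (.leaf (nat_lit 0x19f796c54f752b3b4a1a62fb8bf128378a417c20))))) (.node (nat_lit 0x19f797522d7a98beceb684b5cc5cc94784527c20) (.node (nat_lit 0x19f797362f55195b4e1c92f58edd22478a627c20) (.node (nat_lit 0x19f7972a346bd92c4d7dac356e5ca64792227c20) (.leaf (nat_lit 0x19f796d1517baabbca76833bac70893790517c20)) (.leaf (nat_lit 0x19f7972a346bd92c4d7dac356e5ca64792227c20))) (.node (nat_lit 0x19f7973e2aa3590e4e585d75db5c45478c927c20)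 (.leaf (nat_lit 0x19f797362f55195b4e1c92f58edd22478a627c20)) (.leaf (nat_lit 0x19f7973e2aa3590e4e585d75db5c45478c927c20)))) (.node (nat_lit 0x19f797b69153a15bae7c932daee0824f9062fc20) (.node (nat_lit 0x19f797aa8e6c612d2d9daced7e61064f8822fc20) (.leaf (nat_lit 0x19f797522d7a98beceb684b5cc5cc94784527c20)) (.leaf (nat_lit 0x19f797aa8e6c612d2d9daced7e61064f8822fc20))) (.node (nat_lit 0x19f797ba8d8aa0ceaeb79cadcd60c44f8482fc20) (.leaf (nat_lit 0x19f797b69153a15bae7c932daee0824f9062fc20)) (.leaf (nat_lit 0x19f797ba8d8aa0ceaeb79cadcd60c44f8482fc20)))))) (.node (nat_lit 0x19f79a39ea8b56ce42579d71dd58442f8c84fc20) (.node (nat_lit 0x19f798bdcda2a70eb2b85cafcb68c52784947c20) (.node (nat_lit 0x19f798a9cf6d272b321daaef8e6926278a247c20) (.leaf (nat_lit 0x19f797c68a73613e2e5a656ddbe0484f8c42fc20)) (.node (nat_lit 0x19f798b5d453e75c317c942f6ee8a22792647c20) (.leaf (nat_lit 0x19f798a9cf6d272b321daaef8e6926278a247c20))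 (.leaf (nat_lit 0x19f798b5d453e75c317c942f6ee8a22792647c20)))) (.node (nat_lit 0x19f79a29f16b972bc27dab31ae58862f9024fc20) (.node (nat_lit 0x19f798d1ca7b66be3256856fdc6849278c547c20) (.leaf (nat_lit 0x19f798bdcda2a70eb2b85cafcb68c52784947c20)) (.leaf (nat_lit 0x19f798d1ca7b66be3256856fdc6849278c547c20))) (.node (nat_lit 0x19f79a35ee54575d419c94f17ed9022f8864fc20) (.leaf (nat_lit 0x19f79a29f16b972bc27dab31ae58862f9024fc20)) (.leaf (nat_lit 0x19f79a35ee54575d419c94f17ed9022f8864fc20))))) (.node (nat_lit 0x2217075e32d56cf9e33ca6d4ceb53e198bf38820) (.node (nat_lit 0x2217074a3aaded9e628cdbd5d9b7c519be938820) (.node (nat_lit 0x19f79a45ed72973ec2ba64b1cbd8c82f8444fc20) (.leaf (nat_lit 0x19f79a39ea8b56ce42579d71dd58442f8c84fc20)) (.leaf (nat_lit 0x19f79a45ed72973ec2ba64b1cbd8c82f8444fc20))) (.node (nat_lit 0x221707563796adbee1f3cd15c637e919bc538820) (.leaf (nat_lit 0x2217074a3aaded9e628cdbd5d9b7c519be938820))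 (.leaf (nat_lit 0x221707563796adbee1f3cd15c637e919bc538820)))) (.node (nat_lit 0x221708c9d7aeb19ed9ecdd1bc9abe539bc918820) (.node (nat_lit 0x2217076a35bcad46637d7e553e34bf1993e38820) (.leaf (nat_lit 0x2217075e32d56cf9e33ca6d4ceb53e198bf38820)) (.leaf (nat_lit 0x2217076a35bcad46637d7e553e34bf1993e38820))) (.node (nat_lit 0x221708d5da95f1be5a93cbdbd62bc939be518820) (.leaf (nat_lit 0x221708c9d7aeb19ed9ecdd1bc9abe539bc918820)) (.leaf (nat_lit 0x221708d5da95f1be5a93cbdbd62bc939be518820))))))) (.node (nat_lit 0x22170d46f574a9863f6ab67936f4a3f1927f8820) (.node (nat_lit 0x22170ac65776b78ee5eab519c6cfe329bc748820) (.node (nat_lit 0x22170946ba75f38e6e8ab3e7d6b3c349be728820) (.node (nat_lit 0x221708e9d2bd7149db3d7edace293f398be18820) (.leaf (nat_lit 0x221708ddd5d4b0f65b7ca65b3ea8be3993f18820)) (.node (nat_lit 0x2217093ab78eb36eededc527c533e749bc328820) (.leaf (nat_lit 0x221708e9d2bd7149db3d7edace293f398be18820))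 (.leaf (nat_lit 0x2217093ab78eb36eededc527c533e749bc328820)))) (.node (nat_lit 0x2217096aaebc73456edd7e26de307f498fe28820) (.node (nat_lit 0x2217095eb1d3b2f6ef1ca5a6aeb0fe4987f28820) (.leaf (nat_lit 0x22170946ba75f38e6e8ab3e7d6b3c349be728820)) (.leaf (nat_lit 0x2217095eb1d3b2f6ef1ca5a6aeb0fe4987f28820))) (.node (nat_lit 0x22170aba5a8df76e668dc3d9d54fc729be348820) (.leaf (nat_lit 0x2217096aaebc73456edd7e26de307f498fe28820)) (.leaf (nat_lit 0x22170aba5a8df76e668dc3d9d54fc729be348820))))) (.node (nat_lit 0x22170bc752755f89d32ab6fac6f123f98a7f0820) (.node (nat_lit 0x22170aea51bbb746e71d7d98ae4cff2987e48820) (.node (nat_lit 0x22170ade4ed476f566dca618decc7e298ff48820) (.leaf (nat_lit 0x22170ac65776b78ee5eab519c6cfe329bc748820)) (.leaf (nat_lit 0x22170ade4ed476f566dca618decc7e298ff48820))) (.node (nat_lit 0x22170bbb558c9f66536dc67b3570a7f9923f0820) (.leaf (nat_lit 0x22170aea51bbb746e71d7d98ae4cff2987e48820))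 (.leaf (nat_lit 0x22170bbb558c9f66536dc67b3570a7f9923f0820)))) (.node (nat_lit 0x22170bd751939fb6d313cdbaa670e9f9865f0820) (.node (nat_lit 0x22170bcb4eac5f9552ccde3ad9f065f98e9f0820) (.leaf (nat_lit 0x22170bc752755f89d32ab6fac6f123f98a7f0820)) (.leaf (nat_lit 0x22170bcb4eac5f9552ccde3ad9f065f98e9f0820))) (.node (nat_lit 0x22170d3af28d6969bf2dc6f8c57527f18a3f8820) (.leaf (nat_lit 0x22170bd751939fb6d313cdbaa670e9f9865f0820)) (.leaf (nat_lit 0x22170d3af28d6969bf2dc6f8c57527f18a3f8820)))))) (.node (nat_lit 0x221d18497aadedcde18fecd59a37c531fe910c20) (.node (nat_lit 0x221d15ca17aeb1ccda6feb1bba2be511fc930c20) (.node (nat_lit 0x22170d4af1aba996bf0cddb8a9f4e5f1869f8820) (.leaf (nat_lit 0x22170d46f574a9863f6ab67936f4a3f1927f8820)) (.node (nat_lit 0x22170d56ee9469b53ed3ce38d67469f18e5f8820) (.leaf (nat_lit 0x22170d4af1aba996bf0cddb8a9f4e5f1869f8820)) (.leaf (nat_lit 0x22170d56ee9469b53ed3ce38d67469f18e5f8820))))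 (.node (nat_lit 0x221d15de15d4b137dbbb671b4ca8be11d3f30c20) (.node (nat_lit 0x221d15d61a95f1ddd994e4db97abc911fe530c20) (.leaf (nat_lit 0x221d15ca17aeb1ccda6feb1bba2be511fc930c20)) (.leaf (nat_lit 0x221d15d61a95f1ddd994e4db97abc911fe530c20))) (.node (nat_lit 0x221d15ea12bd70ca5b999f5afda93f11cbe30c20) (.leaf (nat_lit 0x221d15de15d4b137dbbb671b4ca8be11d3f30c20)) (.leaf (nat_lit 0x221d15ea12bd70ca5b999f5afda93f11cbe30c20))))) (.node (nat_lit 0x221d192eba85f98df58ab4e996bfc649fe228c20) (.node (nat_lit 0x221d185d72d56d3a639b6754fcb53e31cbf10c20) (.node (nat_lit 0x221d18557796addce274e315b7b7e931fc510c20) (.leaf (nat_lit 0x221d18497aadedcde18fecd59a37c531fe910c20)) (.leaf (nat_lit 0x221d18557796addce274e315b7b7e931fc510c20))) (.node (nat_lit 0x221d186975bcacc7e3b99f154db4bf31d3e10c20) (.leaf (nat_lit 0x221d185d72d56d3a639b6754fcb53e31cbf10c20)) (.leaf (nat_lit 0x221d186975bcacc7e3b99f154db4bf31d3e10c20))))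 (.node (nat_lit 0x221d195eabd43936f71b65a8acbc5e49cdf28c20) (.node (nat_lit 0x221d1942b75eb96cf66dc329b53fe249fc628c20) (.leaf (nat_lit 0x221d192eba85f98df58ab4e996bfc649fe228c20)) (.leaf (nat_lit 0x221d1942b75eb96cf66dc329b53fe249fc628c20))) (.node (nat_lit 0x221d196ab0baf8c576d99e28ddbcdf49c5e28c20) (.leaf (nat_lit 0x221d195eabd43936f71b65a8acbc5e49cdf28c20)) (.leaf (nat_lit 0x221d196ab0baf8c576d99e28ddbcdf49c5e28c20)))))))) (.node (nat_lit 0x2220bbcb51aba9b53ed3ce38d674e5f8869f1820) (.node (nat_lit 0x2220b76a32bd70f65b7ca65b3ea93f188be39820) (.node (nat_lit 0x221d1bd74b9427d6b314e5b2a7ec49f9cc5f0c20) (.node (nat_lit 0x221d1aea4bbc3ac6f3199d9eadd05f29cde48c20) (.node (nat_lit 0x221d1ac25a5dfb6df18dc4df9553c229fe648c20) (.leaf (nat_lit 0x221d1aae5786bb8cf26ab31fb6d3e629fc248c20)) (.node (nat_lit 0x221d1ade50d2fb3572db661edcd0de29c5f48c20) (.leaf (nat_lit 0x221d1ac25a5dfb6df18dc4df9553c229fe648c20))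 (.leaf (nat_lit 0x221d1ade50d2fb3572db661edcd0de29c5f48c20)))) (.node (nat_lit 0x221d1bc3555ca767b3adc733456ca2f9d26f0c20) (.node (nat_lit 0x221d1baf5285678a338ab772f6ed26f9ca2f0c20) (.leaf (nat_lit 0x221d1aea4bbc3ac6f3199d9eadd05f29cde48c20)) (.leaf (nat_lit 0x221d1baf5285678a338ab772f6ed26f9ca2f0c20))) (.node (nat_lit 0x221d1bcb50aae7c532cfee32da6cc5f9c49f0c20) (.leaf (nat_lit 0x221d1bc3555ca767b3adc733456ca2f9d26f0c20)) (.leaf (nat_lit 0x221d1bcb50aae7c532cfee32da6cc5f9c49f0c20))))) (.node (nat_lit 0x221d1d56f092d9d54ed4e636d7e4c9f1c45f8c20) (.node (nat_lit 0x221d1d42f25d596a4f8dc776f56522f1ca6f8c20) (.node (nat_lit 0x221d1d2ef5849987cfaab73746e4a6f1d22f8c20) (.leaf (nat_lit 0x221d1bd74b9427d6b314e5b2a7ec49f9cc5f0c20)) (.leaf (nat_lit 0x221d1d2ef5849987cfaab73746e4a6f1d22f8c20))) (.node (nat_lit 0x221d1d4aebac19c6cf0fedb6aa6445f1cc9f8c20) (.leaf (nat_lit 0x221d1d42f25d596a4f8dc776f56522f1ca6f8c20))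 (.leaf (nat_lit 0x221d1d4aebac19c6cf0fedb6aa6445f1cc9f8c20)))) (.node (nat_lit 0x2220b7563a95f19ed9ecdd1bc9abc918be539820) (.node (nat_lit 0x2220b74a37aeb1be5a93cbdbd62be518bc939820) (.leaf (nat_lit 0x221d1d56f092d9d54ed4e636d7e4c9f1c45f8c20)) (.leaf (nat_lit 0x2220b74a37aeb1be5a93cbdbd62be518bc939820))) (.node (nat_lit 0x2220b75e35d4b149db3d7edace28be1893f39820) (.leaf (nat_lit 0x2220b7563a95f19ed9ecdd1bc9abc918be539820)) (.leaf (nat_lit 0x2220b75e35d4b149db3d7edace28be1893f39820)))))) (.node (nat_lit 0x2220b95eaed47746e71d7d98ae4c7e488ff29820) (.node (nat_lit 0x2220b8ddd2d56d46637d7e553e353e388bf19820) (.node (nat_lit 0x2220b8c9daadedbee1f3cd15c637c538be919820) (.leaf (nat_lit 0x2220b76a32bd70f65b7ca65b3ea93f188be39820)) (.node (nat_lit 0x2220b8d5d796ad9e628cdbd5d9b7e938bc519820) (.leaf (nat_lit 0x2220b8c9daadedbee1f3cd15c637c538be919820)) (.leaf (nat_lit 0x2220b8d5d796ad9e628cdbd5d9b7e938bc519820))))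 (.node (nat_lit 0x2220b93aba8df78ee5eab519c6cfc748be329820) (.node (nat_lit 0x2220b8e9d5bcacf9e33ca6d4ceb4bf3893e19820) (.leaf (nat_lit 0x2220b8ddd2d56d46637d7e553e353e388bf19820)) (.leaf (nat_lit 0x2220b8e9d5bcacf9e33ca6d4ceb4bf3893e19820))) (.node (nat_lit 0x2220b946b776b76e668dc3d9d54fe348bc729820) (.leaf (nat_lit 0x2220b93aba8df78ee5eab519c6cfc748be329820)) (.leaf (nat_lit 0x2220b946b776b76e668dc3d9d54fe348bc729820))))) (.node (nat_lit 0x2220bade51d3b3456edd7e26de30fe2887f49820) (.node (nat_lit 0x2220baba578eb38e6e8ab3e7d6b3e728bc349820) (.node (nat_lit 0x2220b96ab1bbb6f566dca618deccff4887e29820) (.leaf (nat_lit 0x2220b95eaed47746e71d7d98ae4c7e488ff29820)) (.leaf (nat_lit 0x2220b96ab1bbb6f566dca618deccff4887e29820))) (.node (nat_lit 0x2220bac65a75f36eededc527c533c328be749820) (.leaf (nat_lit 0x2220baba578eb38e6e8ab3e7d6b3e728bc349820)) (.leaf (nat_lit 0x2220bac65a75f36eededc527c533c328be749820))))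 (.node (nat_lit 0x2220bbbb528d69863f6ab67936f527f88a3f1820) (.node (nat_lit 0x2220baea4ebc72f6ef1ca5a6aeb07f288fe49820) (.leaf (nat_lit 0x2220bade51d3b3456edd7e26de30fe2887f49820)) (.leaf (nat_lit 0x2220baea4ebc72f6ef1ca5a6aeb07f288fe49820))) (.node (nat_lit 0x2220bbc75574a969bf2dc6f8c574a3f8927f1820) (.leaf (nat_lit 0x2220bbbb528d69863f6ab67936f527f88a3f1820)) (.leaf (nat_lit 0x2220bbc75574a969bf2dc6f8c574a3f8927f1820))))))) (.node (nat_lit 0x2222e942ba5dfb8cf26ab31fb6d3c248fe629c20) (.node (nat_lit 0x2222e5d61796adcde18fecd59a37e910fc531c20) (.node (nat_lit 0x2220bd46f2755f66536dc67b357123f08a7f9820) (.node (nat_lit 0x2220bbd74e946996bf0cddb8a9f469f88e5f1820) (.leaf (nat_lit 0x2220bbcb51aba9b53ed3ce38d674e5f8869f1820)) (.node (nat_lit 0x2220bd3af58c9f89d32ab6fac6f0a7f0923f9820) (.leaf (nat_lit 0x2220bbd74e946996bf0cddb8a9f469f88e5f1820)) (.leaf (nat_lit 0x2220bd3af58c9f89d32ab6fac6f0a7f0923f9820))))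 (.node (nat_lit 0x2220bd56f1939f9552ccde3ad9f0e9f0865f9820) (.node (nat_lit 0x2220bd4aeeac5fb6d313cdbaa67065f08e9f9820) (.leaf (nat_lit 0x2220bd46f2755f66536dc67b357123f08a7f9820)) (.leaf (nat_lit 0x2220bd4aeeac5fb6d313cdbaa67065f08e9f9820))) (.node (nat_lit 0x2222e5ca1aadeddce274e315b7b7c510fe931c20) (.leaf (nat_lit 0x2220bd56f1939f9552ccde3ad9f0e9f0865f9820)) (.leaf (nat_lit 0x2222e5ca1aadeddce274e315b7b7c510fe931c20))))) (.node (nat_lit 0x2222e8557a95f1ccda6feb1bba2bc930fe511c20) (.node (nat_lit 0x2222e5ea15bcad3a639b6754fcb4bf10d3e31c20) (.node (nat_lit 0x2222e5de12d56cc7e3b99f154db53e10cbf31c20) (.leaf (nat_lit 0x2222e5d61796adcde18fecd59a37e910fc531c20)) (.leaf (nat_lit 0x2222e5de12d56cc7e3b99f154db53e10cbf31c20))) (.node (nat_lit 0x2222e84977aeb1ddd994e4db97abe530fc911c20) (.leaf (nat_lit 0x2222e5ea15bcad3a639b6754fcb4bf10d3e31c20)) (.leaf (nat_lit 0x2222e84977aeb1ddd994e4db97abe530fc911c20))))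 (.node (nat_lit 0x2222e86972bd7137dbbb671b4ca93f30cbe11c20) (.node (nat_lit 0x2222e85d75d4b0ca5b999f5afda8be30d3f11c20) (.leaf (nat_lit 0x2222e8557a95f1ccda6feb1bba2bc930fe511c20)) (.leaf (nat_lit 0x2222e85d75d4b0ca5b999f5afda8be30d3f11c20))) (.node (nat_lit 0x2222e92eb786bb6df18dc4df9553e648fc229c20) (.leaf (nat_lit 0x2222e86972bd7137dbbb671b4ca93f30cbe11c20)) (.leaf (nat_lit 0x2222e92eb786bb6df18dc4df9553e648fc229c20)))))) (.node (nat_lit 0x2222ebaf5584996a4f8dc776f564a6f8d22f1c20) (.node (nat_lit 0x2222eaae5a85f96cf66dc329b53fc628fe249c20) (.node (nat_lit 0x2222e95eb0d2fac6f3199d9eadd0de48c5f29c20) (.leaf (nat_lit 0x2222e942ba5dfb8cf26ab31fb6d3c248fe629c20)) (.node (nat_lit 0x2222e96aabbc3b3572db661edcd05f48cde29c20) (.leaf (nat_lit 0x2222e95eb0d2fac6f3199d9eadd0de48c5f29c20)) (.leaf (nat_lit 0x2222e96aabbc3b3572db661edcd05f48cde29c20)))) (.node (nat_lit 0x2222eade4bd438c576d99e28ddbc5e28cdf49c20)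 (.node (nat_lit 0x2222eac2575eb98df58ab4e996bfe228fc649c20) (.leaf (nat_lit 0x2222eaae5a85f96cf66dc329b53fc628fe249c20)) (.leaf (nat_lit 0x2222eac2575eb98df58ab4e996bfe228fc649c20))) (.node (nat_lit 0x2222eaea50baf936f71b65a8acbcdf28c5e49c20) (.leaf (nat_lit 0x2222eade4bd438c576d99e28ddbc5e28cdf49c20)) (.leaf (nat_lit 0x2222eaea50baf936f71b65a8acbcdf28c5e49c20))))) (.node (nat_lit 0x2222ed2ef2856767b3adc733456d26f0ca2f9c20) (.node (nat_lit 0x2222ebcb4bac19d54ed4e636d7e445f8cc9f1c20) (.node (nat_lit 0x2222ebc3525d5987cfaab73746e522f8ca6f1c20) (.leaf (nat_lit 0x2222ebaf5584996a4f8dc776f564a6f8d22f1c20)) (.leaf (nat_lit 0x2222ebc3525d5987cfaab73746e522f8ca6f1c20))) (.node (nat_lit 0x2222ebd75092d9c6cf0fedb6aa64c9f8c45f1c20) (.leaf (nat_lit 0x2222ebcb4bac19d54ed4e636d7e445f8cc9f1c20)) (.leaf (nat_lit 0x2222ebd75092d9c6cf0fedb6aa64c9f8c45f1c20)))) (.node (nat_lit 0x2222ed4af0aae7d6b314e5b2a7ecc5f0c49f9c20)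 (.node (nat_lit 0x2222ed42f55ca78a338ab772f6eca2f0d26f9c20) (.leaf (nat_lit 0x2222ed2ef2856767b3adc733456d26f0ca2f9c20)) (.leaf (nat_lit 0x2222ed42f55ca78a338ab772f6eca2f0d26f9c20))) (.node (nat_lit 0x2222ed56eb9427c532cfee32da6c49f0cc5f9c20) (.leaf (nat_lit 0x2222ed4af0aae7d6b314e5b2a7ecc5f0c49f9c20)) (.leaf (nat_lit 0x2222ed56eb9427c532cfee32da6c49f0cc5f9c20))))))))))
noncomputable def AN_lS_T2 : ST := (.node (nat_lit 0x2a5f464a78adb5ccdd71ec1bb72be811fc430c20) (.node (nat_lit 0x222fa8add285674b315d7b738e6d263f8a21fc20) (.node (nat_lit 0x222b275e2bd438a9f7386ee8cb3c5e1a4df39420) (.node (nat_lit 0x222558e9d0baf8a9f7386ee8cb3cdf3945e1a420) (.node (nat_lit 0x2225576a2bbc3aa673786e5f3b505f194de3a420) (.node (nat_lit 0x222555ea11bbb6aa67986f58fb4cff1147e32420) (.node (nat_lit 0x222555c61776b7cc65afea996a4fe3117c732420) (.leaf (nat_lit 0x222555ba1a8df7db6554e35987cfc7117e332420))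 (.node (nat_lit 0x222555de0ed476d7e7b657194c4c7e114ff32420) (.leaf (nat_lit 0x222555c61776b7cc65afea996a4fe3117c732420)) (.leaf (nat_lit 0x222555de0ed476d7e7b657194c4c7e114ff32420)))) (.node (nat_lit 0x222557423a5dfb9b714cdb5f89d3c2197e63a420) (.node (nat_lit 0x2225572e3786bbbc71b3ca9f6653e6197c23a420) (.leaf (nat_lit 0x222555ea11bbb6aa67986f58fb4cff1147e32420)) (.leaf (nat_lit 0x2225572e3786bbbc71b3ca9f6653e6197c23a420))) (.node (nat_lit 0x2225575e30d2fad9f33656decc50de1945f3a420) (.leaf (nat_lit 0x222557423a5dfb9b714cdb5f89d3c2197e63a420)) (.leaf (nat_lit 0x2225575e30d2fad9f33656decc50de1945f3a420))))) (.node (nat_lit 0x222558696ebc72a7efb86f274b307f314fe12420) (.node (nat_lit 0x222558457a75f3cb6d4feb678a33c3317e712420) (.node (nat_lit 0x22255839778eb3dc6db4e2a767b3e7317c312420) (.leaf (nat_lit 0x2225576a2bbc3aa673786e5f3b505f194de3a420)) (.leaf (nat_lit 0x22255839778eb3dc6db4e2a767b3e7317c312420)))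 (.node (nat_lit 0x2225585d71d3b2da6f965766fc30fe3147f12420) (.leaf (nat_lit 0x222558457a75f3cb6d4feb678a33c3317e712420)) (.leaf (nat_lit 0x2225585d71d3b2da6f965766fc30fe3147f12420)))) (.node (nat_lit 0x222558c1d75eb99c75acdaa969bfe2397c61a420) (.node (nat_lit 0x222558adda85f9bb7553cb69863fc6397e21a420) (.leaf (nat_lit 0x222558696ebc72a7efb86f274b307f314fe12420)) (.leaf (nat_lit 0x222558adda85f9bb7553cb69863fc6397e21a420))) (.node (nat_lit 0x222558ddcbd438d6777656693c3c5e394df1a420) (.leaf (nat_lit 0x222558c1d75eb99c75acdaa969bfe2397c61a420)) (.leaf (nat_lit 0x222558ddcbd438d6777656693c3c5e394df1a420)))))) (.node (nat_lit 0x22255d42f15b959a378cdf6cf9e0e2f1466fa420) (.node (nat_lit 0x22255bc34e5c5b97abacdf3149d862f94e6f2420) (.node (nat_lit 0x22255baf51839bba2b93cf70f658e6f9462f2420) (.leaf (nat_lit 0x222558e9d0baf8a9f7386ee8cb3cdf3945e1a420)) (.node (nat_lit 0x22255bbb4b8c1bd62b74e67137d847f94c3f2420)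 (.leaf (nat_lit 0x22255baf51839bba2b93cf70f658e6f9462f2420)) (.leaf (nat_lit 0x22255bbb4b8c1bd62b74e67137d847f94c3f2420)))) (.node (nat_lit 0x22255d2eee8455b7b7b3cf2d466066f14e2fa420) (.node (nat_lit 0x22255bc75072dbc9ab2feef0ca58c3f9447f2420) (.leaf (nat_lit 0x22255bc34e5c5b97abacdf3149d862f94e6f2420)) (.leaf (nat_lit 0x22255bc75072dbc9ab2feef0ca58c3f9447f2420))) (.node (nat_lit 0x22255d3af08ad5d9b734e6ecc7e0c7f1443fa420) (.leaf (nat_lit 0x22255d2eee8455b7b7b3cf2d466066f14e2fa420)) (.leaf (nat_lit 0x22255d3af08ad5d9b734e6ecc7e0c7f1443fa420))))) (.node (nat_lit 0x222b25de11d3b2a7efb86f274b30fe1247f31420) (.node (nat_lit 0x222b25ba178eb3cb6d4feb678a33e7127c331420) (.node (nat_lit 0x22255d46eb7415c6376fee6d3a6043f14c7fa420) (.leaf (nat_lit 0x22255d42f15b959a378cdf6cf9e0e2f1466fa420)) (.leaf (nat_lit 0x22255d46eb7415c6376fee6d3a6043f14c7fa420))) (.node (nat_lit 0x222b25c61a75f3dc6db4e2a767b3c3127e731420)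 (.leaf (nat_lit 0x222b25ba178eb3cb6d4feb678a33e7127c331420)) (.leaf (nat_lit 0x222b25c61a75f3dc6db4e2a767b3c3127e731420)))) (.node (nat_lit 0x222b272e3a85f99c75acdaa969bfc61a7e239420) (.node (nat_lit 0x222b25ea0ebc72da6f965766fc307f124fe31420) (.leaf (nat_lit 0x222b25de11d3b2a7efb86f274b30fe1247f31420)) (.leaf (nat_lit 0x222b25ea0ebc72da6f965766fc307f124fe31420))) (.node (nat_lit 0x222b2742375eb9bb7553cb69863fe21a7c639420) (.leaf (nat_lit 0x222b272e3a85f99c75acdaa969bfc61a7e239420)) (.leaf (nat_lit 0x222b2742375eb9bb7553cb69863fe21a7c639420))))))) (.node (nat_lit 0x222b2d3aeb8c1bc9ab2feef0ca5847f24c3f9420) (.node (nat_lit 0x222b28c1da5dfbbc71b3ca9f6653c23a7e619420) (.node (nat_lit 0x222b28457776b7db6554e35987cfe3327c711420) (.node (nat_lit 0x222b276a30baf8d6777656693c3cdf1a45e39420) (.leaf (nat_lit 0x222b275e2bd438a9f7386ee8cb3c5e1a4df39420)) (.node (nat_lit 0x222b28397a8df7cc65afea996a4fc7327e311420)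 (.leaf (nat_lit 0x222b276a30baf8d6777656693c3cdf1a45e39420)) (.leaf (nat_lit 0x222b28397a8df7cc65afea996a4fc7327e311420)))) (.node (nat_lit 0x222b286971bbb6d7e7b657194c4cff3247e11420) (.node (nat_lit 0x222b285d6ed476aa67986f58fb4c7e324ff11420) (.leaf (nat_lit 0x222b28457776b7db6554e35987cfe3327c711420)) (.leaf (nat_lit 0x222b285d6ed476aa67986f58fb4c7e324ff11420))) (.node (nat_lit 0x222b28add786bb9b714cdb5f89d3e63a7c219420) (.leaf (nat_lit 0x222b286971bbb6d7e7b657194c4cff3247e11420)) (.leaf (nat_lit 0x222b28add786bb9b714cdb5f89d3e63a7c219420))))) (.node (nat_lit 0x222b2bbb508ad5c6376fee6d3a60c7fa443f1420) (.node (nat_lit 0x222b28e9cbbc3ad9f33656decc505f3a4de19420) (.node (nat_lit 0x222b28ddd0d2faa673786e5f3b50de3a45f19420) (.leaf (nat_lit 0x222b28c1da5dfbbc71b3ca9f6653c23a7e619420)) (.leaf (nat_lit 0x222b28ddd0d2faa673786e5f3b50de3a45f19420))) (.node (nat_lit 0x222b2baf4e84559a378cdf6cf9e066fa4e2f1420)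 (.leaf (nat_lit 0x222b28e9cbbc3ad9f33656decc505f3a4de19420)) (.leaf (nat_lit 0x222b2baf4e84559a378cdf6cf9e066fa4e2f1420)))) (.node (nat_lit 0x222b2bc74b7415d9b734e6ecc7e043fa4c7f1420) (.node (nat_lit 0x222b2bc3515b95b7b7b3cf2d4660e2fa466f1420) (.leaf (nat_lit 0x222b2bbb508ad5c6376fee6d3a60c7fa443f1420)) (.leaf (nat_lit 0x222b2bc3515b95b7b7b3cf2d4660e2fa466f1420))) (.node (nat_lit 0x222b2d2ef1839b97abacdf3149d8e6f2462f9420) (.leaf (nat_lit 0x222b2bc74b7415d9b734e6ecc7e043fa4c7f1420)) (.leaf (nat_lit 0x222b2d2ef1839b97abacdf3149d8e6f2462f9420)))))) (.node (nat_lit 0x222fa72e3584994c4dbd7ab76e64a61f9223fc20) (.node (nat_lit 0x222fa5ba128d68cb3d599b798df527178a337c20) (.node (nat_lit 0x222b2d42ee5c5bba2b93cf70f65862f24e6f9420) (.leaf (nat_lit 0x222b2d3aeb8c1bc9ab2feef0ca5847f24c3f9420)) (.node (nat_lit 0x222b2d46f072dbd62b74e67137d8c3f2447f9420) (.leaf (nat_lit 0x222b2d42ee5c5bba2b93cf70f65862f24e6f9420))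 (.leaf (nat_lit 0x222b2d46f072dbd62b74e67137d8c3f2447f9420)))) (.node (nat_lit 0x222fa5ca11aba8acbe786b39bb74e51786937c20) (.node (nat_lit 0x222fa5c61574a93c3dbb62b96cf4a31792737c20) (.leaf (nat_lit 0x222fa5ba128d68cb3d599b798df527178a337c20)) (.leaf (nat_lit 0x222fa5c61574a93c3dbb62b96cf4a31792737c20))) (.node (nat_lit 0x222fa5d60e9468ddbd9654f99c7469178e537c20) (.leaf (nat_lit 0x222fa5ca11aba8acbe786b39bb74e51786937c20)) (.leaf (nat_lit 0x222fa5d60e9468ddbd9654f99c7469178e537c20))))) (.node (nat_lit 0x222fa839758c9ecc51b99abb6df0a73792317c20) (.node (nat_lit 0x222fa74a2bac18ae4e986bf7db64451f8c93fc20) (.node (nat_lit 0x222fa742325d58fb4d5ca3778ee5221f8a63fc20) (.leaf (nat_lit 0x222fa72e3584994c4dbd7ab76e64a61f9223fc20)) (.leaf (nat_lit 0x222fa742325d58fb4d5ca3778ee5221f8a63fc20))) (.node (nat_lit 0x222fa7563092d8decdf65537cc64c91f8453fc20) (.leaf (nat_lit 0x222fa74a2bac18ae4e986bf7db64451f8c93fc20))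 (.leaf (nat_lit 0x222fa7563092d8decdf65537cc64c91f8453fc20)))) (.node (nat_lit 0x222fa8496eac5eadd1986cfb9b7065378e917c20) (.node (nat_lit 0x222fa84572755f3b515b637b8cf123378a717c20) (.leaf (nat_lit 0x222fa839758c9ecc51b99abb6df0a73792317c20)) (.leaf (nat_lit 0x222fa84572755f3b515b637b8cf123378a717c20))) (.node (nat_lit 0x222fa85571939edcd276533bbc70e93786517c20) (.leaf (nat_lit 0x222fa8496eac5eadd1986cfb9b7065378e917c20)) (.leaf (nat_lit 0x222fa85571939edcd276533bbc70e93786517c20)))))))) (.node (nat_lit 0x22357942ae5c5b4caa7d7b31be58624fce62f820) (.node (nat_lit 0x223575d611939eadd1986cfb9b70e917c6537820) (.node (nat_lit 0x222fa946ab74153e369b63eddce0434f8c72fc20) (.node (nat_lit 0x222fa8d5cb9426de329653f3dc6c493f8c51fc20) (.node (nat_lit 0x222fa8c1d55ca6fc31bca2b36eeca23f9261fc20) (.leaf (nat_lit 0x222fa8add285674b315d7b738e6d263f8a21fc20)) (.node (nat_lit 0x222fa8c9d0aae6aeb1f86d33cb6cc53f8491fc20)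 (.leaf (nat_lit 0x222fa8c1d55ca6fc31bca2b36eeca23f9261fc20)) (.leaf (nat_lit 0x222fa8c9d0aae6aeb1f86d33cb6cc53f8491fc20)))) (.node (nat_lit 0x222fa93ab08ad4ceb5f99d2dcde0c74f8432fc20) (.node (nat_lit 0x222fa92eae84554db59d7ced9e60664f8e22fc20) (.leaf (nat_lit 0x222fa8d5cb9426de329653f3dc6c493f8c51fc20)) (.leaf (nat_lit 0x222fa92eae84554db59d7ced9e60664f8e22fc20))) (.node (nat_lit 0x222fa942b15b94fcb67ca32dbee0e24f8662fc20) (.leaf (nat_lit 0x222fa93ab08ad4ceb5f99d2dcde0c74f8432fc20)) (.leaf (nat_lit 0x222fa942b15b94fcb67ca32dbee0e24f8662fc20))))) (.node (nat_lit 0x222faac65072db3ea9fb6531ccd8c32f8474fc20) (.node (nat_lit 0x222faaba4b8c1ace2a999bf1ddd8472f8c34fc20) (.node (nat_lit 0x222faaae51839b4caa7d7b31be58e62f8624fc20) (.leaf (nat_lit 0x222fa946ab74153e369b63eddce0434f8c72fc20)) (.leaf (nat_lit 0x222faaae51839b4caa7d7b31be58e62f8624fc20))) (.node (nat_lit 0x222faac24e5c5afda99ca4f19ed8622f8e64fc20)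 (.leaf (nat_lit 0x222faaba4b8c1ace2a999bf1ddd8472f8c34fc20)) (.leaf (nat_lit 0x222faac24e5c5afda99ca4f19ed8622f8e64fc20)))) (.node (nat_lit 0x223575c612755ecc51b99abb6df12317ca737820) (.node (nat_lit 0x223575ba158c9f3b515b637b8cf0a717d2337820) (.leaf (nat_lit 0x222faac65072db3ea9fb6531ccd8c32f8474fc20)) (.leaf (nat_lit 0x223575ba158c9f3b515b637b8cf0a717d2337820))) (.node (nat_lit 0x223575ca0eac5edcd276533bbc706517ce937820) (.leaf (nat_lit 0x223575c612755ecc51b99abb6df12317ca737820)) (.leaf (nat_lit 0x223575ca0eac5edcd276533bbc706517ce937820)))))) (.node (nat_lit 0x2235784971aba8ddbd9654f99c74e537c6917820) (.node (nat_lit 0x2235774a30aae6de329653f3dc6cc51fc493f820) (.node (nat_lit 0x2235772e328566fc31bca2b36eed261fca23f820) (.leaf (nat_lit 0x223575d611939eadd1986cfb9b70e917c6537820)) (.node (nat_lit 0x22357742355ca74b315d7b738e6ca21fd263f820) (.leaf (nat_lit 0x2235772e328566fc31bca2b36eed261fca23f820))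 (.leaf (nat_lit 0x22357742355ca74b315d7b738e6ca21fd263f820)))) (.node (nat_lit 0x22357839728d693c3dbb62b96cf52737ca317820) (.node (nat_lit 0x223577562b9426aeb1f86d33cb6c491fcc53f820) (.leaf (nat_lit 0x2235774a30aae6de329653f3dc6cc51fc493f820)) (.leaf (nat_lit 0x223577562b9426aeb1f86d33cb6c491fcc53f820))) (.node (nat_lit 0x223578457574a8cb3d599b798df4a337d2717820) (.leaf (nat_lit 0x22357839728d693c3dbb62b96cf52737ca317820)) (.leaf (nat_lit 0x223578457574a8cb3d599b798df4a337d2717820))))) (.node (nat_lit 0x223578c9cbac18decdf65537cc64453fcc91f820) (.node (nat_lit 0x223578add58498fb4d5ca3778ee4a63fd221f820) (.node (nat_lit 0x223578556e9468acbe786b39bb746937ce517820) (.leaf (nat_lit 0x2235784971aba8ddbd9654f99c74e537c6917820)) (.leaf (nat_lit 0x223578556e9468acbe786b39bb746937ce517820))) (.node (nat_lit 0x223578c1d25d594c4dbd7ab76e65223fca61f820) (.leaf (nat_lit 0x223578add58498fb4d5ca3778ee4a63fd221f820))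 (.leaf (nat_lit 0x223578c1d25d594c4dbd7ab76e65223fca61f820)))) (.node (nat_lit 0x2235792eb1839afda99ca4f19ed8e64fc622f820) (.node (nat_lit 0x223578d5d092d8ae4e986bf7db64c93fc451f820) (.leaf (nat_lit 0x223578c9cbac18decdf65537cc64453fcc91f820)) (.leaf (nat_lit 0x223578d5d092d8ae4e986bf7db64c93fc451f820))) (.node (nat_lit 0x2235793aab8c1b3ea9fb6531ccd8474fcc32f820) (.leaf (nat_lit 0x2235792eb1839afda99ca4f19ed8e64fc622f820)) (.leaf (nat_lit 0x2235793aab8c1b3ea9fb6531ccd8474fcc32f820))))))) (.node (nat_lit 0x2a593a55f69635be5dcbcc5bd82bc439be818820) (.node (nat_lit 0x2a5937d69895afbeea2bcb95c837e419bc838820) (.node (nat_lit 0x22357aba508ad53e369b63eddce0c72fc434f820) (.node (nat_lit 0x22357946b072dace2a999bf1ddd8c34fc472f820) (.leaf (nat_lit 0x22357942ae5c5b4caa7d7b31be58624fce62f820)) (.node (nat_lit 0x22357aae4e8454fcb67ca32dbee0662fce24f820) (.leaf (nat_lit 0x22357946b072dace2a999bf1ddd8c34fc472f820))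 (.leaf (nat_lit 0x22357aae4e8454fcb67ca32dbee0662fce24f820)))) (.node (nat_lit 0x22357ac64b7414ceb5f99d2dcde0432fcc74f820) (.node (nat_lit 0x22357ac2515b954db59d7ced9e60e22fc664f820) (.leaf (nat_lit 0x22357aba508ad53e369b63eddce0c72fc434f820)) (.leaf (nat_lit 0x22357ac2515b954db59d7ced9e60e22fc664f820))) (.node (nat_lit 0x2a5937ca96ae2f9e69d0dc55d5b7c819be438820) (.leaf (nat_lit 0x22357ac64b7414ceb5f99d2dcde0432fcc74f820)) (.leaf (nat_lit 0x2a5937ca96ae2f9e69d0dc55d5b7c819be438820))))) (.node (nat_lit 0x2a593952b67e33ae6dcabc57d6c3c321be740820) (.node (nat_lit 0x2a5937e292b56f15eb3c76d50eb49e1991f38820) (.node (nat_lit 0x2a5937da95c4aee86b7d8e54be351f1989e38820) (.leaf (nat_lit 0x2a5937d69895afbeea2bcb95c837e419bc838820)) (.leaf (nat_lit 0x2a5937da95c4aee86b7d8e54be351f1989e38820))) (.node (nat_lit 0x2a59393eb8a5b37eee2dd397c543e721bc340820) (.leaf (nat_lit 0x2a5937e292b56f15eb3c76d50eb49e1991f38820))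 (.leaf (nat_lit 0x2a59393eb8a5b37eee2dd397c543e721bc340820)))) (.node (nat_lit 0x2a593962b4b3f316ef5c75d6aec0fe2187f40820) (.node (nat_lit 0x2a59395aafc532e56efd8e96de407f218fe40820) (.leaf (nat_lit 0x2a593952b67e33ae6dcabc57d6c3c321be740820)) (.leaf (nat_lit 0x2a59395aafc532e56efd8e96de407f218fe40820))) (.node (nat_lit 0x2a593a49f8adb59ede30db9bc5abe839bc418820) (.leaf (nat_lit 0x2a593962b4b3f316ef5c75d6aec0fe2187f40820)) (.leaf (nat_lit 0x2a593a49f8adb59ede30db9bc5abe839bc418820)))))) (.node (nat_lit 0x2a593b3f12a55d75c72dd6f9057487f1903f8820) (.node (nat_lit 0x2a593abe56a6377e65cdd461d52fc741be320820) (.node (nat_lit 0x2a593a59f2c574e5df3d8edb0e289f3991e18820) (.leaf (nat_lit 0x2a593a55f69635be5dcbcc5bd82bc439be818820)) (.node (nat_lit 0x2a593a61f5b4b5185f7c765abea91e3989f18820) (.leaf (nat_lit 0x2a593a59f2c574e5df3d8edb0e289f3991e18820)) (.leaf (nat_lit 0x2a593a61f5b4b5185f7c765abea91e3989f18820))))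 (.node (nat_lit 0x2a593ada54c3f6e6e75d8de0ae2cff4187e20820) (.node (nat_lit 0x2a593ad2587db7aee62abba1c6afe341bc720820) (.leaf (nat_lit 0x2a593abe56a6377e65cdd461d52fc741be320820)) (.leaf (nat_lit 0x2a593ad2587db7aee62abba1c6afe341bc720820))) (.node (nat_lit 0x2a593ae24fb5371566fc76a0deac7e418ff20820) (.leaf (nat_lit 0x2a593ada54c3f6e6e75d8de0ae2cff4187e20820)) (.leaf (nat_lit 0x2a593ae24fb5371566fc76a0deac7e418ff20820))))) (.node (nat_lit 0x2a593c3ed5a4a3783b6dd67ab57107f9883f0820) (.node (nat_lit 0x2a593b53157c9da8476abe78b6f503f1887f8820) (.node (nat_lit 0x2a593b4b14abdd96c750ddf8a5f4e8f1864f8820) (.leaf (nat_lit 0x2a593b3f12a55d75c72dd6f9057487f1903f8820)) (.leaf (nat_lit 0x2a593b4b14abdd96c750ddf8a5f4e8f1864f8820))) (.node (nat_lit 0x2a593b570f951db546ebceb8d87464f18e8f8820) (.leaf (nat_lit 0x2a593b53157c9da8476abe78b6f503f1887f8820)) (.leaf (nat_lit 0x2a593b570f951db546ebceb8d87464f18e8f8820))))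 (.node (nat_lit 0x2a593c52d27d63a5bb2abefb06f083f9907f0820) (.node (nat_lit 0x2a593c4acfad23953af0debad5f068f98e4f0820) (.leaf (nat_lit 0x2a593c3ed5a4a3783b6dd67ab57107f9883f0820)) (.leaf (nat_lit 0x2a593c4acfad23953af0debad5f068f98e4f0820))) (.node (nat_lit 0x2a593c56d493e3b6bb4bcdfaa870e4f9868f0820) (.leaf (nat_lit 0x2a593c52d27d63a5bb2abefb06f083f9907f0820)) (.leaf (nat_lit 0x2a593c56d493e3b6bb4bcdfaa870e4f9868f0820))))))))) (.node (nat_lit 0x2a66cabe58a5b3ae6dcabc57d6c3e740bc321820) (.node (nat_lit 0x2a6557da8cc4faa8737a6e62bbb85f1a0de39020) (.node (nat_lit 0x2a5f4ae253b33ab572fb86a2dcb8de41c5f20c20) (.node (nat_lit 0x2a5f4962acb4f8b6f75b85dcacc45e21cdf40c20) (.node (nat_lit 0x2a5f466275b4b4b8dfbb871aeca91e11c9f30c20) (.node (nat_lit 0x2a5f4656769635ddde0ee2db98abc411fe830c20) (.leaf (nat_lit 0x2a5f464a78adb5ccdd71ec1bb72be811fc430c20)) (.node (nat_lit 0x2a5f465a72c575075f995f5b1da89f11d1e30c20)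 (.leaf (nat_lit 0x2a5f4656769635ddde0ee2db98abc411fe830c20)) (.leaf (nat_lit 0x2a5f465a72c575075f995f5b1da89f11d1e30c20)))) (.node (nat_lit 0x2a5f494eb865b97cf56dd41db547e221fc640c20) (.node (nat_lit 0x2a5f4932b69e39adf60abadd96c7c621fe240c20) (.leaf (nat_lit 0x2a5f466275b4b4b8dfbb871aeca91e11c9f30c20)) (.leaf (nat_lit 0x2a5f4932b69e39adf60abadd96c7c621fe240c20))) (.node (nat_lit 0x2a5f495ab3c3390576f95e9cddc4df21c5e40c20) (.leaf (nat_lit 0x2a5f494eb865b97cf56dd41db547e221fc640c20)) (.leaf (nat_lit 0x2a5f495ab3c3390576f95e9cddc4df21c5e40c20))))) (.node (nat_lit 0x2a5f49e192b56eb76b9b87551cb49e31d1f10c20) (.node (nat_lit 0x2a5f49d59895afdce96ee415b8b7e431fc810c20) (.node (nat_lit 0x2a5f49c996ae2fcdea11ead59737c831fe410c20) (.leaf (nat_lit 0x2a5f4962acb4f8b6f75b85dcacc45e21cdf40c20)) (.leaf (nat_lit 0x2a5f49c996ae2fcdea11ead59737c831fe410c20))) (.node (nat_lit 0x2a5f49d995c4af08ebb95f14edb51f31c9e10c20)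 (.leaf (nat_lit 0x2a5f49d59895afdce96ee415b8b7e431fc810c20)) (.leaf (nat_lit 0x2a5f49d995c4af08ebb95f14edb51f31c9e10c20)))) (.node (nat_lit 0x2a5f4ace56663b7df20dd2e3953bc241fe620c20) (.node (nat_lit 0x2a5f4ab2589dbbacf16abc23b6bbe641fc220c20) (.leaf (nat_lit 0x2a5f49e192b56eb76b9b87551cb49e31d1f10c20)) (.leaf (nat_lit 0x2a5f4ab2589dbbacf16abc23b6bbe641fc220c20))) (.node (nat_lit 0x2a5f4ada4cc4fb06f3595de2adb85f41cde20c20) (.leaf (nat_lit 0x2a5f4ace56663b7df20dd2e3953bc241fe620c20)) (.leaf (nat_lit 0x2a5f4ada4cc4fb06f3595de2adb85f41cde20c20)))))) (.node (nat_lit 0x2a5f4c4ed5649778c3add732e56d02f9c86f0c20) (.node (nat_lit 0x2a5f4b4f126561772f8dd777156482f1d06f8c20) (.node (nat_lit 0x2a5f4b33159ca1a8afaabf36e6e506f1c82f8c20) (.leaf (nat_lit 0x2a5f4ae253b33ab572fb86a2dcb8de41c5f20c20)) (.node (nat_lit 0x2a5f4b4b0cace1c6af51edf6a76448f1cc4f8c20) (.leaf (nat_lit 0x2a5f4b33159ca1a8afaabf36e6e506f1c82f8c20))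 (.leaf (nat_lit 0x2a5f4b4b0cace1c6af51edf6a76448f1cc4f8c20)))) (.node (nat_lit 0x2a5f4c32d29d57a7438abf7316ec86f9d02f0c20) (.node (nat_lit 0x2a5f4b57139321d52eeee6b6d8e4c4f1c48f8c20) (.leaf (nat_lit 0x2a5f4b4f126561772f8dd777156482f1d06f8c20)) (.leaf (nat_lit 0x2a5f4b57139321d52eeee6b6d8e4c4f1c48f8c20))) (.node (nat_lit 0x2a5f4c4ad3ab17c542f1eeb2d76cc8f9c44f0c20) (.leaf (nat_lit 0x2a5f4c32d29d57a7438abf7316ec86f9d02f0c20)) (.leaf (nat_lit 0x2a5f4c4ad3ab17c542f1eeb2d76cc8f9c44f0c20))))) (.node (nat_lit 0x2a65565a74c3f6a7679a6f611bacff1207e31020) (.node (nat_lit 0x2a65563e76a637dbe54ee361a8afc7123e331020) (.node (nat_lit 0x2a5f4c56cc94d7d6c34ee5f2a8ec44f9cc8f0c20) (.leaf (nat_lit 0x2a5f4c4ed5649778c3add732e56d02f9c86f0c20)) (.leaf (nat_lit 0x2a5f4c56cc94d7d6c34ee5f2a8ec44f9cc8f0c20))) (.node (nat_lit 0x2a655652787db7cd65b1eaa1772fe3123c731020) (.leaf (nat_lit 0x2a65563e76a637dbe54ee361a8afc7123e331020))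 (.leaf (nat_lit 0x2a655652787db7cd65b1eaa1772fe3123c731020)))) (.node (nat_lit 0x2a6557b2989dbbbd71abcaa3783be61a3c239020) (.node (nat_lit 0x2a6556626fb536d8e7b75720ed2c7e120ff31020) (.leaf (nat_lit 0x2a65565a74c3f6a7679a6f611bacff1207e31020)) (.leaf (nat_lit 0x2a6556626fb536d8e7b75720ed2c7e120ff31020))) (.node (nat_lit 0x2a6557ce96663b9bf150db63a5bbc21a3e639020) (.leaf (nat_lit 0x2a6557b2989dbbbd71abcaa3783be61a3c239020)) (.leaf (nat_lit 0x2a6557ce96663b9bf150db63a5bbc21a3e639020))))))) (.node (nat_lit 0x2a655c3ecca4dbd82b6ee674b8dc47fa0c3f1020) (.node (nat_lit 0x2a655a4df865b99d75b0da9d75c7e23a3c619020) (.node (nat_lit 0x2a6559d1967e33cbed51eb57a743c3323e711020) (.node (nat_lit 0x2a6557e293b33ad5f33756e30d38de1a05f39020) (.leaf (nat_lit 0x2a6557da8cc4faa8737a6e62bbb85f1a0de39020)) (.node (nat_lit 0x2a6559bd98a5b3dd6daee29778c3e7323c311020) (.leaf (nat_lit 0x2a6557e293b33ad5f33756e30d38de1a05f39020))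 (.leaf (nat_lit 0x2a6559bd98a5b3dd6daee29778c3e7323c311020)))) (.node (nat_lit 0x2a6559e194b3f2d76f9757571d40fe3207f11020) (.node (nat_lit 0x2a6559d98fc532a8efba6f16ebc07f320fe11020) (.leaf (nat_lit 0x2a6559d1967e33cbed51eb57a743c3323e711020)) (.leaf (nat_lit 0x2a6559d98fc532a8efba6f16ebc07f320fe11020))) (.node (nat_lit 0x2a655a31f69e39bbf54bcb5da847c63a3e219020) (.leaf (nat_lit 0x2a6559e194b3f2d76f9757571d40fe3207f11020)) (.leaf (nat_lit 0x2a655a31f69e39bbf54bcb5da847c63a3e219020))))) (.node (nat_lit 0x2a655b3f13a315d5b72ee6ef08e8c7f2043f9020) (.node (nat_lit 0x2a655a61ecb4f8d87777565cbd445e3a0df19020) (.node (nat_lit 0x2a655a59f3c338a5f73a6edd0bc4df3a05e19020) (.leaf (nat_lit 0x2a655a4df865b99d75b0da9d75c7e23a3c619020)) (.leaf (nat_lit 0x2a655a59f3c338a5f73a6edd0bc4df3a05e19020))) (.node (nat_lit 0x2a655b330f9d15b8b7abcf2ee86866f20e2f9020) (.leaf (nat_lit 0x2a655a61ecb4f8d87777565cbd445e3a0df19020))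 (.leaf (nat_lit 0x2a655b330f9d15b8b7abcf2ee86866f20e2f9020)))) (.node (nat_lit 0x2a655b530c7cd5c83771ee6eb76843f20c7f9020) (.node (nat_lit 0x2a655b4f1463d5973790df6f15e8e2f2066f9020) (.leaf (nat_lit 0x2a655b3f13a315d5b72ee6ef08e8c7f2043f9020)) (.leaf (nat_lit 0x2a655b4f1463d5973790df6f15e8e2f2066f9020))) (.node (nat_lit 0x2a655c32d49bdbb72b8bcf75185ce6fa062f1020) (.leaf (nat_lit 0x2a655b530c7cd5c83771ee6eb76843f20c7f9020)) (.leaf (nat_lit 0x2a655c32d49bdbb72b8bcf75185ce6fa062f1020)))))) (.node (nat_lit 0x2a66c93eb6a637aee62abba1c6afc720be341820) (.node (nat_lit 0x2a66c7ca98adb5be5dcbcc5bd82be818bc439820) (.node (nat_lit 0x2a655c4ecf651b98abb0df34e5dc62fa0e6f1020) (.leaf (nat_lit 0x2a655c3ecca4dbd82b6ee674b8dc47fa0c3f1020)) (.node (nat_lit 0x2a655c52d37b1bc5ab31eef5075cc3fa047f1020) (.leaf (nat_lit 0x2a655c4ecf651b98abb0df34e5dc62fa0e6f1020)) (.leaf (nat_lit 0x2a655c52d37b1bc5ab31eef5075cc3fa047f1020))))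 (.node (nat_lit 0x2a66c7da92c575185f7c765abea89f1891e39820) (.node (nat_lit 0x2a66c7d69696359ede30db9bc5abc418be839820) (.leaf (nat_lit 0x2a66c7ca98adb5be5dcbcc5bd82be818bc439820)) (.leaf (nat_lit 0x2a66c7d69696359ede30db9bc5abc418be839820))) (.node (nat_lit 0x2a66c7e295b4b4e5df3d8edb0e291e1889f39820) (.leaf (nat_lit 0x2a66c7da92c575185f7c765abea89f1891e39820)) (.leaf (nat_lit 0x2a66c7e295b4b4e5df3d8edb0e291e1889f39820))))) (.node (nat_lit 0x2a66ca49f6ae2fbeea2bcb95c837c838be419820) (.node (nat_lit 0x2a66c95ab4c3f71566fc76a0deacff2087e41820) (.node (nat_lit 0x2a66c952b87db77e65cdd461d52fe320bc741820) (.leaf (nat_lit 0x2a66c93eb6a637aee62abba1c6afc720be341820)) (.leaf (nat_lit 0x2a66c952b87db77e65cdd461d52fe320bc741820))) (.node (nat_lit 0x2a66c962afb536e6e75d8de0ae2c7e208ff41820) (.leaf (nat_lit 0x2a66c95ab4c3f71566fc76a0deacff2087e41820)) (.leaf (nat_lit 0x2a66c962afb536e6e75d8de0ae2c7e208ff41820))))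 (.node (nat_lit 0x2a66ca59f5c4af15eb3c76d50eb51f3889e19820) (.node (nat_lit 0x2a66ca55f895af9e69d0dc55d5b7e438bc819820) (.leaf (nat_lit 0x2a66ca49f6ae2fbeea2bcb95c837c838be419820)) (.leaf (nat_lit 0x2a66ca55f895af9e69d0dc55d5b7e438bc819820))) (.node (nat_lit 0x2a66ca61f2b56ee86b7d8e54be349e3891f19820) (.leaf (nat_lit 0x2a66ca59f5c4af15eb3c76d50eb51f3889e19820)) (.leaf (nat_lit 0x2a66ca61f2b56ee86b7d8e54be349e3891f19820)))))))) (.node (nat_lit 0x2a68fb4f156497a7438abf7316ed02f0c86f9c20) (.node (nat_lit 0x2a68f66272b56f08ebb95f14edb49e10d1f31c20) (.node (nat_lit 0x2a66cb571493e3953af0debad5f0e4f0868f9820) (.node (nat_lit 0x2a66cae254b3f2e56efd8e96de40fe4087f21820) (.node (nat_lit 0x2a66cad2567e337eee2dd397c543c340be721820) (.leaf (nat_lit 0x2a66cabe58a5b3ae6dcabc57d6c3e740bc321820)) (.node (nat_lit 0x2a66cada4fc53316ef5c75d6aec07f408fe21820) (.leaf (nat_lit 0x2a66cad2567e337eee2dd397c543c340be721820))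 (.leaf (nat_lit 0x2a66cada4fc53316ef5c75d6aec07f408fe21820)))) (.node (nat_lit 0x2a66cb4b0fad23b6bb4bcdfaa87068f08e4f9820) (.node (nat_lit 0x2a66cb3f15a4a3a5bb2abefb06f107f0883f9820) (.leaf (nat_lit 0x2a66cae254b3f2e56efd8e96de40fe4087f21820)) (.leaf (nat_lit 0x2a66cb3f15a4a3a5bb2abefb06f107f0883f9820))) (.node (nat_lit 0x2a66cb53127d63783b6dd67ab57083f0907f9820) (.leaf (nat_lit 0x2a66cb4b0fad23b6bb4bcdfaa87068f08e4f9820)) (.leaf (nat_lit 0x2a66cb53127d63783b6dd67ab57083f0907f9820))))) (.node (nat_lit 0x2a66cc56cf951d96c750ddf8a5f464f88e8f1820) (.node (nat_lit 0x2a66cc4ad4abddb546ebceb8d874e8f8864f1820) (.node (nat_lit 0x2a66cc3ed2a55da8476abe78b6f487f8903f1820) (.leaf (nat_lit 0x2a66cb571493e3953af0debad5f0e4f0868f9820)) (.leaf (nat_lit 0x2a66cc3ed2a55da8476abe78b6f487f8903f1820))) (.node (nat_lit 0x2a66cc52d57c9d75c72dd6f9057503f8887f1820) (.leaf (nat_lit 0x2a66cc4ad4abddb546ebceb8d874e8f8864f1820))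 (.leaf (nat_lit 0x2a66cc52d57c9d75c72dd6f9057503f8887f1820)))) (.node (nat_lit 0x2a68f6567895afcdea11ead59737e410fc831c20) (.node (nat_lit 0x2a68f64a76ae2fdce96ee415b8b7c810fe431c20) (.leaf (nat_lit 0x2a66cc56cf951d96c750ddf8a5f464f88e8f1820)) (.leaf (nat_lit 0x2a68f64a76ae2fdce96ee415b8b7c810fe431c20))) (.node (nat_lit 0x2a68f65a75c4aeb76b9b87551cb51f10c9e31c20) (.leaf (nat_lit 0x2a68f6567895afcdea11ead59737e410fc831c20)) (.leaf (nat_lit 0x2a68f65a75c4aeb76b9b87551cb51f10c9e31c20)))))) (.node (nat_lit 0x2a68f9d992c574b8dfbb871aeca89f30d1e11c20) (.node (nat_lit 0x2a68f95aacc4fab572fb86a2dcb85f20cde41c20) (.node (nat_lit 0x2a68f932b89dbb7df20dd2e3953be620fc241c20) (.leaf (nat_lit 0x2a68f66272b56f08ebb95f14edb49e10d1f31c20)) (.node (nat_lit 0x2a68f94eb6663bacf16abc23b6bbc220fe641c20) (.leaf (nat_lit 0x2a68f932b89dbb7df20dd2e3953be620fc241c20)) (.leaf (nat_lit 0x2a68f94eb6663bacf16abc23b6bbc220fe641c20))))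 (.node (nat_lit 0x2a68f9c998adb5ddde0ee2db98abe830fc411c20) (.node (nat_lit 0x2a68f962b3b33b06f3595de2adb8de20c5f41c20) (.leaf (nat_lit 0x2a68f95aacc4fab572fb86a2dcb85f20cde41c20)) (.leaf (nat_lit 0x2a68f962b3b33b06f3595de2adb8de20c5f41c20))) (.node (nat_lit 0x2a68f9d5969635ccdd71ec1bb72bc430fe811c20) (.leaf (nat_lit 0x2a68f9c998adb5ddde0ee2db98abe830fc411c20)) (.leaf (nat_lit 0x2a68f9d5969635ccdd71ec1bb72bc430fe811c20))))) (.node (nat_lit 0x2a68fada53c338b6f75b85dcacc4df40c5e21c20) (.node (nat_lit 0x2a68fab2569e397cf56dd41db547c640fe221c20) (.node (nat_lit 0x2a68f9e195b4b5075f995f5b1da91e30c9f11c20) (.leaf (nat_lit 0x2a68f9d992c574b8dfbb871aeca89f30d1e11c20)) (.leaf (nat_lit 0x2a68f9e195b4b5075f995f5b1da91e30c9f11c20))) (.node (nat_lit 0x2a68face5865b9adf60abadd96c7e240fc621c20) (.leaf (nat_lit 0x2a68fab2569e397cf56dd41db547c640fe221c20)) (.leaf (nat_lit 0x2a68face5865b9adf60abadd96c7e240fc621c20))))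 (.node (nat_lit 0x2a68fb33129d5778c3add732e56c86f0d02f9c20) (.node (nat_lit 0x2a68fae24cb4f90576f95e9cddc45e40cdf21c20) (.leaf (nat_lit 0x2a68fada53c338b6f75b85dcacc4df40c5e21c20)) (.leaf (nat_lit 0x2a68fae24cb4f90576f95e9cddc45e40cdf21c20))) (.node (nat_lit 0x2a68fb4b13ab17d6c34ee5f2a8ecc8f0c44f9c20) (.leaf (nat_lit 0x2a68fb33129d5778c3add732e56c86f0d02f9c20)) (.leaf (nat_lit 0x2a68fb4b13ab17d6c34ee5f2a8ecc8f0c44f9c20))))))) (.node (nat_lit 0x2a6b29d1987db7dbe54ee361a8afe3313c712020) (.node (nat_lit 0x2a6b2652767e33dd6daee29778c3c3113e732020) (.node (nat_lit 0x2a68fc4accace1d52eeee6b6d8e448f8cc4f1c20) (.node (nat_lit 0x2a68fb570c94d7c542f1eeb2d76c44f0cc8f9c20) (.leaf (nat_lit 0x2a68fb4f156497a7438abf7316ed02f0c86f9c20)) (.node (nat_lit 0x2a68fc32d59ca1772f8dd777156506f8c82f1c20) (.leaf (nat_lit 0x2a68fb570c94d7c542f1eeb2d76c44f0cc8f9c20)) (.leaf (nat_lit 0x2a68fc32d59ca1772f8dd777156506f8c82f1c20))))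 (.node (nat_lit 0x2a68fc56d39321c6af51edf6a764c4f8c48f1c20) (.node (nat_lit 0x2a68fc4ed26561a8afaabf36e6e482f8d06f1c20) (.leaf (nat_lit 0x2a68fc4accace1d52eeee6b6d8e448f8cc4f1c20)) (.leaf (nat_lit 0x2a68fc4ed26561a8afaabf36e6e482f8d06f1c20))) (.node (nat_lit 0x2a6b263e78a5b3cbed51eb57a743e7113c332020) (.leaf (nat_lit 0x2a68fc56d39321c6af51edf6a764c4f8c48f1c20)) (.leaf (nat_lit 0x2a6b263e78a5b3cbed51eb57a743e7113c332020))))) (.node (nat_lit 0x2a6b27ce9865b9bbf54bcb5da847e2193c63a020) (.node (nat_lit 0x2a6b266274b3f2a8efba6f16ebc0fe1107f32020) (.node (nat_lit 0x2a6b265a6fc532d76f9757571d407f110fe32020) (.leaf (nat_lit 0x2a6b2652767e33dd6daee29778c3c3113e732020)) (.leaf (nat_lit 0x2a6b265a6fc532d76f9757571d407f110fe32020))) (.node (nat_lit 0x2a6b27b2969e399d75b0da9d75c7c6193e23a020) (.leaf (nat_lit 0x2a6b266274b3f2a8efba6f16ebc0fe1107f32020)) (.leaf (nat_lit 0x2a6b27b2969e399d75b0da9d75c7c6193e23a020))))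 (.node (nat_lit 0x2a6b27e28cb4f8a5f73a6edd0bc45e190df3a020) (.node (nat_lit 0x2a6b27da93c338d87777565cbd44df1905e3a020) (.leaf (nat_lit 0x2a6b27ce9865b9bbf54bcb5da847e2193c63a020)) (.leaf (nat_lit 0x2a6b27da93c338d87777565cbd44df1905e3a020))) (.node (nat_lit 0x2a6b29bd96a637cd65b1eaa1772fc7313e312020) (.leaf (nat_lit 0x2a6b27e28cb4f8a5f73a6edd0bc45e190df3a020)) (.leaf (nat_lit 0x2a6b29bd96a637cd65b1eaa1772fc7313e312020)))))) (.node (nat_lit 0x2a6b2b33149bdb98abb0df34e5dce6f1062fa020) (.node (nat_lit 0x2a6b2a31f89dbb9bf150db63a5bbe6393c21a020) (.node (nat_lit 0x2a6b29d994c3f6d8e7b75720ed2cff3107e12020) (.leaf (nat_lit 0x2a6b29d1987db7dbe54ee361a8afe3313c712020)) (.node (nat_lit 0x2a6b29e18fb536a7679a6f611bac7e310ff12020) (.leaf (nat_lit 0x2a6b29d994c3f6d8e7b75720ed2cff3107e12020)) (.leaf (nat_lit 0x2a6b29e18fb536a7679a6f611bac7e310ff12020)))) (.node (nat_lit 0x2a6b2a59ecc4fad5f33756e30d385f390de1a020)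 (.node (nat_lit 0x2a6b2a4df6663bbd71abcaa3783bc2393e61a020) (.leaf (nat_lit 0x2a6b2a31f89dbb9bf150db63a5bbe6393c21a020)) (.leaf (nat_lit 0x2a6b2a4df6663bbd71abcaa3783bc2393e61a020))) (.node (nat_lit 0x2a6b2a61f3b33aa8737a6e62bbb8de3905f1a020) (.leaf (nat_lit 0x2a6b2a59ecc4fad5f33756e30d385f390de1a020)) (.leaf (nat_lit 0x2a6b2a61f3b33aa8737a6e62bbb8de3905f1a020))))) (.node (nat_lit 0x2a6b2c32cf9d15973790df6f15e866f90e2f2020) (.node (nat_lit 0x2a6b2b4f0f651bb72b8bcf75185c62f10e6fa020) (.node (nat_lit 0x2a6b2b3f0ca4dbc5ab31eef5075c47f10c3fa020) (.leaf (nat_lit 0x2a6b2b33149bdb98abb0df34e5dce6f1062fa020)) (.leaf (nat_lit 0x2a6b2b3f0ca4dbc5ab31eef5075c47f10c3fa020))) (.node (nat_lit 0x2a6b2b53137b1bd82b6ee674b8dcc3f1047fa020) (.leaf (nat_lit 0x2a6b2b4f0f651bb72b8bcf75185c62f10e6fa020)) (.leaf (nat_lit 0x2a6b2b53137b1bd82b6ee674b8dcc3f1047fa020)))) (.node (nat_lit 0x2a6b2c4ed463d5b8b7abcf2ee868e2f9066f2020)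 (.node (nat_lit 0x2a6b2c3ed3a315c83771ee6eb768c7f9043f2020) (.leaf (nat_lit 0x2a6b2c32cf9d15973790df6f15e866f90e2f2020)) (.leaf (nat_lit 0x2a6b2c3ed3a315c83771ee6eb768c7f9043f2020))) (.node (nat_lit 0x2a6b2c52cc7cd5d5b72ee6ef08e843f90c7f2020) (.leaf (nat_lit 0x2a6b2c4ed463d5b8b7abcf2ee868e2f9066f2020)) (.leaf (nat_lit 0x2a6b2c52cc7cd5d5b72ee6ef08e843f90c7f2020))))))))))
noncomputable def AN_lS_T3 : ST := (.node (nat_lit 0x309aa5b21d9f2d7de24fd5639a3be920fc541c20) (.node (nat_lit 0x3094d9ad9c876f8dea51b569973fc849fe428c20) (.node (nat_lit 0x2a7167ce9265611bad5c7377aee4821f9063fc20) (.node (nat_lit 0x2a6d89d58f951cacc57a6c39bbf46437ce817820) (.node (nat_lit 0x2a6d87d68c94d6aec23a6bb3cbec441fcc83f820) (.node (nat_lit 0x2a6d86567493e2adba1a6afb9bf0e417c6837820) (.node (nat_lit 0x2a6d864a6fad22dcb977543bbd706817ce437820) (.leaf (nat_lit 0x2a6d863e75a4a2bbb95b837bacf10717c8337820))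 (.node (nat_lit 0x2a6d8652727d630d39b95abb7df08317d0737820) (.leaf (nat_lit 0x2a6d864a6fad22dcb977543bbd706817ce437820)) (.leaf (nat_lit 0x2a6d8652727d630d39b95abb7df08317d0737820)))) (.node (nat_lit 0x2a6d87ca93ab16de41d75473dd6cc81fc443f820) (.node (nat_lit 0x2a6d87b2929d571d41bc72b37eec861fd023f820) (.leaf (nat_lit 0x2a6d86567493e2adba1a6afb9bf0e417c6837820)) (.leaf (nat_lit 0x2a6d87b2929d571d41bc72b37eec861fd023f820))) (.node (nat_lit 0x2a6d87ce956496ebc15d8b73ae6d021fc863f820) (.leaf (nat_lit 0x2a6d87ca93ab16de41d75473dd6cc81fc443f820)) (.leaf (nat_lit 0x2a6d87ce956496ebc15d8b73ae6d021fc863f820))))) (.node (nat_lit 0x2a6d8952b37b1b0e29d95c75dddcc327c4747820) (.node (nat_lit 0x2a6d893eaca4dabeaa3b83b5ccdc4727cc347820) (.node (nat_lit 0x2a6d8932b49bdb1daa1c72f59edce627c6247820) (.leaf (nat_lit 0x2a6d87d68c94d6aec23a6bb3cbec441fcc83f820)) (.leaf (nat_lit 0x2a6d8932b49bdb1daa1c72f59edce627c6247820)))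 (.node (nat_lit 0x2a6d894eaf651aeca97d8c35be5c6227ce647820) (.leaf (nat_lit 0x2a6d893eaca4dabeaa3b83b5ccdc4727cc347820)) (.leaf (nat_lit 0x2a6d894eaf651aeca97d8c35be5c6227ce647820)))) (.node (nat_lit 0x2a6d89c994abdcddc61752f99d74e837c6417820) (.node (nat_lit 0x2a6d89bd92a55cbd45bb82b97cf48737d0317820) (.leaf (nat_lit 0x2a6d8952b37b1b0e29d95c75dddcc327c4747820)) (.leaf (nat_lit 0x2a6d89bd92a55cbd45bb82b97cf48737d0317820))) (.node (nat_lit 0x2a6d89d1957c9d0bc5595b79adf50337c8717820) (.leaf (nat_lit 0x2a6d89c994abdcddc61752f99d74e837c6417820)) (.leaf (nat_lit 0x2a6d89d1957c9d0bc5595b79adf50337c8717820)))))) (.node (nat_lit 0x2a6d8ace5463d4edb61d8aef9e68e247c6627820) (.node (nat_lit 0x2a6d8a4df26560ed2dbd8ab77e64823fd061f820) (.node (nat_lit 0x2a6d8a31f59ca11bad5c7377aee5063fc821f820) (.leaf (nat_lit 0x2a6d89d58f951cacc57a6c39bbf46437ce817820)) (.node (nat_lit 0x2a6d8a49ecace0deae3753b7cd64483fcc41f820)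 (.leaf (nat_lit 0x2a6d8a31f59ca11bad5c7377aee5063fc821f820)) (.leaf (nat_lit 0x2a6d8a49ecace0deae3753b7cd64483fcc41f820)))) (.node (nat_lit 0x2a6d8ab24f9d151cb57c742fbee86647ce227820) (.node (nat_lit 0x2a6d8a55f39320ae2dda6c77dbe4c43fc481f820) (.leaf (nat_lit 0x2a6d8a4df26560ed2dbd8ab77e64823fd061f820)) (.leaf (nat_lit 0x2a6d8a55f39320ae2dda6c77dbe4c43fc481f820))) (.node (nat_lit 0x2a6d8abe53a314be35db846fdce8c747c4327820) (.leaf (nat_lit 0x2a6d8ab24f9d151cb57c742fbee86647ce227820)) (.leaf (nat_lit 0x2a6d8abe53a314be35db846fdce8c747c4327820))))) (.node (nat_lit 0x2a716652757c9cbd45bb82b97cf5031788737c20) (.node (nat_lit 0x2a71663e72a55d0bc5595b79adf4871790337c20) (.node (nat_lit 0x2a6d8ad24c7cd50eb6395bafcde84347cc727820) (.leaf (nat_lit 0x2a6d8ace5463d4edb61d8aef9e68e247c6627820)) (.leaf (nat_lit 0x2a6d8ad24c7cd50eb6395bafcde84347cc727820))) (.node (nat_lit 0x2a71664a74abdcacc57a6c39bbf4e81786437c20)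 (.leaf (nat_lit 0x2a71663e72a55d0bc5595b79adf4871790337c20)) (.leaf (nat_lit 0x2a71664a74abdcacc57a6c39bbf4e81786437c20)))) (.node (nat_lit 0x2a7167b2959ca0ed2dbd8ab77e65061f8823fc20) (.node (nat_lit 0x2a7166566f951cddc61752f99d7464178e837c20) (.leaf (nat_lit 0x2a716652757c9cbd45bb82b97cf5031788737c20)) (.leaf (nat_lit 0x2a7166566f951cddc61752f99d7464178e837c20))) (.node (nat_lit 0x2a7167ca8cace0ae2dda6c77dbe4481f8c43fc20) (.leaf (nat_lit 0x2a7167b2959ca0ed2dbd8ab77e65061f8823fc20)) (.leaf (nat_lit 0x2a7167ca8cace0ae2dda6c77dbe4481f8c43fc20))))))) (.node (nat_lit 0x2a716abe4ca4db0e29d95c75dddc47478c327c20) (.node (nat_lit 0x2a7169c98fad22adba1a6afb9bf068378e417c20) (.node (nat_lit 0x2a71693eb3a3150eb6395bafcde8c72784347c20) (.node (nat_lit 0x2a7167d6939320deae3753b7cd64c41f8483fc20) (.leaf (nat_lit 0x2a7167ce9265611bad5c7377aee4821f9063fc20)) (.node (nat_lit 0x2a716932af9d14edb61d8aef9e6866278e247c20)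 (.leaf (nat_lit 0x2a7167d6939320deae3753b7cd64c41f8483fc20)) (.leaf (nat_lit 0x2a716932af9d14edb61d8aef9e6866278e247c20)))) (.node (nat_lit 0x2a716952ac7cd4be35db846fdce843278c747c20) (.node (nat_lit 0x2a71694eb463d51cb57c742fbee8e22786647c20) (.leaf (nat_lit 0x2a71693eb3a3150eb6395bafcde8c72784347c20)) (.leaf (nat_lit 0x2a71694eb463d51cb57c742fbee8e22786647c20))) (.node (nat_lit 0x2a7169bd95a4a30d39b95abb7df1073788317c20) (.leaf (nat_lit 0x2a716952ac7cd4be35db846fdce843278c747c20)) (.leaf (nat_lit 0x2a7169bd95a4a30d39b95abb7df1073788317c20))))) (.node (nat_lit 0x2a716a49f3ab16aec23a6bb3cbecc83f8441fc20) (.node (nat_lit 0x2a7169d59493e2dcb977543bbd70e43786817c20) (.node (nat_lit 0x2a7169d1927d62bbb95b837bacf0833790717c20) (.leaf (nat_lit 0x2a7169c98fad22adba1a6afb9bf068378e417c20)) (.leaf (nat_lit 0x2a7169d1927d62bbb95b837bacf0833790717c20))) (.node (nat_lit 0x2a716a31f29d56ebc15d8b73ae6c863f9021fc20)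 (.leaf (nat_lit 0x2a7169d59493e2dcb977543bbd70e43786817c20)) (.leaf (nat_lit 0x2a716a31f29d56ebc15d8b73ae6c863f9021fc20)))) (.node (nat_lit 0x2a716a55ec94d6de41d75473dd6c443f8c81fc20) (.node (nat_lit 0x2a716a4df564971d41bc72b37eed023f8861fc20) (.leaf (nat_lit 0x2a716a49f3ab16aec23a6bb3cbecc83f8441fc20)) (.leaf (nat_lit 0x2a716a4df564971d41bc72b37eed023f8861fc20))) (.node (nat_lit 0x2a716ab2549bdaeca97d8c35be5ce64786227c20) (.leaf (nat_lit 0x2a716a55ec94d6de41d75473dd6c443f8c81fc20)) (.leaf (nat_lit 0x2a716ab2549bdaeca97d8c35be5ce64786227c20)))))) (.node (nat_lit 0x3094d62e7d87358cdeb1b49fb753e829fc448c20) (.node (nat_lit 0x3094d5b21c9f71adda54bd5d97c7c921fe540c20) (.node (nat_lit 0x2a716ace4f651b1daa1c72f59edc62478e627c20) (.leaf (nat_lit 0x2a716abe4ca4db0e29d95c75dddc47478c327c20)) (.node (nat_lit 0x2a716ad2537b1abeaa3b83b5ccdcc34784727c20) (.leaf (nat_lit 0x2a716ace4f651b1daa1c72f59edc62478e627c20))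 (.leaf (nat_lit 0x2a716ad2537b1abeaa3b83b5ccdcc34784727c20)))) (.node (nat_lit 0x3094d5f213eb312a5af9ae9cfdc53f21cbe40c20) (.node (nat_lit 0x3094d5ce1d67317cdaafd49dba47e521fc940c20) (.leaf (nat_lit 0x3094d5b21c9f71adda54bd5d97c7c921fe540c20)) (.leaf (nat_lit 0x3094d5ce1d67317cdaafd49dba47e521fc940c20))) (.node (nat_lit 0x3094d5f60ce4f157db5b95dd4cc4be21d3f40c20) (.leaf (nat_lit 0x3094d5f213eb312a5af9ae9cfdc53f21cbe40c20)) (.leaf (nat_lit 0x3094d5f60ce4f157db5b95dd4cc4be21d3f40c20))))) (.node (nat_lit 0x3094d8317d9f2dace2b4bca3b7bbe941fc520c20) (.node (nat_lit 0x3094d6726bec35275f19ad9f1dd09f29d1e48c20) (.node (nat_lit 0x3094d6427c5f756dde4ec55f98d3c429fe848c20) (.leaf (nat_lit 0x3094d62e7d87358cdeb1b49fb753e829fc448c20)) (.leaf (nat_lit 0x3094d6427c5f756dde4ec55f98d3c429fe848c20))) (.node (nat_lit 0x3094d67670e2f558dedb961eecd11e29c9f48c20) (.leaf (nat_lit 0x3094d6726bec35275f19ad9f1dd09f29d1e48c20))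 (.leaf (nat_lit 0x3094d67670e2f558dedb961eecd11e29c9f48c20)))) (.node (nat_lit 0x3094d8716ceced27e359ade34db8bf41d3e20c20) (.node (nat_lit 0x3094d84d7c676d7de24fd5639a3bc541fe920c20) (.leaf (nat_lit 0x3094d8317d9f2dace2b4bca3b7bbe941fc520c20)) (.leaf (nat_lit 0x3094d84d7c676d7de24fd5639a3bc541fe920c20))) (.node (nat_lit 0x3094d87573e32d5a62fb96a2fcb93e41cbf20c20) (.leaf (nat_lit 0x3094d8716ceced27e359ade34db8bf41d3e20c20)) (.leaf (nat_lit 0x3094d87573e32d5a62fb96a2fcb93e41cbf20c20)))))))) (.node (nat_lit 0x30970e37ac54e9893f71b66f5768a3f2127f9020) (.node (nat_lit 0x30970575b3e32cfae337a6e32d393e1a0bf39020) (.node (nat_lit 0x3094de4fab642577570fd5b71a6485f1d09f8c20) (.node (nat_lit 0x3094d9f58be42f576b1b95a91cbc9e49d1f28c20) (.node (nat_lit 0x3094d9c19d5f2f6ceaaec4a9b8bfe449fc828c20) (.leaf (nat_lit 0x3094d9ad9c876f8dea51b569973fc849fe428c20)) (.node (nat_lit 0x3094d9f190eaef28ead9ae28edbd1f49c9e28c20)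 (.leaf (nat_lit 0x3094d9c19d5f2f6ceaaec4a9b8bfe449fc828c20)) (.leaf (nat_lit 0x3094d9f190eaef28ead9ae28edbd1f49c9e28c20)))) (.node (nat_lit 0x3094de33b09ae5a8d6d4be36e7e509f1c85f8c20) (.node (nat_lit 0x3094de2fac84e587d751b5f74764a8f1d24f8c20) (.leaf (nat_lit 0x3094d9f58be42f576b1b95a91cbc9e49d1f28c20)) (.leaf (nat_lit 0x3094de2fac84e587d751b5f74764a8f1d24f8c20))) (.node (nat_lit 0x3094de43b35b256a56eec6b6f8e524f1ca8f8c20) (.leaf (nat_lit 0x3094de33b09ae5a8d6d4be36e7e509f1c85f8c20)) (.leaf (nat_lit 0x3094de43b35b256a56eec6b6f8e524f1ca8f8c20))))) (.node (nat_lit 0x3094decf9062eb78cacfd632ea6d05f9c89f0c20) (.node (nat_lit 0x3094deb38b9c2ba74b14bdb317ec89f9d05f0c20) (.node (nat_lit 0x3094deaf93832b8a4af1b6b2f76d28f9ca4f0c20) (.leaf (nat_lit 0x3094de4fab642577570fd5b71a6485f1d09f8c20)) (.leaf (nat_lit 0x3094deaf93832b8a4af1b6b2f76d28f9ca4f0c20))) (.node (nat_lit 0x3094dec38c5ceb67cb4ec5f348eca4f9d28f0c20)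 (.leaf (nat_lit 0x3094deb38b9c2ba74b14bdb317ec89f9d05f0c20)) (.leaf (nat_lit 0x3094dec38c5ceb67cb4ec5f348eca4f9d28f0c20)))) (.node (nat_lit 0x3097054dbc676d9be292dbe3aabbc51a3e939020) (.node (nat_lit 0x30970531bd9f2dbd61f5cd23793be91a3c539020) (.leaf (nat_lit 0x3094decf9062eb78cacfd632ea6d05f9c89f0c20)) (.leaf (nat_lit 0x30970531bd9f2dbd61f5cd23793be91a3c539020))) (.node (nat_lit 0x30970571aceced49637a7e635bb8bf1a13e39020) (.leaf (nat_lit 0x3097054dbc676d9be292dbe3aabbc51a3e939020)) (.leaf (nat_lit 0x30970571aceced49637a7e635bb8bf1a13e39020)))))) (.node (nat_lit 0x309706f153eb314adb3a7edd2bc53f3a0be19020) (.node (nat_lit 0x309706726deab747671a7da51bd4ff2a07e49020) (.node (nat_lit 0x3097062a7c6f776be68ec3e5a8d7c72a3e349020) (.leaf (nat_lit 0x30970575b3e32cfae337a6e32d393e1a0bf39020)) (.node (nat_lit 0x309706367d57378d65f1b5257757e32a3c749020) (.leaf (nat_lit 0x3097062a7c6f776be68ec3e5a8d7c72a3e349020))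 (.leaf (nat_lit 0x309706367d57378d65f1b5257757e32a3c749020)))) (.node (nat_lit 0x309706b15c9f71bbda95cbdda947c93a3e519020) (.node (nat_lit 0x309706766ae376f8e6d7a624ed547e2a0ff49020) (.leaf (nat_lit 0x309706726deab747671a7da51bd4ff2a07e49020)) (.leaf (nat_lit 0x309706766ae376f8e6d7a624ed547e2a0ff49020))) (.node (nat_lit 0x309706cd5d67319d59f2dd1d7ac7e53a3c919020) (.leaf (nat_lit 0x309706b15c9f71bbda95cbdda947c93a3e519020)) (.leaf (nat_lit 0x309706cd5d67319d59f2dd1d7ac7e53a3c919020))))) (.node (nat_lit 0x309709f18aeb7348eeda7e2aebc87f4a0fe29020) (.node (nat_lit 0x309709a99d6f336d6deec52b78cbe74a3c329020) (.node (nat_lit 0x309706f54ce4f0f95b77a65d5d44be3a13f19020) (.leaf (nat_lit 0x309706f153eb314adb3a7edd2bc53f3a0be19020)) (.leaf (nat_lit 0x309706f54ce4f0f95b77a65d5d44be3a13f19020))) (.node (nat_lit 0x309709b59c57738bee91b3eba74bc34a3e729020) (.leaf (nat_lit 0x309709a99d6f336d6deec52b78cbe74a3c329020))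 (.leaf (nat_lit 0x309709b59c57738bee91b3eba74bc34a3e729020)))) (.node (nat_lit 0x30970e2bb36b296abf2ec6ef28e927f20a3f9020) (.node (nat_lit 0x309709f58de2b2f76f17a5ab1d48fe4a07f29020) (.leaf (nat_lit 0x309709f18aeb7348eeda7e2aebc87f4a0fe29020)) (.leaf (nat_lit 0x309709f58de2b2f76f17a5ab1d48fe4a07f29020))) (.node (nat_lit 0x30970e33aa9b69b8bed5ce2ee96869f20e5f9020) (.leaf (nat_lit 0x30970e2bb36b296abf2ec6ef28e927f20a3f9020)) (.leaf (nat_lit 0x30970e33aa9b69b8bed5ce2ee96869f20e5f9020))))))) (.node (nat_lit 0x309936c15c5f75bc5dd5cc5f6953c43a7e819420) (.node (nat_lit 0x30993541bd5f2fbb6a35cba9893fe41a7c839420) (.node (nat_lit 0x30970eb38d9a9fb75315cdb5195ce9fa065f1020) (.node (nat_lit 0x30970e4fad62a9973f12ddaf1ae8e5f2069f9020) (.leaf (nat_lit 0x30970e37ac54e9893f71b66f5768a3f2127f9020)) (.node (nat_lit 0x30970eab8c6cdf69536ec67558dca7fa123f1020) (.leaf (nat_lit 0x30970e4fad62a9973f12ddaf1ae8e5f2069f9020))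 (.leaf (nat_lit 0x30970eab8c6cdf69536ec67558dca7fa123f1020)))) (.node (nat_lit 0x30970ecf8a635f98d2d2de34eadc65fa0e9f1020) (.node (nat_lit 0x30970eb793531f8ad331b6f5275d23fa0a7f1020) (.leaf (nat_lit 0x30970eb38d9a9fb75315cdb5195ce9fa065f1020)) (.leaf (nat_lit 0x30970eb793531f8ad331b6f5275d23fa0a7f1020))) (.node (nat_lit 0x3099352dbc876f9c69d2dc696abfc81a7e439420) (.leaf (nat_lit 0x30970ecf8a635f98d2d2de34eadc65fa0e9f1020)) (.leaf (nat_lit 0x3099352dbc876f9c69d2dc696abfc81a7e439420))))) (.node (nat_lit 0x309935b61c5773ac6dd4bc6b67cbc3227e741420) (.node (nat_lit 0x30993575abe42f1aeb3876e92b3c9e1a51f39420) (.node (nat_lit 0x30993571b0eaeee96b768e695c3d1f1a49e39420) (.leaf (nat_lit 0x30993541bd5f2fbb6a35cba9893fe41a7c839420)) (.leaf (nat_lit 0x30993571b0eaeee96b768e695c3d1f1a49e39420))) (.node (nat_lit 0x309935aa1d6f337b6e2fd3ab8a4be7227c341420) (.leaf (nat_lit 0x30993575abe42f1aeb3876e92b3c9e1a51f39420))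 (.leaf (nat_lit 0x309935aa1d6f337b6e2fd3ab8a4be7227c341420)))) (.node (nat_lit 0x309935f60de2b317ef5875eb4b48fe2247f41420) (.node (nat_lit 0x309935f20aeb72ea6ef68eaafc487f224fe41420) (.leaf (nat_lit 0x309935b61c5773ac6dd4bc6b67cbc3227e741420)) (.leaf (nat_lit 0x309935f20aeb72ea6ef68eaafc487f224fe41420))) (.node (nat_lit 0x309936ad5d87359b5e32db9f8ad3e83a7c419420) (.leaf (nat_lit 0x309935f60de2b317ef5875eb4b48fe2247f41420)) (.leaf (nat_lit 0x309936ad5d87359b5e32db9f8ad3e83a7c419420)))))) (.node (nat_lit 0x30993e2bab6c1d7ac72fd6f12a5887f2503f9420) (.node (nat_lit 0x309938297c6f777c65cfd4656a57c7427e321420) (.node (nat_lit 0x309936f14bec34eadf368edf2c509f3a51e19420) (.leaf (nat_lit 0x309936c15c5f75bc5dd5cc5f6953c43a7e819420)) (.node (nat_lit 0x309936f550e2f5195f78765f5b511e3a49f19420) (.leaf (nat_lit 0x309936f14bec34eadf368edf2c509f3a51e19420)) (.leaf (nat_lit 0x309936f550e2f5195f78765f5b511e3a49f19420))))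 (.node (nat_lit 0x309938716deab6e7e7568de54c54ff4247e21420) (.node (nat_lit 0x309938357d5737ab6634bba587d7e3427c721420) (.leaf (nat_lit 0x309938297c6f777c65cfd4656a57c7427e321420)) (.leaf (nat_lit 0x309938357d5737ab6634bba587d7e3427c721420))) (.node (nat_lit 0x309938756ae3771a66f876a4fb547e424ff21420) (.leaf (nat_lit 0x309938716deab6e7e7568de54c54ff4247e21420)) (.leaf (nat_lit 0x309938756ae3771a66f876a4fb547e424ff21420))))) (.node (nat_lit 0x30993eab906ae3793b6fd66d5a6107fa483f1420) (.node (nat_lit 0x30993e37b052dda94774be7157d903f2487f9420) (.node (nat_lit 0x30993e2fad829d97c752ddf14ad8e8f2464f9420) (.leaf (nat_lit 0x30993e2bab6c1d7ac72fd6f12a5887f2503f9420)) (.leaf (nat_lit 0x30993e2fad829d97c752ddf14ad8e8f2464f9420))) (.node (nat_lit 0x30993e43aa5b5dba46f5ceb0f95864f24e8f9420) (.leaf (nat_lit 0x30993e37b052dda94774be7157d903f2487f9420)) (.leaf (nat_lit 0x30993e43aa5b5dba46f5ceb0f95864f24e8f9420))))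 (.node (nat_lit 0x30993eb78b5423aabb34beed27e083fa507f1420) (.node (nat_lit 0x30993eaf8a83639a3af2deacfae068fa4e4f1420) (.leaf (nat_lit 0x30993eab906ae3793b6fd66d5a6107fa483f1420)) (.leaf (nat_lit 0x30993eaf8a83639a3af2deacfae068fa4e4f1420))) (.node (nat_lit 0x30993ec38d5aa3b7bb55cded4960e4fa468f1420) (.leaf (nat_lit 0x30993eb78b5423aabb34beed27e083fa507f1420)) (.leaf (nat_lit 0x30993ec38d5aa3b7bb55cded4960e4fa468f1420))))))))) (.node (nat_lit 0x30a6c8297d6f33ac6dd4bc6b67cbe7417c322420) (.node (nat_lit 0x30a0b6726aeb72f76f17a5ab1d487f290fe4a020) (.node (nat_lit 0x309aa9f590e2f5275f19ad9f1dd11e48c9f29c20) (.node (nat_lit 0x309aa6766be42f28ead9ae28edbc9e28d1f49c20) (.node (nat_lit 0x309aa5f613e32d27e359ade34db93e20cbf41c20) (.node (nat_lit 0x309aa5ce1c676dace2b4bca3b7bbc520fe941c20) (.leaf (nat_lit 0x309aa5b21d9f2d7de24fd5639a3be920fc541c20)) (.node (nat_lit 0x309aa5f20ceced5a62fb96a2fcb8bf20d3e41c20)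 (.leaf (nat_lit 0x309aa5ce1c676dace2b4bca3b7bbc520fe941c20)) (.leaf (nat_lit 0x309aa5f20ceced5a62fb96a2fcb8bf20d3e41c20)))) (.node (nat_lit 0x309aa6427d5f2f8dea51b569973fe428fc849c20) (.node (nat_lit 0x309aa62e7c876f6ceaaec4a9b8bfc828fe449c20) (.leaf (nat_lit 0x309aa5f613e32d27e359ade34db93e20cbf41c20)) (.leaf (nat_lit 0x309aa62e7c876f6ceaaec4a9b8bfc828fe449c20))) (.node (nat_lit 0x309aa67270eaef576b1b95a91cbd1f28c9e49c20) (.leaf (nat_lit 0x309aa6427d5f2f8dea51b569973fe428fc849c20)) (.leaf (nat_lit 0x309aa67270eaef576b1b95a91cbd1f28c9e49c20))))) (.node (nat_lit 0x309aa8756ce4f12a5af9ae9cfdc4be40d3f21c20) (.node (nat_lit 0x309aa84d7d6731adda54bd5d97c7e540fc921c20) (.node (nat_lit 0x309aa8317c9f717cdaafd49dba47c940fe521c20) (.leaf (nat_lit 0x309aa6766be42f28ead9ae28edbc9e28d1f49c20)) (.leaf (nat_lit 0x309aa8317c9f717cdaafd49dba47c940fe521c20))) (.node (nat_lit 0x309aa87173eb3157db5b95dd4cc53f40cbe21c20)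 (.leaf (nat_lit 0x309aa84d7d6731adda54bd5d97c7e540fc921c20)) (.leaf (nat_lit 0x309aa87173eb3157db5b95dd4cc53f40cbe21c20)))) (.node (nat_lit 0x309aa9c19c5f758cdeb1b49fb753c448fe829c20) (.node (nat_lit 0x309aa9ad9d87356dde4ec55f98d3e848fc429c20) (.leaf (nat_lit 0x309aa8756ce4f12a5af9ae9cfdc4be40d3f21c20)) (.leaf (nat_lit 0x309aa9ad9d87356dde4ec55f98d3e848fc429c20))) (.node (nat_lit 0x309aa9f18bec3558dedb961eecd09f48d1e29c20) (.leaf (nat_lit 0x309aa9c19c5f758cdeb1b49fb753c448fe829c20)) (.leaf (nat_lit 0x309aa9f18bec3558dedb961eecd09f48d1e29c20)))))) (.node (nat_lit 0x309aaec3935b2587d751b5f7476524f8ca8f1c20) (.node (nat_lit 0x309aae43ac5ceb8a4af1b6b2f76ca4f0d28f9c20) (.node (nat_lit 0x309aae2fb3832b67cb4ec5f348ed28f0ca4f9c20) (.leaf (nat_lit 0x309aa9f590e2f5275f19ad9f1dd11e48c9f29c20)) (.node (nat_lit 0x309aae33ab9c2b78cacfd632ea6c89f0d05f9c20) (.leaf (nat_lit 0x309aae2fb3832b67cb4ec5f348ed28f0ca4f9c20))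 (.leaf (nat_lit 0x309aae33ab9c2b78cacfd632ea6c89f0d05f9c20)))) (.node (nat_lit 0x309aaeaf8c84e56a56eec6b6f8e4a8f8d24f1c20) (.node (nat_lit 0x309aae4fb062eba74b14bdb317ed05f0c89f9c20) (.leaf (nat_lit 0x309aae43ac5ceb8a4af1b6b2f76ca4f0d28f9c20)) (.leaf (nat_lit 0x309aae4fb062eba74b14bdb317ed05f0c89f9c20))) (.node (nat_lit 0x309aaeb3909ae577570fd5b71a6509f8c85f1c20) (.leaf (nat_lit 0x309aaeaf8c84e56a56eec6b6f8e4a8f8d24f1c20)) (.leaf (nat_lit 0x309aaeb3909ae577570fd5b71a6509f8c85f1c20))))) (.node (nat_lit 0x30a0b571b3eb30f95b77a65d5d453f190be3a020) (.node (nat_lit 0x30a0b531bc9f719d59f2dd1d7ac7c9193e53a020) (.node (nat_lit 0x309aaecf8b6425a8d6d4be36e7e485f8d09f1c20) (.leaf (nat_lit 0x309aaec3935b2587d751b5f7476524f8ca8f1c20)) (.leaf (nat_lit 0x309aaecf8b6425a8d6d4be36e7e485f8d09f1c20))) (.node (nat_lit 0x30a0b54dbd6731bbda95cbdda947e5193c93a020) (.leaf (nat_lit 0x30a0b531bc9f719d59f2dd1d7ac7c9193e53a020))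 (.leaf (nat_lit 0x30a0b54dbd6731bbda95cbdda947e5193c93a020)))) (.node (nat_lit 0x30a0b62a7d6f338bee91b3eba74be7293c34a020) (.node (nat_lit 0x30a0b575ace4f14adb3a7edd2bc4be1913f3a020) (.leaf (nat_lit 0x30a0b571b3eb30f95b77a65d5d453f190be3a020)) (.leaf (nat_lit 0x30a0b575ace4f14adb3a7edd2bc4be1913f3a020))) (.node (nat_lit 0x30a0b6367c57736d6deec52b78cbc3293e74a020) (.leaf (nat_lit 0x30a0b62a7d6f338bee91b3eba74be7293c34a020)) (.leaf (nat_lit 0x30a0b6367c57736d6deec52b78cbc3293e74a020))))))) (.node (nat_lit 0x30a0beb38a9b69973f12ddaf1ae869f90e5f2020) (.node (nat_lit 0x30a0b9b59d57376be68ec3e5a8d7e3493c72a020) (.node (nat_lit 0x30a0b6cd5c676dbd61f5cd23793bc5393e91a020) (.node (nat_lit 0x30a0b6766de2b348eeda7e2aebc8fe2907f4a020) (.leaf (nat_lit 0x30a0b6726aeb72f76f17a5ab1d487f290fe4a020)) (.node (nat_lit 0x30a0b6b15d9f2d9be292dbe3aabbe9393c51a020) (.leaf (nat_lit 0x30a0b6766de2b348eeda7e2aebc8fe2907f4a020))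 (.leaf (nat_lit 0x30a0b6b15d9f2d9be292dbe3aabbe9393c51a020)))) (.node (nat_lit 0x30a0b6f553e32d49637a7e635bb93e390bf1a020) (.node (nat_lit 0x30a0b6f14cececfae337a6e32d38bf3913e1a020) (.leaf (nat_lit 0x30a0b6cd5c676dbd61f5cd23793bc5393e91a020)) (.leaf (nat_lit 0x30a0b6f14cececfae337a6e32d38bf3913e1a020))) (.node (nat_lit 0x30a0b9a99c6f778d65f1b5257757c7493e32a020) (.leaf (nat_lit 0x30a0b6f553e32d49637a7e635bb93e390bf1a020)) (.leaf (nat_lit 0x30a0b9a99c6f778d65f1b5257757c7493e32a020))))) (.node (nat_lit 0x30a0be33ad9a9f98d2d2de34eadce9f1065fa020) (.node (nat_lit 0x30a0b9f58ae37747671a7da51bd47e490ff2a020) (.node (nat_lit 0x30a0b9f18deab6f8e6d7a624ed54ff4907e2a020) (.leaf (nat_lit 0x30a0b9b59d57376be68ec3e5a8d7e3493c72a020)) (.leaf (nat_lit 0x30a0b9f18deab6f8e6d7a624ed54ff4907e2a020))) (.node (nat_lit 0x30a0be2bac6cdf8ad331b6f5275ca7f1123fa020) (.leaf (nat_lit 0x30a0b9f58ae37747671a7da51bd47e490ff2a020))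 (.leaf (nat_lit 0x30a0be2bac6cdf8ad331b6f5275ca7f1123fa020)))) (.node (nat_lit 0x30a0be4faa635fb75315cdb5195c65f10e9fa020) (.node (nat_lit 0x30a0be37b3531f69536ec67558dd23f10a7fa020) (.leaf (nat_lit 0x30a0be33ad9a9f98d2d2de34eadce9f1065fa020)) (.leaf (nat_lit 0x30a0be37b3531f69536ec67558dd23f10a7fa020))) (.node (nat_lit 0x30a0beab936b29893f71b66f576927f90a3f2020) (.leaf (nat_lit 0x30a0be4faa635fb75315cdb5195c65f10e9fa020)) (.leaf (nat_lit 0x30a0beab936b29893f71b66f576927f90a3f2020)))))) (.node (nat_lit 0x30a6c5aa1c6f77ab6634bba587d7c7217e342420) (.node (nat_lit 0x30a6c52dbd8735bc5dd5cc5f6953e8197c43a420) (.node (nat_lit 0x30a0beb78c54e96abf2ec6ef28e8a3f9127f2020) (.leaf (nat_lit 0x30a0beb38a9b69973f12ddaf1ae869f90e5f2020)) (.node (nat_lit 0x30a0becf8d62a9b8bed5ce2ee968e5f9069f2020) (.leaf (nat_lit 0x30a0beb78c54e96abf2ec6ef28e8a3f9127f2020)) (.leaf (nat_lit 0x30a0becf8d62a9b8bed5ce2ee968e5f9069f2020))))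 (.node (nat_lit 0x30a6c571abec35195f78765f5b509f1951e3a420) (.node (nat_lit 0x30a6c541bc5f759b5e32db9f8ad3c4197e83a420) (.leaf (nat_lit 0x30a6c52dbd8735bc5dd5cc5f6953e8197c43a420)) (.leaf (nat_lit 0x30a6c541bc5f759b5e32db9f8ad3c4197e83a420))) (.node (nat_lit 0x30a6c575b0e2f4eadf368edf2c511e1949f3a420) (.leaf (nat_lit 0x30a6c571abec35195f78765f5b509f1951e3a420)) (.leaf (nat_lit 0x30a6c575b0e2f4eadf368edf2c511e1949f3a420))))) (.node (nat_lit 0x30a6c6ad5c876fbb6a35cba9893fc8397e41a420) (.node (nat_lit 0x30a6c5f20deab71a66f876a4fb54ff2147e42420) (.node (nat_lit 0x30a6c5b61d57377c65cfd4656a57e3217c742420) (.leaf (nat_lit 0x30a6c5aa1c6f77ab6634bba587d7c7217e342420)) (.leaf (nat_lit 0x30a6c5b61d57377c65cfd4656a57e3217c742420))) (.node (nat_lit 0x30a6c5f60ae376e7e7568de54c547e214ff42420) (.leaf (nat_lit 0x30a6c5f20deab71a66f876a4fb54ff2147e42420)) (.leaf (nat_lit 0x30a6c5f60ae376e7e7568de54c547e214ff42420))))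 (.node (nat_lit 0x30a6c6f150eaef1aeb3876e92b3d1f3949e1a420) (.node (nat_lit 0x30a6c6c15d5f2f9c69d2dc696abfe4397c81a420) (.leaf (nat_lit 0x30a6c6ad5c876fbb6a35cba9893fc8397e41a420)) (.leaf (nat_lit 0x30a6c6c15d5f2f9c69d2dc696abfe4397c81a420))) (.node (nat_lit 0x30a6c6f54be42ee96b768e695c3c9e3951f1a420) (.leaf (nat_lit 0x30a6c6f150eaef1aeb3876e92b3d1f3949e1a420)) (.leaf (nat_lit 0x30a6c6f54be42ee96b768e695c3c9e3951f1a420)))))))) (.node (nat_lit 0x30b9d8356c54e92b3e39abaf8de8a347d2727820) (.node (nat_lit 0x30b9d54db062eaebca968bf3ac6d051fc893f820) (.node (nat_lit 0x30a6ce43ad5aa39a3af2deacfae0e4f1468fa420) (.node (nat_lit 0x30a6c8756de2b2ea6ef68eaafc48fe4147f22420) (.node (nat_lit 0x30a6c8357c57737b6e2fd3ab8a4bc3417e722420) (.leaf (nat_lit 0x30a6c8297d6f33ac6dd4bc6b67cbe7417c322420)) (.node (nat_lit 0x30a6c8716aeb7317ef5875eb4b487f414fe22420) (.leaf (nat_lit 0x30a6c8357c57737b6e2fd3ab8a4bc3417e722420))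 (.leaf (nat_lit 0x30a6c8716aeb7317ef5875eb4b487f414fe22420)))) (.node (nat_lit 0x30a6ce2faa8363b7bb55cded496068f14e4fa420) (.node (nat_lit 0x30a6ce2bb06ae3aabb34beed27e107f1483fa420) (.leaf (nat_lit 0x30a6c8756de2b2ea6ef68eaafc48fe4147f22420)) (.leaf (nat_lit 0x30a6ce2bb06ae3aabb34beed27e107f1483fa420))) (.node (nat_lit 0x30a6ce37ab5423793b6fd66d5a6083f1507fa420) (.leaf (nat_lit 0x30a6ce2faa8363b7bb55cded496068f14e4fa420)) (.leaf (nat_lit 0x30a6ce37ab5423793b6fd66d5a6083f1507fa420))))) (.node (nat_lit 0x30a6cec38a5b5d97c752ddf14ad864f94e8f2420) (.node (nat_lit 0x30a6ceaf8d829dba46f5ceb0f958e8f9464f2420) (.node (nat_lit 0x30a6ceab8b6c1da94774be7157d887f9503f2420) (.leaf (nat_lit 0x30a6ce43ad5aa39a3af2deacfae0e4f1468fa420)) (.leaf (nat_lit 0x30a6ceab8b6c1da94774be7157d887f9503f2420))) (.node (nat_lit 0x30a6ceb79052dd7ac72fd6f12a5903f9487f2420) (.leaf (nat_lit 0x30a6ceaf8d829dba46f5ceb0f958e8f9464f2420))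 (.leaf (nat_lit 0x30a6ceb79052dd7ac72fd6f12a5903f9487f2420)))) (.node (nat_lit 0x30b9d531ab9c2b1d49f875337b6c891fd053f820) (.node (nat_lit 0x30b9d52db3832afc49d7a4736d6d281fca43f820) (.leaf (nat_lit 0x30a6cec38a5b5d97c752ddf14ad864f94e8f2420)) (.leaf (nat_lit 0x30b9d52db3832afc49d7a4736d6d281fca43f820))) (.node (nat_lit 0x30b9d541ac5ceb4b4a3a7bb38beca41fd283f820) (.leaf (nat_lit 0x30b9d531ab9c2b1d49f875337b6c891fd053f820)) (.leaf (nat_lit 0x30b9d541ac5ceb4b4a3a7bb38beca41fd283f820)))))) (.node (nat_lit 0x30b9d6366b54232d39f9ad2d7de0832fd074f820) (.node (nat_lit 0x30b9d5b613531f2c51d9ac756ddd2327ca747820) (.node (nat_lit 0x30b9d5aa0c6cdf5b523b93b58cdca727d2347820) (.leaf (nat_lit 0x30b9d54db062eaebca968bf3ac6d051fc893f820)) (.node (nat_lit 0x30b9d5b20d9a9f1dd25875759b5ce927c6547820) (.leaf (nat_lit 0x30b9d5aa0c6cdf5b523b93b58cdca727d2347820)) (.leaf (nat_lit 0x30b9d5b20d9a9f1dd25875759b5ce927c6547820))))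 (.node (nat_lit 0x30b9d62a706ae35bba9b93edace1072fc834f820) (.node (nat_lit 0x30b9d5ce0a635eecd2b68cb5bc5c6527ce947820) (.leaf (nat_lit 0x30b9d5b613531f2c51d9ac756ddd2327ca747820)) (.leaf (nat_lit 0x30b9d5ce0a635eecd2b68cb5bc5c6527ce947820))) (.node (nat_lit 0x30b9d62e6a8362fcbab7a4adbd60682fce44f820) (.leaf (nat_lit 0x30b9d62a706ae35bba9b93edace1072fc834f820)) (.leaf (nat_lit 0x30b9d62e6a8362fcbab7a4adbd60682fce44f820))))) (.node (nat_lit 0x30b9d6c1535b254c55da7c776be5243fca81f820) (.node (nat_lit 0x30b9d6ad4c84e4fb5637a3b78d64a83fd241f820) (.node (nat_lit 0x30b9d6426d5aa34dba5a7d6d9be0e42fc684f820) (.leaf (nat_lit 0x30b9d6366b54232d39f9ad2d7de0832fd074f820)) (.leaf (nat_lit 0x30b9d6426d5aa34dba5a7d6d9be0e42fc684f820))) (.node (nat_lit 0x30b9d6b1509ae51bd69873f7ab65093fc851f820) (.leaf (nat_lit 0x30b9d6ad4c84e4fb5637a3b78d64a83fd241f820)) (.leaf (nat_lit 0x30b9d6b1509ae51bd69873f7ab65093fc851f820))))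 (.node (nat_lit 0x30b9d829736b295c3ddb946f6ce92747ca327820) (.node (nat_lit 0x30b9d6cd4b6424ed55f68d377c64853fd091f820) (.leaf (nat_lit 0x30b9d6c1535b254c55da7c776be5243fca81f820)) (.leaf (nat_lit 0x30b9d6cd4b6424ed55f68d377c64853fd091f820))) (.node (nat_lit 0x30b9d8316a9b691cbeb874afbb686947ce527820) (.leaf (nat_lit 0x30b9d829736b295c3ddb946f6ce92747ca327820)) (.leaf (nat_lit 0x30b9d8316a9b691cbeb874afbb686947ce527820))))))) (.node (nat_lit 0x30bbc62e6d829d4cc6ba7cb1bbd8e82f8644fc20) (.node (nat_lit 0x30bbc531b09ae4ed55f68d377c65091f8853fc20) (.node (nat_lit 0x30b9d9ad8d829cfdc657a5719d58e84fc642f820) (.node (nat_lit 0x30b9d84d6d62a8edbe568d6f9c68e547c6927820) (.leaf (nat_lit 0x30b9d8356c54e92b3e39abaf8de8a347d2727820)) (.node (nat_lit 0x30b9d9a98b6c1d5d45fb95317cd8874fd032f820) (.leaf (nat_lit 0x30b9d84d6d62a8edbe568d6f9c68e547c6927820)) (.leaf (nat_lit 0x30b9d9a98b6c1d5d45fb95317cd8874fd032f820))))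 (.node (nat_lit 0x30b9d9c18a5b5d4cc6ba7cb1bbd8644fce82f820) (.node (nat_lit 0x30b9d9b59052dd2bc699abf1add9034fc872f820) (.leaf (nat_lit 0x30b9d9ad8d829cfdc657a5719d58e84fc642f820)) (.leaf (nat_lit 0x30b9d9b59052dd2bc699abf1add9034fc872f820))) (.node (nat_lit 0x30bbc52dac84e54c55da7c776be4a81f9243fc20) (.leaf (nat_lit 0x30b9d9c18a5b5d4cc6ba7cb1bbd8644fce82f820)) (.leaf (nat_lit 0x30bbc52dac84e54c55da7c776be4a81f9243fc20))))) (.node (nat_lit 0x30bbc5b20a9b68edbe568d6f9c6869278e547c20) (.node (nat_lit 0x30bbc54dab64251bd69873f7ab64851f9093fc20) (.node (nat_lit 0x30bbc541b35b24fb5637a3b78d65241f8a83fc20) (.leaf (nat_lit 0x30bbc531b09ae4ed55f68d377c65091f8853fc20)) (.leaf (nat_lit 0x30bbc541b35b24fb5637a3b78d65241f8a83fc20))) (.node (nat_lit 0x30bbc5aa136b292b3e39abaf8de927278a347c20) (.leaf (nat_lit 0x30bbc54dab64251bd69873f7ab64851f9093fc20)) (.leaf (nat_lit 0x30bbc5aa136b292b3e39abaf8de927278a347c20))))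 (.node (nat_lit 0x30bbc5ce0d62a91cbeb874afbb68e52786947c20) (.node (nat_lit 0x30bbc5b60c54e95c3ddb946f6ce8a32792747c20) (.leaf (nat_lit 0x30bbc5b20a9b68edbe568d6f9c6869278e547c20)) (.leaf (nat_lit 0x30bbc5b60c54e95c3ddb946f6ce8a32792747c20))) (.node (nat_lit 0x30bbc62a6b6c1d2bc699abf1add8872f9034fc20) (.leaf (nat_lit 0x30bbc5ce0d62a91cbeb874afbb68e52786947c20)) (.leaf (nat_lit 0x30bbc62a6b6c1d2bc699abf1add8872f9034fc20)))))) (.node (nat_lit 0x30bbc8296c6cdf2c51d9ac756ddca74792327c20) (.node (nat_lit 0x30bbc6ad53832b4b4a3a7bb38bed283f8a41fc20) (.node (nat_lit 0x30bbc6367052dd5d45fb95317cd9032f8874fc20) (.leaf (nat_lit 0x30bbc62e6d829d4cc6ba7cb1bbd8e82f8644fc20)) (.node (nat_lit 0x30bbc6426a5b5cfdc657a5719d58642f8e84fc20) (.leaf (nat_lit 0x30bbc6367052dd5d45fb95317cd9032f8874fc20)) (.leaf (nat_lit 0x30bbc6426a5b5cfdc657a5719d58642f8e84fc20)))) (.node (nat_lit 0x30bbc6c14c5ceafc49d7a4736d6ca43f9281fc20)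 (.node (nat_lit 0x30bbc6b14b9c2aebca968bf3ac6c893f9051fc20) (.leaf (nat_lit 0x30bbc6ad53832b4b4a3a7bb38bed283f8a41fc20)) (.leaf (nat_lit 0x30bbc6b14b9c2aebca968bf3ac6c893f9051fc20))) (.node (nat_lit 0x30bbc6cd5062eb1d49f875337b6d053f8891fc20) (.leaf (nat_lit 0x30bbc6c14c5ceafc49d7a4736d6ca43f9281fc20)) (.leaf (nat_lit 0x30bbc6cd5062eb1d49f875337b6d053f8891fc20))))) (.node (nat_lit 0x30bbc9a9906ae32d39f9ad2d7de1074f8832fc20) (.node (nat_lit 0x30bbc83573531f5b523b93b58cdd23478a727c20) (.node (nat_lit 0x30bbc8316d9a9eecd2b68cb5bc5ce94786527c20) (.leaf (nat_lit 0x30bbc8296c6cdf2c51d9ac756ddca74792327c20)) (.leaf (nat_lit 0x30bbc8316d9a9eecd2b68cb5bc5ce94786527c20))) (.node (nat_lit 0x30bbc84d6a635f1dd25875759b5c65478e927c20) (.leaf (nat_lit 0x30bbc83573531f5b523b93b58cdd23478a727c20)) (.leaf (nat_lit 0x30bbc84d6a635f1dd25875759b5c65478e927c20)))) (.node (nat_lit 0x30bbc9b58b54235bba9b93edace0834f9072fc20)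 (.node (nat_lit 0x30bbc9ad8a83634dba5a7d6d9be0684f8e42fc20) (.leaf (nat_lit 0x30bbc9a9906ae32d39f9ad2d7de1074f8832fc20)) (.leaf (nat_lit 0x30bbc9ad8a83634dba5a7d6d9be0684f8e42fc20))) (.node (nat_lit 0x30bbc9c18d5aa2fcbab7a4adbd60e44f8682fc20) (.leaf (nat_lit 0x30bbc9b58b54235bba9b93edace0834f9072fc20)) (.leaf (nat_lit 0x30bbc9c18d5aa2fcbab7a4adbd60e44f8682fc20))))))))))
noncomputable def AN_lS_T4 : ST := (.node (nat_lit 0x38e8f539b98ef5dc5e15e2e76933e8317c412420) (.node (nat_lit 0x38dd1a29f96ef96d7670c32b75cbe24a3c629020) (.node (nat_lit 0x38daa7e68edc6f25eadcae190ecc9e2991f48820) (.node (nat_lit 0x38d4da6df1cbaf25eadcae190ecd1f4889e29820) (.node (nat_lit 0x38d4d7ee8ecc75285f1cada6beb09f2891e49820) (.node (nat_lit 0x38d4d76e34cbf1265afcaea13ead3f208be41820) (.node (nat_lit 0x38d4d752397ef17e5ab3d4a1d62fe520bc941820) (.leaf (nat_lit 0x38d4d73e3ba671aeda4cbd61c9afc920be541820))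 (.node (nat_lit 0x38d4d7662fdd3159db5d95e0ce2cbe2093f41820) (.leaf (nat_lit 0x38d4d752397ef17e5ab3d4a1d62fe520bc941820)) (.leaf (nat_lit 0x38d4d7662fdd3159db5d95e0ce2cbe2093f41820)))) (.node (nat_lit 0x38d4d7c69b76756ede50c567c5b3c428be849820) (.node (nat_lit 0x38d4d7ba998ef58e5eabb4a7d833e828bc449820) (.leaf (nat_lit 0x38d4d76e34cbf1265afcaea13ead3f208be41820)) (.leaf (nat_lit 0x38d4d7ba998ef58e5eabb4a7d833e828bc449820))) (.node (nat_lit 0x38d4d7e691dbb555dedd96270e311e2889f49820) (.leaf (nat_lit 0x38d4d7c69b76756ede50c567c5b3c428be849820)) (.leaf (nat_lit 0x38d4d7e691dbb555dedd96270e311e2889f49820))))) (.node (nat_lit 0x38d4d8edcfcd2d29e35cadd6cec0bf4093e21820) (.node (nat_lit 0x38d4d8d1db7e6d7ee253d557c643c540be921820) (.node (nat_lit 0x38d4d8bdd9a6edae62acbc97d9c3e940bc521820) (.leaf (nat_lit 0x38d4d7ee8ecc75285f1cada6beb09f2891e49820)) (.leaf (nat_lit 0x38d4d8bdd9a6edae62acbc97d9c3e940bc521820)))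 (.node (nat_lit 0x38d4d8e5d4dbed5662fd96973e413e408bf21820) (.leaf (nat_lit 0x38d4d8d1db7e6d7ee253d557c643c540be921820)) (.leaf (nat_lit 0x38d4d8e5d4dbed5662fd96973e413e408bf21820)))) (.node (nat_lit 0x38d4da45f976ef6e6ab0c499d5cfe448bc829820) (.node (nat_lit 0x38d4da39fb8e6f8eea4bb559c84fc848be429820) (.leaf (nat_lit 0x38d4d8edcfcd2d29e35cadd6cec0bf4093e21820)) (.leaf (nat_lit 0x38d4da39fb8e6f8eea4bb559c84fc848be429820))) (.node (nat_lit 0x38d4da65eedc6f586b1d9598be4c9e4891f29820) (.leaf (nat_lit 0x38d4da45f976ef6e6ab0c499d5cfe448bc829820)) (.leaf (nat_lit 0x38d4da65eedc6f586b1d9598be4c9e4891f29820)))))) (.node (nat_lit 0x38d4ddc73473e56656f0c6bb35f124f08a8f9820) (.node (nat_lit 0x38d4dcc76f752b69cb50c5f8c5f4a4f8928f1820) (.node (nat_lit 0x38d4dcbb748beb864aebb6b9387528f88a4f1820) (.leaf (nat_lit 0x38d4da6df1cbaf25eadcae190ecd1f4889e29820)) (.node (nat_lit 0x38d4dcbf6ea46ba84b0cbdb8b9f489f8905f1820)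 (.leaf (nat_lit 0x38d4dcbb748beb864aebb6b9387528f88a4f1820)) (.leaf (nat_lit 0x38d4dcbf6ea46ba84b0cbdb8b9f489f8905f1820)))) (.node (nat_lit 0x38d4ddbb2f8d2589d74bb5fac870a8f0924f9820) (.node (nat_lit 0x38d4dcd3717bab75cad3d639067505f8889f1820) (.leaf (nat_lit 0x38d4dcc76f752b69cb50c5f8c5f4a4f8928f1820)) (.leaf (nat_lit 0x38d4dcd3717bab75cad3d639067505f8889f1820))) (.node (nat_lit 0x38d4ddbf31a3a5a5d6ccbe3b09f109f0885f9820) (.leaf (nat_lit 0x38d4ddbb2f8d2589d74bb5fac870a8f0924f9820)) (.leaf (nat_lit 0x38d4ddbf31a3a5a5d6ccbe3b09f109f0885f9820))))) (.node (nat_lit 0x38daa76634dbed29e35cadd6cec13e218bf40820) (.node (nat_lit 0x38daa73e39a6ed7ee253d557c643e921bc540820) (.node (nat_lit 0x38d4ddd32e7c65785713d5bab67085f0909f9820) (.leaf (nat_lit 0x38d4ddc73473e56656f0c6bb35f124f08a8f9820)) (.leaf (nat_lit 0x38d4ddd32e7c65785713d5bab67085f0909f9820))) (.node (nat_lit 0x38daa7523b7e6dae62acbc97d9c3c521be940820)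 (.leaf (nat_lit 0x38daa73e39a6ed7ee253d557c643e921bc540820)) (.leaf (nat_lit 0x38daa7523b7e6dae62acbc97d9c3c521be940820)))) (.node (nat_lit 0x38daa7ba9b8e6f6e6ab0c499d5cfc829be448820) (.node (nat_lit 0x38daa76e2fcd2d5662fd96973e40bf2193e40820) (.leaf (nat_lit 0x38daa76634dbed29e35cadd6cec13e218bf40820)) (.leaf (nat_lit 0x38daa76e2fcd2d5662fd96973e40bf2193e40820))) (.node (nat_lit 0x38daa7c69976ef8eea4bb559c84fe429bc848820) (.leaf (nat_lit 0x38daa7ba9b8e6f6e6ab0c499d5cfc829be448820)) (.leaf (nat_lit 0x38daa7c69976ef8eea4bb559c84fe429bc848820))))))) (.node (nat_lit 0x38daadbf2ea46b75cad3d639067489f1905f8820) (.node (nat_lit 0x38daaa45fb76758e5eabb4a7d833c449be828820) (.node (nat_lit 0x38daa8d1d97ef1aeda4cbd61c9afe541bc920820) (.node (nat_lit 0x38daa7ee91cbaf586b1d9598be4d1f2989e48820) (.leaf (nat_lit 0x38daa7e68edc6f25eadcae190ecc9e2991f48820)) (.node (nat_lit 0x38daa8bddba6717e5ab3d4a1d62fc941be520820)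 (.leaf (nat_lit 0x38daa7ee91cbaf586b1d9598be4d1f2989e48820)) (.leaf (nat_lit 0x38daa8bddba6717e5ab3d4a1d62fc941be520820)))) (.node (nat_lit 0x38daa8edd4cbf159db5d95e0ce2d3f418be20820) (.node (nat_lit 0x38daa8e5cfdd31265afcaea13eacbe4193f20820) (.leaf (nat_lit 0x38daa8d1d97ef1aeda4cbd61c9afe541bc920820)) (.leaf (nat_lit 0x38daa8e5cfdd31265afcaea13eacbe4193f20820))) (.node (nat_lit 0x38daaa39f98ef56ede50c567c5b3e849bc428820) (.leaf (nat_lit 0x38daa8edd4cbf159db5d95e0ce2d3f418be20820)) (.leaf (nat_lit 0x38daaa39f98ef56ede50c567c5b3e849bc428820))))) (.node (nat_lit 0x38daacbf71a3a5785713d5bab67109f9885f0820) (.node (nat_lit 0x38daaa6deecc7555dedd96270e309f4991e28820) (.node (nat_lit 0x38daaa65f1dbb5285f1cada6beb11e4989f28820) (.leaf (nat_lit 0x38daaa45fb76758e5eabb4a7d833c449be828820)) (.leaf (nat_lit 0x38daaa65f1dbb5285f1cada6beb11e4989f28820))) (.node (nat_lit 0x38daacbb6f8d256656f0c6bb35f0a8f9924f0820)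 (.leaf (nat_lit 0x38daaa6deecc7555dedd96270e309f4991e28820)) (.leaf (nat_lit 0x38daacbb6f8d256656f0c6bb35f0a8f9924f0820)))) (.node (nat_lit 0x38daacd36e7c65a5d6ccbe3b09f085f9909f0820) (.node (nat_lit 0x38daacc77473e589d74bb5fac87124f98a8f0820) (.leaf (nat_lit 0x38daacbf71a3a5785713d5bab67109f9885f0820)) (.leaf (nat_lit 0x38daacc77473e589d74bb5fac87124f98a8f0820))) (.node (nat_lit 0x38daadbb348beb69cb50c5f8c5f528f18a4f8820) (.leaf (nat_lit 0x38daacd36e7c65a5d6ccbe3b09f085f9909f0820)) (.leaf (nat_lit 0x38daadbb348beb69cb50c5f8c5f528f18a4f8820)))))) (.node (nat_lit 0x38dd16bd5ba671dbd995e4e1a92fc9123e531020) (.node (nat_lit 0x38dd153db9a6eddd6275e3177943e9323c511020) (.node (nat_lit 0x38daadc72f752b864aebb6b93874a4f1928f8820) (.leaf (nat_lit 0x38daadbf2ea46b75cad3d639067489f1905f8820)) (.node (nat_lit 0x38daadd3317baba84b0cbdb8b9f505f1889f8820) (.leaf (nat_lit 0x38daadc72f752b864aebb6b93874a4f1928f8820))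 (.leaf (nat_lit 0x38daadd3317baba84b0cbdb8b9f505f1889f8820)))) (.node (nat_lit 0x38dd1565b4dbed3ae39767572d413e320bf11020) (.node (nat_lit 0x38dd1551bb7e6dcbe192ecd7aac3c5323e911020) (.leaf (nat_lit 0x38dd153db9a6eddd6275e3177943e9323c511020)) (.leaf (nat_lit 0x38dd1551bb7e6dcbe192ecd7aac3c5323e911020))) (.node (nat_lit 0x38dd156dafcd2cc963ba9f175bc0bf3213e11020) (.leaf (nat_lit 0x38dd1565b4dbed3ae39767572d413e320bf11020)) (.leaf (nat_lit 0x38dd156dafcd2cc963ba9f175bc0bf3213e11020))))) (.node (nat_lit 0x38dd17aa9b6e7b6bf190c4e5a5d7c22a3e649020) (.node (nat_lit 0x38dd16e54fdd31395bb767215d2cbe1213f31020) (.node (nat_lit 0x38dd16d1597ef1cd5a72eb217aafe5123c931020) (.leaf (nat_lit 0x38dd16bd5ba671dbd995e4e1a92fc9123e531020)) (.leaf (nat_lit 0x38dd16d1597ef1cd5a72eb217aafe5123c931020))) (.node (nat_lit 0x38dd16ed54cbf0cadb9a9f612bad3f120be31020) (.leaf (nat_lit 0x38dd16e54fdd31395bb767215d2cbe1213f31020))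 (.leaf (nat_lit 0x38dd16ed54cbf0cadb9a9f612bad3f120be31020)))) (.node (nat_lit 0x38dd17e68adb7b35f2d766250d54de2a05f49020) (.node (nat_lit 0x38dd17b69956fb8d726bb3257857e62a3c249020) (.leaf (nat_lit 0x38dd17aa9b6e7b6bf190c4e5a5d7c22a3e649020)) (.leaf (nat_lit 0x38dd17b69956fb8d726bb3257857e62a3c249020))) (.node (nat_lit 0x38dd17ee8dcabac8731a9da4bbd45f2a0de49020) (.leaf (nat_lit 0x38dd17e68adb7b35f2d766250d54de2a05f49020)) (.leaf (nat_lit 0x38dd17ee8dcabac8731a9da4bbd45f2a0de49020)))))))) (.node (nat_lit 0x38df4cbb6a8b57c642f2eead3ae0c8fa444f1420) (.node (nat_lit 0x38df456db1cbaf096bb65f195c4d1f3249e11420) (.node (nat_lit 0x38dd1cd36a7b67c5b2d2ee350adcc5fa049f1020) (.node (nat_lit 0x38dd1a6deacb78c5f6da9e2b0bc8df4a05e29020) (.node (nat_lit 0x38dd1a35fb56798bf58bb4eba84bc64a3e229020) (.leaf (nat_lit 0x38dd1a29f96ef96d7670c32b75cbe24a3c629020)) (.node (nat_lit 0x38dd1a65eddab938771765aabd485e4a0df29020)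 (.leaf (nat_lit 0x38dd1a35fb56798bf58bb4eba84bc64a3e229020)) (.leaf (nat_lit 0x38dd1a65eddab938771765aabd485e4a0df29020)))) (.node (nat_lit 0x38dd1cb77453e78ab38bb775285d26fa0a2f1020) (.node (nat_lit 0x38dd1cab6f6d276933b0c73555dca2fa126f1020) (.leaf (nat_lit 0x38dd1a6deacb78c5f6da9e2b0bc8df4a05e29020)) (.leaf (nat_lit 0x38dd1cab6f6d276933b0c73555dca2fa126f1020))) (.node (nat_lit 0x38dd1cbf6da2a7d83315e5b4b95c49fa0c5f1020) (.leaf (nat_lit 0x38dd1cb77453e78ab38bb775285d26fa0a2f1020)) (.leaf (nat_lit 0x38dd1cbf6da2a7d83315e5b4b95c49fa0c5f1020))))) (.node (nat_lit 0x38dd1dd32d7a99c84f12edaebae845f20c9f9020) (.node (nat_lit 0x38dd1db72f5519894fabb72f5868a6f2122f9020) (.node (nat_lit 0x38dd1dab346bd96acf90c76f25e922f20a6f9020) (.leaf (nat_lit 0x38dd1cd36a7b67c5b2d2ee350adcc5fa049f1020)) (.leaf (nat_lit 0x38dd1dab346bd96acf90c76f25e922f20a6f9020))) (.node (nat_lit 0x38dd1dbf2aa359d5ced5e62f0968c9f2045f9020)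 (.leaf (nat_lit 0x38dd1db72f5519894fabb72f5868a6f2122f9020)) (.leaf (nat_lit 0x38dd1dbf2aa359d5ced5e62f0968c9f2045f9020)))) (.node (nat_lit 0x38df4545b976efdb6975e419894fe4327c811420) (.node (nat_lit 0x38df4539bb8e6fcc6a12ead96acfc8327e411420) (.leaf (nat_lit 0x38dd1dd32d7a99c84f12edaebae845f20c9f9020)) (.leaf (nat_lit 0x38df4539bb8e6fcc6a12ead96acfc8327e411420))) (.node (nat_lit 0x38df4565aedc6ebaeb9887592b4c9e3251f11420) (.leaf (nat_lit 0x38df4545b976efdb6975e419894fe4327c811420)) (.leaf (nat_lit 0x38df4565aedc6ebaeb9887592b4c9e3251f11420)))))) (.node (nat_lit 0x38df47662ddab8b9f75885eacb485e224df41420) (.node (nat_lit 0x38df46e551dbb4b95fb887275b311e1249f31420) (.node (nat_lit 0x38df46b9598ef5cb5d72ec278ab3e8127c431420) (.leaf (nat_lit 0x38df456db1cbaf096bb65f195c4d1f3249e11420)) (.node (nat_lit 0x38df46c55b7675dc5e15e2e76933c4127e831420) (.leaf (nat_lit 0x38df46b9598ef5cb5d72ec278ab3e8127c431420))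 (.leaf (nat_lit 0x38df46c55b7675dc5e15e2e76933c4127e831420)))) (.node (nat_lit 0x38df472a396ef97b7573d42b864be2227c641420) (.node (nat_lit 0x38df46ed4ecc750adf965f672c309f1251e31420) (.leaf (nat_lit 0x38df46e551dbb4b95fb887275b311e1249f31420)) (.leaf (nat_lit 0x38df46ed4ecc750adf965f672c309f1251e31420))) (.node (nat_lit 0x38df47363b5679ac760cbaeb69cbc6227e241420) (.leaf (nat_lit 0x38df472a396ef97b7573d42b864be2227c641420)) (.leaf (nat_lit 0x38df47363b5679ac760cbaeb69cbc6227e241420))))) (.node (nat_lit 0x38df48e5cadb7ab672f886a53b54de4245f21420) (.node (nat_lit 0x38df48a9db6e7b7c7213d2e56657c2427e621420) (.node (nat_lit 0x38df476e2acb790676f65eab3c48df2245e41420) (.leaf (nat_lit 0x38df47662ddab8b9f75885eacb485e224df41420)) (.leaf (nat_lit 0x38df476e2acb790676f65eab3c48df2245e41420))) (.node (nat_lit 0x38df48b5d956fbab716cbc2589d7e6427c221420) (.leaf (nat_lit 0x38df48a9db6e7b7c7213d2e56657c2427e621420))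 (.leaf (nat_lit 0x38df48b5d956fbab716cbc2589d7e6427c221420)))) (.node (nat_lit 0x38df4cab716b977943b3d72d566102fa486f1420) (.node (nat_lit 0x38df48edcdcabb09f3565de4cc545f424de21420) (.leaf (nat_lit 0x38df48e5cadb7ab672f886a53b54de4245f21420)) (.leaf (nat_lit 0x38df48edcdcabb09f3565de4cc545f424de21420))) (.node (nat_lit 0x38df4cb76e5457aac38cbf6d29e086fa502f1420) (.leaf (nat_lit 0x38df4cab716b977943b3d72d566102fa486f1420)) (.leaf (nat_lit 0x38df4cb76e5457aac38cbf6d29e086fa502f1420))))))) (.node (nat_lit 0x38e2e7b69b56796d7670c32b75cbc6293e24a020) (.node (nat_lit 0x38e2e551b97ef1dbd995e4e1a92fe5313c912020) (.node (nat_lit 0x38df4db73153a1a92facbf3159d906f2482f9420) (.node (nat_lit 0x38df4cc76d7297d9c355e5ecc96044fa4c8f1420) (.leaf (nat_lit 0x38df4cbb6a8b57c642f2eead3ae0c8fa444f1420)) (.node (nat_lit 0x38df4dab2e6c617aaf93d771265882f2506f9420) (.leaf (nat_lit 0x38df4cc76d7297d9c355e5ecc96044fa4c8f1420))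 (.leaf (nat_lit 0x38df4dab2e6c617aaf93d771265882f2506f9420)))) (.node (nat_lit 0x38df4dc72a7361d62ef5e6b13958c4f2448f9420) (.node (nat_lit 0x38df4dbb2d8aa1c9af52edf0cad848f24c4f9420) (.leaf (nat_lit 0x38df4db73153a1a92facbf3159d906f2482f9420)) (.leaf (nat_lit 0x38df4dbb2d8aa1c9af52edf0cad848f24c4f9420))) (.node (nat_lit 0x38e2e53dbba671cd5a72eb217aafc9313e512020) (.leaf (nat_lit 0x38df4dc72a7361d62ef5e6b13958c4f2448f9420)) (.leaf (nat_lit 0x38e2e53dbba671cd5a72eb217aafc9313e512020))))) (.node (nat_lit 0x38e2e6d15b7e6ddd6275e3177943c5113e932020) (.node (nat_lit 0x38e2e56db4cbf1395bb767215d2d3f310be12020) (.node (nat_lit 0x38e2e565afdd30cadb9a9f612bacbe3113f12020) (.leaf (nat_lit 0x38e2e551b97ef1dbd995e4e1a92fe5313c912020)) (.leaf (nat_lit 0x38e2e565afdd30cadb9a9f612bacbe3113f12020))) (.node (nat_lit 0x38e2e6bd59a6edcbe192ecd7aac3e9113c532020) (.leaf (nat_lit 0x38e2e56db4cbf1395bb767215d2d3f310be12020))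 (.leaf (nat_lit 0x38e2e6bd59a6edcbe192ecd7aac3e9113c532020)))) (.node (nat_lit 0x38e2e6ed4fcd2d3ae39767572d40bf1113e32020) (.node (nat_lit 0x38e2e6e554dbecc963ba9f175bc13e110bf32020) (.leaf (nat_lit 0x38e2e6d15b7e6ddd6275e3177943c5113e932020)) (.leaf (nat_lit 0x38e2e6e554dbecc963ba9f175bc13e110bf32020))) (.node (nat_lit 0x38e2e7aa996ef98bf58bb4eba84be2293c64a020) (.leaf (nat_lit 0x38e2e6ed4fcd2d3ae39767572d40bf1113e32020)) (.leaf (nat_lit 0x38e2e7aa996ef98bf58bb4eba84be2293c64a020)))))) (.node (nat_lit 0x38e2ecab746bd9894fabb72f586922f90a6f2020) (.node (nat_lit 0x38e2ea29fb6e7b8d726bb3257857c2493e62a020) (.node (nat_lit 0x38e2e7e68ddab8c5f6da9e2b0bc85e290df4a020) (.leaf (nat_lit 0x38e2e7b69b56796d7670c32b75cbc6293e24a020)) (.node (nat_lit 0x38e2e7ee8acb7938771765aabd48df2905e4a020) (.leaf (nat_lit 0x38e2e7e68ddab8c5f6da9e2b0bc85e290df4a020)) (.leaf (nat_lit 0x38e2e7ee8acb7938771765aabd48df2905e4a020))))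 (.node (nat_lit 0x38e2ea65eadb7ac8731a9da4bbd4de4905f2a020) (.node (nat_lit 0x38e2ea35f956fb6bf190c4e5a5d7e6493c22a020) (.leaf (nat_lit 0x38e2ea29fb6e7b8d726bb3257857c2493e62a020)) (.leaf (nat_lit 0x38e2ea35f956fb6bf190c4e5a5d7e6493c22a020))) (.node (nat_lit 0x38e2ea6dedcabb35f2d766250d545f490de2a020) (.leaf (nat_lit 0x38e2ea65eadb7ac8731a9da4bbd4de4905f2a020)) (.leaf (nat_lit 0x38e2ea6dedcabb35f2d766250d545f490de2a020))))) (.node (nat_lit 0x38e2edab2f6d278ab38bb775285ca2f1126fa020) (.node (nat_lit 0x38e2ecbf6aa359c84f12edaebae8c9f9045f2020) (.node (nat_lit 0x38e2ecb76f55196acf90c76f25e8a6f9122f2020) (.leaf (nat_lit 0x38e2ecab746bd9894fabb72f586922f90a6f2020)) (.leaf (nat_lit 0x38e2ecb76f55196acf90c76f25e8a6f9122f2020))) (.node (nat_lit 0x38e2ecd36d7a99d5ced5e62f096845f90c9f2020) (.leaf (nat_lit 0x38e2ecbf6aa359c84f12edaebae8c9f9045f2020)) (.leaf (nat_lit 0x38e2ecd36d7a99d5ced5e62f096845f90c9f2020))))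 (.node (nat_lit 0x38e2edbf2da2a7c5b2d2ee350adc49f10c5fa020) (.node (nat_lit 0x38e2edb73453e76933b0c73555dd26f10a2fa020) (.leaf (nat_lit 0x38e2edab2f6d278ab38bb775285ca2f1126fa020)) (.leaf (nat_lit 0x38e2edb73453e76933b0c73555dd26f10a2fa020))) (.node (nat_lit 0x38e2edd32a7b67d83315e5b4b95cc5f1049fa020) (.leaf (nat_lit 0x38e2edbf2da2a7c5b2d2ee350adc49f10c5fa020)) (.leaf (nat_lit 0x38e2edd32a7b67d83315e5b4b95cc5f1049fa020))))))))) (.node (nat_lit 0x38f797aa916b975bc19d94edae61022fc864f820) (.node (nat_lit 0x38f3b6c54f752b3c4a1762f96d74a41792837c20) (.node (nat_lit 0x38e8f8edcacb78b9f75885eacb48df4145e22420) (.node (nat_lit 0x38e8f6ed51cbaebaeb9887592b4d1f1149e32420) (.node (nat_lit 0x38e8f56daecc74b95fb887275b309f3151e12420) (.node (nat_lit 0x38e8f545bb7675cb5d72ec278ab3c4317e812420) (.leaf (nat_lit 0x38e8f539b98ef5dc5e15e2e76933e8317c412420)) (.node (nat_lit 0x38e8f565b1dbb50adf965f672c311e3149f12420)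 (.leaf (nat_lit 0x38e8f545bb7675cb5d72ec278ab3c4317e812420)) (.leaf (nat_lit 0x38e8f565b1dbb50adf965f672c311e3149f12420)))) (.node (nat_lit 0x38e8f6c55976efcc6a12ead96acfe4117c832420) (.node (nat_lit 0x38e8f6b95b8e6fdb6975e419894fc8117e432420) (.leaf (nat_lit 0x38e8f56daecc74b95fb887275b309f3151e12420)) (.leaf (nat_lit 0x38e8f6b95b8e6fdb6975e419894fc8117e432420))) (.node (nat_lit 0x38e8f6e54edc6f096bb65f195c4c9e1151f32420) (.leaf (nat_lit 0x38e8f6c55976efcc6a12ead96acfe4117c832420)) (.leaf (nat_lit 0x38e8f6e54edc6f096bb65f195c4c9e1151f32420))))) (.node (nat_lit 0x38e8f76e2dcabab672f886a53b545f214de42420) (.node (nat_lit 0x38e8f7363956fb7c7213d2e56657e6217c242420) (.node (nat_lit 0x38e8f72a3b6e7bab716cbc2589d7c2217e642420) (.leaf (nat_lit 0x38e8f6ed51cbaebaeb9887592b4d1f1149e32420)) (.leaf (nat_lit 0x38e8f72a3b6e7bab716cbc2589d7c2217e642420))) (.node (nat_lit 0x38e8f7662adb7b09f3565de4cc54de2145f42420)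 (.leaf (nat_lit 0x38e8f7363956fb7c7213d2e56657e6217c242420)) (.leaf (nat_lit 0x38e8f7662adb7b09f3565de4cc54de2145f42420)))) (.node (nat_lit 0x38e8f8b5db56797b7573d42b864bc6417e222420) (.node (nat_lit 0x38e8f8a9d96ef9ac760cbaeb69cbe2417c622420) (.leaf (nat_lit 0x38e8f76e2dcabab672f886a53b545f214de42420)) (.leaf (nat_lit 0x38e8f8a9d96ef9ac760cbaeb69cbe2417c622420))) (.node (nat_lit 0x38e8f8e5cddab90676f65eab3c485e414df22420) (.leaf (nat_lit 0x38e8f8b5db56797b7573d42b864bc6417e222420)) (.leaf (nat_lit 0x38e8f8e5cddab90676f65eab3c485e414df22420)))))) (.node (nat_lit 0x38e8fdbb2a8b57d9c355e5ecc960c8f1444fa420) (.node (nat_lit 0x38e8fcbb6d8aa1d62ef5e6b1395848f94c4f2420) (.node (nat_lit 0x38e8fcab6e6c61a92facbf3159d882f9506f2420) (.leaf (nat_lit 0x38e8f8edcacb78b9f75885eacb48df4145e22420)) (.node (nat_lit 0x38e8fcb77153a17aaf93d771265906f9482f2420) (.leaf (nat_lit 0x38e8fcab6e6c61a92facbf3159d882f9506f2420))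 (.leaf (nat_lit 0x38e8fcb77153a17aaf93d771265906f9482f2420)))) (.node (nat_lit 0x38e8fdab316b97aac38cbf6d29e102f1486fa420) (.node (nat_lit 0x38e8fcc76a7361c9af52edf0cad8c4f9448f2420) (.leaf (nat_lit 0x38e8fcbb6d8aa1d62ef5e6b1395848f94c4f2420)) (.leaf (nat_lit 0x38e8fcc76a7361c9af52edf0cad8c4f9448f2420))) (.node (nat_lit 0x38e8fdb72e54577943b3d72d566086f1502fa420) (.leaf (nat_lit 0x38e8fdab316b97aac38cbf6d29e102f1486fa420)) (.leaf (nat_lit 0x38e8fdb72e54577943b3d72d566086f1502fa420))))) (.node (nat_lit 0x38f3b545b473e53b5577643b8d7124378a817c20) (.node (nat_lit 0x38f3b539af8d24cc561a9afb6bf0a83792417c20) (.node (nat_lit 0x38e8fdc72d7297c642f2eead3ae044f14c8fa420) (.leaf (nat_lit 0x38e8fdbb2a8b57d9c355e5ecc960c8f1444fa420)) (.leaf (nat_lit 0x38e8fdc72d7297c642f2eead3ae044f14c8fa420))) (.node (nat_lit 0x38f3b53db1a3a50d56765b3b7c71093788517c20) (.leaf (nat_lit 0x38f3b539af8d24cc561a9afb6bf0a83792417c20))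 (.leaf (nat_lit 0x38f3b53db1a3a50d56765b3b7c71093788517c20)))) (.node (nat_lit 0x38f3b6b9548beacb497a9c398bf528178a437c20) (.node (nat_lit 0x38f3b551ae7c64bbd59884fbab70853790917c20) (.leaf (nat_lit 0x38f3b545b473e53b5577643b8d7124378a817c20)) (.leaf (nat_lit 0x38f3b551ae7c64bbd59884fbab70853790917c20))) (.node (nat_lit 0x38f3b6bd4ea46b0bc9965cf9ac74891790537c20) (.leaf (nat_lit 0x38f3b6b9548beacb497a9c398bf528178a437c20)) (.leaf (nat_lit 0x38f3b6bd4ea46b0bc9965cf9ac74891790537c20))))))) (.node (nat_lit 0x38f3ba35ee54575bc19d94edae60864f9022fc20) (.node (nat_lit 0x38f3b7b69153a15d2e7d93317e59062f8824fc20) (.node (nat_lit 0x38f3b7362f55195c4e1d92ef6e68a62792247c20) (.node (nat_lit 0x38f3b6d1517baabd4a7883397b75051788937c20) (.leaf (nat_lit 0x38f3b6c54f752b3c4a1762f96d74a41792837c20)) (.node (nat_lit 0x38f3b72a346bd92b4d7cac2f8ee922278a647c20) (.leaf (nat_lit 0x38f3b6d1517baabd4a7883397b75051788937c20))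 (.leaf (nat_lit 0x38f3b72a346bd92b4d7cac2f8ee922278a647c20)))) (.node (nat_lit 0x38f3b7522d7a98be4eb884afdb6845278c947c20) (.node (nat_lit 0x38f3b73e2aa3590ece565d6fcc68c92784547c20) (.leaf (nat_lit 0x38f3b7362f55195c4e1d92ef6e68a62792247c20)) (.leaf (nat_lit 0x38f3b73e2aa3590ece565d6fcc68c92784547c20))) (.node (nat_lit 0x38f3b7aa8e6c612bad9cacf1aed8822f9064fc20) (.leaf (nat_lit 0x38f3b7522d7a98be4eb884afdb6845278c947c20)) (.leaf (nat_lit 0x38f3b7aa8e6c612bad9cacf1aed8822f9064fc20))))) (.node (nat_lit 0x38f3b8b5d453e75b317d94358e5d26478a227c20) (.node (nat_lit 0x38f3b7c68a73613eae576571cd58c42f8484fc20) (.node (nat_lit 0x38f3b7ba8d8aa0ce2eba9cb1dbd8482f8c44fc20) (.leaf (nat_lit 0x38f3b7b69153a15d2e7d93317e59062f8824fc20)) (.leaf (nat_lit 0x38f3b7ba8d8aa0ce2eba9cb1dbd8482f8c44fc20))) (.node (nat_lit 0x38f3b8a9cf6d272c321caaf56edca24792627c20) (.leaf (nat_lit 0x38f3b7c68a73613eae576571cd58c42f8484fc20))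 (.leaf (nat_lit 0x38f3b8a9cf6d272c321caaf56edca24792627c20)))) (.node (nat_lit 0x38f3b8d1ca7b66beb2588575cb5cc54784927c20) (.node (nat_lit 0x38f3b8bdcda2a70e32b65cb5dc5c49478c527c20) (.leaf (nat_lit 0x38f3b8b5d453e75b317d94358e5d26478a227c20)) (.leaf (nat_lit 0x38f3b8bdcda2a70e32b65cb5dc5c49478c527c20))) (.node (nat_lit 0x38f3ba29f16b972d427cab2d7ee1024f8862fc20) (.leaf (nat_lit 0x38f3b8d1ca7b66beb2588575cb5cc54784927c20)) (.leaf (nat_lit 0x38f3ba29f16b972d427cab2d7ee1024f8862fc20)))))) (.node (nat_lit 0x38f796b94f8d253b5577643b8d70a817d2437820) (.node (nat_lit 0x38f79539b48beb3c4a1762f96d752837ca417820) (.node (nat_lit 0x38f3ba39ea8b56cec25a9d6dcbe0c84f8442fc20) (.leaf (nat_lit 0x38f3ba35ee54575bc19d94edae60864f9022fc20)) (.node (nat_lit 0x38f3ba45ed72973e42b764addd60444f8c82fc20) (.leaf (nat_lit 0x38f3ba39ea8b56cec25a9d6dcbe0c84f8442fc20)) (.leaf (nat_lit 0x38f3ba45ed72973e42b764addd60444f8c82fc20))))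 (.node (nat_lit 0x38f79545af752acb497a9c398bf4a437d2817820) (.node (nat_lit 0x38f7953daea46abd4a7883397b748937d0517820) (.leaf (nat_lit 0x38f79539b48beb3c4a1762f96d752837ca417820)) (.leaf (nat_lit 0x38f7953daea46abd4a7883397b748937d0517820))) (.node (nat_lit 0x38f79551b17bab0bc9965cf9ac750537c8917820) (.leaf (nat_lit 0x38f79545af752acb497a9c398bf4a437d2817820)) (.leaf (nat_lit 0x38f79551b17bab0bc9965cf9ac750537c8917820))))) (.node (nat_lit 0x38f7972a2f6d275b317d94358e5ca227d2647820) (.node (nat_lit 0x38f796c55473e4cc561a9afb6bf12417ca837820) (.node (nat_lit 0x38f796bd51a3a4bbd59884fbab710917c8537820) (.leaf (nat_lit 0x38f796b94f8d253b5577643b8d70a817d2437820)) (.leaf (nat_lit 0x38f796bd51a3a4bbd59884fbab710917c8537820))) (.node (nat_lit 0x38f796d14e7c650d56765b3b7c708517d0937820) (.leaf (nat_lit 0x38f796c55473e4cc561a9afb6bf12417ca837820)) (.leaf (nat_lit 0x38f796d14e7c650d56765b3b7c708517d0937820))))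 (.node (nat_lit 0x38f7973e2da2a6beb2588575cb5c4927cc547820) (.node (nat_lit 0x38f797363453e72c321caaf56edd2627ca247820) (.leaf (nat_lit 0x38f7972a2f6d275b317d94358e5ca227d2647820)) (.leaf (nat_lit 0x38f797363453e72c321caaf56edd2627ca247820))) (.node (nat_lit 0x38f797522a7b670e32b65cb5dc5cc527c4947820) (.leaf (nat_lit 0x38f7973e2da2a6beb2588575cb5c4927cc547820)) (.leaf (nat_lit 0x38f797522a7b670e32b65cb5dc5cc527c4947820)))))))) (.node (nat_lit 0x41170bcb51aba9b6beccce3aa9f069f08e5f9820) (.node (nat_lit 0x4117076a32bd70f9db7da654ce34be3893f19820) (.node (nat_lit 0x38f798d1cd7a990ece565d6fcc684547cc927820) (.node (nat_lit 0x38f797c68d7296cec25a9d6dcbe0442fcc84f820) (.node (nat_lit 0x38f797b68e54572d427cab2d7ee0862fd024f820) (.leaf (nat_lit 0x38f797aa916b975bc19d94edae61022fc864f820)) (.node (nat_lit 0x38f797ba8a8b573e42b764addd60c82fc444f820) (.leaf (nat_lit 0x38f797b68e54572d427cab2d7ee0862fd024f820))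 (.leaf (nat_lit 0x38f797ba8a8b573e42b764addd60c82fc444f820)))) (.node (nat_lit 0x38f798b5cf55192b4d7cac2f8ee8a647d2227820) (.node (nat_lit 0x38f798a9d46bd95c4e1d92ef6e692247ca627820) (.leaf (nat_lit 0x38f797c68d7296cec25a9d6dcbe0442fcc84f820)) (.leaf (nat_lit 0x38f798a9d46bd95c4e1d92ef6e692247ca627820))) (.node (nat_lit 0x38f798bdcaa358be4eb884afdb68c947c4527820) (.leaf (nat_lit 0x38f798b5cf55192b4d7cac2f8ee8a647d2227820)) (.leaf (nat_lit 0x38f798bdcaa358be4eb884afdb68c947c4527820))))) (.node (nat_lit 0x38f79a45ea7360ce2eba9cb1dbd8c44fc482f820) (.node (nat_lit 0x38f79a35f153a12bad9cacf1aed9064fc822f820) (.node (nat_lit 0x38f79a29ee6c615d2e7d93317e58824fd062f820) (.leaf (nat_lit 0x38f798d1cd7a990ece565d6fcc684547cc927820)) (.leaf (nat_lit 0x38f79a29ee6c615d2e7d93317e58824fd062f820))) (.node (nat_lit 0x38f79a39ed8aa13eae576571cd58484fcc42f820) (.leaf (nat_lit 0x38f79a35f153a12bad9cacf1aed9064fc822f820))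 (.leaf (nat_lit 0x38f79a39ed8aa13eae576571cd58484fcc42f820)))) (.node (nat_lit 0x411707563a95f19e59f3dd15d637e538bc919820) (.node (nat_lit 0x4117074a37aeb1beda8ccbd5c9b7c938be519820) (.leaf (nat_lit 0x38f79a45ea7360ce2eba9cb1dbd8c44fc482f820)) (.leaf (nat_lit 0x4117074a37aeb1beda8ccbd5c9b7c938be519820))) (.node (nat_lit 0x4117075e35d4b1465b3c7ed53eb53f388be19820) (.leaf (nat_lit 0x411707563a95f19e59f3dd15d637e538bc919820)) (.leaf (nat_lit 0x4117075e35d4b1465b3c7ed53eb53f388be19820)))))) (.node (nat_lit 0x4117095eaed47745671c7da6deb0ff2887e49820) (.node (nat_lit 0x411708ddd2d56d49e37c7e5acea8bf1893e39820) (.node (nat_lit 0x411708c9daadedbe61eccd1bd9abe918bc539820) (.leaf (nat_lit 0x4117076a32bd70f9db7da654ce34be3893f19820)) (.node (nat_lit 0x411708d5d796ad9ee293dbdbc62bc518be939820) (.leaf (nat_lit 0x411708c9daadedbe61eccd1bd9abe918bc539820)) (.leaf (nat_lit 0x411708d5d796ad9ee293dbdbc62bc518be939820))))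 (.node (nat_lit 0x4117093aba8df78e65edb527d533e328bc749820) (.node (nat_lit 0x411708e9d5bcacf6633da6db3e293e188bf39820) (.leaf (nat_lit 0x411708ddd2d56d49e37c7e5acea8bf1893e39820)) (.leaf (nat_lit 0x411708e9d5bcacf6633da6db3e293e188bf39820))) (.node (nat_lit 0x41170946b776b76ee68ac3e7c6b3c728be349820) (.leaf (nat_lit 0x4117093aba8df78e65edb527d533e328bc749820)) (.leaf (nat_lit 0x41170946b776b76ee68ac3e7c6b3c728be349820))))) (.node (nat_lit 0x41170ade51d3b346eedc7e18aecc7f488fe29820) (.node (nat_lit 0x41170aba578eb38eee8db3d9c54fc348be729820) (.node (nat_lit 0x4117096ab1bbb6f6e6dda626ae307e288ff49820) (.leaf (nat_lit 0x4117095eaed47745671c7da6deb0ff2887e49820)) (.leaf (nat_lit 0x4117096ab1bbb6f6e6dda626ae307e288ff49820))) (.node (nat_lit 0x41170ac65a75f36e6deac519d6cfe748bc329820) (.leaf (nat_lit 0x41170aba578eb38eee8db3d9c54fc348be729820)) (.leaf (nat_lit 0x41170ac65a75f36e6deac519d6cfe748bc329820))))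 (.node (nat_lit 0x41170bbb528d6989bf6db67ac570a3f0927f9820) (.node (nat_lit 0x41170aea4ebc72f56f1da598de4cfe4887f29820) (.leaf (nat_lit 0x41170ade51d3b346eedc7e18aecc7f488fe29820)) (.leaf (nat_lit 0x41170aea4ebc72f56f1da598de4cfe4887f29820))) (.node (nat_lit 0x41170bc75574a9663f2ac6fb36f127f08a3f9820) (.leaf (nat_lit 0x41170bbb528d6989bf6db67ac570a3f0927f9820)) (.leaf (nat_lit 0x41170bc75574a9663f2ac6fb36f127f08a3f9820))))))) (.node (nat_lit 0x411d1942ba5dfb8df26db329953fe628fc249c20) (.node (nat_lit 0x411d15d61796adcce194ecdbb7abc530fe911c20) (.node (nat_lit 0x41170d46f2755f69d36ac678c6f4a7f8923f1820) (.node (nat_lit 0x41170bd74e9469953f13ddbad670e5f0869f9820) (.leaf (nat_lit 0x41170bcb51aba9b6beccce3aa9f069f08e5f9820)) (.node (nat_lit 0x41170d3af58c9f86532db6f9357523f88a7f1820) (.leaf (nat_lit 0x41170bd74e9469953f13ddbad670e5f0869f9820)) (.leaf (nat_lit 0x41170d3af58c9f86532db6f9357523f88a7f1820))))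 (.node (nat_lit 0x41170d56f1939f96d2d3de38a67465f88e9f1820) (.node (nat_lit 0x41170d4aeeac5fb5530ccdb8d9f4e9f8865f1820) (.leaf (nat_lit 0x41170d46f2755f69d36ac678c6f4a7f8923f1820)) (.leaf (nat_lit 0x41170d4aeeac5fb5530ccdb8d9f4e9f8865f1820))) (.node (nat_lit 0x411d15ca1aadeddde26fe31b9a2be930fc511c20) (.leaf (nat_lit 0x41170d56f1939f96d2d3de38a67465f88e9f1820)) (.leaf (nat_lit 0x411d15ca1aadeddde26fe31b9a2be930fc511c20))))) (.node (nat_lit 0x411d18557a95f1cdda74eb1597b7e510fc931c20) (.node (nat_lit 0x411d15ea15bcad37e399675b4da93e30cbf11c20) (.node (nat_lit 0x411d15de12d56cca63bb9f1afca8bf30d3e11c20) (.leaf (nat_lit 0x411d15d61796adcce194ecdbb7abc530fe911c20)) (.leaf (nat_lit 0x411d15de12d56cca63bb9f1afca8bf30d3e11c20))) (.node (nat_lit 0x411d184977aeb1dcd98fe4d5ba37c910fe531c20) (.leaf (nat_lit 0x411d15ea15bcad37e399675b4da93e30cbf11c20)) (.leaf (nat_lit 0x411d184977aeb1dcd98fe4d5ba37c910fe531c20))))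 (.node (nat_lit 0x411d186972bd713a5bb96714fdb4be10d3f31c20) (.node (nat_lit 0x411d185d75d4b0c7db9b9f554cb53f10cbe31c20) (.leaf (nat_lit 0x411d18557a95f1cdda74eb1597b7e510fc931c20)) (.leaf (nat_lit 0x411d185d75d4b0c7db9b9f554cb53f10cbe31c20))) (.node (nat_lit 0x411d192eb786bb6cf18ac4e9b6bfc228fe649c20) (.leaf (nat_lit 0x411d186972bd713a5bb96714fdb4be10d3f31c20)) (.leaf (nat_lit 0x411d192eb786bb6cf18ac4e9b6bfc228fe649c20)))))) (.node (nat_lit 0x411d1baf55849967cf8ac77346ed22f0ca6f9c20) (.node (nat_lit 0x411d1aae5a85f96df66ac31f96d3e248fc629c20) (.node (nat_lit 0x411d195eb0d2fac5731b9da8dcbc5f28cde49c20) (.leaf (nat_lit 0x411d1942ba5dfb8df26db329953fe628fc249c20)) (.node (nat_lit 0x411d196aabbc3b36f2d96628adbcde28c5f49c20) (.leaf (nat_lit 0x411d195eb0d2fac5731b9da8dcbc5f28cde49c20)) (.leaf (nat_lit 0x411d196aabbc3b36f2d96628adbcde28c5f49c20)))) (.node (nat_lit 0x411d1ade4bd438c6f6db9e1eacd0df48c5e29c20)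 (.node (nat_lit 0x411d1ac2575eb98cf58db4dfb553c648fe229c20) (.leaf (nat_lit 0x411d1aae5a85f96df66ac31f96d3e248fc629c20)) (.leaf (nat_lit 0x411d1ac2575eb98cf58db4dfb553c648fe229c20))) (.node (nat_lit 0x411d1aea50baf9357719659eddd05e48cdf29c20) (.leaf (nat_lit 0x411d1ade4bd438c6f6db9e1eacd0df48c5e29c20)) (.leaf (nat_lit 0x411d1aea50baf9357719659eddd05e48cdf29c20))))) (.node (nat_lit 0x411d1d2ef285676a33aac736f6e4a2f8d26f1c20) (.node (nat_lit 0x411d1bcb4bac19d6cecfe632aa6cc9f0c45f9c20) (.node (nat_lit 0x411d1bc3525d598a4fadb732f56ca6f0d22f9c20) (.leaf (nat_lit 0x411d1baf55849967cf8ac77346ed22f0ca6f9c20)) (.leaf (nat_lit 0x411d1bc3525d598a4fadb732f56ca6f0d22f9c20))) (.node (nat_lit 0x411d1bd75092d9c54f14edb2d7ec45f0cc9f9c20) (.leaf (nat_lit 0x411d1bcb4bac19d6cecfe632aa6cc9f0c45f9c20)) (.leaf (nat_lit 0x411d1bd75092d9c54f14edb2d7ec45f0cc9f9c20)))) (.node (nat_lit 0x411d1d4af0aae7d5330fe5b6da6449f8cc5f1c20)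 (.node (nat_lit 0x411d1d42f55ca787b38db777456526f8ca2f1c20) (.leaf (nat_lit 0x411d1d2ef285676a33aac736f6e4a2f8d26f1c20)) (.leaf (nat_lit 0x411d1d42f55ca787b38db777456526f8ca2f1c20))) (.node (nat_lit 0x411d1d56eb9427c6b2d4ee36a7e4c5f8c49f1c20) (.leaf (nat_lit 0x411d1d4af0aae7d5330fe5b6da6449f8cc5f1c20)) (.leaf (nat_lit 0x411d1d56eb9427c6b2d4ee36a7e4c5f8c49f1c20))))))))))
noncomputable def AN_lS_T5 : ST := (.node (nat_lit 0x413575ba128d68cc3d5b9b7b6cf0a33792717c20) (.node (nat_lit 0x412558add786bb9c7153db69663fc21a7e639420) (.node (nat_lit 0x4122e85d72d56d37e399675b4da8bf11d3e30c20) (.node (nat_lit 0x4120baea51bbb745671c7da6deb07e498ff28820) (.node (nat_lit 0x4120b8e9d2bd71465b3c7ed53eb4be1993f38820) (.node (nat_lit 0x4120b76a35bcad49e37c7e5acea93e398bf18820) (.node (nat_lit 0x4120b7563796adbe61eccd1bd9abc539be918820) (.leaf (nat_lit 0x4120b74a3aaded9ee293dbdbc62be939bc518820))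 (.node (nat_lit 0x4120b75e32d56cf6633da6db3e28bf3993e18820) (.leaf (nat_lit 0x4120b7563796adbe61eccd1bd9abc539be918820)) (.leaf (nat_lit 0x4120b75e32d56cf6633da6db3e28bf3993e18820)))) (.node (nat_lit 0x4120b8d5da95f1beda8ccbd5c9b7e519bc938820) (.node (nat_lit 0x4120b8c9d7aeb19e59f3dd15d637c919be538820) (.leaf (nat_lit 0x4120b76a35bcad49e37c7e5acea93e398bf18820)) (.leaf (nat_lit 0x4120b8c9d7aeb19e59f3dd15d637c919be538820))) (.node (nat_lit 0x4120b8ddd5d4b0f9db7da654ce353f198be38820) (.leaf (nat_lit 0x4120b8d5da95f1beda8ccbd5c9b7e519bc938820)) (.leaf (nat_lit 0x4120b8ddd5d4b0f9db7da654ce353f198be38820))))) (.node (nat_lit 0x4120b96aaebc7346eedc7e18aeccfe2987f48820) (.node (nat_lit 0x4120b946ba75f38eee8db3d9c54fe729bc348820) (.node (nat_lit 0x4120b93ab78eb36e6deac519d6cfc329be748820) (.leaf (nat_lit 0x4120b8e9d2bd71465b3c7ed53eb4be1993f38820)) (.leaf (nat_lit 0x4120b93ab78eb36e6deac519d6cfc329be748820)))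 (.node (nat_lit 0x4120b95eb1d3b2f56f1da598de4c7f298fe48820) (.leaf (nat_lit 0x4120b946ba75f38eee8db3d9c54fe729bc348820)) (.leaf (nat_lit 0x4120b95eb1d3b2f56f1da598de4c7f298fe48820)))) (.node (nat_lit 0x4120bac65776b78e65edb527d533c749be328820) (.node (nat_lit 0x4120baba5a8df76ee68ac3e7c6b3e349bc728820) (.leaf (nat_lit 0x4120b96aaebc7346eedc7e18aeccfe2987f48820)) (.leaf (nat_lit 0x4120baba5a8df76ee68ac3e7c6b3e349bc728820))) (.node (nat_lit 0x4120bade4ed476f6e6dda626ae30ff4987e28820) (.leaf (nat_lit 0x4120bac65776b78e65edb527d533c749be328820)) (.leaf (nat_lit 0x4120bade4ed476f6e6dda626ae30ff4987e28820)))))) (.node (nat_lit 0x4120bd4af1aba9953f13ddbad67069f98e5f0820) (.node (nat_lit 0x4120bbcb4eac5f96d2d3de38a674e9f1865f8820) (.node (nat_lit 0x4120bbbb558c9f69d36ac678c6f523f18a7f8820) (.leaf (nat_lit 0x4120baea51bbb745671c7da6deb07e498ff28820)) (.node (nat_lit 0x4120bbc752755f86532db6f93574a7f1923f8820)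 (.leaf (nat_lit 0x4120bbbb558c9f69d36ac678c6f523f18a7f8820)) (.leaf (nat_lit 0x4120bbc752755f86532db6f93574a7f1923f8820)))) (.node (nat_lit 0x4120bd3af28d69663f2ac6fb36f0a3f9927f0820) (.node (nat_lit 0x4120bbd751939fb5530ccdb8d9f465f18e9f8820) (.leaf (nat_lit 0x4120bbcb4eac5f96d2d3de38a674e9f1865f8820)) (.leaf (nat_lit 0x4120bbd751939fb5530ccdb8d9f465f18e9f8820))) (.node (nat_lit 0x4120bd46f574a989bf6db67ac57127f98a3f0820) (.leaf (nat_lit 0x4120bd3af28d69663f2ac6fb36f0a3f9927f0820)) (.leaf (nat_lit 0x4120bd46f574a989bf6db67ac57127f98a3f0820))))) (.node (nat_lit 0x4122e5de15d4b13a5bb96714fdb53f31cbe10c20) (.node (nat_lit 0x4122e5ca17aeb1cdda74eb1597b7c931fe510c20) (.node (nat_lit 0x4120bd56ee9469b6beccce3aa9f0e5f9869f0820) (.leaf (nat_lit 0x4120bd4af1aba9953f13ddbad67069f98e5f0820)) (.leaf (nat_lit 0x4120bd56ee9469b6beccce3aa9f0e5f9869f0820))) (.node (nat_lit 0x4122e5d61a95f1dcd98fe4d5ba37e531fc910c20)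 (.leaf (nat_lit 0x4122e5ca17aeb1cdda74eb1597b7c931fe510c20)) (.leaf (nat_lit 0x4122e5d61a95f1dcd98fe4d5ba37e531fc910c20)))) (.node (nat_lit 0x4122e8497aadedcce194ecdbb7abe911fc530c20) (.node (nat_lit 0x4122e5ea12bd70c7db9b9f554cb4be31d3f10c20) (.leaf (nat_lit 0x4122e5de15d4b13a5bb96714fdb53f31cbe10c20)) (.leaf (nat_lit 0x4122e5ea12bd70c7db9b9f554cb4be31d3f10c20))) (.node (nat_lit 0x4122e8557796addde26fe31b9a2bc511fe930c20) (.leaf (nat_lit 0x4122e8497aadedcce194ecdbb7abe911fc530c20)) (.leaf (nat_lit 0x4122e8557796addde26fe31b9a2bc511fe930c20))))))) (.node (nat_lit 0x4122ed42f25d5967cf8ac77346eca6f9d22f0c20) (.node (nat_lit 0x4122eac25a5dfb6cf18ac4e9b6bfe649fc228c20) (.node (nat_lit 0x4122e942b75eb96df66ac31f96d3c629fe248c20) (.node (nat_lit 0x4122e86975bcacca63bb9f1afca93e11cbf30c20) (.leaf (nat_lit 0x4122e85d72d56d37e399675b4da8bf11d3e30c20)) (.node (nat_lit 0x4122e92eba85f98cf58db4dfb553e229fc648c20)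 (.leaf (nat_lit 0x4122e86975bcacca63bb9f1afca93e11cbf30c20)) (.leaf (nat_lit 0x4122e92eba85f98cf58db4dfb553e229fc648c20)))) (.node (nat_lit 0x4122e96ab0baf8c6f6db9e1eacd05e29cdf48c20) (.node (nat_lit 0x4122e95eabd439357719659eddd0df29c5e48c20) (.leaf (nat_lit 0x4122e942b75eb96df66ac31f96d3c629fe248c20)) (.leaf (nat_lit 0x4122e95eabd439357719659eddd0df29c5e48c20))) (.node (nat_lit 0x4122eaae5786bb8df26db329953fc249fe628c20) (.leaf (nat_lit 0x4122e96ab0baf8c6f6db9e1eacd05e29cdf48c20)) (.leaf (nat_lit 0x4122eaae5786bb8df26db329953fc249fe628c20))))) (.node (nat_lit 0x4122ebc3555ca76a33aac736f6e526f1ca2f8c20) (.node (nat_lit 0x4122eaea4bbc3ac5731b9da8dcbcde49c5f28c20) (.node (nat_lit 0x4122eade50d2fb36f2d96628adbc5f49cde28c20) (.leaf (nat_lit 0x4122eac25a5dfb6cf18ac4e9b6bfe649fc228c20)) (.leaf (nat_lit 0x4122eade50d2fb36f2d96628adbc5f49cde28c20))) (.node (nat_lit 0x4122ebaf52856787b38db7774564a2f1d26f8c20)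 (.leaf (nat_lit 0x4122eaea4bbc3ac5731b9da8dcbcde49c5f28c20)) (.leaf (nat_lit 0x4122ebaf52856787b38db7774564a2f1d26f8c20)))) (.node (nat_lit 0x4122ebd74b9427d5330fe5b6da64c5f1c49f8c20) (.node (nat_lit 0x4122ebcb50aae7c6b2d4ee36a7e449f1cc5f8c20) (.leaf (nat_lit 0x4122ebc3555ca76a33aac736f6e526f1ca2f8c20)) (.leaf (nat_lit 0x4122ebcb50aae7c6b2d4ee36a7e449f1cc5f8c20))) (.node (nat_lit 0x4122ed2ef584998a4fadb732f56d22f9ca6f0c20) (.leaf (nat_lit 0x4122ebd74b9427d5330fe5b6da64c5f1c49f8c20)) (.leaf (nat_lit 0x4122ed2ef584998a4fadb732f56d22f9ca6f0c20)))))) (.node (nat_lit 0x4125572e3a85f99b75b3da9f8653e23a7c619420) (.node (nat_lit 0x412555ba178eb3cc6d54eb5967cfc3327e711420) (.node (nat_lit 0x4122ed4aebac19c54f14edb2d7ecc9f9c45f0c20) (.leaf (nat_lit 0x4122ed42f25d5967cf8ac77346eca6f9d22f0c20)) (.node (nat_lit 0x4122ed56f092d9d6cecfe632aa6c45f9cc9f0c20) (.leaf (nat_lit 0x4122ed4aebac19c54f14edb2d7ecc9f9c45f0c20))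 (.leaf (nat_lit 0x4122ed56f092d9d6cecfe632aa6c45f9cc9f0c20)))) (.node (nat_lit 0x412555de11d3b2aa6fb66f18fc4c7f324fe11420) (.node (nat_lit 0x412555c61a75f3db6dafe2998a4fe7327c311420) (.leaf (nat_lit 0x412555ba178eb3cc6d54eb5967cfc3327e711420)) (.leaf (nat_lit 0x412555c61a75f3db6dafe2998a4fe7327c311420))) (.node (nat_lit 0x412555ea0ebc72d7ef9857594b4cfe3247f11420) (.leaf (nat_lit 0x412555de11d3b2aa6fb66f18fc4c7f324fe11420)) (.leaf (nat_lit 0x412555ea0ebc72d7ef9857594b4cfe3247f11420))))) (.node (nat_lit 0x412558397a8df7cb65b4eaa787b3e3127c731420) (.node (nat_lit 0x4125575e2bd438a677366edf3c50df3a45e19420) (.node (nat_lit 0x41255742375eb9bc754ccb5f69d3c63a7e219420) (.leaf (nat_lit 0x4125572e3a85f99b75b3da9f8653e23a7c619420)) (.leaf (nat_lit 0x41255742375eb9bc754ccb5f69d3c63a7e219420))) (.node (nat_lit 0x4125576a30baf8d9f778565ecb505e3a4df19420) (.leaf (nat_lit 0x4125575e2bd438a677366edf3c50df3a45e19420))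 (.leaf (nat_lit 0x4125576a30baf8d9f778565ecb505e3a4df19420)))) (.node (nat_lit 0x4125585d6ed476a7e7966f674c30ff1247e31420) (.node (nat_lit 0x412558457776b7dc654fe3676a33c7127e331420) (.leaf (nat_lit 0x412558397a8df7cb65b4eaa787b3e3127c731420)) (.leaf (nat_lit 0x412558457776b7dc654fe3676a33c7127e331420))) (.node (nat_lit 0x4125586971bbb6da67b85726fb307e124ff31420) (.leaf (nat_lit 0x4125585d6ed476a7e7966f674c30ff1247e31420)) (.leaf (nat_lit 0x4125586971bbb6da67b85726fb307e124ff31420)))))))) (.node (nat_lit 0x412b2bc34e5c5b9a2bb3df2cf660e6f1462fa420) (.node (nat_lit 0x412b25ea11bbb6a7e7966f674c307e314ff12420) (.node (nat_lit 0x41255bc74b7415d6372fe6f13a58c7f2443f9420) (.node (nat_lit 0x412558e9cbbc3ad6733856e93b3cde1a45f39420) (.node (nat_lit 0x412558c1da5dfbbb71accaa989bfe61a7c239420) (.leaf (nat_lit 0x412558add786bb9c7153db69663fc21a7e639420)) (.node (nat_lit 0x412558ddd0d2faa9f3766e68cc3c5f1a4de39420)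 (.leaf (nat_lit 0x412558c1da5dfbbb71accaa989bfe61a7c239420)) (.leaf (nat_lit 0x412558ddd0d2faa9f3766e68cc3c5f1a4de39420)))) (.node (nat_lit 0x41255bbb508ad5c9b774ee70c7d843f24c7f9420) (.node (nat_lit 0x41255baf4e845597b793df714658e2f2466f9420) (.leaf (nat_lit 0x412558e9cbbc3ad6733856e93b3cde1a45f39420)) (.leaf (nat_lit 0x41255baf4e845597b793df714658e2f2466f9420))) (.node (nat_lit 0x41255bc3515b95ba37accf30f9d866f24e2f9420) (.leaf (nat_lit 0x41255bbb508ad5c9b774ee70c7d843f24c7f9420)) (.leaf (nat_lit 0x41255bc3515b95ba37accf30f9d866f24e2f9420))))) (.node (nat_lit 0x41255d46f072dbd9ab6fe66cca6047fa4c3f1420) (.node (nat_lit 0x41255d3aeb8c1bc62b34eeed37e0c3fa447f1420) (.node (nat_lit 0x41255d2ef1839b9a2bb3df2cf66062fa4e6f1420) (.leaf (nat_lit 0x41255bc74b7415d6372fe6f13a58c7f2443f9420)) (.leaf (nat_lit 0x41255d2ef1839b9a2bb3df2cf66062fa4e6f1420))) (.node (nat_lit 0x41255d42ee5c5bb7ab8ccf6d49e0e6fa462f1420)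 (.leaf (nat_lit 0x41255d3aeb8c1bc62b34eeed37e0c3fa447f1420)) (.leaf (nat_lit 0x41255d42ee5c5bb7ab8ccf6d49e0e6fa462f1420)))) (.node (nat_lit 0x412b25c61776b7cb65b4eaa787b3c7317e312420) (.node (nat_lit 0x412b25ba1a8df7dc654fe3676a33e3317c712420) (.leaf (nat_lit 0x41255d46f072dbd9ab6fe66cca6047fa4c3f1420)) (.leaf (nat_lit 0x412b25ba1a8df7dc654fe3676a33e3317c712420))) (.node (nat_lit 0x412b25de0ed476da67b85726fb30ff3147e12420) (.leaf (nat_lit 0x412b25c61776b7cb65b4eaa787b3c7317e312420)) (.leaf (nat_lit 0x412b25de0ed476da67b85726fb30ff3147e12420)))))) (.node (nat_lit 0x412b285d71d3b2d7ef9857594b4c7f114fe32420) (.node (nat_lit 0x412b275e30d2fad6733856e93b3c5f394de1a420) (.node (nat_lit 0x412b272e3786bbbb71accaa989bfc2397e61a420) (.leaf (nat_lit 0x412b25ea11bbb6a7e7966f674c307e314ff12420)) (.node (nat_lit 0x412b27423a5dfb9c7153db69663fe6397c21a420) (.leaf (nat_lit 0x412b272e3786bbbb71accaa989bfc2397e61a420))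 (.leaf (nat_lit 0x412b27423a5dfb9c7153db69663fe6397c21a420)))) (.node (nat_lit 0x412b2839778eb3db6dafe2998a4fc3117e732420) (.node (nat_lit 0x412b276a2bbc3aa9f3766e68cc3cde3945f1a420) (.leaf (nat_lit 0x412b275e30d2fad6733856e93b3c5f394de1a420)) (.leaf (nat_lit 0x412b276a2bbc3aa9f3766e68cc3cde3945f1a420))) (.node (nat_lit 0x412b28457a75f3cc6d54eb5967cfe7117c332420) (.leaf (nat_lit 0x412b2839778eb3db6dafe2998a4fc3117e732420)) (.leaf (nat_lit 0x412b28457a75f3cc6d54eb5967cfe7117c332420))))) (.node (nat_lit 0x412b28ddcbd438d9f778565ecb50df1945e3a420) (.node (nat_lit 0x412b28adda85f9bc754ccb5f69d3e2197c63a420) (.node (nat_lit 0x412b28696ebc72aa6fb66f18fc4cfe1147f32420) (.leaf (nat_lit 0x412b285d71d3b2d7ef9857594b4c7f114fe32420)) (.leaf (nat_lit 0x412b28696ebc72aa6fb66f18fc4cfe1147f32420))) (.node (nat_lit 0x412b28c1d75eb99b75b3da9f8653c6197e23a420) (.leaf (nat_lit 0x412b28adda85f9bc754ccb5f69d3e2197c63a420))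 (.leaf (nat_lit 0x412b28c1d75eb99b75b3da9f8653c6197e23a420)))) (.node (nat_lit 0x412b2baf51839bb7ab8ccf6d49e062f14e6fa420) (.node (nat_lit 0x412b28e9d0baf8a677366edf3c505e194df3a420) (.leaf (nat_lit 0x412b28ddcbd438d9f778565ecb50df1945e3a420)) (.leaf (nat_lit 0x412b28e9d0baf8a677366edf3c505e194df3a420))) (.node (nat_lit 0x412b2bbb4b8c1bd9ab6fe66cca60c3f1447fa420) (.leaf (nat_lit 0x412b2baf51839bb7ab8ccf6d49e062f14e6fa420)) (.leaf (nat_lit 0x412b2bbb4b8c1bd9ab6fe66cca60c3f1447fa420))))))) (.node (nat_lit 0x412fa8457574a8cc3d5b9b7b6cf12717ca337820) (.node (nat_lit 0x412fa5c612755ecb51bb9ab98cf4a737d2317820) (.node (nat_lit 0x412b2d3af08ad5d6372fe6f13a5843f94c7f2420) (.node (nat_lit 0x412b2bc75072dbc62b34eeed37e047f14c3fa420) (.leaf (nat_lit 0x412b2bc34e5c5b9a2bb3df2cf660e6f1462fa420)) (.node (nat_lit 0x412b2d2eee8455ba37accf30f9d8e2f9466f2420) (.leaf (nat_lit 0x412b2bc75072dbc62b34eeed37e047f14c3fa420))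 (.leaf (nat_lit 0x412b2d2eee8455ba37accf30f9d8e2f9466f2420)))) (.node (nat_lit 0x412b2d46eb7415c9b774ee70c7d8c7f9443f2420) (.node (nat_lit 0x412b2d42f15b9597b793df71465866f94e2f2420) (.leaf (nat_lit 0x412b2d3af08ad5d6372fe6f13a5843f94c7f2420)) (.leaf (nat_lit 0x412b2d42f15b9597b793df71465866f94e2f2420))) (.node (nat_lit 0x412fa5ba158c9f3c515963796df52337ca717820) (.leaf (nat_lit 0x412b2d46eb7415c9b774ee70c7d8c7f9443f2420)) (.leaf (nat_lit 0x412fa5ba158c9f3c515963796df52337ca717820))))) (.node (nat_lit 0x412fa742355ca74c315c7b776ee5263fca21f820) (.node (nat_lit 0x412fa5d611939eacd1966cf9bc746537ce917820) (.node (nat_lit 0x412fa5ca0eac5eddd27853399b74e937c6517820) (.leaf (nat_lit 0x412fa5c612755ecb51bb9ab98cf4a737d2317820)) (.leaf (nat_lit 0x412fa5ca0eac5eddd27853399b74e937c6517820))) (.node (nat_lit 0x412fa72e328566fb31bda2b78e64a23fd261f820) (.leaf (nat_lit 0x412fa5d611939eacd1966cf9bc746537ce917820))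 (.leaf (nat_lit 0x412fa72e328566fb31bda2b78e64a23fd261f820)))) (.node (nat_lit 0x412fa7562b9426ae31f66d37dc64c53fc491f820) (.node (nat_lit 0x412fa74a30aae6deb29853f7cb64493fcc51f820) (.leaf (nat_lit 0x412fa742355ca74c315c7b776ee5263fca21f820)) (.leaf (nat_lit 0x412fa74a30aae6deb29853f7cb64493fcc51f820))) (.node (nat_lit 0x412fa839728d693b3db962bb8df0a317d2737820) (.leaf (nat_lit 0x412fa7562b9426ae31f66d37dc64c53fc491f820)) (.leaf (nat_lit 0x412fa839728d693b3db962bb8df0a317d2737820)))))) (.node (nat_lit 0x412fa92eb1839afca99da4edbe60622fce64f820) (.node (nat_lit 0x412fa8add58498fc4d5da3736e6d221fca63f820) (.node (nat_lit 0x412fa84971aba8dcbd9854fbbb706917ce537820) (.leaf (nat_lit 0x412fa8457574a8cc3d5b9b7b6cf12717ca337820)) (.node (nat_lit 0x412fa8556e9468adbe766b3b9c70e517c6937820) (.leaf (nat_lit 0x412fa84971aba8dcbd9854fbbb706917ce537820)) (.leaf (nat_lit 0x412fa8556e9468adbe766b3b9c70e517c6937820))))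 (.node (nat_lit 0x412fa8c9cbac18de4df85533db6cc91fc453f820) (.node (nat_lit 0x412fa8c1d25d594b4dbc7ab38eeca61fd223f820) (.leaf (nat_lit 0x412fa8add58498fc4d5da3736e6d221fca63f820)) (.leaf (nat_lit 0x412fa8c1d25d594b4dbc7ab38eeca61fd223f820))) (.node (nat_lit 0x412fa8d5d092d8aece966bf3cc6c451fcc93f820) (.leaf (nat_lit 0x412fa8c9cbac18de4df85533db6cc91fc453f820)) (.leaf (nat_lit 0x412fa8d5d092d8aece966bf3cc6c451fcc93f820))))) (.node (nat_lit 0x412faaae4e8454fdb67da3319e58e24fc662f820) (.node (nat_lit 0x412fa942ae5c5b4daa7c7b2d9ee0e62fc624f820) (.node (nat_lit 0x412fa93aab8c1b3e29f9652ddde0c32fc474f820) (.leaf (nat_lit 0x412fa92eb1839afca99da4edbe60622fce64f820)) (.leaf (nat_lit 0x412fa93aab8c1b3e29f9652ddde0c32fc474f820))) (.node (nat_lit 0x412fa946b072daceaa9b9bedcce0472fcc34f820) (.leaf (nat_lit 0x412fa942ae5c5b4daa7c7b2d9ee0e62fc624f820)) (.leaf (nat_lit 0x412fa946b072daceaa9b9bedcce0472fcc34f820))))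 (.node (nat_lit 0x412faac2515b954cb59c7cf1bed8664fce22f820) (.node (nat_lit 0x412faaba508ad53eb69963f1cdd8434fcc72f820) (.leaf (nat_lit 0x412faaae4e8454fdb67da3319e58e24fc662f820)) (.leaf (nat_lit 0x412faaba508ad53eb69963f1cdd8434fcc72f820))) (.node (nat_lit 0x412faac64b7414ce35fb9d31dcd8c74fc432f820) (.leaf (nat_lit 0x412faac2515b954cb59c7cf1bed8664fce22f820)) (.leaf (nat_lit 0x412faac64b7414ce35fb9d31dcd8c74fc432f820))))))))) (.node (nat_lit 0x495f4ab2569e397df56ad42396bbe220fc641c20) (.node (nat_lit 0x4959395ab4c3f716e6fd7696ae407e408ff21820) (.node (nat_lit 0x413578d5cb9426deb29853f7cb64c51f8493fc20) (.node (nat_lit 0x413577563092d8de4df85533db6c453f8c91fc20) (.node (nat_lit 0x413575d60e9468dcbd9854fbbb70e53786917c20) (.node (nat_lit 0x413575c61574a93b3db962bb8df127378a317c20) (.leaf (nat_lit 0x413575ba128d68cc3d5b9b7b6cf0a33792717c20)) (.node (nat_lit 0x413575ca11aba8adbe766b3b9c7069378e517c20)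 (.leaf (nat_lit 0x413575c61574a93b3db962bb8df127378a317c20)) (.leaf (nat_lit 0x413575ca11aba8adbe766b3b9c7069378e517c20)))) (.node (nat_lit 0x41357742325d58fc4d5da3736e6ca63f9221fc20) (.node (nat_lit 0x4135772e3584994b4dbc7ab38eed223f8a61fc20) (.leaf (nat_lit 0x413575d60e9468dcbd9854fbbb70e53786917c20)) (.leaf (nat_lit 0x4135772e3584994b4dbc7ab38eed223f8a61fc20))) (.node (nat_lit 0x4135774a2bac18aece966bf3cc6cc93f8451fc20) (.leaf (nat_lit 0x41357742325d58fc4d5da3736e6ca63f9221fc20)) (.leaf (nat_lit 0x4135774a2bac18aece966bf3cc6cc93f8451fc20))))) (.node (nat_lit 0x4135785571939eddd27853399b7465178e937c20) (.node (nat_lit 0x4135784572755f3c515963796df4a71792337c20) (.node (nat_lit 0x41357839758c9ecb51bb9ab98cf523178a737c20) (.leaf (nat_lit 0x413577563092d8de4df85533db6c453f8c91fc20)) (.leaf (nat_lit 0x41357839758c9ecb51bb9ab98cf523178a737c20))) (.node (nat_lit 0x413578496eac5eacd1966cf9bc74e91786537c20)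 (.leaf (nat_lit 0x4135784572755f3c515963796df4a71792337c20)) (.leaf (nat_lit 0x413578496eac5eacd1966cf9bc74e91786537c20)))) (.node (nat_lit 0x413578c1d55ca6fb31bda2b78e65261f8a23fc20) (.node (nat_lit 0x413578add285674c315c7b776ee4a21f9263fc20) (.leaf (nat_lit 0x4135785571939eddd27853399b7465178e937c20)) (.leaf (nat_lit 0x413578add285674c315c7b776ee4a21f9263fc20))) (.node (nat_lit 0x413578c9d0aae6ae31f66d37dc64491f8c53fc20) (.leaf (nat_lit 0x413578c1d55ca6fb31bda2b78e65261f8a23fc20)) (.leaf (nat_lit 0x413578c9d0aae6ae31f66d37dc64491f8c53fc20)))))) (.node (nat_lit 0x41357ac24e5c5afca99da4edbe60e64f8622fc20) (.node (nat_lit 0x41357942b15b94fdb67da3319e58662f8e24fc20) (.node (nat_lit 0x4135792eae84554cb59c7cf1bed8e22f8664fc20) (.leaf (nat_lit 0x413578d5cb9426deb29853f7cb64c51f8493fc20)) (.node (nat_lit 0x4135793ab08ad4ce35fb9d31dcd8432f8c74fc20) (.leaf (nat_lit 0x4135792eae84554cb59c7cf1bed8e22f8664fc20))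 (.leaf (nat_lit 0x4135793ab08ad4ce35fb9d31dcd8432f8c74fc20)))) (.node (nat_lit 0x41357aae51839b4daa7c7b2d9ee0624f8e62fc20) (.node (nat_lit 0x41357946ab74153eb69963f1cdd8c72f8434fc20) (.leaf (nat_lit 0x41357942b15b94fdb67da3319e58662f8e24fc20)) (.leaf (nat_lit 0x41357946ab74153eb69963f1cdd8c72f8434fc20))) (.node (nat_lit 0x41357aba4b8c1aceaa9b9bedcce0c34f8472fc20) (.leaf (nat_lit 0x41357aae51839b4daa7c7b2d9ee0624f8e62fc20)) (.leaf (nat_lit 0x41357aba4b8c1aceaa9b9bedcce0c34f8472fc20))))) (.node (nat_lit 0x495937da92c57515df7d76550e351e3889f19820) (.node (nat_lit 0x495937ca98adb5beddd0cc55c5b7c438be819820) (.node (nat_lit 0x41357ac65072db3e29f9652ddde0474f8c32fc20) (.leaf (nat_lit 0x41357ac24e5c5afca99da4edbe60e64f8622fc20)) (.leaf (nat_lit 0x41357ac65072db3e29f9652ddde0474f8c32fc20))) (.node (nat_lit 0x495937d69696359e5e2bdb95d837e838bc419820) (.leaf (nat_lit 0x495937ca98adb5beddd0cc55c5b7c438be819820))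 (.leaf (nat_lit 0x495937d69696359e5e2bdb95d837e838bc419820)))) (.node (nat_lit 0x4959393eb6a637ae662dbb97d543e340bc721820) (.node (nat_lit 0x495937e295b4b4e85f3c8ed4beb49f3891e19820) (.leaf (nat_lit 0x495937da92c57515df7d76550e351e3889f19820)) (.leaf (nat_lit 0x495937e295b4b4e85f3c8ed4beb49f3891e19820))) (.node (nat_lit 0x49593952b87db77ee5cad457c6c3c740be321820) (.leaf (nat_lit 0x4959393eb6a637ae662dbb97d543e340bc721820)) (.leaf (nat_lit 0x49593952b87db77ee5cad457c6c3c740be321820))))))) (.node (nat_lit 0x49593c4ad4abddb6c6f0cebaa5f064f08e8f9820) (.node (nat_lit 0x49593ad2567e337e6e2ad3a1d6afe720bc341820) (.node (nat_lit 0x49593a55f895af9ee9cbdc5bc82bc818be439820) (.node (nat_lit 0x49593962afb536e5675c8dd6dec0ff4087e21820) (.leaf (nat_lit 0x4959395ab4c3f716e6fd7696ae407e408ff21820)) (.node (nat_lit 0x49593a49f6ae2fbe6a30cb9bd5abe418bc839820) (.leaf (nat_lit 0x49593962afb536e5675c8dd6dec0ff4087e21820))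 (.leaf (nat_lit 0x49593a49f6ae2fbe6a30cb9bd5abe418bc839820)))) (.node (nat_lit 0x49593a61f2b56ee5eb7c8e5b0ea91f1889e39820) (.node (nat_lit 0x49593a59f5c4af186b3d76dabe289e1891f39820) (.leaf (nat_lit 0x49593a55f895af9ee9cbdc5bc82bc818be439820)) (.leaf (nat_lit 0x49593a59f5c4af186b3d76dabe289e1891f39820))) (.node (nat_lit 0x49593abe58a5b3aeedcdbc61c52fc320be741820) (.leaf (nat_lit 0x49593a61f2b56ee5eb7c8e5b0ea91f1889e39820)) (.leaf (nat_lit 0x49593abe58a5b3aeedcdbc61c52fc320be741820))))) (.node (nat_lit 0x49593b4b0fad23b53b50cdf8d5f4e4f8868f1820) (.node (nat_lit 0x49593ae254b3f2e6eefc8ea0aeac7f208fe41820) (.node (nat_lit 0x49593ada4fc533156f5d75e0de2cfe2087f41820) (.leaf (nat_lit 0x49593ad2567e337e6e2ad3a1d6afe720bc341820)) (.leaf (nat_lit 0x49593ada4fc533156f5d75e0de2cfe2087f41820))) (.node (nat_lit 0x49593b3f15a4a3a83b2dbef8b57483f8907f1820) (.leaf (nat_lit 0x49593ae254b3f2e6eefc8ea0aeac7f208fe41820))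 (.leaf (nat_lit 0x49593b3f15a4a3a83b2dbef8b57483f8907f1820)))) (.node (nat_lit 0x49593b571493e396baebdeb8a87468f88e4f1820) (.node (nat_lit 0x49593b53127d6375bb6ad67906f507f8883f1820) (.leaf (nat_lit 0x49593b4b0fad23b53b50cdf8d5f4e4f8868f1820)) (.leaf (nat_lit 0x49593b53127d6375bb6ad67906f507f8883f1820))) (.node (nat_lit 0x49593c3ed2a55da5c76dbe7b057103f0887f9820) (.leaf (nat_lit 0x49593b571493e396baebdeb8a87468f88e4f1820)) (.leaf (nat_lit 0x49593c3ed2a55da5c76dbe7b057103f0887f9820)))))) (.node (nat_lit 0x495f4932b89dbb7cf20ad2ddb6c7c240fe621c20) (.node (nat_lit 0x495f464a76ae2fdde971e41b972be430fc811c20) (.node (nat_lit 0x49593c52d57c9d78472ad6fab6f087f0903f9820) (.leaf (nat_lit 0x49593c4ad4abddb6c6f0cebaa5f064f08e8f9820)) (.node (nat_lit 0x49593c56cf951d95474bddfad870e8f0864f9820) (.leaf (nat_lit 0x49593c52d57c9d78472ad6fab6f087f0903f9820)) (.leaf (nat_lit 0x49593c56cf951d95474bddfad870e8f0864f9820))))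 (.node (nat_lit 0x495f465a75c4aeb8eb99875aeda89e30d1f11c20) (.node (nat_lit 0x495f46567895afccea0eeadbb8abc830fe411c20) (.leaf (nat_lit 0x495f464a76ae2fdde971e41b972be430fc811c20)) (.leaf (nat_lit 0x495f46567895afccea0eeadbb8abc830fe411c20))) (.node (nat_lit 0x495f466272b56f076bbb5f1b1ca91f30c9e11c20) (.leaf (nat_lit 0x495f465a75c4aeb8eb99875aeda89e30d1f11c20)) (.leaf (nat_lit 0x495f466272b56f076bbb5f1b1ca91f30c9e11c20))))) (.node (nat_lit 0x495f49c998adb5dcde11e2d5b737c410fe831c20) (.node (nat_lit 0x495f495aacc4fab6f2f9869cadc4de40c5f21c20) (.node (nat_lit 0x495f494eb6663badf16dbc1d9547e640fc221c20) (.leaf (nat_lit 0x495f4932b89dbb7cf20ad2ddb6c7c240fe621c20)) (.leaf (nat_lit 0x495f494eb6663badf16dbc1d9547e640fc221c20))) (.node (nat_lit 0x495f4962b3b33b05735b5ddcdcc45f40cde21c20) (.leaf (nat_lit 0x495f495aacc4fab6f2f9869cadc4de40c5f21c20)) (.leaf (nat_lit 0x495f4962b3b33b05735b5ddcdcc45f40cde21c20))))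 (.node (nat_lit 0x495f49d992c574b75fb987151db51e10c9f31c20) (.node (nat_lit 0x495f49d5969635cddd6eec1598b7e810fc431c20) (.leaf (nat_lit 0x495f49c998adb5dcde11e2d5b737c410fe831c20)) (.leaf (nat_lit 0x495f49d5969635cddd6eec1598b7e810fc431c20))) (.node (nat_lit 0x495f49e195b4b508df9b5f54ecb49f10d1e31c20) (.leaf (nat_lit 0x495f49d992c574b75fb987151db51e10c9f31c20)) (.leaf (nat_lit 0x495f49e195b4b508df9b5f54ecb49f10d1e31c20)))))))) (.node (nat_lit 0x49655b4f0f651bb8ab90cf6ee5e8e6f9062f2020) (.node (nat_lit 0x4965566274b3f2a76fb76f211d2c7f310fe12020) (.node (nat_lit 0x495f4b570c94d7c6c2eeeeb6a8e4c8f8c44f1c20) (.node (nat_lit 0x495f4ae24cb4f906f6fb5ea2acb8df20c5e41c20) (.node (nat_lit 0x495f4ace5865b9acf60dbae3b53bc620fe241c20) (.leaf (nat_lit 0x495f4ab2569e397df56ad42396bbe220fc641c20)) (.node (nat_lit 0x495f4ada53c338b5775985e2ddb85e20cdf41c20) (.leaf (nat_lit 0x495f4ace5865b9acf60dbae3b53bc620fe241c20))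 (.leaf (nat_lit 0x495f4ada53c338b5775985e2ddb85e20cdf41c20)))) (.node (nat_lit 0x495f4b4b13ab17d54351e5f6d76444f8cc8f1c20) (.node (nat_lit 0x495f4b33129d577743aad73716e502f8c86f1c20) (.leaf (nat_lit 0x495f4ae24cb4f906f6fb5ea2acb8df20c5e41c20)) (.leaf (nat_lit 0x495f4b33129d577743aad73716e502f8c86f1c20))) (.node (nat_lit 0x495f4b4f156497a8c38dbf76e56486f8d02f1c20) (.leaf (nat_lit 0x495f4b4b13ab17d54351e5f6d76444f8cc8f1c20)) (.leaf (nat_lit 0x495f4b4f156497a8c38dbf76e56486f8d02f1c20))))) (.node (nat_lit 0x495f4c56d39321c52f4eedf2d8ec48f0cc4f9c20) (.node (nat_lit 0x495f4c4accace1d6aef1e6b2a76cc4f0c48f9c20) (.node (nat_lit 0x495f4c32d59ca178af8ad772e6ec82f0d06f9c20) (.leaf (nat_lit 0x495f4b570c94d7c6c2eeeeb6a8e4c8f8c44f1c20)) (.leaf (nat_lit 0x495f4c32d59ca178af8ad772e6ec82f0d06f9c20))) (.node (nat_lit 0x495f4c4ed26561a72fadbf33156d06f0c82f9c20) (.leaf (nat_lit 0x495f4c4accace1d6aef1e6b2a76cc4f0c48f9c20))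 (.leaf (nat_lit 0x495f4c4ed26561a72fadbf33156d06f0c82f9c20)))) (.node (nat_lit 0x49655652767e33dbedb1e2a1a72fe7313c312020) (.node (nat_lit 0x4965563e78a5b3cd6d4eeb6178afc3313e712020) (.leaf (nat_lit 0x495f4c56d39321c52f4eedf2d8ec48f0cc4f9c20)) (.leaf (nat_lit 0x4965563e78a5b3cd6d4eeb6178afc3313e712020))) (.node (nat_lit 0x4965565a6fc532d8ef9a5760ebacfe3107f12020) (.leaf (nat_lit 0x49655652767e33dbedb1e2a1a72fe7313c312020)) (.leaf (nat_lit 0x4965565a6fc532d8ef9a5760ebacfe3107f12020)))))) (.node (nat_lit 0x496559d994c3f6d767ba57171bc07e110ff32020) (.node (nat_lit 0x496557da93c338d5f77a56630bb85e390df1a020) (.node (nat_lit 0x496557b2969e399bf5abdaa3a83be2393c61a020) (.leaf (nat_lit 0x4965566274b3f2a76fb76f211d2c7f310fe12020)) (.node (nat_lit 0x496557ce9865b9bd7550cb6375bbc6393e21a020) (.leaf (nat_lit 0x496557b2969e399bf5abdaa3a83be2393c61a020)) (.leaf (nat_lit 0x496557ce9865b9bd7550cb6375bbc6393e21a020))))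 (.node (nat_lit 0x496559bd96a637cbe5aeea97a8c3e3113c732020) (.node (nat_lit 0x496557e28cb4f8a877376ee2bd38df3905e1a020) (.leaf (nat_lit 0x496557da93c338d5f77a56630bb85e390df1a020)) (.leaf (nat_lit 0x496557e28cb4f8a877376ee2bd38df3905e1a020))) (.node (nat_lit 0x496559d1987db7dd6551e3577743c7113e332020) (.leaf (nat_lit 0x496559bd96a637cbe5aeea97a8c3e3113c732020)) (.leaf (nat_lit 0x496559d1987db7dd6551e3577743c7113e332020))))) (.node (nat_lit 0x49655a59ecc4fad8733a56dcbbc4de1905f3a020) (.node (nat_lit 0x49655a31f89dbb9d714bdb5d7847c2193e63a020) (.node (nat_lit 0x496559e18fb536a8e7976f56ed40ff1107e32020) (.leaf (nat_lit 0x496559d994c3f6d767ba57171bc07e110ff32020)) (.leaf (nat_lit 0x496559e18fb536a8e7976f56ed40ff1107e32020))) (.node (nat_lit 0x49655a4df6663bbbf1b0ca9da5c7e6193c23a020) (.leaf (nat_lit 0x49655a31f89dbb9d714bdb5d7847c2193e63a020)) (.leaf (nat_lit 0x49655a4df6663bbbf1b0ca9da5c7e6193c23a020))))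 (.node (nat_lit 0x49655b33149bdb972babdf2f186862f90e6f2020) (.node (nat_lit 0x49655a61f3b33aa5f3776e5d0d445f190de3a020) (.leaf (nat_lit 0x49655a59ecc4fad8733a56dcbbc4de1905f3a020)) (.leaf (nat_lit 0x49655a61f3b33aa5f3776e5d0d445f190de3a020))) (.node (nat_lit 0x49655b3f0ca4dbc82b2eeeeeb8e8c3f9047f2020) (.leaf (nat_lit 0x49655b33149bdb972babdf2f186862f90e6f2020)) (.leaf (nat_lit 0x49655b3f0ca4dbc82b2eeeeeb8e8c3f9047f2020))))))) (.node (nat_lit 0x4966ca55f69635beddd0cc55c5b7e819bc438820) (.node (nat_lit 0x4966c7d69895afbe6a30cb9bd5abc839be418820) (.node (nat_lit 0x49655c3ed3a315c5b76eee7508dc43f10c7fa020) (.node (nat_lit 0x49655b53137b1bd5ab71e66f076847f90c3f2020) (.leaf (nat_lit 0x49655b4f0f651bb8ab90cf6ee5e8e6f9062f2020)) (.node (nat_lit 0x49655c32cf9d1598b78bdf74e85ce2f1066fa020) (.leaf (nat_lit 0x49655b53137b1bd5ab71e66f076847f90c3f2020)) (.leaf (nat_lit 0x49655c32cf9d1598b78bdf74e85ce2f1066fa020))))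 (.node (nat_lit 0x49655c52cc7cd5d83731e6f4b75cc7f1043fa020) (.node (nat_lit 0x49655c4ed463d5b737b0cf3515dc66f10e2fa020) (.leaf (nat_lit 0x49655c3ed3a315c5b76eee7508dc43f10c7fa020)) (.leaf (nat_lit 0x49655c4ed463d5b737b0cf3515dc66f10e2fa020))) (.node (nat_lit 0x4966c7ca96ae2f9ee9cbdc5bc82be439bc818820) (.leaf (nat_lit 0x49655c52cc7cd5d83731e6f4b75cc7f1043fa020)) (.leaf (nat_lit 0x4966c7ca96ae2f9ee9cbdc5bc82be439bc818820))))) (.node (nat_lit 0x4966c952b67e33aeedcdbc61c52fe741bc320820) (.node (nat_lit 0x4966c7e292b56f186b3d76dabe291f3989e18820) (.node (nat_lit 0x4966c7da95c4aee5eb7c8e5b0ea89e3991f18820) (.leaf (nat_lit 0x4966c7d69895afbe6a30cb9bd5abc839be418820)) (.leaf (nat_lit 0x4966c7da95c4aee5eb7c8e5b0ea89e3991f18820))) (.node (nat_lit 0x4966c93eb8a5b37e6e2ad3a1d6afc341be720820) (.leaf (nat_lit 0x4966c7e292b56f186b3d76dabe291f3989e18820)) (.leaf (nat_lit 0x4966c93eb8a5b37e6e2ad3a1d6afc341be720820))))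 (.node (nat_lit 0x4966c962b4b3f3156f5d75e0de2c7f418fe20820) (.node (nat_lit 0x4966c95aafc532e6eefc8ea0aeacfe4187f20820) (.leaf (nat_lit 0x4966c952b67e33aeedcdbc61c52fe741bc320820)) (.leaf (nat_lit 0x4966c95aafc532e6eefc8ea0aeacfe4187f20820))) (.node (nat_lit 0x4966ca49f8adb59e5e2bdb95d837c419be838820) (.leaf (nat_lit 0x4966c962b4b3f3156f5d75e0de2c7f418fe20820)) (.leaf (nat_lit 0x4966ca49f8adb59e5e2bdb95d837c419be838820)))))) (.node (nat_lit 0x4966cb3f12a55d78472ad6fab6f103f9887f0820) (.node (nat_lit 0x4966cabe56a6377ee5cad457c6c3e321bc740820) (.node (nat_lit 0x4966ca59f2c574e85f3c8ed4beb51e1989f38820) (.leaf (nat_lit 0x4966ca55f69635beddd0cc55c5b7e819bc438820)) (.node (nat_lit 0x4966ca61f5b4b515df7d76550e349f1991e38820) (.leaf (nat_lit 0x4966ca59f2c574e85f3c8ed4beb51e1989f38820)) (.leaf (nat_lit 0x4966ca61f5b4b515df7d76550e349f1991e38820)))) (.node (nat_lit 0x4966cada54c3f6e5675c8dd6dec07e218ff40820)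 (.node (nat_lit 0x4966cad2587db7ae662dbb97d543c721be340820) (.leaf (nat_lit 0x4966cabe56a6377ee5cad457c6c3e321bc740820)) (.leaf (nat_lit 0x4966cad2587db7ae662dbb97d543c721be340820))) (.node (nat_lit 0x4966cae24fb53716e6fd7696ae40ff2187e40820) (.leaf (nat_lit 0x4966cada54c3f6e5675c8dd6dec07e218ff40820)) (.leaf (nat_lit 0x4966cae24fb53716e6fd7696ae40ff2187e40820))))) (.node (nat_lit 0x4966cc3ed5a4a375bb6ad67906f483f1907f8820) (.node (nat_lit 0x4966cb53157c9da5c76dbe7b057087f9903f0820) (.node (nat_lit 0x4966cb4b14abdd95474bddfad87064f98e8f0820) (.leaf (nat_lit 0x4966cb3f12a55d78472ad6fab6f103f9887f0820)) (.leaf (nat_lit 0x4966cb4b14abdd95474bddfad87064f98e8f0820))) (.node (nat_lit 0x4966cb570f951db6c6f0cebaa5f0e8f9864f0820) (.leaf (nat_lit 0x4966cb53157c9da5c76dbe7b057087f9903f0820)) (.leaf (nat_lit 0x4966cb570f951db6c6f0cebaa5f0e8f9864f0820)))) (.node (nat_lit 0x4966cc52d27d63a83b2dbef8b57507f1883f8820)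 (.node (nat_lit 0x4966cc4acfad2396baebdeb8a874e4f1868f8820) (.leaf (nat_lit 0x4966cc3ed5a4a375bb6ad67906f483f1907f8820)) (.leaf (nat_lit 0x4966cc4acfad2396baebdeb8a874e4f1868f8820))) (.node (nat_lit 0x4966cc56d493e3b53b50cdf8d5f468f18e4f8820) (.leaf (nat_lit 0x4966cc52d27d63a83b2dbef8b57507f1883f8820)) (.leaf (nat_lit 0x4966cc56d493e3b53b50cdf8d5f468f18e4f8820))))))))))
noncomputable def AN_lS_T6 : ST := (.node (nat_lit 0xf7efab671cdf5538369163eab748434a0c729020) (.node (nat_lit 0x496d89bd95a4a30bb9bb5ab9acf4831790737c20) (.node (nat_lit 0x496b27da8cc4faa5f3776e5d0d44de3a05f19020) (.node (nat_lit 0x4968fae253b33ab6f2f9869cadc45f21cde40c20) (.node (nat_lit 0x4968f962acb4f8b5775985e2ddb8df41c5e20c20) (.node (nat_lit 0x4968f66275b4b4b75fb987151db49f31d1e10c20) (.node (nat_lit 0x4968f656769635dcde11e2d5b737e831fc410c20) (.leaf (nat_lit 0x4968f64a78adb5cddd6eec1598b7c431fe810c20))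 (.node (nat_lit 0x4968f65a72c57508df9b5f54ecb51e31c9f10c20) (.leaf (nat_lit 0x4968f656769635dcde11e2d5b737e831fc410c20)) (.leaf (nat_lit 0x4968f65a72c57508df9b5f54ecb51e31c9f10c20)))) (.node (nat_lit 0x4968f94eb865b97df56ad42396bbc641fe220c20) (.node (nat_lit 0x4968f932b69e39acf60dbae3b53be241fc620c20) (.leaf (nat_lit 0x4968f66275b4b4b75fb987151db49f31d1e10c20)) (.leaf (nat_lit 0x4968f932b69e39acf60dbae3b53be241fc620c20))) (.node (nat_lit 0x4968f95ab3c33906f6fb5ea2acb85e41cdf20c20) (.leaf (nat_lit 0x4968f94eb865b97df56ad42396bbc641fe220c20)) (.leaf (nat_lit 0x4968f95ab3c33906f6fb5ea2acb85e41cdf20c20))))) (.node (nat_lit 0x4968f9e192b56eb8eb99875aeda91f11c9e30c20) (.node (nat_lit 0x4968f9d59895afdde971e41b972bc811fe430c20) (.node (nat_lit 0x4968f9c996ae2fccea0eeadbb8abe411fc830c20) (.leaf (nat_lit 0x4968f962acb4f8b5775985e2ddb8df41c5e20c20)) (.leaf (nat_lit 0x4968f9c996ae2fccea0eeadbb8abe411fc830c20)))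 (.node (nat_lit 0x4968f9d995c4af076bbb5f1b1ca89e11d1f30c20) (.leaf (nat_lit 0x4968f9d59895afdde971e41b972bc811fe430c20)) (.leaf (nat_lit 0x4968f9d995c4af076bbb5f1b1ca89e11d1f30c20)))) (.node (nat_lit 0x4968face56663b7cf20ad2ddb6c7e621fc240c20) (.node (nat_lit 0x4968fab2589dbbadf16dbc1d9547c221fe640c20) (.leaf (nat_lit 0x4968f9e192b56eb8eb99875aeda91f11c9e30c20)) (.leaf (nat_lit 0x4968fab2589dbbadf16dbc1d9547c221fe640c20))) (.node (nat_lit 0x4968fada4cc4fb05735b5ddcdcc4de21c5f40c20) (.leaf (nat_lit 0x4968face56663b7cf20ad2ddb6c7e621fc240c20)) (.leaf (nat_lit 0x4968fada4cc4fb05735b5ddcdcc4de21c5f40c20)))))) (.node (nat_lit 0x4968fc4ed564977743aad73716e486f1d02f8c20) (.node (nat_lit 0x4968fb4f12656178af8ad772e6ed06f9c82f0c20) (.node (nat_lit 0x4968fb33159ca1a72fadbf33156c82f9d06f0c20) (.leaf (nat_lit 0x4968fae253b33ab6f2f9869cadc45f21cde40c20)) (.node (nat_lit 0x4968fb4b0cace1c52f4eedf2d8ecc4f9c48f0c20)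 (.leaf (nat_lit 0x4968fb33159ca1a72fadbf33156c82f9d06f0c20)) (.leaf (nat_lit 0x4968fb4b0cace1c52f4eedf2d8ecc4f9c48f0c20)))) (.node (nat_lit 0x4968fc32d29d57a8c38dbf76e56502f1c86f8c20) (.node (nat_lit 0x4968fb57139321d6aef1e6b2a76c48f9cc4f0c20) (.leaf (nat_lit 0x4968fb4f12656178af8ad772e6ed06f9c82f0c20)) (.leaf (nat_lit 0x4968fb57139321d6aef1e6b2a76c48f9cc4f0c20))) (.node (nat_lit 0x4968fc4ad3ab17c6c2eeeeb6a8e444f1cc8f8c20) (.leaf (nat_lit 0x4968fc32d29d57a8c38dbf76e56502f1c86f8c20)) (.leaf (nat_lit 0x4968fc4ad3ab17c6c2eeeeb6a8e444f1cc8f8c20))))) (.node (nat_lit 0x496b265a74c3f6a8e7976f56ed407e320ff11020) (.node (nat_lit 0x496b263e76a637dd6551e3577743e3323c711020) (.node (nat_lit 0x4968fc56cc94d7d54351e5f6d764c8f1c44f8c20) (.leaf (nat_lit 0x4968fc4ed564977743aad73716e486f1d02f8c20)) (.leaf (nat_lit 0x4968fc56cc94d7d54351e5f6d764c8f1c44f8c20))) (.node (nat_lit 0x496b2652787db7cbe5aeea97a8c3c7323e311020)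 (.leaf (nat_lit 0x496b263e76a637dd6551e3577743e3323c711020)) (.leaf (nat_lit 0x496b2652787db7cbe5aeea97a8c3c7323e311020)))) (.node (nat_lit 0x496b27b2989dbbbbf1b0ca9da5c7c23a3e619020) (.node (nat_lit 0x496b26626fb536d767ba57171bc0ff3207e11020) (.leaf (nat_lit 0x496b265a74c3f6a8e7976f56ed407e320ff11020)) (.leaf (nat_lit 0x496b26626fb536d767ba57171bc0ff3207e11020))) (.node (nat_lit 0x496b27ce96663b9d714bdb5d7847e63a3c219020) (.leaf (nat_lit 0x496b27b2989dbbbbf1b0ca9da5c7c23a3e619020)) (.leaf (nat_lit 0x496b27ce96663b9d714bdb5d7847e63a3c219020))))))) (.node (nat_lit 0x496b2c3ecca4dbd5ab71e66f0768c3f2047f9020) (.node (nat_lit 0x496b2a4df865b99bf5abdaa3a83bc61a3e239020) (.node (nat_lit 0x496b29d1967e33cd6d4eeb6178afe7123c331020) (.node (nat_lit 0x496b27e293b33ad8733a56dcbbc45f3a0de19020) (.leaf (nat_lit 0x496b27da8cc4faa5f3776e5d0d44de3a05f19020)) (.node (nat_lit 0x496b29bd98a5b3dbedb1e2a1a72fc3123e731020)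 (.leaf (nat_lit 0x496b27e293b33ad8733a56dcbbc45f3a0de19020)) (.leaf (nat_lit 0x496b29bd98a5b3dbedb1e2a1a72fc3123e731020)))) (.node (nat_lit 0x496b29e194b3f2d8ef9a5760ebac7f120fe31020) (.node (nat_lit 0x496b29d98fc532a76fb76f211d2cfe1207f31020) (.leaf (nat_lit 0x496b29d1967e33cd6d4eeb6178afe7123c331020)) (.leaf (nat_lit 0x496b29d98fc532a76fb76f211d2cfe1207f31020))) (.node (nat_lit 0x496b2a31f69e39bd7550cb6375bbe21a3c639020) (.leaf (nat_lit 0x496b29e194b3f2d8ef9a5760ebac7f120fe31020)) (.leaf (nat_lit 0x496b2a31f69e39bd7550cb6375bbe21a3c639020))))) (.node (nat_lit 0x496b2b3f13a315d83731e6f4b75c43fa0c7f1020) (.node (nat_lit 0x496b2a61ecb4f8d5f77a56630bb8df1a05e39020) (.node (nat_lit 0x496b2a59f3c338a877376ee2bd385e1a0df39020) (.leaf (nat_lit 0x496b2a4df865b99bf5abdaa3a83bc61a3e239020)) (.leaf (nat_lit 0x496b2a59f3c338a877376ee2bd385e1a0df39020))) (.node (nat_lit 0x496b2b330f9d15b737b0cf3515dce2fa066f1020)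 (.leaf (nat_lit 0x496b2a61ecb4f8d5f77a56630bb8df1a05e39020)) (.leaf (nat_lit 0x496b2b330f9d15b737b0cf3515dce2fa066f1020)))) (.node (nat_lit 0x496b2b530c7cd5c5b76eee7508dcc7fa043f1020) (.node (nat_lit 0x496b2b4f1463d598b78bdf74e85c66fa0e2f1020) (.leaf (nat_lit 0x496b2b3f13a315d83731e6f4b75c43fa0c7f1020)) (.leaf (nat_lit 0x496b2b4f1463d598b78bdf74e85c66fa0e2f1020))) (.node (nat_lit 0x496b2c32d49bdbb8ab90cf6ee5e862f20e6f9020) (.leaf (nat_lit 0x496b2b530c7cd5c5b76eee7508dcc7fa043f1020)) (.leaf (nat_lit 0x496b2c32d49bdbb8ab90cf6ee5e862f20e6f9020)))))) (.node (nat_lit 0x496d87b2959ca0ebadbc8ab3aeec823f9061fc20) (.node (nat_lit 0x496d863e72a55d0d455b5b7b7cf1033788717c20) (.node (nat_lit 0x496b2c4ecf651b972babdf2f1868e6f2062f9020) (.leaf (nat_lit 0x496b2c3ecca4dbd5ab71e66f0768c3f2047f9020)) (.node (nat_lit 0x496b2c52d37b1bc82b2eeeeeb8e847f20c3f9020) (.leaf (nat_lit 0x496b2c4ecf651b972babdf2f1868e6f2062f9020))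 (.leaf (nat_lit 0x496b2c52d37b1bc82b2eeeeeb8e847f20c3f9020)))) (.node (nat_lit 0x496d8652757c9cbbc5b982bbadf0873790317c20) (.node (nat_lit 0x496d864a74abdcadc5776c3b9d7064378e817c20) (.leaf (nat_lit 0x496d863e72a55d0d455b5b7b7cf1033788717c20)) (.leaf (nat_lit 0x496d864a74abdcadc5776c3b9d7064378e817c20))) (.node (nat_lit 0x496d86566f951cdcc61a52fbbbf0e83786417c20) (.leaf (nat_lit 0x496d8652757c9cbbc5b982bbadf0873790317c20)) (.leaf (nat_lit 0x496d86566f951cdcc61a52fbbbf0e83786417c20))))) (.node (nat_lit 0x496d8932af9d14ecb61c8af5bedce24786627c20) (.node (nat_lit 0x496d87ce9265611d2d5d73737e6d063f8821fc20) (.node (nat_lit 0x496d87ca8cace0aeadd76c73cd6cc43f8481fc20) (.leaf (nat_lit 0x496d87b2959ca0ebadbc8ab3aeec823f9061fc20)) (.leaf (nat_lit 0x496d87ca8cace0aeadd76c73cd6cc43f8481fc20))) (.node (nat_lit 0x496d87d6939320de2e3a53b3dbec483f8c41fc20) (.leaf (nat_lit 0x496d87ce9265611d2d5d73737e6d063f8821fc20))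 (.leaf (nat_lit 0x496d87d6939320de2e3a53b3dbec483f8c41fc20)))) (.node (nat_lit 0x496d894eb463d51db57d74359e5c66478e227c20) (.node (nat_lit 0x496d893eb3a3150e363b5bb5dcdc43478c727c20) (.leaf (nat_lit 0x496d8932af9d14ecb61c8af5bedce24786627c20)) (.leaf (nat_lit 0x496d893eb3a3150e363b5bb5dcdc43478c727c20))) (.node (nat_lit 0x496d8952ac7cd4beb5d98475cddcc74784327c20) (.leaf (nat_lit 0x496d894eb463d51db57d74359e5c66478e227c20)) (.leaf (nat_lit 0x496d8952ac7cd4beb5d98475cddcc74784327c20)))))))) (.node (nat_lit 0x49716a4df26560ebadbc8ab3aeed061fc823f820) (.node (nat_lit 0x497166567493e2acba176af9bd746837ce417820) (.node (nat_lit 0x496d8a55ec94d6dec1da5477cbe4c81f8443fc20) (.node (nat_lit 0x496d89d59493e2ddb97a54399bf468178e437c20) (.node (nat_lit 0x496d89c98fad22acba176af9bd74e41786837c20) (.leaf (nat_lit 0x496d89bd95a4a30bb9bb5ab9acf4831790737c20)) (.node (nat_lit 0x496d89d1927d62bd395983797df5071788337c20)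 (.leaf (nat_lit 0x496d89c98fad22acba176af9bd74e41786837c20)) (.leaf (nat_lit 0x496d89d1927d62bd395983797df5071788337c20)))) (.node (nat_lit 0x496d8a49f3ab16ae42376bb7dd64441f8c83fc20) (.node (nat_lit 0x496d8a31f29d56ed415c8b777ee5021f8863fc20) (.leaf (nat_lit 0x496d89d59493e2ddb97a54399bf468178e437c20)) (.leaf (nat_lit 0x496d8a31f29d56ed415c8b777ee5021f8863fc20))) (.node (nat_lit 0x496d8a4df564971bc1bd72b7ae64861f9023fc20) (.leaf (nat_lit 0x496d8a49f3ab16ae42376bb7dd64441f8c83fc20)) (.leaf (nat_lit 0x496d8a4df564971bc1bd72b7ae64861f9023fc20))))) (.node (nat_lit 0x496d8ad2537b1abe2a3983afdde847278c347c20) (.node (nat_lit 0x496d8abe4ca4db0ea9db5c6fcce8c32784747c20) (.node (nat_lit 0x496d8ab2549bdaeda97c8c2f9ee862278e647c20) (.leaf (nat_lit 0x496d8a55ec94d6dec1da5477cbe4c81f8443fc20)) (.leaf (nat_lit 0x496d8ab2549bdaeda97c8c2f9ee862278e647c20))) (.node (nat_lit 0x496d8ace4f651b1caa1d72efbe68e62786247c20)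 (.leaf (nat_lit 0x496d8abe4ca4db0ea9db5c6fcce8c32784747c20)) (.leaf (nat_lit 0x496d8ace4f651b1caa1d72efbe68e62786247c20)))) (.node (nat_lit 0x4971664a6fad22ddb97a54399bf4e437c6817820) (.node (nat_lit 0x4971663e75a4a2bd395983797df48337d0717820) (.leaf (nat_lit 0x496d8ad2537b1abe2a3983afdde847278c347c20)) (.leaf (nat_lit 0x4971663e75a4a2bd395983797df48337d0717820))) (.node (nat_lit 0x49716652727d630bb9bb5ab9acf50737c8317820) (.leaf (nat_lit 0x4971664a6fad22ddb97a54399bf4e437c6817820)) (.leaf (nat_lit 0x49716652727d630bb9bb5ab9acf50737c8317820)))))) (.node (nat_lit 0x4971694eaf651aeda97c8c2f9ee8e647c6227820) (.node (nat_lit 0x497167ce956496ed415c8b777ee4863fd021f820) (.node (nat_lit 0x497167b2929d571bc1bd72b7ae65023fc861f820) (.leaf (nat_lit 0x497166567493e2acba176af9bd746837ce417820)) (.node (nat_lit 0x497167ca93ab16dec1da5477cbe4443fcc81f820) (.leaf (nat_lit 0x497167b2929d571bc1bd72b7ae65023fc861f820))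 (.leaf (nat_lit 0x497167ca93ab16dec1da5477cbe4443fcc81f820)))) (.node (nat_lit 0x49716932b49bdb1caa1d72efbe686247ce627820) (.node (nat_lit 0x497167d68c94d6ae42376bb7dd64c83fc441f820) (.leaf (nat_lit 0x497167ce956496ed415c8b777ee4863fd021f820)) (.leaf (nat_lit 0x497167d68c94d6ae42376bb7dd64c83fc441f820))) (.node (nat_lit 0x4971693eaca4dabe2a3983afdde8c347c4727820) (.leaf (nat_lit 0x49716932b49bdb1caa1d72efbe686247ce627820)) (.leaf (nat_lit 0x4971693eaca4dabe2a3983afdde8c347c4727820))))) (.node (nat_lit 0x497169d1957c9d0d455b5b7b7cf08717d0337820) (.node (nat_lit 0x497169bd92a55cbbc5b982bbadf10317c8737820) (.node (nat_lit 0x49716952b37b1b0ea9db5c6fcce84747cc327820) (.leaf (nat_lit 0x4971694eaf651aeda97c8c2f9ee8e647c6227820)) (.leaf (nat_lit 0x49716952b37b1b0ea9db5c6fcce84747cc327820))) (.node (nat_lit 0x497169c994abdcdcc61a52fbbbf06417ce837820) (.leaf (nat_lit 0x497169bd92a55cbbc5b982bbadf10317c8737820))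 (.leaf (nat_lit 0x497169c994abdcdcc61a52fbbbf06417ce837820)))) (.node (nat_lit 0x49716a31f59ca11d2d5d73737e6c821fd063f820) (.node (nat_lit 0x497169d58f951cadc5776c3b9d70e817c6437820) (.leaf (nat_lit 0x497169d1957c9d0d455b5b7b7cf08717d0337820)) (.leaf (nat_lit 0x497169d58f951cadc5776c3b9d70e817c6437820))) (.node (nat_lit 0x49716a49ecace0de2e3a53b3dbecc41fc483f820) (.leaf (nat_lit 0x49716a31f59ca11d2d5d73737e6c821fd063f820)) (.leaf (nat_lit 0x49716a49ecace0de2e3a53b3dbecc41fc483f820))))))) (.node (nat_lit 0xf7ed8d6efdcf14b9b5d4846ac7c8c74144322420) (.node (nat_lit 0xf7ed8bef5ccf5ab62a3483a537d447214c342420) (.node (nat_lit 0x49716abe53a314beb5d98475cddc4327cc747820) (.node (nat_lit 0x49716a55f39320aeadd76c73cd6c481fcc43f820) (.leaf (nat_lit 0x49716a4df26560ebadbc8ab3aeed061fc823f820)) (.node (nat_lit 0x49716ab24f9d151db57d74359e5ce227c6647820) (.leaf (nat_lit 0x49716a55f39320aeadd76c73cd6c481fcc43f820))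 (.leaf (nat_lit 0x49716ab24f9d151db57d74359e5ce227c6647820)))) (.node (nat_lit 0x49716ad24c7cd50e363b5bb5dcdcc727c4347820) (.node (nat_lit 0x49716ace5463d4ecb61c8af5bedc6627ce247820) (.leaf (nat_lit 0x49716abe53a314beb5d98475cddc4327cc747820)) (.leaf (nat_lit 0x49716ace5463d4ecb61c8af5bedc6627ce247820))) (.node (nat_lit 0xf7ed8be75ddf1b09a9cf5c64ca54c32144742420) (.leaf (nat_lit 0x49716ad24c7cd50e363b5bb5dcdcc727c4347820)) (.leaf (nat_lit 0xf7ed8be75ddf1b09a9cf5c64ca54c32144742420))))) (.node (nat_lit 0xf7ed8ceb7dbf20a9add26c68cabcc4394481a420) (.node (nat_lit 0xf7ed8bf75be65ae7a96c8c2549d462214e642420) (.node (nat_lit 0xf7ed8bf359eedb1a2a1372e4f654e62146242420) (.leaf (nat_lit 0xf7ed8bef5ccf5ab62a3483a537d447214c342420)) (.leaf (nat_lit 0xf7ed8bf359eedb1a2a1372e4f654e62146242420))) (.node (nat_lit 0xf7ed8cdf7cd760d62e3553a9393c48394c41a420) (.leaf (nat_lit 0xf7ed8bf75be65ae7a96c8c2549d462214e642420))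 (.leaf (nat_lit 0xf7ed8cdf7cd760d62e3553a9393c48394c41a420)))) (.node (nat_lit 0xf7ed8cf777e6a0e92dac8aa959bc82395061a420) (.node (nat_lit 0xf7ed8cf37aede11aad537369263d06394821a420) (.leaf (nat_lit 0xf7ed8ceb7dbf20a9add26c68cabcc4394481a420)) (.leaf (nat_lit 0xf7ed8cf37aede11aad537369263d06394821a420))) (.node (nat_lit 0xf7ed8d66fcdf5506362f5bab3a4843414c722420) (.leaf (nat_lit 0xf7ed8cf777e6a0e92dac8aa959bc82395061a420)) (.leaf (nat_lit 0xf7ed8d66fcdf5506362f5bab3a4843414c722420)))))) (.node (nat_lit 0xf7ed8e5fbbd662d7b9755419494c68114e432420) (.node (nat_lit 0xf7ed8ddf3dd716d9c1d5545ec950c8194443a420) (.node (nat_lit 0xf7ed8d72fbee5517b573742b464866414e222420) (.leaf (nat_lit 0xf7ed8d6efdcf14b9b5d4846ac7c8c74144322420)) (.node (nat_lit 0xf7ed8d76f9e6d4ea360c8aeaf9c8e24146622420) (.leaf (nat_lit 0xf7ed8d72fbee5517b573742b464866414e222420)) (.leaf (nat_lit 0xf7ed8d76f9e6d4ea360c8aeaf9c8e24146622420))))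 (.node (nat_lit 0xf7ed8df337ee971941b3729f565086195023a420) (.node (nat_lit 0xf7ed8deb3cbf56a642326b9f3ad044194c83a420) (.leaf (nat_lit 0xf7ed8ddf3dd716d9c1d5545ec950c8194443a420)) (.leaf (nat_lit 0xf7ed8deb3cbf56a642326b9f3ad044194c83a420))) (.node (nat_lit 0xf7ed8df73ae5d6eac14c8b5f29d102194863a420) (.leaf (nat_lit 0xf7ed8df337ee971941b3729f565086195023a420)) (.leaf (nat_lit 0xf7ed8df73ae5d6eac14c8b5f29d102194863a420))))) (.node (nat_lit 0xf7ed8edf99d6dcda461552e6f930e83146412420) (.node (nat_lit 0xf7ed8e6bb9bee2aa3a126ad8facce41146832420) (.node (nat_lit 0xf7ed8e67b7dea30939af5a995a4c831150732420) (.leaf (nat_lit 0xf7ed8e5fbbd662d7b9755419494c68114e432420)) (.leaf (nat_lit 0xf7ed8e67b7dea30939af5a995a4c831150732420))) (.node (nat_lit 0xf7ed8e6fbacde2bab954835927cd071148332420) (.leaf (nat_lit 0xf7ed8e6bb9bee2aa3a126ad8facce41146832420)) (.leaf (nat_lit 0xf7ed8e6fbacde2bab954835927cd071148332420))))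 (.node (nat_lit 0xf7ed8eeb9bbe5ca7c5726c274ab064314e812420) (.node (nat_lit 0xf7ed8ee79adddd0ac54f5b672a31033148712420) (.leaf (nat_lit 0xf7ed8edf99d6dcda461552e6f930e83146412420)) (.leaf (nat_lit 0xf7ed8ee79adddd0ac54f5b672a31033148712420))) (.node (nat_lit 0xf7ed8eef97ce9cb945b482a757b0873150312420) (.leaf (nat_lit 0xf7ed8eeb9bbe5ca7c5726c274ab064314e812420)) (.leaf (nat_lit 0xf7ed8eef97ce9cb945b482a757b0873150312420))))))))) (.node (nat_lit 0xf7f3bd5afdc726b6b254855ca7c4c540c4921c20) (.node (nat_lit 0xf7f16cf377ee96eac14c8b5f29d0863a50219420) (.node (nat_lit 0xf7efadf736e618facd50a36325b9221a0a639020) (.node (nat_lit 0xf7efac76dbe65af8a990a4e4e5d4622a0e649020) (.node (nat_lit 0xf7efab7719e6d4f73670a32b15c8e24a06629020) (.node (nat_lit 0xf7efab6f1dcf14c5b5ee9d2b08c8c74a04329020) (.leaf (nat_lit 0xf7efab671cdf5538369163eab748434a0c729020)) (.node (nat_lit 0xf7efab731bee5548b58b7ceae848664a0e229020)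 (.leaf (nat_lit 0xf7efab6f1dcf14c5b5ee9d2b08c8c74a04329020)) (.leaf (nat_lit 0xf7efab731bee5548b58b7ceae848664a0e229020)))) (.node (nat_lit 0xf7efac6edccf5ac82a8e9be4b8d4472a0c349020) (.node (nat_lit 0xf7efac66dddf1b35a9f165250754c32a04749020) (.leaf (nat_lit 0xf7efab7719e6d4f73670a32b15c8e24a06629020)) (.leaf (nat_lit 0xf7efac66dddf1b35a9f165250754c32a04749020))) (.node (nat_lit 0xf7efac72d9eedb472a6b7b251854e62a06249020) (.leaf (nat_lit 0xf7efac6edccf5ac82a8e9be4b8d4472a0c349020)) (.leaf (nat_lit 0xf7efac72d9eedb472a6b7b251854e62a06249020))))) (.node (nat_lit 0xf7efacf778e5a6f931b0a29d55c4a23a12619020) (.node (nat_lit 0xf7eface37cb766d8329553dcb944493a0c519020) (.node (nat_lit 0xf7efacdb7dc726a5b1f26d1d0ac4c53a04919020) (.leaf (nat_lit 0xf7efac76dbe65af8a990a4e4e5d4622a0e649020)) (.leaf (nat_lit 0xf7efacdb7dc726a5b1f26d1d0ac4c53a04919020))) (.node (nat_lit 0xf7efacf376ee274ab14b7b5d2845263a0a219020)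 (.leaf (nat_lit 0xf7eface37cb766d8329553dcb944493a0c519020)) (.leaf (nat_lit 0xf7efacf376ee274ab14b7b5d2845263a0a219020)))) (.node (nat_lit 0xf7efade33db718d5cdf555230938c91a04539020) (.node (nat_lit 0xf7efaddb3cc758a84e926be2bab8451a0c939020) (.leaf (nat_lit 0xf7efacf778e5a6f931b0a29d55c4a23a12619020)) (.leaf (nat_lit 0xf7efaddb3cc758a84e926be2bab8451a0c939020))) (.node (nat_lit 0xf7efadf338ed99494dab7aa35838a61a12239020) (.leaf (nat_lit 0xf7efade33db718d5cdf555230938c91a04539020)) (.leaf (nat_lit 0xf7efadf338ed99494dab7aa35838a61a12239020)))))) (.node (nat_lit 0xf7efaee796de1f3ad1516357274123320a711020) (.node (nat_lit 0xf7efae67b8dda9393db162a1572ca31212731020) (.node (nat_lit 0xf7efae5bb9c6e8a73e726b211aace51206931020) (.leaf (nat_lit 0xf7efadf736e618facd50a36325b9221a0a639020)) (.node (nat_lit 0xf7efae63bbb668d8bd9554e0e92c69120e531020) (.leaf (nat_lit 0xf7efae5bb9c6e8a73e726b211aace51206931020))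 (.leaf (nat_lit 0xf7efae63bbb668d8bd9554e0e92c69120e531020)))) (.node (nat_lit 0xf7efaedb9bc65ea8d1926cd6eac065320e911020) (.node (nat_lit 0xf7efae6fb6ce28cabd4e9b6128ad27120a331020) (.leaf (nat_lit 0xf7efae67b8dda9393db162a1572ca31212731020)) (.leaf (nat_lit 0xf7efae6fb6ce28cabd4e9b6128ad27120a331020))) (.node (nat_lit 0xf7efaee399b6ded7527553171940e93206511020) (.leaf (nat_lit 0xf7efaedb9bc65ea8d1926cd6eac065320e911020)) (.leaf (nat_lit 0xf7efaee399b6ded7527553171940e93206511020))))) (.node (nat_lit 0xf7f16bf35bee54ea360c8aeaf9c866224e241420) (.node (nat_lit 0xf7f16be75cdf54b9b5d4846ac7c843224c741420) (.node (nat_lit 0xf7efaeef98cd9ec951ae9a9758c0a73212311020) (.leaf (nat_lit 0xf7efaee796de1f3ad1516357274123320a711020)) (.leaf (nat_lit 0xf7efaeef98cd9ec951ae9a9758c0a73212311020))) (.node (nat_lit 0xf7f16bef5dcf1506362f5bab3a48c72244341420) (.leaf (nat_lit 0xf7f16be75cdf54b9b5d4846ac7c843224c741420))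 (.leaf (nat_lit 0xf7f16bef5dcf1506362f5bab3a48c72244341420)))) (.node (nat_lit 0xf7f16cdf7dd716a642326b9f3ad0c83a44419420) (.node (nat_lit 0xf7f16bf759e6d517b573742b4648e22246641420) (.leaf (nat_lit 0xf7f16bf35bee54ea360c8aeaf9c866224e241420)) (.leaf (nat_lit 0xf7f16bf759e6d517b573742b4648e22246641420))) (.node (nat_lit 0xf7f16ceb7cbf56d9c1d5545ec950443a4c819420) (.leaf (nat_lit 0xf7f16cdf7dd716a642326b9f3ad0c83a44419420)) (.leaf (nat_lit 0xf7f16ceb7cbf56d9c1d5545ec950443a4c819420))))))) (.node (nat_lit 0xf7f16ee797dea2bab954835927cc833250711420) (.node (nat_lit 0xf7f16deb3dbf20d62e3553a9393cc41a44839420) (.node (nat_lit 0xf7f16d6efccf5b09a9cf5c64ca5447424c321420) (.node (nat_lit 0xf7f16cf77ae5d71941b3729f5651023a48619420) (.leaf (nat_lit 0xf7f16cf377ee96eac14c8b5f29d0863a50219420)) (.node (nat_lit 0xf7f16d66fddf1ab62a3483a537d4c34244721420) (.leaf (nat_lit 0xf7f16cf77ae5d71941b3729f5651023a48619420))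 (.leaf (nat_lit 0xf7f16d66fddf1ab62a3483a537d4c34244721420)))) (.node (nat_lit 0xf7f16d76fbe65b1a2a1372e4f65462424e621420) (.node (nat_lit 0xf7f16d72f9eedae7a96c8c2549d4e64246221420) (.leaf (nat_lit 0xf7f16d6efccf5b09a9cf5c64ca5447424c321420)) (.leaf (nat_lit 0xf7f16d72f9eedae7a96c8c2549d4e64246221420))) (.node (nat_lit 0xf7f16ddf3cd760a9add26c68cabc481a4c439420) (.leaf (nat_lit 0xf7f16d76fbe65b1a2a1372e4f65462424e621420)) (.leaf (nat_lit 0xf7f16ddf3cd760a9add26c68cabc481a4c439420))))) (.node (nat_lit 0xf7f16e67badddcb945b482a757b1031248731420) (.node (nat_lit 0xf7f16df737e6a11aad537369263c821a50639420) (.node (nat_lit 0xf7f16df33aede0e92dac8aa959bd061a48239420) (.leaf (nat_lit 0xf7f16deb3dbf20d62e3553a9393cc41a44839420)) (.leaf (nat_lit 0xf7f16df33aede0e92dac8aa959bd061a48239420))) (.node (nat_lit 0xf7f16e5fb9d6dca7c5726c274ab0e81246431420) (.leaf (nat_lit 0xf7f16df737e6a11aad537369263c821a50639420))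 (.leaf (nat_lit 0xf7f16e5fb9d6dca7c5726c274ab0e81246431420)))) (.node (nat_lit 0xf7f16e6fb7ce9d0ac54f5b672a30871250331420) (.node (nat_lit 0xf7f16e6bbbbe5cda461552e6f93064124e831420) (.leaf (nat_lit 0xf7f16e67badddcb945b482a757b1031248731420)) (.leaf (nat_lit 0xf7f16e6bbbbe5cda461552e6f93064124e831420))) (.node (nat_lit 0xf7f16edf9bd662aa3a126ad8facc68324e411420) (.leaf (nat_lit 0xf7f16e6fb7ce9d0ac54f5b672a30871250331420)) (.leaf (nat_lit 0xf7f16edf9bd662aa3a126ad8facc68324e411420)))))) (.node (nat_lit 0xf7f3bbdb5cc758b54eb484a2d7b84520cc941c20) (.node (nat_lit 0xf7f3bb5f1dd716c6c24e9d5ea8d0c848c4429c20) (.node (nat_lit 0xf7f16eeb99bee2d7b9755419494ce43246811420) (.leaf (nat_lit 0xf7f16ee797dea2bab954835927cc833250711420)) (.node (nat_lit 0xf7f16eef9acde30939af5a995a4d073248311420) (.leaf (nat_lit 0xf7f16eeb99bee2d7b9755419494ce43246811420)) (.leaf (nat_lit 0xf7f16eef9acde30939af5a995a4d073248311420))))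 (.node (nat_lit 0xf7f3bb7317ee9758c18d94dee5508648d0229c20) (.node (nat_lit 0xf7f3bb6b1cbf573542b1649ed7504448cc829c20) (.leaf (nat_lit 0xf7f3bb5f1dd716c6c24e9d5ea8d0c848c4429c20)) (.leaf (nat_lit 0xf7f3bb6b1cbf573542b1649ed7504448cc829c20))) (.node (nat_lit 0xf7f3bb771ae5d727426aab1f16d10248c8629c20) (.leaf (nat_lit 0xf7f3bb7317ee9758c18d94dee5508648d0229c20)) (.leaf (nat_lit 0xf7f3bb771ae5d727426aab1f16d10248c8629c20))))) (.node (nat_lit 0xf7f3bc5edcd760c52eae9ca8d8bc4828cc449c20) (.node (nat_lit 0xf7f3bbf358ed995a4e0d92e2f538a620d2241c20) (.node (nat_lit 0xf7f3bbe35db71906ce4f5d62aa38c920c4541c20) (.leaf (nat_lit 0xf7f3bbdb5cc758b54eb484a2d7b84520cc941c20)) (.leaf (nat_lit 0xf7f3bbe35db71906ce4f5d62aa38c920c4541c20))) (.node (nat_lit 0xf7f3bbf756e61927cd6aac2346b92220ca641c20) (.leaf (nat_lit 0xf7f3bbf358ed995a4e0d92e2f538a620d2241c20)) (.leaf (nat_lit 0xf7f3bbf756e61927cd6aac2346b92220ca641c20))))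 (.node (nat_lit 0xf7f3bc72daede1572e6d9329153d0628c8249c20) (.node (nat_lit 0xf7f3bc6addbf2136ae516568a73cc428c4849c20) (.leaf (nat_lit 0xf7f3bc5edcd760c52eae9ca8d8bc4828cc449c20)) (.leaf (nat_lit 0xf7f3bc6addbf2136ae516568a73cc428c4849c20))) (.node (nat_lit 0xf7f3bc76d7e6a128ad8aace8e6bc8228d0649c20) (.leaf (nat_lit 0xf7f3bc72daede1572e6d9329153d0628c8249c20)) (.leaf (nat_lit 0xf7f3bc76d7e6a128ad8aace8e6bc8228d0649c20)))))))) (.node (nat_lit 0xf7f57e67b6de1ec951ae9a9758c123110a732020) (.node (nat_lit 0xf7f57b771be65b472a6b7b25185462490e62a020) (.node (nat_lit 0xf7f3be6bb8bdab3a4a1162d4f734a410d2831c20) (.node (nat_lit 0xf7f3bd76f8e5a72a320aaadcf6c4a240d2621c20) (.node (nat_lit 0xf7f3bd62fcb7670532af5c9cda444940cc521c20) (.leaf (nat_lit 0xf7f3bd5afdc726b6b254855ca7c4c540c4921c20)) (.node (nat_lit 0xf7f3bd72f6ee2757b16d941d45452640ca221c20) (.leaf (nat_lit 0xf7f3bd62fcb7670532af5c9cda444940cc521c20))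 (.leaf (nat_lit 0xf7f3bd72f6ee2757b16d941d45452640ca221c20)))) (.node (nat_lit 0xf7f3be5fb6d62ac7c96e9c1548b52810ca431c20) (.node (nat_lit 0xf7f3be5bbac5eab74a74831517b50510c8931c20) (.leaf (nat_lit 0xf7f3bd76f8e5a72a320aaadcf6c4a240d2621c20)) (.leaf (nat_lit 0xf7f3be5bbac5eab74a74831517b50510c8931c20))) (.node (nat_lit 0xf7f3be63b7b6ab08c98f5cd4ea348910d0531c20) (.leaf (nat_lit 0xf7f3be5fb6d62ac7c96e9c1548b52810ca431c20)) (.leaf (nat_lit 0xf7f3be63b7b6ab08c98f5cd4ea348910d0531c20))))) (.node (nat_lit 0xf7f3beeb96be2537d571641b47292430ca811c20) (.node (nat_lit 0xf7f3bedf98d5a4ca560e9adaf8a8a830d2411c20) (.node (nat_lit 0xf7f3bedb97c6a4b8d59484dae7a88530d0911c20) (.leaf (nat_lit 0xf7f3be6bb8bdab3a4a1162d4f734a410d2831c20)) (.leaf (nat_lit 0xf7f3bedb97c6a4b8d59484dae7a88530d0911c20))) (.node (nat_lit 0xf7f3bee39ab5e507566f5b1b1a290930c8511c20) (.leaf (nat_lit 0xf7f3bedf98d5a4ca560e9adaf8a8a830d2411c20))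 (.leaf (nat_lit 0xf7f3bee39ab5e507566f5b1b1a290930c8511c20)))) (.node (nat_lit 0xf7f57b6f1ccf5b35a9f16525075447490c32a020) (.node (nat_lit 0xf7f57b671ddf1ac82a8e9be4b8d4c3490472a020) (.leaf (nat_lit 0xf7f3beeb96be2537d571641b47292430ca811c20)) (.leaf (nat_lit 0xf7f57b671ddf1ac82a8e9be4b8d4c3490472a020))) (.node (nat_lit 0xf7f57b7319eedaf8a990a4e4e5d4e6490622a020) (.leaf (nat_lit 0xf7f57b6f1ccf5b35a9f16525075447490c32a020)) (.leaf (nat_lit 0xf7f57b7319eedaf8a990a4e4e5d4e6490622a020)))))) (.node (nat_lit 0xf7f57cf378ed98facd50a36325b8a6391221a020) (.node (nat_lit 0xf7f57c72dbee54f73670a32b15c866290e24a020) (.node (nat_lit 0xf7f57c66dcdf54c5b5ee9d2b08c843290c74a020) (.leaf (nat_lit 0xf7f57b771be65b472a6b7b25185462490e62a020)) (.node (nat_lit 0xf7f57c6eddcf1538369163eab748c7290434a020) (.leaf (nat_lit 0xf7f57c66dcdf54c5b5ee9d2b08c843290c74a020)) (.leaf (nat_lit 0xf7f57c6eddcf1538369163eab748c7290434a020))))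 (.node (nat_lit 0xf7f57cdb7cc758d5cdf55523093845390c91a020) (.node (nat_lit 0xf7f57c76d9e6d548b58b7ceae848e2290664a020) (.leaf (nat_lit 0xf7f57c72dbee54f73670a32b15c866290e24a020)) (.leaf (nat_lit 0xf7f57c76d9e6d548b58b7ceae848e2290664a020))) (.node (nat_lit 0xf7f57ce37db718a84e926be2bab8c9390451a020) (.leaf (nat_lit 0xf7f57cdb7cc758d5cdf55523093845390c91a020)) (.leaf (nat_lit 0xf7f57ce37db718a84e926be2bab8c9390451a020))))) (.node (nat_lit 0xf7f57df336ee26f931b0a29d55c526190a23a020) (.node (nat_lit 0xf7f57ddb3dc726d8329553dcb944c5190493a020) (.node (nat_lit 0xf7f57cf776e619494dab7aa3583922390a61a020) (.leaf (nat_lit 0xf7f57cf378ed98facd50a36325b8a6391221a020)) (.leaf (nat_lit 0xf7f57cf776e619494dab7aa3583922390a61a020))) (.node (nat_lit 0xf7f57de33cb766a5b1f26d1d0ac449190c53a020) (.leaf (nat_lit 0xf7f57ddb3dc726d8329553dcb944c5190493a020)) (.leaf (nat_lit 0xf7f57de33cb766a5b1f26d1d0ac449190c53a020))))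 (.node (nat_lit 0xf7f57e5bbbc65ed752755317194065110e932020) (.node (nat_lit 0xf7f57df738e5a74ab14b7b5d2844a2191263a020) (.leaf (nat_lit 0xf7f57df336ee26f931b0a29d55c526190a23a020)) (.leaf (nat_lit 0xf7f57df738e5a74ab14b7b5d2844a2191263a020))) (.node (nat_lit 0xf7f57e63b9b6dea8d1926cd6eac0e91106532020) (.leaf (nat_lit 0xf7f57e5bbbc65ed752755317194065110e932020)) (.leaf (nat_lit 0xf7f57e63b9b6dea8d1926cd6eac0e91106532020))))))) (.node (nat_lit 0xf7f79c6adcbf56c6c24e9d5ea8d04429cc848c20) (.node (nat_lit 0xf7f79b6b1dbf20c52eae9ca8d8bcc449c4828c20) (.node (nat_lit 0xf7f57ee39bb668a73e726b211aac69310e512020) (.node (nat_lit 0xf7f57e6fb8cd9f3ad15163572740a71112332020) (.leaf (nat_lit 0xf7f57e67b6de1ec951ae9a9758c123110a732020)) (.node (nat_lit 0xf7f57edb99c6e8d8bd9554e0e92ce53106912020) (.leaf (nat_lit 0xf7f57e6fb8cd9f3ad15163572740a71112332020)) (.leaf (nat_lit 0xf7f57edb99c6e8d8bd9554e0e92ce53106912020))))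 (.node (nat_lit 0xf7f57eef96ce29393db162a1572d27310a312020) (.node (nat_lit 0xf7f57ee798dda8cabd4e9b6128aca33112712020) (.leaf (nat_lit 0xf7f57ee39bb668a73e726b211aac69310e512020)) (.leaf (nat_lit 0xf7f57ee798dda8cabd4e9b6128aca33112712020))) (.node (nat_lit 0xf7f79b5f1cd76136ae516568a73c4849cc428c20) (.leaf (nat_lit 0xf7f57eef96ce29393db162a1572d27310a312020)) (.leaf (nat_lit 0xf7f79b5f1cd76136ae516568a73c4849cc428c20))))) (.node (nat_lit 0xf7f79be35cb766b6b254855ca7c44921cc540c20) (.node (nat_lit 0xf7f79b7717e6a1572e6d9329153c8249d0628c20) (.node (nat_lit 0xf7f79b731aede128ad8aace8e6bd0649c8228c20) (.leaf (nat_lit 0xf7f79b6b1dbf20c52eae9ca8d8bcc449c4828c20)) (.leaf (nat_lit 0xf7f79b731aede128ad8aace8e6bd0649c8228c20))) (.node (nat_lit 0xf7f79bdb5dc7270532af5c9cda44c521c4940c20) (.leaf (nat_lit 0xf7f79b7717e6a1572e6d9329153c8249d0628c20)) (.leaf (nat_lit 0xf7f79bdb5dc7270532af5c9cda44c521c4940c20))))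 (.node (nat_lit 0xf7f79bf758e5a757b16d941d4544a221d2640c20) (.node (nat_lit 0xf7f79bf356ee272a320aaadcf6c52621ca240c20) (.leaf (nat_lit 0xf7f79be35cb766b6b254855ca7c44921cc540c20)) (.leaf (nat_lit 0xf7f79bf356ee272a320aaadcf6c52621ca240c20))) (.node (nat_lit 0xf7f79c5eddd7173542b1649ed750c829c4448c20) (.leaf (nat_lit 0xf7f79bf758e5a757b16d941d4544a221d2640c20)) (.leaf (nat_lit 0xf7f79c5eddd7173542b1649ed750c829c4448c20)))))) (.node (nat_lit 0xf7f79e5bb7c6a507566f5b1b1a288511d0930c20) (.node (nat_lit 0xf7f79d5afcc75906ce4f5d62aa384541cc920c20) (.node (nat_lit 0xf7f79c72d7ee9727426aab1f16d08629d0248c20) (.leaf (nat_lit 0xf7f79c6adcbf56c6c24e9d5ea8d04429cc848c20)) (.node (nat_lit 0xf7f79c76dae5d758c18d94dee5510229c8648c20) (.leaf (nat_lit 0xf7f79c72d7ee9727426aab1f16d08629d0248c20)) (.leaf (nat_lit 0xf7f79c76dae5d758c18d94dee5510229c8648c20)))) (.node (nat_lit 0xf7f79d72f8ed9927cd6aac2346b8a641d2220c20)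 (.node (nat_lit 0xf7f79d62fdb718b54eb484a2d7b8c941c4520c20) (.leaf (nat_lit 0xf7f79d5afcc75906ce4f5d62aa384541cc920c20)) (.leaf (nat_lit 0xf7f79d62fdb718b54eb484a2d7b8c941c4520c20))) (.node (nat_lit 0xf7f79d76f6e6195a4e0d92e2f5392241ca620c20) (.leaf (nat_lit 0xf7f79d72f8ed9927cd6aac2346b8a641d2220c20)) (.leaf (nat_lit 0xf7f79d76f6e6195a4e0d92e2f5392241ca620c20))))) (.node (nat_lit 0xf7f79edb9ac5eb08c98f5cd4ea350531c8910c20) (.node (nat_lit 0xf7f79e63bab5e4b8d59484dae7a90911c8530c20) (.node (nat_lit 0xf7f79e5fb8d5a537d571641b4728a811d2430c20) (.leaf (nat_lit 0xf7f79e5bb7c6a507566f5b1b1a288511d0930c20)) (.leaf (nat_lit 0xf7f79e5fb8d5a537d571641b4728a811d2430c20))) (.node (nat_lit 0xf7f79e6bb6be24ca560e9adaf8a92411ca830c20) (.leaf (nat_lit 0xf7f79e63bab5e4b8d59484dae7a90911c8530c20)) (.leaf (nat_lit 0xf7f79e6bb6be24ca560e9adaf8a92411ca830c20)))) (.node (nat_lit 0xf7f79ee397b6aab74a74831517b48931d0510c20)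 (.node (nat_lit 0xf7f79edf96d62b3a4a1162d4f7352831ca410c20) (.leaf (nat_lit 0xf7f79edb9ac5eb08c98f5cd4ea350531c8910c20)) (.leaf (nat_lit 0xf7f79edf96d62b3a4a1162d4f7352831ca410c20))) (.node (nat_lit 0xf7f79eeb98bdaac7c96e9c1548b4a431d2810c20) (.leaf (nat_lit 0xf7f79ee397b6aab74a74831517b48931d0510c20)) (.leaf (nat_lit 0xf7f79eeb98bdaac7c96e9c1548b4a431d2810c20))))))))))
noncomputable def AN_lS_T7 : ST := (.node (nat_lit 0xffb3bb5f1cd761352e4e655ed8d0c429c4848c20) (.node (nat_lit 0xffad8ddf3cd760a62dd56c5f3950c43a44819420) (.node (nat_lit 0xf7fbcbe758dda959bdcd9460c52ca32092741820) (.node (nat_lit 0xf7f9dceb76be2549d5cb7c5ac82924398a818820) (.node (nat_lit 0xf7f9dbef58cd9f56522d93973540a72192340820) (.node (nat_lit 0xf7f9db6f17ce9d55c5ed95270530874990328820) (.node (nat_lit 0xf7f9db671adddd28468aabe6b6b1034988728820) (.leaf (nat_lit 0xf7f9db5f19d6dcf6c650a566a5b0e84986428820))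 (.node (nat_lit 0xf7f9db6b1bbe5d4546ab7ca6d83064498e828820) (.leaf (nat_lit 0xf7f9db671adddd28468aabe6b6b1034988728820)) (.leaf (nat_lit 0xf7f9db6b1bbe5d4546ab7ca6d83064498e828820)))) (.node (nat_lit 0xf7f9dbe359b6df16d2537556a640e92186540820) (.node (nat_lit 0xf7f9dbdb5bc65ee552ac8c96d9c065218e940820) (.leaf (nat_lit 0xf7f9db6f17ce9d55c5ed95270530874990328820)) (.leaf (nat_lit 0xf7f9dbdb5bc65ee552ac8c96d9c065218e940820))) (.node (nat_lit 0xf7f9dbe756de1f29d1caac56c6c123218a740820) (.leaf (nat_lit 0xf7f9dbe359b6df16d2537556a640e92186540820)) (.leaf (nat_lit 0xf7f9dbe756de1f29d1caac56c6c123218a740820))))) (.node (nat_lit 0xf7f9dc6edacde3583a8d93d8b54d072988348820) (.node (nat_lit 0xf7f9dc66d7dea325b9eaad1906cc832990748820) (.node (nat_lit 0xf7f9dc5edbd662f53ab0a498d5cc68298e448820) (.leaf (nat_lit 0xf7f9dbef58cd9f56522d93973540a72192340820)) (.leaf (nat_lit 0xf7f9dc5edbd662f53ab0a498d5cc68298e448820)))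 (.node (nat_lit 0xf7f9dc6ad9bee346ba4b7d58a84ce42986848820) (.leaf (nat_lit 0xf7f9dc66d7dea325b9eaad1906cc832990748820)) (.leaf (nat_lit 0xf7f9dc6ad9bee346ba4b7d58a84ce42986848820)))) (.node (nat_lit 0xf7f9dcdf78d5a4f65630a39b35a8a83992418820) (.node (nat_lit 0xf7f9dcdb77c6a4e5d5ec8d1b09a8853990918820) (.leaf (nat_lit 0xf7f9dc6edacde3583a8d93d8b54d072988348820)) (.leaf (nat_lit 0xf7f9dcdb77c6a4e5d5ec8d1b09a8853990918820))) (.node (nat_lit 0xf7f9dce37ab5e518569373dab629093988518820) (.leaf (nat_lit 0xf7f9dcdf78d5a4f65630a39b35a8a83992418820)) (.leaf (nat_lit 0xf7f9dce37ab5e518569373dab629093988518820)))))) (.node (nat_lit 0xf7f9dde337b6ab15c9f375150634891990538820) (.node (nat_lit 0xf7f9dd66f8dda9263e2aaba136aca34192720820) (.node (nat_lit 0xf7f9dd5af9c6e8e6be4c8d60a9ace54186920820) (.leaf (nat_lit 0xf7f9dceb76be2549d5cb7c5ac82924398a818820)) (.node (nat_lit 0xf7f9dd62fbb669153eb374a0d62c69418e520820)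 (.leaf (nat_lit 0xf7f9dd5af9c6e8e6be4c8d60a9ace54186920820)) (.leaf (nat_lit 0xf7f9dd62fbb669153eb374a0d62c69418e520820)))) (.node (nat_lit 0xf7f9dddb3ac5eae84a8c8bd4b9b5051988938820) (.node (nat_lit 0xf7f9dd6ef6ce2959bdcd9460c52d27418a320820) (.leaf (nat_lit 0xf7f9dd66f8dda9263e2aaba136aca34192720820)) (.leaf (nat_lit 0xf7f9dd6ef6ce2959bdcd9460c52d27418a320820))) (.node (nat_lit 0xf7f9dddf36d62af9c9d0a454c5b528198a438820) (.leaf (nat_lit 0xf7f9dddb3ac5eae84a8c8bd4b9b5051988938820)) (.leaf (nat_lit 0xf7f9dddf36d62af9c9d0a454c5b528198a438820))))) (.node (nat_lit 0xf7fbcb6b19bee2f53ab0a498d5cce44886829820) (.node (nat_lit 0xf7fbcb5f1bd66346ba4b7d58a84c68488e429820) (.node (nat_lit 0xf7f9ddeb38bdab464a2b7b953834a41992838820) (.leaf (nat_lit 0xf7f9dde337b6ab15c9f375150634891990538820)) (.leaf (nat_lit 0xf7f9ddeb38bdab464a2b7b953834a41992838820))) (.node (nat_lit 0xf7fbcb6717dea3583a8d93d8b54c834890729820)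 (.leaf (nat_lit 0xf7fbcb5f1bd66346ba4b7d58a84c68488e429820)) (.leaf (nat_lit 0xf7fbcb6717dea3583a8d93d8b54c834890729820)))) (.node (nat_lit 0xf7fbcbdb59c6e9153eb374a0d62ce52086941820) (.node (nat_lit 0xf7fbcb6f1acde325b9eaad1906cd074888329820) (.leaf (nat_lit 0xf7fbcb6b19bee2f53ab0a498d5cce44886829820)) (.leaf (nat_lit 0xf7fbcb6f1acde325b9eaad1906cd074888329820))) (.node (nat_lit 0xf7fbcbe35bb668e6be4c8d60a9ac69208e541820) (.leaf (nat_lit 0xf7fbcbdb59c6e9153eb374a0d62ce52086941820)) (.leaf (nat_lit 0xf7fbcbe35bb668e6be4c8d60a9ac69208e541820))))))) (.node (nat_lit 0xf7fbcddf38d5a549d5cb7c5ac828a81892439820) (.node (nat_lit 0xf7fbccdf76d62b464a2b7b95383528388a419820) (.node (nat_lit 0xf7fbcc66dadddd55c5ed95270531032888749820) (.node (nat_lit 0xf7fbcbef56ce29263e2aaba136ad27208a341820) (.leaf (nat_lit 0xf7fbcbe758dda959bdcd9460c52ca32092741820)) (.node (nat_lit 0xf7fbcc5ed9d6dd4546ab7ca6d830e82886449820)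 (.leaf (nat_lit 0xf7fbcbef56ce29263e2aaba136ad27208a341820)) (.leaf (nat_lit 0xf7fbcc5ed9d6dd4546ab7ca6d830e82886449820)))) (.node (nat_lit 0xf7fbcc6ed7ce9d28468aabe6b6b0872890349820) (.node (nat_lit 0xf7fbcc6adbbe5cf6c650a566a5b064288e849820) (.leaf (nat_lit 0xf7fbcc66dadddd55c5ed95270531032888749820)) (.leaf (nat_lit 0xf7fbcc6adbbe5cf6c650a566a5b064288e849820))) (.node (nat_lit 0xf7fbccdb7ac5eb15c9f375150635053888919820) (.leaf (nat_lit 0xf7fbcc6ed7ce9d28468aabe6b6b0872890349820)) (.leaf (nat_lit 0xf7fbccdb7ac5eb15c9f375150635053888919820))))) (.node (nat_lit 0xf7fbcd62f9b6dee552ac8c96d9c0e94086521820) (.node (nat_lit 0xf7fbcceb78bdaaf9c9d0a454c5b4a43892819820) (.node (nat_lit 0xf7fbcce377b6aae84a8c8bd4b9b4893890519820) (.leaf (nat_lit 0xf7fbccdf76d62b464a2b7b95383528388a419820)) (.leaf (nat_lit 0xf7fbcce377b6aae84a8c8bd4b9b4893890519820))) (.node (nat_lit 0xf7fbcd5afbc65f16d2537556a64065408e921820)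 (.leaf (nat_lit 0xf7fbcceb78bdaaf9c9d0a454c5b4a43892819820)) (.leaf (nat_lit 0xf7fbcd5afbc65f16d2537556a64065408e921820)))) (.node (nat_lit 0xf7fbcd6ef8cd9f29d1caac56c6c0a74092321820) (.node (nat_lit 0xf7fbcd66f6de1f56522d9397354123408a721820) (.leaf (nat_lit 0xf7fbcd62f9b6dee552ac8c96d9c0e94086521820)) (.leaf (nat_lit 0xf7fbcd66f6de1f56522d9397354123408a721820))) (.node (nat_lit 0xf7fbcddb37c6a518569373dab628851890939820) (.leaf (nat_lit 0xf7fbcd6ef8cd9f29d1caac56c6c0a74092321820)) (.leaf (nat_lit 0xf7fbcddb37c6a518569373dab628851890939820)))))) (.node (nat_lit 0xffad8cdf7dd716a9c2356ba8c93c441a4c839420) (.node (nat_lit 0xffad8be75cdf54b635cf84653a54c74244321420) (.node (nat_lit 0xf7fbcde33ab5e4e5d5ec8d1b09a9091888539820) (.leaf (nat_lit 0xf7fbcddf38d5a549d5cb7c5ac828a81892439820)) (.node (nat_lit 0xf7fbcdeb36be24f65630a39b35a924188a839820) (.leaf (nat_lit 0xf7fbcde33ab5e4e5d5ec8d1b09a9091888539820))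 (.leaf (nat_lit 0xf7fbcdeb36be24f65630a39b35a924188a839820)))) (.node (nat_lit 0xffad8bf35bee54e7b6138ae54654e24246621420) (.node (nat_lit 0xffad8bef5dcf1509b6345ba4c7d443424c721420) (.leaf (nat_lit 0xffad8be75cdf54b635cf84653a54c74244321420)) (.leaf (nat_lit 0xffad8bef5dcf1509b6345ba4c7d443424c721420))) (.node (nat_lit 0xffad8bf759e6d51a356c7424f9d466424e221420) (.leaf (nat_lit 0xffad8bf35bee54e7b6138ae54654e24246621420)) (.leaf (nat_lit 0xffad8bf759e6d51a356c7424f9d466424e221420))))) (.node (nat_lit 0xffad8d66fddf1ab9aa2f83aaca4847224c341420) (.node (nat_lit 0xffad8cf377ee96e941538b69563d021a48639420) (.node (nat_lit 0xffad8ceb7cbf56d641d254693abcc81a44439420) (.leaf (nat_lit 0xffad8cdf7dd716a9c2356ba8c93c441a4c839420)) (.leaf (nat_lit 0xffad8ceb7cbf56d641d254693abcc81a44439420))) (.node (nat_lit 0xffad8cf77ae5d71ac1ac72a929bc861a50239420) (.leaf (nat_lit 0xffad8cf377ee96e941538b69563d021a48639420))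 (.leaf (nat_lit 0xffad8cf77ae5d71ac1ac72a929bc861a50239420)))) (.node (nat_lit 0xffad8d72f9eedaea29738c2af64862224e641420) (.node (nat_lit 0xffad8d6efccf5b0629d45c6b37c8c32244741420) (.leaf (nat_lit 0xffad8d66fddf1ab9aa2f83aaca4847224c341420)) (.leaf (nat_lit 0xffad8d6efccf5b0629d45c6b37c8c32244741420))) (.node (nat_lit 0xffad8d76fbe65b17aa0c72eb49c8e62246241420) (.leaf (nat_lit 0xffad8d72f9eedaea29738c2af64862224e641420)) (.leaf (nat_lit 0xffad8d76fbe65b17aa0c72eb49c8e62246241420)))))))) (.node (nat_lit 0xffafae67b6de1ecad1b19aa1272ca73112312020) (.node (nat_lit 0xffafab771be65b48aa707b2ae5c8e6290624a020) (.node (nat_lit 0xffad8e6fb7ce9d0945545b5957cd033248711420) (.node (nat_lit 0xffad8df737e6a1192d4c735f59d1063a48219420) (.node (nat_lit 0xffad8deb3dbf20d9ae32539ecad0483a4c419420) (.leaf (nat_lit 0xffad8ddf3cd760a62dd56c5f3950c43a44819420)) (.node (nat_lit 0xffad8df33aede0eaadb38a9f2650823a50619420)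 (.leaf (nat_lit 0xffad8deb3dbf20d9ae32539ecad0483a4c419420)) (.leaf (nat_lit 0xffad8df33aede0eaadb38a9f2650823a50619420)))) (.node (nat_lit 0xffad8e67badddcbac5af82992a4c873250311420) (.node (nat_lit 0xffad8e5fb9d6dcaa45756c18f94c64324e811420) (.leaf (nat_lit 0xffad8df737e6a1192d4c735f59d1063a48219420)) (.leaf (nat_lit 0xffad8e5fb9d6dcaa45756c18f94c64324e811420))) (.node (nat_lit 0xffad8e6bbbbe5cd7c61252d94acce83246411420) (.leaf (nat_lit 0xffad8e67badddcbac5af82992a4c873250311420)) (.leaf (nat_lit 0xffad8e6bbbbe5cd7c61252d94acce83246411420))))) (.node (nat_lit 0xffad8eef9acde30ab9b45aa727b0831250731420) (.node (nat_lit 0xffad8ee797dea2b9394f83675a31071248331420) (.node (nat_lit 0xffad8edf9bd662a7ba156ae74930e41246831420) (.leaf (nat_lit 0xffad8e6fb7ce9d0945545b5957cd033248711420)) (.leaf (nat_lit 0xffad8edf9bd662a7ba156ae74930e41246831420))) (.node (nat_lit 0xffad8eeb99bee2da39725426fab068124e431420)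 (.leaf (nat_lit 0xffad8ee797dea2b9394f83675a31071248331420)) (.leaf (nat_lit 0xffad8eeb99bee2da39725426fab068124e431420)))) (.node (nat_lit 0xffafab6f1ccf5b3829ee652ab8c8c3290474a020) (.node (nat_lit 0xffafab671ddf1ac5aa919beb074847290c34a020) (.leaf (nat_lit 0xffad8eef9acde30ab9b45aa727b0831250731420)) (.leaf (nat_lit 0xffafab671ddf1ac5aa919beb074847290c34a020))) (.node (nat_lit 0xffafab7319eedaf7298ba4eb184862290e64a020) (.leaf (nat_lit 0xffafab6f1ccf5b3829ee652ab8c8c3290474a020)) (.leaf (nat_lit 0xffafab7319eedaf7298ba4eb184862290e64a020)))))) (.node (nat_lit 0xffafacf378ed98f94d4ba35d584522190a63a020) (.node (nat_lit 0xffafac72dbee54f8b66ba324e854e2490662a020) (.node (nat_lit 0xffafac66dcdf54c835f19d24b754c7490432a020) (.leaf (nat_lit 0xffafab771be65b48aa707b2ae5c8e6290624a020)) (.node (nat_lit 0xffafac6eddcf1535b68e63e508d443490c72a020) (.leaf (nat_lit 0xffafac66dcdf54c835f19d24b754c7490432a020))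 (.leaf (nat_lit 0xffafac6eddcf1535b68e63e508d443490c72a020)))) (.node (nat_lit 0xffafacdb7cc758d84df2551cbac4c9190453a020) (.node (nat_lit 0xffafac76d9e6d54735907ce515d466490e22a020) (.leaf (nat_lit 0xffafac72dbee54f8b66ba324e854e2490662a020)) (.leaf (nat_lit 0xffafac76d9e6d54735907ce515d466490e22a020))) (.node (nat_lit 0xffaface37db718a5ce956bdd094445190c93a020) (.leaf (nat_lit 0xffafacdb7cc758d84df2551cbac4c9190453a020)) (.leaf (nat_lit 0xffaface37db718a5ce956bdd094445190c93a020))))) (.node (nat_lit 0xffafadf336ee26fab1aba2a32838a2391261a020) (.node (nat_lit 0xffafaddb3dc726d5b29253e30ab849390c51a020) (.node (nat_lit 0xffafacf776e6194acdb07a9d25c4a6191223a020) (.leaf (nat_lit 0xffafacf378ed98f94d4ba35d584522190a63a020)) (.leaf (nat_lit 0xffafacf776e6194acdb07a9d25c4a6191223a020))) (.node (nat_lit 0xffafade33cb766a831f56d22b938c5390491a020) (.leaf (nat_lit 0xffafaddb3dc726d5b29253e30ab849390c51a020))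 (.leaf (nat_lit 0xffafade33cb766a831f56d22b938c5390491a020)))) (.node (nat_lit 0xffafae5bbbc65ed8d2725320eaace93106512020) (.node (nat_lit 0xffafadf738e5a74931507b6355b926390a21a020) (.leaf (nat_lit 0xffafadf336ee26fab1aba2a32838a2391261a020)) (.leaf (nat_lit 0xffafadf738e5a74931507b6355b926390a21a020))) (.node (nat_lit 0xffafae63b9b6dea751956ce1192c65310e912020) (.leaf (nat_lit 0xffafae5bbbc65ed8d2725320eaace93106512020)) (.leaf (nat_lit 0xffafae63b9b6dea751956ce1192c65310e912020))))))) (.node (nat_lit 0xffb16d6efdcf14b635cf84653a5443214c742420) (.node (nat_lit 0xffb16bef5ccf5ab9aa2f83aaca48c34144722420) (.node (nat_lit 0xffafaee39bb668a8be756b16e940e51106932020) (.node (nat_lit 0xffafae6fb8cd9f39514e636158ad23310a712020) (.leaf (nat_lit 0xffafae67b6de1ecad1b19aa1272ca73112312020)) (.node (nat_lit 0xffafaedb99c6e8d73d9254d71ac069110e532020) (.leaf (nat_lit 0xffafae6fb8cd9f39514e636158ad23310a712020))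 (.leaf (nat_lit 0xffafaedb99c6e8d73d9254d71ac069110e532020)))) (.node (nat_lit 0xffafaeef96ce293abdae629728c0a31112732020) (.node (nat_lit 0xffafaee798dda8c93d519b57574127110a332020) (.leaf (nat_lit 0xffafaee39bb668a8be756b16e940e51106932020)) (.leaf (nat_lit 0xffafaee798dda8c93d519b57574127110a332020))) (.node (nat_lit 0xffb16be75ddf1b0629d45c6b37c847414c322420) (.leaf (nat_lit 0xffafaeef96ce293abdae629728c0a31112732020)) (.leaf (nat_lit 0xffb16be75ddf1b0629d45c6b37c847414c322420))))) (.node (nat_lit 0xffb16ceb7dbf20a62dd56c5f395048194c43a420) (.node (nat_lit 0xffb16bf75be65aea29738c2af648e64146222420) (.node (nat_lit 0xffb16bf359eedb17aa0c72eb49c862414e622420) (.leaf (nat_lit 0xffb16bef5ccf5ab9aa2f83aaca48c34144722420)) (.leaf (nat_lit 0xffb16bf359eedb17aa0c72eb49c862414e622420))) (.node (nat_lit 0xffb16cdf7cd760d9ae32539ecad0c4194483a420) (.leaf (nat_lit 0xffb16bf75be65aea29738c2af648e64146222420))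 (.leaf (nat_lit 0xffb16cdf7cd760d9ae32539ecad0c4194483a420)))) (.node (nat_lit 0xffb16cf777e6a0eaadb38a9f265106194823a420) (.node (nat_lit 0xffb16cf37aede1192d4c735f59d082195063a420) (.leaf (nat_lit 0xffb16ceb7dbf20a62dd56c5f395048194c43a420)) (.leaf (nat_lit 0xffb16cf37aede1192d4c735f59d082195063a420))) (.node (nat_lit 0xffb16d66fcdf5509b6345ba4c7d4c72144342420) (.leaf (nat_lit 0xffb16cf777e6a0eaadb38a9f265106194823a420)) (.leaf (nat_lit 0xffb16d66fcdf5509b6345ba4c7d4c72144342420)))))) (.node (nat_lit 0xffb16e5fbbd662da39725426fab0e43146812420) (.node (nat_lit 0xffb16ddf3dd716d641d254693abc44394c81a420) (.node (nat_lit 0xffb16d72fbee551a356c7424f9d4e22146642420) (.leaf (nat_lit 0xffb16d6efdcf14b635cf84653a5443214c742420)) (.node (nat_lit 0xffb16d76f9e6d4e7b6138ae5465466214e242420) (.leaf (nat_lit 0xffb16d72fbee551a356c7424f9d4e22146642420)) (.leaf (nat_lit 0xffb16d76f9e6d4e7b6138ae5465466214e242420))))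 (.node (nat_lit 0xffb16df337ee971ac1ac72a929bd02394861a420) (.node (nat_lit 0xffb16deb3cbf56a9c2356ba8c93cc8394441a420) (.leaf (nat_lit 0xffb16ddf3dd716d641d254693abc44394c81a420)) (.leaf (nat_lit 0xffb16deb3cbf56a9c2356ba8c93cc8394441a420))) (.node (nat_lit 0xffb16df73ae5d6e941538b69563c86395021a420) (.leaf (nat_lit 0xffb16df337ee971ac1ac72a929bd02394861a420)) (.leaf (nat_lit 0xffb16df73ae5d6e941538b69563c86395021a420))))) (.node (nat_lit 0xffb16edf99d6dcd7c61252d94acc64114e832420) (.node (nat_lit 0xffb16e6bb9bee2a7ba156ae7493068314e412420) (.node (nat_lit 0xffb16e67b7dea30ab9b45aa727b1073148312420) (.leaf (nat_lit 0xffb16e5fbbd662da39725426fab0e43146812420)) (.leaf (nat_lit 0xffb16e67b7dea30ab9b45aa727b1073148312420))) (.node (nat_lit 0xffb16e6fbacde2b9394f83675a30833150712420) (.leaf (nat_lit 0xffb16e6bb9bee2a7ba156ae7493068314e412420)) (.leaf (nat_lit 0xffb16e6fbacde2b9394f83675a30833150712420))))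 (.node (nat_lit 0xffb16eeb9bbe5caa45756c18f94ce81146432420) (.node (nat_lit 0xffb16ee79adddd0945545b5957cc871150332420) (.leaf (nat_lit 0xffb16edf99d6dcd7c61252d94acc64114e832420)) (.leaf (nat_lit 0xffb16ee79adddd0945545b5957cc871150332420))) (.node (nat_lit 0xffb16eef97ce9cbac5af82992a4d031148732420) (.leaf (nat_lit 0xffb16eeb9bbe5caa45756c18f94ce81146432420)) (.leaf (nat_lit 0xffb16eef97ce9cbac5af82992a4d031148732420))))))))) (.node (nat_lit 0xffb79d5afdc726b5324f8562da384920cc541c20) (.node (nat_lit 0xffb57c72d9eedb48aa707b2ae5c8624a0e629020) (.node (nat_lit 0xffb3bd76f6e61957ce0a92dd46c4a621d2240c20) (.node (nat_lit 0xffb3bbf758e5a75a316a9422f6b92641ca220c20) (.node (nat_lit 0xffb3bb7717e6a158ae6a931ee6d10629c8248c20) (.node (nat_lit 0xffb3bb6b1dbf20c6aeb19c9ea7504829cc448c20) (.leaf (nat_lit 0xffb3bb5f1cd761352e4e655ed8d0c429c4848c20)) (.node (nat_lit 0xffb3bb731aede1272d8dacdf15508229d0648c20)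 (.leaf (nat_lit 0xffb3bb6b1dbf20c6aeb19c9ea7504829cc448c20)) (.leaf (nat_lit 0xffb3bb731aede1272d8dacdf15508229d0648c20)))) (.node (nat_lit 0xffb3bbe35cb766b5324f8562da38c541c4920c20) (.node (nat_lit 0xffb3bbdb5dc72706b2b45ca2a7b84941cc520c20) (.leaf (nat_lit 0xffb3bb7717e6a158ae6a931ee6d10629c8248c20)) (.leaf (nat_lit 0xffb3bbdb5dc72706b2b45ca2a7b84941cc520c20))) (.node (nat_lit 0xffb3bbf356ee2727b20daae34538a241d2620c20) (.leaf (nat_lit 0xffb3bbe35cb766b5324f8562da38c541c4920c20)) (.leaf (nat_lit 0xffb3bbf356ee2727b20daae34538a241d2620c20))))) (.node (nat_lit 0xffb3bc76dae5d757418a94e916bc8649d0228c20) (.node (nat_lit 0xffb3bc6adcbf56c542519d68d73cc849c4428c20) (.node (nat_lit 0xffb3bc5eddd71736c2ae64a8a8bc4449cc828c20) (.leaf (nat_lit 0xffb3bbf758e5a75a316a9422f6b92641ca220c20)) (.leaf (nat_lit 0xffb3bc5eddd71736c2ae64a8a8bc4449cc828c20))) (.node (nat_lit 0xffb3bc72d7ee9728c26dab28e53d0249c8628c20)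 (.leaf (nat_lit 0xffb3bc6adcbf56c542519d68d73cc849c4428c20)) (.leaf (nat_lit 0xffb3bc72d7ee9728c26dab28e53d0249c8628c20)))) (.node (nat_lit 0xffb3bd62fdb718b6ceaf849caa444521cc940c20) (.node (nat_lit 0xffb3bd5afcc759054e545d5cd7c4c921c4540c20) (.leaf (nat_lit 0xffb3bc76dae5d757418a94e916bc8649d0228c20)) (.leaf (nat_lit 0xffb3bd5afcc759054e545d5cd7c4c921c4540c20))) (.node (nat_lit 0xffb3bd72f8ed992a4d6dac1cf5452221ca640c20) (.leaf (nat_lit 0xffb3bd62fdb718b6ceaf849caa444521cc940c20)) (.leaf (nat_lit 0xffb3bd72f8ed992a4d6dac1cf5452221ca640c20)))))) (.node (nat_lit 0xffb3bee397b6aab8ca6f831aea290511c8930c20) (.node (nat_lit 0xffb3be63bab5e4b7558f84d51a348531d0910c20) (.node (nat_lit 0xffb3be5bb7c6a508d6745b14e7b50931c8510c20) (.leaf (nat_lit 0xffb3bd76f6e61957ce0a92dd46c4a621d2240c20)) (.node (nat_lit 0xffb3be5fb8d5a53a556e6414f8b52431ca810c20) (.leaf (nat_lit 0xffb3be5bb7c6a508d6745b14e7b50931c8510c20))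 (.leaf (nat_lit 0xffb3be5fb8d5a53a556e6414f8b52431ca810c20)))) (.node (nat_lit 0xffb3bedb9ac5eb0749945cdb17a88911d0530c20) (.node (nat_lit 0xffb3be6bb6be24c7d6119ad54734a831d2410c20) (.leaf (nat_lit 0xffb3be63bab5e4b7558f84d51a348531d0910c20)) (.leaf (nat_lit 0xffb3be6bb6be24c7d6119ad54734a831d2410c20))) (.node (nat_lit 0xffb3bedf96d62b37ca0e62db48a8a411d2830c20) (.leaf (nat_lit 0xffb3bedb9ac5eb0749945cdb17a88911d0530c20)) (.leaf (nat_lit 0xffb3bedf96d62b37ca0e62db48a8a411d2830c20))))) (.node (nat_lit 0xffb57b731bee554735907ce515d4e22a06649020) (.node (nat_lit 0xffb57b671cdf5535b68e63e508d4c72a04349020) (.node (nat_lit 0xffb3beeb98bdaaca49719c1af7292811ca430c20) (.leaf (nat_lit 0xffb3bee397b6aab8ca6f831aea290511c8930c20)) (.leaf (nat_lit 0xffb3beeb98bdaaca49719c1af7292811ca430c20))) (.node (nat_lit 0xffb57b6f1dcf14c835f19d24b754432a0c749020) (.leaf (nat_lit 0xffb57b671cdf5535b68e63e508d4c72a04349020))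 (.leaf (nat_lit 0xffb57b6f1dcf14c835f19d24b754432a0c749020)))) (.node (nat_lit 0xffb57c66dddf1b3829ee652ab8c8474a0c329020) (.node (nat_lit 0xffb57b7719e6d4f8b66ba324e854662a0e249020) (.leaf (nat_lit 0xffb57b731bee554735907ce515d4e22a06649020)) (.leaf (nat_lit 0xffb57b7719e6d4f8b66ba324e854662a0e249020))) (.node (nat_lit 0xffb57c6edccf5ac5aa919beb0748c34a04729020) (.leaf (nat_lit 0xffb57c66dddf1b3829ee652ab8c8474a0c329020)) (.leaf (nat_lit 0xffb57c6edccf5ac5aa919beb0748c34a04729020))))))) (.node (nat_lit 0xffb57ee399b6ded8d2725320eaac65120e931020) (.node (nat_lit 0xffb57de33db718d84df2551cbac4453a0c919020) (.node (nat_lit 0xffb57ce37cb766d5b29253e30ab8c51a04939020) (.node (nat_lit 0xffb57c76dbe65af7298ba4eb1848e64a06229020) (.leaf (nat_lit 0xffb57c72d9eedb48aa707b2ae5c8624a0e629020)) (.node (nat_lit 0xffb57cdb7dc726a831f56d22b938491a0c539020) (.leaf (nat_lit 0xffb57c76dbe65af7298ba4eb1848e64a06229020))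 (.leaf (nat_lit 0xffb57cdb7dc726a831f56d22b938491a0c539020)))) (.node (nat_lit 0xffb57cf778e5a6fab1aba2a32839261a0a239020) (.node (nat_lit 0xffb57cf376ee274931507b6355b8a21a12639020) (.leaf (nat_lit 0xffb57ce37cb766d5b29253e30ab8c51a04939020)) (.leaf (nat_lit 0xffb57cf376ee274931507b6355b8a21a12639020))) (.node (nat_lit 0xffb57ddb3cc758a5ce956bdd0944c93a04519020) (.leaf (nat_lit 0xffb57cf778e5a6fab1aba2a32839261a0a239020)) (.leaf (nat_lit 0xffb57ddb3cc758a5ce956bdd0944c93a04519020))))) (.node (nat_lit 0xffb57e63bbb668d73d9254d71ac0e53206911020) (.node (nat_lit 0xffb57df736e618f94d4ba35d5844a63a12219020) (.node (nat_lit 0xffb57df338ed994acdb07a9d25c5223a0a619020) (.leaf (nat_lit 0xffb57de33db718d84df2551cbac4453a0c919020)) (.leaf (nat_lit 0xffb57df338ed994acdb07a9d25c5223a0a619020))) (.node (nat_lit 0xffb57e5bb9c6e8a8be756b16e94069320e511020) (.leaf (nat_lit 0xffb57df736e618f94d4ba35d5844a63a12219020))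 (.leaf (nat_lit 0xffb57e5bb9c6e8a8be756b16e94069320e511020)))) (.node (nat_lit 0xffb57e6fb6ce28c93d519b575740a33212711020) (.node (nat_lit 0xffb57e67b8dda93abdae629728c127320a311020) (.leaf (nat_lit 0xffb57e63bbb668d73d9254d71ac0e53206911020)) (.leaf (nat_lit 0xffb57e67b8dda93abdae629728c127320a311020))) (.node (nat_lit 0xffb57edb9bc65ea751956ce1192ce91206531020) (.leaf (nat_lit 0xffb57e6fb6ce28c93d519b575740a33212711020)) (.leaf (nat_lit 0xffb57edb9bc65ea751956ce1192ce91206531020)))))) (.node (nat_lit 0xffb79bdb5cc758b6ceaf849caa44c940c4521c20) (.node (nat_lit 0xffb79b5f1dd716c542519d68d73c4428cc849c20) (.node (nat_lit 0xffb57ee796de1f39514e636158aca71212331020) (.leaf (nat_lit 0xffb57ee399b6ded8d2725320eaac65120e931020)) (.node (nat_lit 0xffb57eef98cd9ecad1b19aa1272d23120a731020) (.leaf (nat_lit 0xffb57ee796de1f39514e636158aca71212331020)) (.leaf (nat_lit 0xffb57eef98cd9ecad1b19aa1272d23120a731020))))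 (.node (nat_lit 0xffb79b7317ee9757418a94e916bd0228c8649c20) (.node (nat_lit 0xffb79b6b1cbf5736c2ae64a8a8bcc828c4449c20) (.leaf (nat_lit 0xffb79b5f1dd716c542519d68d73c4428cc849c20)) (.leaf (nat_lit 0xffb79b6b1cbf5736c2ae64a8a8bcc828c4449c20))) (.node (nat_lit 0xffb79b771ae5d728c26dab28e53c8628d0249c20) (.leaf (nat_lit 0xffb79b7317ee9757418a94e916bd0228c8649c20)) (.leaf (nat_lit 0xffb79b771ae5d728c26dab28e53c8628d0249c20))))) (.node (nat_lit 0xffb79c5edcd760c6aeb19c9ea750c448c4829c20) (.node (nat_lit 0xffb79bf358ed9957ce0a92dd46c52240ca621c20) (.node (nat_lit 0xffb79be35db719054e545d5cd7c44540cc921c20) (.leaf (nat_lit 0xffb79bdb5cc758b6ceaf849caa44c940c4521c20)) (.leaf (nat_lit 0xffb79be35db719054e545d5cd7c44540cc921c20))) (.node (nat_lit 0xffb79bf756e6192a4d6dac1cf544a640d2221c20) (.leaf (nat_lit 0xffb79bf358ed9957ce0a92dd46c52240ca621c20)) (.leaf (nat_lit 0xffb79bf756e6192a4d6dac1cf544a640d2221c20))))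 (.node (nat_lit 0xffb79c72daede158ae6a931ee6d08248d0629c20) (.node (nat_lit 0xffb79c6addbf21352e4e655ed8d04848cc429c20) (.leaf (nat_lit 0xffb79c5edcd760c6aeb19c9ea750c448c4829c20)) (.leaf (nat_lit 0xffb79c6addbf21352e4e655ed8d04848cc429c20))) (.node (nat_lit 0xffb79c76d7e6a1272d8dacdf15510648c8229c20) (.leaf (nat_lit 0xffb79c72daede158ae6a931ee6d08248d0629c20)) (.leaf (nat_lit 0xffb79c76d7e6a1272d8dacdf15510648c8229c20)))))))) (.node (nat_lit 0xffb9dd66f6de1f59d22a93a0c6aca72092341820) (.node (nat_lit 0xffb9db6f1acde32839edad26b530832890749820) (.node (nat_lit 0xffb79e6bb8bdab37ca0e62db48a92830ca411c20) (.node (nat_lit 0xffb79d76f8e5a727b20daae345392620ca241c20) (.node (nat_lit 0xffb79d62fcb76706b2b45ca2a7b8c520c4941c20) (.leaf (nat_lit 0xffb79d5afdc726b5324f8562da384920cc541c20)) (.node (nat_lit 0xffb79d72f6ee275a316a9422f6b8a220d2641c20) (.leaf (nat_lit 0xffb79d62fcb76706b2b45ca2a7b8c520c4941c20))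 (.leaf (nat_lit 0xffb79d72f6ee275a316a9422f6b8a220d2641c20)))) (.node (nat_lit 0xffb79e5fb6d62aca49719c1af728a430d2811c20) (.node (nat_lit 0xffb79e5bbac5eab8ca6f831aea288930d0511c20) (.leaf (nat_lit 0xffb79d76f8e5a727b20daae345392620ca241c20)) (.leaf (nat_lit 0xffb79e5bbac5eab8ca6f831aea288930d0511c20))) (.node (nat_lit 0xffb79e63b7b6ab0749945cdb17a90530c8911c20) (.leaf (nat_lit 0xffb79e5fb6d62aca49719c1af728a430d2811c20)) (.leaf (nat_lit 0xffb79e63b7b6ab0749945cdb17a90530c8911c20))))) (.node (nat_lit 0xffb79eeb96be253a556e6414f8b4a810d2431c20) (.node (nat_lit 0xffb79edf98d5a4c7d6119ad547352410ca831c20) (.node (nat_lit 0xffb79edb97c6a4b7558f84d51a350910c8531c20) (.leaf (nat_lit 0xffb79e6bb8bdab37ca0e62db48a92830ca411c20)) (.leaf (nat_lit 0xffb79edb97c6a4b7558f84d51a350910c8531c20))) (.node (nat_lit 0xffb79ee39ab5e508d6745b14e7b48510d0931c20) (.leaf (nat_lit 0xffb79edf98d5a4c7d6119ad547352410ca831c20))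 (.leaf (nat_lit 0xffb79ee39ab5e508d6745b14e7b48510d0931c20)))) (.node (nat_lit 0xffb9db6717dea355ba8a93e706b1072888349820) (.node (nat_lit 0xffb9db5f1bd663453a507d66d5b0e42886849820) (.leaf (nat_lit 0xffb79eeb96be253a556e6414f8b4a810d2431c20)) (.leaf (nat_lit 0xffb9db5f1bd663453a507d66d5b0e42886849820))) (.node (nat_lit 0xffb9db6b19bee2f6baaba4a6a83068288e449820) (.leaf (nat_lit 0xffb9db6717dea355ba8a93e706b1072888349820)) (.leaf (nat_lit 0xffb9db6b19bee2f6baaba4a6a83068288e449820)))))) (.node (nat_lit 0xffb9dc6adbbe5cf5464ba558d84ce84886429820) (.node (nat_lit 0xffb9dbe758dda9563dca945736c127408a321820) (.node (nat_lit 0xffb9dbdb59c6e916beac7496a9c069408e521820) (.leaf (nat_lit 0xffb9db6f1acde32839edad26b530832890749820)) (.node (nat_lit 0xffb9dbe35bb668e53e538d56d640e54086921820) (.leaf (nat_lit 0xffb9dbdb59c6e916beac7496a9c069408e521820)) (.leaf (nat_lit 0xffb9dbe35bb668e53e538d56d640e54086921820))))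 (.node (nat_lit 0xffb9dc5ed9d6dd46c6b07c98a5cc64488e829820) (.node (nat_lit 0xffb9dbef56ce2929be2dab96c540a34092721820) (.leaf (nat_lit 0xffb9dbe758dda9563dca945736c127408a321820)) (.leaf (nat_lit 0xffb9dbef56ce2929be2dab96c540a34092721820))) (.node (nat_lit 0xffb9dc66dadddd5845ea9518b6cc874890329820) (.leaf (nat_lit 0xffb9dc5ed9d6dd46c6b07c98a5cc64488e829820)) (.leaf (nat_lit 0xffb9dc66dadddd5845ea9518b6cc874890329820))))) (.node (nat_lit 0xffb9dce377b6aae5ca938bdb0629051888939820) (.node (nat_lit 0xffb9dcdb7ac5eb1849ec751ab9a8891890539820) (.node (nat_lit 0xffb9dc6ed7ce9d25c68dabd9054d034888729820) (.leaf (nat_lit 0xffb9dc6adbbe5cf5464ba558d84ce84886429820)) (.leaf (nat_lit 0xffb9dc6ed7ce9d25c68dabd9054d034888729820))) (.node (nat_lit 0xffb9dcdf76d62b49ca307b9ac5a8a41892839820) (.leaf (nat_lit 0xffb9dcdb7ac5eb1849ec751ab9a8891890539820)) (.leaf (nat_lit 0xffb9dcdf76d62b49ca307b9ac5a8a41892839820))))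 (.node (nat_lit 0xffb9dd5afbc65f15524c7560d9ace92086541820) (.node (nat_lit 0xffb9dceb78bdaaf649cba45b382928188a439820) (.leaf (nat_lit 0xffb9dce377b6aae5ca938bdb0629051888939820)) (.leaf (nat_lit 0xffb9dceb78bdaaf649cba45b382928188a439820))) (.node (nat_lit 0xffb9dd62f9b6dee6d2b38ca0a62c65208e941820) (.leaf (nat_lit 0xffb9dd5afbc65f15524c7560d9ace92086541820)) (.leaf (nat_lit 0xffb9dd62f9b6dee6d2b38ca0a62c65208e941820))))))) (.node (nat_lit 0xffbbcc66d7dea32839edad26b531074988328820) (.node (nat_lit 0xffbbcb671adddd25c68dabd9054c872990348820) (.node (nat_lit 0xffb9dddf38d5a54655d07c5535b524388a819820) (.node (nat_lit 0xffb9dd6ef8cd9f2651cdac61352d23208a741820) (.leaf (nat_lit 0xffb9dd66f6de1f59d22a93a0c6aca72092341820)) (.node (nat_lit 0xffb9dddb37c6a515d68c73d509b5093888519820) (.leaf (nat_lit 0xffb9dd6ef8cd9f2651cdac61352d23208a741820)) (.leaf (nat_lit 0xffb9dddb37c6a515d68c73d509b5093888519820))))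 (.node (nat_lit 0xffb9ddeb36be24f9d62ba394c834a83892419820) (.node (nat_lit 0xffb9dde33ab5e4e855f38d14b634853890919820) (.leaf (nat_lit 0xffb9dddf38d5a54655d07c5535b524388a819820)) (.leaf (nat_lit 0xffb9dde33ab5e4e855f38d14b634853890919820))) (.node (nat_lit 0xffbbcb5f19d6dcf5464ba558d84c64298e848820) (.leaf (nat_lit 0xffb9ddeb36be24f9d62ba394c834a83892419820)) (.leaf (nat_lit 0xffbbcb5f19d6dcf5464ba558d84c64298e848820))))) (.node (nat_lit 0xffbbcbe359b6df15524c7560d9ac65418e920820) (.node (nat_lit 0xffbbcb6f17ce9d5845ea9518b6cd032988748820) (.node (nat_lit 0xffbbcb6b1bbe5d46c6b07c98a5cce82986448820) (.leaf (nat_lit 0xffbbcb671adddd25c68dabd9054c872990348820)) (.leaf (nat_lit 0xffbbcb6b1bbe5d46c6b07c98a5cce82986448820))) (.node (nat_lit 0xffbbcbdb5bc65ee6d2b38ca0a62ce94186520820) (.leaf (nat_lit 0xffbbcb6f17ce9d5845ea9518b6cd032988748820)) (.leaf (nat_lit 0xffbbcbdb5bc65ee6d2b38ca0a62ce94186520820))))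 (.node (nat_lit 0xffbbcbef58cd9f59d22a93a0c6ad23418a720820) (.node (nat_lit 0xffbbcbe756de1f2651cdac61352ca74192320820) (.leaf (nat_lit 0xffbbcbe359b6df15524c7560d9ac65418e920820)) (.leaf (nat_lit 0xffbbcbe756de1f2651cdac61352ca74192320820))) (.node (nat_lit 0xffbbcc5edbd662f6baaba4a6a830e44986828820) (.leaf (nat_lit 0xffbbcbef58cd9f59d22a93a0c6ad23418a720820)) (.leaf (nat_lit 0xffbbcc5edbd662f6baaba4a6a830e44986828820)))))) (.node (nat_lit 0xffbbcd5af9c6e8e53e538d56d64069218e540820) (.node (nat_lit 0xffbbccdb77c6a4e855f38d14b635091988538820) (.node (nat_lit 0xffbbcc6ad9bee3453a507d66d5b068498e428820) (.leaf (nat_lit 0xffbbcc66d7dea32839edad26b531074988328820)) (.node (nat_lit 0xffbbcc6edacde355ba8a93e706b0834990728820) (.leaf (nat_lit 0xffbbcc6ad9bee3453a507d66d5b068498e428820)) (.leaf (nat_lit 0xffbbcc6edacde355ba8a93e706b0834990728820)))) (.node (nat_lit 0xffbbcce37ab5e515d68c73d509b4851990938820)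 (.node (nat_lit 0xffbbccdf78d5a4f9d62ba394c83524198a838820) (.leaf (nat_lit 0xffbbccdb77c6a4e855f38d14b635091988538820)) (.leaf (nat_lit 0xffbbccdf78d5a4f9d62ba394c83524198a838820))) (.node (nat_lit 0xffbbcceb76be254655d07c5535b4a81992438820) (.leaf (nat_lit 0xffbbcce37ab5e515d68c73d509b4851990938820)) (.leaf (nat_lit 0xffbbcceb76be254655d07c5535b4a81992438820))))) (.node (nat_lit 0xffbbcddb3ac5eae5ca938bdb0628893990518820) (.node (nat_lit 0xffbbcd66f8dda929be2dab96c54127218a340820) (.node (nat_lit 0xffbbcd62fbb66916beac7496a9c0e52186940820) (.leaf (nat_lit 0xffbbcd5af9c6e8e53e538d56d64069218e540820)) (.leaf (nat_lit 0xffbbcd62fbb66916beac7496a9c0e52186940820))) (.node (nat_lit 0xffbbcd6ef6ce29563dca945736c0a32192740820) (.leaf (nat_lit 0xffbbcd66f8dda929be2dab96c54127218a340820)) (.leaf (nat_lit 0xffbbcd6ef6ce29563dca945736c0a32192740820)))) (.node (nat_lit 0xffbbcde337b6ab1849ec751ab9a9053988918820)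 (.node (nat_lit 0xffbbcddf36d62af649cba45b3828a43992818820) (.leaf (nat_lit 0xffbbcddb3ac5eae5ca938bdb0628893990518820)) (.leaf (nat_lit 0xffbbcddf36d62af649cba45b3828a43992818820))) (.node (nat_lit 0xffbbcdeb38bdab49ca307b9ac5a928398a418820) (.leaf (nat_lit 0xffbbcde337b6ab1849ec751ab9a9053988918820)) (.leaf (nat_lit 0xffbbcdeb38bdab49ca307b9ac5a928398a418820))))))))))
noncomputable def AN_lS_T : ST := (.node (nat_lit 0x38d4d73e3ba671aeda4cbd61c9afc920be541820) (.node (nat_lit 0x222555ba1a8df7db6554e35987cfc7117e332420) (.node (nat_lit 0x19dd153dbba671cbda75eb17a943e5113c932020) AN_lS_T0 AN_lS_T1) (.node (nat_lit 0x2a6d863e75a4a2bbb95b837bacf10717c8337820) AN_lS_T2 AN_lS_T3)) (.node (nat_lit 0x4968f64a78adb5cddd6eec1598b7c431fe810c20) (.node (nat_lit 0x4120b74a3aaded9ee293dbdbc62be939bc518820) AN_lS_T4 AN_lS_T5) (.node (nat_lit 0xf7f9db5f19d6dcf6c650a566a5b0e84986428820) AN_lS_T6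 AN_lS_T7)))
theorem AN_lS_E {G : Type*} [Group G] {R : ℕ → G → Prop} {z u v a b i j k l p t c r s : G}
    (M : Md0 AN_o AN_cs R [z, u, v, a, b, i, j, k, l, p, t, c, r, s]) :
    EnumS R AN_lS (sp [i, p, t]) :=
  enumS_tree M.μ.1 (M.reps.tms M.μ.1 [(.v (nat_lit 5)), (.v (nat_lit 9)), (.v (nat_lit 10))] (cs' := [(nat_lit 0xf7f9ddeb38bdab464a2b7b953834a41992838820), (nat_lit 0x3094d8317d9f2dace2b4bca3b7bbe941fc520c20), (nat_lit 0xf7f79edf96d62b3a4a1162d4f7352831ca410c20)]) (by decide +kernel))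
    (Ws := AN_lS_W) (T := AN_lS_T) (by decide +kernel) (by decide +kernel)
theorem AN_lS_c {G : Type*} [Group G] {R : ℕ → G → Prop} {z u v a b i j k l p t c r s : G}
    (M : Md0 AN_o AN_cs R [z, u, v, a, b, i, j, k, l, p, t, c, r, s]) :
    #(sp [i, p, t]) = 1920 :=
  (AN_lS_E M).card M.μ (h := AN_lS_h) (by decide +kernel)
noncomputable def AN_lK : List ℕ := [(nat_lit 0x1194d5b21d9f2d7ce254d55db7c7c540fe921c20), (nat_lit 0x1194d5ce1c676dade2afbc9d9a47e940fc521c20), (nat_lit 0x1194d67270eaef58eb19959eedd09e48d1f29c20), (nat_lit 0x1194d6766be42f276adbae1f1cd11f48c9e29c20), (nat_lit 0x1194d8317c9f717ddab4d4a397bbe520fc941c20), (nat_lit 0x1194d84d7d6731acda4fbd63ba3bc920fe541c20), (nat_lit 0x1194d9f18bec35575ed996291dbd1e28c9f49c20), (nat_lit 0x1194d9f590e2f528df1bada8ecbc9f28d1e49c20), (nat_lit 0x1194de2fb3832b6a4b51c5f6f764a4f8d28f1c20), (nat_lit 0x1194de43ac5ceb87caeeb6b748e528f8ca4f1c20),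 (nat_lit 0x1194deaf8c84e567d6f1c6b3476d24f0ca8f9c20), (nat_lit 0x1194dec3935b258a574eb5f2f8eca8f0d24f9c20), (nat_lit 0x11970571b3eb30fadb7aa6632bb8be3913f1a020), (nat_lit 0x11970575ace4f1495b377ee35d393f390be1a020), (nat_lit 0x1197062a7d6f338d6e8eb3e578d7c3493e72a020), (nat_lit 0x119706367c57736bedf1c525a757e7493c32a020), (nat_lit 0x119706f14cececf9633aa6dd5bc53e190bf3a020), (nat_lit 0x119706f553e32d4ae3777e5d2d44bf1913e3a020), (nat_lit 0x119709a99c6f778be5eeb52ba8cbe3293c74a020), (nat_lit 0x119709b59d57376d6691c3eb774bc7293e34a020), (nat_lit 0x11970e33ad9a9f9752d5de2f196865f90e9f2020), (nat_lit 0x11970e4faa635fb8d312cdaeeae8e9f9065f2020), (nat_lit 0x11970eb38a9b6998bf15ddb4e95ce5f1069fa020), (nat_lit 0x11970ecf8d62a9b73ed2ce351adc69f10e5fa020), (nat_lit 0x1199352dbd8735bb5dd2cc698abfc4397e81a420), (nat_lit 0x11993541bc5f759c5e35dba9693fe8397c41a420), (nat_lit 0x119935f20deab717e6f676ab4c487e414ff22420),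 (nat_lit 0x119935f60ae376ea67588deafb48ff4147e22420), (nat_lit 0x119936ad5c876fbc6a32cb9f6ad3e4197c83a420), (nat_lit 0x119936c15d5f2f9b69d5dc5f8953c8197e43a420), (nat_lit 0x119938716aeb731a6f5675e4fc54fe2147f42420), (nat_lit 0x119938756de2b2e7eef88ea54b547f214fe42420), (nat_lit 0x11993e2bb06ae3a93b2fbef15a5883f9507f2420), (nat_lit 0x11993e37ab54237abb74d67127d907f9483f2420), (nat_lit 0x11993eab8b6c1daac76fbe6d2a6103f1487fa420), (nat_lit 0x11993eb79052dd794734d6ed57e087f1503fa420), (nat_lit 0x119aa5b21c9f71acda4fbd63ba3be541fc920c20), (nat_lit 0x119aa5ce1d67317ddab4d4a397bbc941fe520c20), (nat_lit 0x119aa6726bec3528df1bada8ecbd1e49c9f28c20), (nat_lit 0x119aa67670e2f5575ed996291dbc9f49d1e28c20), (nat_lit 0x119aa8317d9f2dade2afbc9d9a47c521fe940c20), (nat_lit 0x119aa84d7c676d7ce254d55db7c7e921fc540c20), (nat_lit 0x119aa9f190eaef276adbae1f1cd09e29d1f48c20), (nat_lit 0x119aa9f58be42f58eb19959eedd11f29c9e48c20),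 (nat_lit 0x119aae2fac84e58a574eb5f2f8ed24f9ca8f0c20), (nat_lit 0x119aae43b35b2567d6f1c6b3476ca8f9d24f0c20), (nat_lit 0x119aaeaf93832b87caeeb6b748e4a4f1d28f8c20), (nat_lit 0x119aaec38c5ceb6a4b51c5f6f76528f1ca4f8c20), (nat_lit 0x11a0b571aceced4ae3777e5d2d453e3a0bf19020), (nat_lit 0x11a0b575b3e32cf9633aa6dd5bc4bf3a13e19020), (nat_lit 0x11a0b62a7c6f776d6691c3eb774be34a3c729020), (nat_lit 0x11a0b6367d57378be5eeb52ba8cbc74a3e329020), (nat_lit 0x11a0b6f153eb31495b377ee35d38be1a13f39020), (nat_lit 0x11a0b6f54ce4f0fadb7aa6632bb93f1a0be39020), (nat_lit 0x11a0b9a99d6f336bedf1c525a757c32a3e749020), (nat_lit 0x11a0b9b59c57738d6e8eb3e578d7e72a3c349020), (nat_lit 0x11a0be33aa9b69b73ed2ce351adce5fa069f1020), (nat_lit 0x11a0be4fad62a998bf15ddb4e95c69fa0e5f1020), (nat_lit 0x11a0beb38d9a9fb8d312cdaeeae865f20e9f9020), (nat_lit 0x11a0becf8a635f9752d5de2f1968e9f2065f9020), (nat_lit 0x11a6c52dbc876f9b69d5dc5f8953e43a7c819420),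 (nat_lit 0x11a6c541bd5f2fbc6a32cb9f6ad3c83a7e419420), (nat_lit 0x11a6c5f20aeb72e7eef88ea54b54fe4247f21420), (nat_lit 0x11a6c5f60de2b31a6f5675e4fc547f424fe21420), (nat_lit 0x11a6c6ad5d87359c5e35dba9693fc41a7e839420), (nat_lit 0x11a6c6c15c5f75bb5dd2cc698abfe81a7c439420), (nat_lit 0x11a6c8716deab6ea67588deafb487e224ff41420), (nat_lit 0x11a6c8756ae37717e6f676ab4c48ff2247e41420), (nat_lit 0x11a6ce2bab6c1d794734d6ed57e103fa487f1420), (nat_lit 0x11a6ce37b052ddaac76fbe6d2a6087fa503f1420), (nat_lit 0x11a6ceab906ae37abb74d67127d883f2507f9420), (nat_lit 0x11a6ceb78b5423a93b2fbef15a5907f2483f9420), (nat_lit 0x11b9d531b09ae4ebd5f88d33ab6c853f9091fc20), (nat_lit 0x11b9d54dab64251d569673f37c6d093f8851fc20), (nat_lit 0x11b9d5aa136b292c3e3babb56cdca34792727c20), (nat_lit 0x11b9d5b60c54e95b3dd994758ddd27478a327c20), (nat_lit 0x11b9d62e6d829d4dc6b77cad9d60644f8e82fc20), (nat_lit 0x11b9d6426a5b5cfcc65aa56dbbe0e84f8642fc20),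 (nat_lit 0x11b9d6b14b9c2aed4a988bf77b65051f8893fc20), (nat_lit 0x11b9d6cd5062eb1bc9f67537ac64891f9053fc20), (nat_lit 0x11b9d8296c6cdf2b51dbac6f8ce923278a747c20), (nat_lit 0x11b9d83573531f5c523993af6de8a72792347c20), (nat_lit 0x11b9d9ad8a83634cba577d71bd58e42f8684fc20), (nat_lit 0x11b9d9c18d5aa2fdbabaa4b19bd8682f8e44fc20), (nat_lit 0x11bbc531ab9c2b1bc9f67537ac65053fc891f820), (nat_lit 0x11bbc54db062eaed4a988bf77b64893fd051f820), (nat_lit 0x11bbc5aa0c6cdf5c523993af6de92347ca727820), (nat_lit 0x11bbc5b613531f2b51dbac6f8ce8a747d2327820), (nat_lit 0x11bbc62e6a8362fdbabaa4b19bd8e44fc682f820), (nat_lit 0x11bbc6426d5aa34cba577d71bd58684fce42f820), (nat_lit 0x11bbc6b1509ae51d569673f37c6c851fd093f820), (nat_lit 0x11bbc6cd4b6424ebd5f88d33ab6d091fc853f820), (nat_lit 0x11bbc829736b295b3dd994758ddca327d2747820), (nat_lit 0x11bbc8356c54e92c3e3babb56cdd2727ca347820), (nat_lit 0x11bbc9ad8d829cfcc65aa56dbbe0642fce84f820),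 (nat_lit 0x11bbc9c18a5b5d4dc6b77cad9d60e82fc644f820), (nat_lit 0x19d4d76634dbed26635dade13e2cbf4193e20820), (nat_lit 0x19d4d76e2fcd2d59e2fc96a0cead3e418bf20820), (nat_lit 0x19d4d7ba9b8e6f6eeaabc4a7c833e449bc828820), (nat_lit 0x19d4d7c69976ef8e6a50b567d5b3c849be428820), (nat_lit 0x19d4d8e5cfdd3129dafdae96ce413f218be40820), (nat_lit 0x19d4d8edd4cbf1565b5c95d73ec0be2193f40820), (nat_lit 0x19d4da39f98ef56e5e4bc559d84fc429be848820), (nat_lit 0x19d4da45fb76758edeb0b499c5cfe829bc448820), (nat_lit 0x19d4dcbf71a3a575d70cd5b909f485f1909f8820), (nat_lit 0x19d4dcd36e7c65a856d3be38b67509f1885f8820), (nat_lit 0x19d4ddbf2ea46b784accd63ab9f105f9889f0820), (nat_lit 0x19d4ddd3317baba5cb13bdbb067089f9905f0820), (nat_lit 0x19daa7662fdd31565b5c95d73ec13f408be21820), (nat_lit 0x19daa76e34cbf129dafdae96ce40be4093f21820), (nat_lit 0x19daa7ba998ef58edeb0b499c5cfc448be829820), (nat_lit 0x19daa7c69b76756e5e4bc559d84fe848bc429820),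 (nat_lit 0x19daa8e5d4dbed59e2fc96a0ceacbf2093e41820), (nat_lit 0x19daa8edcfcd2d26635dade13e2d3e208bf41820), (nat_lit 0x19daaa39fb8e6f8e6a50b567d5b3e428bc849820), (nat_lit 0x19daaa45f976ef6eeaabc4a7c833c828be449820), (nat_lit 0x19daacbf6ea46ba5cb13bdbb067105f0889f9820), (nat_lit 0x19daacd3717bab784accd63ab9f089f0905f9820), (nat_lit 0x19daadbf31a3a5a856d3be38b67485f8909f1820), (nat_lit 0x19daadd32e7c6575d70cd5b909f509f8885f1820), (nat_lit 0x19dd153dbba671cbda75eb17a943e5113c932020), (nat_lit 0x19dd1551b97ef1dd5992e4d77ac3c9113e532020), (nat_lit 0x19dd16bd59a6edcd6195ece1792fc5313e912020), (nat_lit 0x19dd16d15b7e6ddbe272e321aaafe9313c512020), (nat_lit 0x19dd17e68ddab8c876d79e24bd54df4905e2a020), (nat_lit 0x19dd17ee8acb7935f71a65a50bd45e490df2a020), (nat_lit 0x19dd1a65eadb7ac5f3179dab0d485f290de4a020), (nat_lit 0x19dd1a6dedcabb3872da662abbc8de2905f4a020), (nat_lit 0x19dd1cab746bd98acfb0b73525dca6f1122fa020),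 (nat_lit 0x19dd1cb76f5519694f8bc775585d22f10a6fa020), (nat_lit 0x19dd1dab2f6d27893390b76f55e926f90a2f2020), (nat_lit 0x19dd1db73453e76ab3abc72f2868a2f9126f2020), (nat_lit 0x19df4565b1dbb5095f985f595b4c9f1151e32420), (nat_lit 0x19df456daecc74badfb687192c4d1e1149f32420), (nat_lit 0x19df46e54edc6f0aebb85f272b311f3149e12420), (nat_lit 0x19df46ed51cbaeb96b9687675c309e3151f12420), (nat_lit 0x19df472a3b6e7bac7173bc2b664be6417c222420), (nat_lit 0x19df47363956fb7b720cd2eb89cbc2417e622420), (nat_lit 0x19df48a9d96ef9ab7613bae58657c6217e242420), (nat_lit 0x19df48b5db56797c756cd42569d7e2217c642420), (nat_lit 0x19df4cbb6d8aa1d9aef2e6accae0c4f1448fa420), (nat_lit 0x19df4cc76a7361c62f55eded396048f14c4fa420), (nat_lit 0x19df4dbb2a8b57d64352e5f13ad844f94c8f2420), (nat_lit 0x19df4dc72d7297c9c2f5eeb0c958c8f9444f2420), (nat_lit 0x19e2e53db9a6eddbe272e321aaafc5123e931020), (nat_lit 0x19e2e551bb7e6dcd6195ece1792fe9123c531020),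 (nat_lit 0x19e2e6bd5ba671dd5992e4d77ac3e5323c911020), (nat_lit 0x19e2e6d1597ef1cbda75eb17a943c9323e511020), (nat_lit 0x19e2e7e68adb7b3872da662abbc85f4a0de29020), (nat_lit 0x19e2e7ee8dcabac5f3179dab0d48de4a05f29020), (nat_lit 0x19e2ea65eddab935f71a65a50bd4df2a05e49020), (nat_lit 0x19e2ea6deacb78c876d79e24bd545e2a0df49020), (nat_lit 0x19e2ecab6f6d276ab3abc72f286926f20a2f9020), (nat_lit 0x19e2ecb77453e7893390b76f55e8a2f2126f9020), (nat_lit 0x19e2edab346bd9694f8bc775585ca6fa122f1020), (nat_lit 0x19e2edb72f55198acfb0b73525dd22fa0a6f1020), (nat_lit 0x19e8f565aedc6eb96b9687675c311f1249e31420), (nat_lit 0x19e8f56db1cbaf0aebb85f272b309e1251f31420), (nat_lit 0x19e8f6e551dbb4badfb687192c4c9f3251e11420), (nat_lit 0x19e8f6ed4ecc75095f985f595b4d1e3249f11420), (nat_lit 0x19e8f72a396ef97c756cd42569d7c6427e221420), (nat_lit 0x19e8f7363b5679ab7613bae58657e2427c621420), (nat_lit 0x19e8f8a9db6e7b7b720cd2eb89cbe6227c241420),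 (nat_lit 0x19e8f8b5d956fbac7173bc2b664bc2227e641420), (nat_lit 0x19e8fcbb6a8b57c9c2f5eeb0c95844f24c8f9420), (nat_lit 0x19e8fcc76d7297d64352e5f13ad8c8f2444f9420), (nat_lit 0x19e8fdbb2d8aa1c62f55eded3960c4fa448f1420), (nat_lit 0x19e8fdc72a7361d9aef2e6accae048fa4c4f1420), (nat_lit 0x19f3b539b48beb3b4a1a62fb8bf0a417d2837820), (nat_lit 0x19f3b545af752acc49779c3b6d712817ca437820), (nat_lit 0x19f3b6b94f8d253c557a64396bf52437ca817820), (nat_lit 0x19f3b6c55473e4cb56179af98d74a837d2417820), (nat_lit 0x19f3b73e2da2a6be3256856fdc68c547c4927820), (nat_lit 0x19f3b7522a7b670eb2b85cafcb684947cc527820), (nat_lit 0x19f3b7aa916b975d419c94f17ed8864fd022f820), (nat_lit 0x19f3b7b68e54572bc27dab31ae59024fc862f820), (nat_lit 0x19f3b8bdcaa358beceb684b5cc5c4527cc947820), (nat_lit 0x19f3b8d1cd7a990e4e585d75db5cc927c4547820), (nat_lit 0x19f3ba29ee6c615bae7c932daee1062fc824f820), (nat_lit 0x19f3ba35f153a12d2d9daced7e60822fd064f820),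 (nat_lit 0x19f79539af8d24cb56179af98d7524178a837c20), (nat_lit 0x19f79545b473e53c557a64396bf4a81792437c20), (nat_lit 0x19f796b9548beacc49779c3b6d70a43792817c20), (nat_lit 0x19f796c54f752b3b4a1a62fb8bf128378a417c20), (nat_lit 0x19f7973e2aa3590e4e585d75db5c45478c927c20), (nat_lit 0x19f797522d7a98beceb684b5cc5cc94784527c20), (nat_lit 0x19f797aa8e6c612d2d9daced7e61064f8822fc20), (nat_lit 0x19f797b69153a15bae7c932daee0824f9062fc20), (nat_lit 0x19f798bdcda2a70eb2b85cafcb68c52784947c20), (nat_lit 0x19f798d1ca7b66be3256856fdc6849278c547c20), (nat_lit 0x19f79a29f16b972bc27dab31ae58862f9024fc20), (nat_lit 0x19f79a35ee54575d419c94f17ed9022f8864fc20), (nat_lit 0x2217074a3aaded9e628cdbd5d9b7c519be938820), (nat_lit 0x221707563796adbee1f3cd15c637e919bc538820), (nat_lit 0x221708c9d7aeb19ed9ecdd1bc9abe539bc918820), (nat_lit 0x221708d5da95f1be5a93cbdbd62bc939be518820), (nat_lit 0x2217095eb1d3b2f6ef1ca5a6aeb0fe4987f28820),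 (nat_lit 0x2217096aaebc73456edd7e26de307f498fe28820), (nat_lit 0x22170ade4ed476f566dca618decc7e298ff48820), (nat_lit 0x22170aea51bbb746e71d7d98ae4cff2987e48820), (nat_lit 0x22170bbb558c9f66536dc67b3570a7f9923f0820), (nat_lit 0x22170bc752755f89d32ab6fac6f123f98a7f0820), (nat_lit 0x22170d3af28d6969bf2dc6f8c57527f18a3f8820), (nat_lit 0x22170d46f574a9863f6ab67936f4a3f1927f8820), (nat_lit 0x221d15de15d4b137dbbb671b4ca8be11d3f30c20), (nat_lit 0x221d15ea12bd70ca5b999f5afda93f11cbe30c20), (nat_lit 0x221d185d72d56d3a639b6754fcb53e31cbf10c20), (nat_lit 0x221d186975bcacc7e3b99f154db4bf31d3e10c20), (nat_lit 0x221d192eba85f98df58ab4e996bfc649fe228c20), (nat_lit 0x221d1942b75eb96cf66dc329b53fe249fc628c20), (nat_lit 0x221d1aae5786bb8cf26ab31fb6d3e629fc248c20), (nat_lit 0x221d1ac25a5dfb6df18dc4df9553c229fe648c20), (nat_lit 0x221d1bcb50aae7c532cfee32da6cc5f9c49f0c20), (nat_lit 0x221d1bd74b9427d6b314e5b2a7ec49f9cc5f0c20),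 (nat_lit 0x221d1d4aebac19c6cf0fedb6aa6445f1cc9f8c20), (nat_lit 0x221d1d56f092d9d54ed4e636d7e4c9f1c45f8c20), (nat_lit 0x2220b74a37aeb1be5a93cbdbd62be518bc939820), (nat_lit 0x2220b7563a95f19ed9ecdd1bc9abc918be539820), (nat_lit 0x2220b8c9daadedbee1f3cd15c637c538be919820), (nat_lit 0x2220b8d5d796ad9e628cdbd5d9b7e938bc519820), (nat_lit 0x2220b95eaed47746e71d7d98ae4c7e488ff29820), (nat_lit 0x2220b96ab1bbb6f566dca618deccff4887e29820), (nat_lit 0x2220bade51d3b3456edd7e26de30fe2887f49820), (nat_lit 0x2220baea4ebc72f6ef1ca5a6aeb07f288fe49820), (nat_lit 0x2220bbbb528d69863f6ab67936f527f88a3f1820), (nat_lit 0x2220bbc75574a969bf2dc6f8c574a3f8927f1820), (nat_lit 0x2220bd3af58c9f89d32ab6fac6f0a7f0923f9820), (nat_lit 0x2220bd46f2755f66536dc67b357123f08a7f9820), (nat_lit 0x2222e5de12d56cc7e3b99f154db53e10cbf31c20), (nat_lit 0x2222e5ea15bcad3a639b6754fcb4bf10d3e31c20), (nat_lit 0x2222e85d75d4b0ca5b999f5afda8be30d3f11c20),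 (nat_lit 0x2222e86972bd7137dbbb671b4ca93f30cbe11c20), (nat_lit 0x2222e92eb786bb6df18dc4df9553e648fc229c20), (nat_lit 0x2222e942ba5dfb8cf26ab31fb6d3c248fe629c20), (nat_lit 0x2222eaae5a85f96cf66dc329b53fc628fe249c20), (nat_lit 0x2222eac2575eb98df58ab4e996bfe228fc649c20), (nat_lit 0x2222ebcb4bac19d54ed4e636d7e445f8cc9f1c20), (nat_lit 0x2222ebd75092d9c6cf0fedb6aa64c9f8c45f1c20), (nat_lit 0x2222ed4af0aae7d6b314e5b2a7ecc5f0c49f9c20), (nat_lit 0x2222ed56eb9427c532cfee32da6c49f0cc5f9c20), (nat_lit 0x222555ba1a8df7db6554e35987cfc7117e332420), (nat_lit 0x222555c61776b7cc65afea996a4fe3117c732420), (nat_lit 0x2225575e30d2fad9f33656decc50de1945f3a420), (nat_lit 0x2225576a2bbc3aa673786e5f3b505f194de3a420), (nat_lit 0x22255839778eb3dc6db4e2a767b3e7317c312420), (nat_lit 0x222558457a75f3cb6d4feb678a33c3317e712420), (nat_lit 0x222558ddcbd438d6777656693c3c5e394df1a420), (nat_lit 0x222558e9d0baf8a9f7386ee8cb3cdf3945e1a420),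 (nat_lit 0x22255baf51839bba2b93cf70f658e6f9462f2420), (nat_lit 0x22255bc34e5c5b97abacdf3149d862f94e6f2420), (nat_lit 0x22255d2eee8455b7b7b3cf2d466066f14e2fa420), (nat_lit 0x22255d42f15b959a378cdf6cf9e0e2f1466fa420), (nat_lit 0x222b25ba178eb3cb6d4feb678a33e7127c331420), (nat_lit 0x222b25c61a75f3dc6db4e2a767b3c3127e731420), (nat_lit 0x222b275e2bd438a9f7386ee8cb3c5e1a4df39420), (nat_lit 0x222b276a30baf8d6777656693c3cdf1a45e39420), (nat_lit 0x222b28397a8df7cc65afea996a4fc7327e311420), (nat_lit 0x222b28457776b7db6554e35987cfe3327c711420), (nat_lit 0x222b28ddd0d2faa673786e5f3b50de3a45f19420), (nat_lit 0x222b28e9cbbc3ad9f33656decc505f3a4de19420), (nat_lit 0x222b2baf4e84559a378cdf6cf9e066fa4e2f1420), (nat_lit 0x222b2bc3515b95b7b7b3cf2d4660e2fa466f1420), (nat_lit 0x222b2d2ef1839b97abacdf3149d8e6f2462f9420), (nat_lit 0x222b2d42ee5c5bba2b93cf70f65862f24e6f9420), (nat_lit 0x222fa5ca11aba8acbe786b39bb74e51786937c20),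 (nat_lit 0x222fa5d60e9468ddbd9654f99c7469178e537c20), (nat_lit 0x222fa72e3584994c4dbd7ab76e64a61f9223fc20), (nat_lit 0x222fa742325d58fb4d5ca3778ee5221f8a63fc20), (nat_lit 0x222fa8496eac5eadd1986cfb9b7065378e917c20), (nat_lit 0x222fa85571939edcd276533bbc70e93786517c20), (nat_lit 0x222fa8add285674b315d7b738e6d263f8a21fc20), (nat_lit 0x222fa8c1d55ca6fc31bca2b36eeca23f9261fc20), (nat_lit 0x222fa93ab08ad4ceb5f99d2dcde0c74f8432fc20), (nat_lit 0x222fa946ab74153e369b63eddce0434f8c72fc20), (nat_lit 0x222faaba4b8c1ace2a999bf1ddd8472f8c34fc20), (nat_lit 0x222faac65072db3ea9fb6531ccd8c32f8474fc20), (nat_lit 0x223575ca0eac5edcd276533bbc706517ce937820), (nat_lit 0x223575d611939eadd1986cfb9b70e917c6537820), (nat_lit 0x2235772e328566fc31bca2b36eed261fca23f820), (nat_lit 0x22357742355ca74b315d7b738e6ca21fd263f820), (nat_lit 0x2235784971aba8ddbd9654f99c74e537c6917820), (nat_lit 0x223578556e9468acbe786b39bb746937ce517820),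 (nat_lit 0x223578add58498fb4d5ca3778ee4a63fd221f820), (nat_lit 0x223578c1d25d594c4dbd7ab76e65223fca61f820), (nat_lit 0x2235793aab8c1b3ea9fb6531ccd8474fcc32f820), (nat_lit 0x22357946b072dace2a999bf1ddd8c34fc472f820), (nat_lit 0x22357aba508ad53e369b63eddce0c72fc434f820), (nat_lit 0x22357ac64b7414ceb5f99d2dcde0432fcc74f820), (nat_lit 0x2a5937da95c4aee86b7d8e54be351f1989e38820), (nat_lit 0x2a5937e292b56f15eb3c76d50eb49e1991f38820), (nat_lit 0x2a59393eb8a5b37eee2dd397c543e721bc340820), (nat_lit 0x2a593952b67e33ae6dcabc57d6c3c321be740820), (nat_lit 0x2a593a59f2c574e5df3d8edb0e289f3991e18820), (nat_lit 0x2a593a61f5b4b5185f7c765abea91e3989f18820), (nat_lit 0x2a593abe56a6377e65cdd461d52fc741be320820), (nat_lit 0x2a593ad2587db7aee62abba1c6afe341bc720820), (nat_lit 0x2a593b4b14abdd96c750ddf8a5f4e8f1864f8820), (nat_lit 0x2a593b570f951db546ebceb8d87464f18e8f8820), (nat_lit 0x2a593c4acfad23953af0debad5f068f98e4f0820),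 (nat_lit 0x2a593c56d493e3b6bb4bcdfaa870e4f9868f0820), (nat_lit 0x2a5f464a78adb5ccdd71ec1bb72be811fc430c20), (nat_lit 0x2a5f4656769635ddde0ee2db98abc411fe830c20), (nat_lit 0x2a5f495ab3c3390576f95e9cddc4df21c5e40c20), (nat_lit 0x2a5f4962acb4f8b6f75b85dcacc45e21cdf40c20), (nat_lit 0x2a5f49c996ae2fcdea11ead59737c831fe410c20), (nat_lit 0x2a5f49d59895afdce96ee415b8b7e431fc810c20), (nat_lit 0x2a5f4ada4cc4fb06f3595de2adb85f41cde20c20), (nat_lit 0x2a5f4ae253b33ab572fb86a2dcb8de41c5f20c20), (nat_lit 0x2a5f4b33159ca1a8afaabf36e6e506f1c82f8c20), (nat_lit 0x2a5f4b4f126561772f8dd777156482f1d06f8c20), (nat_lit 0x2a5f4c32d29d57a7438abf7316ec86f9d02f0c20), (nat_lit 0x2a5f4c4ed5649778c3add732e56d02f9c86f0c20), (nat_lit 0x2a65565a74c3f6a7679a6f611bacff1207e31020), (nat_lit 0x2a6556626fb536d8e7b75720ed2c7e120ff31020), (nat_lit 0x2a6557b2989dbbbd71abcaa3783be61a3c239020), (nat_lit 0x2a6557ce96663b9bf150db63a5bbc21a3e639020),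 (nat_lit 0x2a6559d98fc532a8efba6f16ebc07f320fe11020), (nat_lit 0x2a6559e194b3f2d76f9757571d40fe3207f11020), (nat_lit 0x2a655a31f69e39bbf54bcb5da847c63a3e219020), (nat_lit 0x2a655a4df865b99d75b0da9d75c7e23a3c619020), (nat_lit 0x2a655b3f13a315d5b72ee6ef08e8c7f2043f9020), (nat_lit 0x2a655b530c7cd5c83771ee6eb76843f20c7f9020), (nat_lit 0x2a655c3ecca4dbd82b6ee674b8dc47fa0c3f1020), (nat_lit 0x2a655c52d37b1bc5ab31eef5075cc3fa047f1020), (nat_lit 0x2a66c7da92c575185f7c765abea89f1891e39820), (nat_lit 0x2a66c7e295b4b4e5df3d8edb0e291e1889f39820), (nat_lit 0x2a66c93eb6a637aee62abba1c6afc720be341820), (nat_lit 0x2a66c952b87db77e65cdd461d52fe320bc741820), (nat_lit 0x2a66ca59f5c4af15eb3c76d50eb51f3889e19820), (nat_lit 0x2a66ca61f2b56ee86b7d8e54be349e3891f19820), (nat_lit 0x2a66cabe58a5b3ae6dcabc57d6c3e740bc321820), (nat_lit 0x2a66cad2567e337eee2dd397c543c340be721820), (nat_lit 0x2a66cb4b0fad23b6bb4bcdfaa87068f08e4f9820),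 (nat_lit 0x2a66cb571493e3953af0debad5f0e4f0868f9820), (nat_lit 0x2a66cc4ad4abddb546ebceb8d874e8f8864f1820), (nat_lit 0x2a66cc56cf951d96c750ddf8a5f464f88e8f1820), (nat_lit 0x2a68f64a76ae2fdce96ee415b8b7c810fe431c20), (nat_lit 0x2a68f6567895afcdea11ead59737e410fc831c20), (nat_lit 0x2a68f95aacc4fab572fb86a2dcb85f20cde41c20), (nat_lit 0x2a68f962b3b33b06f3595de2adb8de20c5f41c20), (nat_lit 0x2a68f9c998adb5ddde0ee2db98abe830fc411c20), (nat_lit 0x2a68f9d5969635ccdd71ec1bb72bc430fe811c20), (nat_lit 0x2a68fada53c338b6f75b85dcacc4df40c5e21c20), (nat_lit 0x2a68fae24cb4f90576f95e9cddc45e40cdf21c20), (nat_lit 0x2a68fb33129d5778c3add732e56c86f0d02f9c20), (nat_lit 0x2a68fb4f156497a7438abf7316ed02f0c86f9c20), (nat_lit 0x2a68fc32d59ca1772f8dd777156506f8c82f1c20), (nat_lit 0x2a68fc4ed26561a8afaabf36e6e482f8d06f1c20), (nat_lit 0x2a6b265a6fc532d76f9757571d407f110fe32020), (nat_lit 0x2a6b266274b3f2a8efba6f16ebc0fe1107f32020),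 (nat_lit 0x2a6b27b2969e399d75b0da9d75c7c6193e23a020), (nat_lit 0x2a6b27ce9865b9bbf54bcb5da847e2193c63a020), (nat_lit 0x2a6b29d994c3f6d8e7b75720ed2cff3107e12020), (nat_lit 0x2a6b29e18fb536a7679a6f611bac7e310ff12020), (nat_lit 0x2a6b2a31f89dbb9bf150db63a5bbe6393c21a020), (nat_lit 0x2a6b2a4df6663bbd71abcaa3783bc2393e61a020), (nat_lit 0x2a6b2b3f0ca4dbc5ab31eef5075c47f10c3fa020), (nat_lit 0x2a6b2b53137b1bd82b6ee674b8dcc3f1047fa020), (nat_lit 0x2a6b2c3ed3a315c83771ee6eb768c7f9043f2020), (nat_lit 0x2a6b2c52cc7cd5d5b72ee6ef08e843f90c7f2020), (nat_lit 0x2a6d863e75a4a2bbb95b837bacf10717c8337820), (nat_lit 0x2a6d8652727d630d39b95abb7df08317d0737820), (nat_lit 0x2a6d87ca93ab16de41d75473dd6cc81fc443f820), (nat_lit 0x2a6d87d68c94d6aec23a6bb3cbec441fcc83f820), (nat_lit 0x2a6d8932b49bdb1daa1c72f59edce627c6247820), (nat_lit 0x2a6d894eaf651aeca97d8c35be5c6227ce647820), (nat_lit 0x2a6d89bd92a55cbd45bb82b97cf48737d0317820),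 (nat_lit 0x2a6d89d1957c9d0bc5595b79adf50337c8717820), (nat_lit 0x2a6d8a49ecace0deae3753b7cd64483fcc41f820), (nat_lit 0x2a6d8a55f39320ae2dda6c77dbe4c43fc481f820), (nat_lit 0x2a6d8ab24f9d151cb57c742fbee86647ce227820), (nat_lit 0x2a6d8ace5463d4edb61d8aef9e68e247c6627820), (nat_lit 0x2a71663e72a55d0bc5595b79adf4871790337c20), (nat_lit 0x2a716652757c9cbd45bb82b97cf5031788737c20), (nat_lit 0x2a7167ca8cace0ae2dda6c77dbe4481f8c43fc20), (nat_lit 0x2a7167d6939320deae3753b7cd64c41f8483fc20), (nat_lit 0x2a716932af9d14edb61d8aef9e6866278e247c20), (nat_lit 0x2a71694eb463d51cb57c742fbee8e22786647c20), (nat_lit 0x2a7169bd95a4a30d39b95abb7df1073788317c20), (nat_lit 0x2a7169d1927d62bbb95b837bacf0833790717c20), (nat_lit 0x2a716a49f3ab16aec23a6bb3cbecc83f8441fc20), (nat_lit 0x2a716a55ec94d6de41d75473dd6c443f8c81fc20), (nat_lit 0x2a716ab2549bdaeca97d8c35be5ce64786227c20), (nat_lit 0x2a716ace4f651b1daa1c72f59edc62478e627c20),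 (nat_lit 0x3094d5b21c9f71adda54bd5d97c7c921fe540c20), (nat_lit 0x3094d5ce1d67317cdaafd49dba47e521fc940c20), (nat_lit 0x3094d6726bec35275f19ad9f1dd09f29d1e48c20), (nat_lit 0x3094d67670e2f558dedb961eecd11e29c9f48c20), (nat_lit 0x3094d8317d9f2dace2b4bca3b7bbe941fc520c20), (nat_lit 0x3094d84d7c676d7de24fd5639a3bc541fe920c20), (nat_lit 0x3094d9f190eaef28ead9ae28edbd1f49c9e28c20), (nat_lit 0x3094d9f58be42f576b1b95a91cbc9e49d1f28c20), (nat_lit 0x3094de2fac84e587d751b5f74764a8f1d24f8c20), (nat_lit 0x3094de43b35b256a56eec6b6f8e524f1ca8f8c20), (nat_lit 0x3094deaf93832b8a4af1b6b2f76d28f9ca4f0c20), (nat_lit 0x3094dec38c5ceb67cb4ec5f348eca4f9d28f0c20), (nat_lit 0x30970571aceced49637a7e635bb8bf1a13e39020), (nat_lit 0x30970575b3e32cfae337a6e32d393e1a0bf39020), (nat_lit 0x3097062a7c6f776be68ec3e5a8d7c72a3e349020), (nat_lit 0x309706367d57378d65f1b5257757e32a3c749020), (nat_lit 0x309706f153eb314adb3a7edd2bc53f3a0be19020),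 (nat_lit 0x309706f54ce4f0f95b77a65d5d44be3a13f19020), (nat_lit 0x309709a99d6f336d6deec52b78cbe74a3c329020), (nat_lit 0x309709b59c57738bee91b3eba74bc34a3e729020), (nat_lit 0x30970e33aa9b69b8bed5ce2ee96869f20e5f9020), (nat_lit 0x30970e4fad62a9973f12ddaf1ae8e5f2069f9020), (nat_lit 0x30970eb38d9a9fb75315cdb5195ce9fa065f1020), (nat_lit 0x30970ecf8a635f98d2d2de34eadc65fa0e9f1020), (nat_lit 0x3099352dbc876f9c69d2dc696abfc81a7e439420), (nat_lit 0x30993541bd5f2fbb6a35cba9893fe41a7c839420), (nat_lit 0x309935f20aeb72ea6ef68eaafc487f224fe41420), (nat_lit 0x309935f60de2b317ef5875eb4b48fe2247f41420), (nat_lit 0x309936ad5d87359b5e32db9f8ad3e83a7c419420), (nat_lit 0x309936c15c5f75bc5dd5cc5f6953c43a7e819420), (nat_lit 0x309938716deab6e7e7568de54c54ff4247e21420), (nat_lit 0x309938756ae3771a66f876a4fb547e424ff21420), (nat_lit 0x30993e2bab6c1d7ac72fd6f12a5887f2503f9420), (nat_lit 0x30993e37b052dda94774be7157d903f2487f9420),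 (nat_lit 0x30993eab906ae3793b6fd66d5a6107fa483f1420), (nat_lit 0x30993eb78b5423aabb34beed27e083fa507f1420), (nat_lit 0x309aa5b21d9f2d7de24fd5639a3be920fc541c20), (nat_lit 0x309aa5ce1c676dace2b4bca3b7bbc520fe941c20), (nat_lit 0x309aa67270eaef576b1b95a91cbd1f28c9e49c20), (nat_lit 0x309aa6766be42f28ead9ae28edbc9e28d1f49c20), (nat_lit 0x309aa8317c9f717cdaafd49dba47c940fe521c20), (nat_lit 0x309aa84d7d6731adda54bd5d97c7e540fc921c20), (nat_lit 0x309aa9f18bec3558dedb961eecd09f48d1e29c20), (nat_lit 0x309aa9f590e2f5275f19ad9f1dd11e48c9f29c20), (nat_lit 0x309aae2fb3832b67cb4ec5f348ed28f0ca4f9c20), (nat_lit 0x309aae43ac5ceb8a4af1b6b2f76ca4f0d28f9c20), (nat_lit 0x309aaeaf8c84e56a56eec6b6f8e4a8f8d24f1c20), (nat_lit 0x309aaec3935b2587d751b5f7476524f8ca8f1c20), (nat_lit 0x30a0b571b3eb30f95b77a65d5d453f190be3a020), (nat_lit 0x30a0b575ace4f14adb3a7edd2bc4be1913f3a020), (nat_lit 0x30a0b62a7d6f338bee91b3eba74be7293c34a020),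 (nat_lit 0x30a0b6367c57736d6deec52b78cbc3293e74a020), (nat_lit 0x30a0b6f14cececfae337a6e32d38bf3913e1a020), (nat_lit 0x30a0b6f553e32d49637a7e635bb93e390bf1a020), (nat_lit 0x30a0b9a99c6f778d65f1b5257757c7493e32a020), (nat_lit 0x30a0b9b59d57376be68ec3e5a8d7e3493c72a020), (nat_lit 0x30a0be33ad9a9f98d2d2de34eadce9f1065fa020), (nat_lit 0x30a0be4faa635fb75315cdb5195c65f10e9fa020), (nat_lit 0x30a0beb38a9b69973f12ddaf1ae869f90e5f2020), (nat_lit 0x30a0becf8d62a9b8bed5ce2ee968e5f9069f2020), (nat_lit 0x30a6c52dbd8735bc5dd5cc5f6953e8197c43a420), (nat_lit 0x30a6c541bc5f759b5e32db9f8ad3c4197e83a420), (nat_lit 0x30a6c5f20deab71a66f876a4fb54ff2147e42420), (nat_lit 0x30a6c5f60ae376e7e7568de54c547e214ff42420), (nat_lit 0x30a6c6ad5c876fbb6a35cba9893fc8397e41a420), (nat_lit 0x30a6c6c15d5f2f9c69d2dc696abfe4397c81a420), (nat_lit 0x30a6c8716aeb7317ef5875eb4b487f414fe22420), (nat_lit 0x30a6c8756de2b2ea6ef68eaafc48fe4147f22420),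 (nat_lit 0x30a6ce2bb06ae3aabb34beed27e107f1483fa420), (nat_lit 0x30a6ce37ab5423793b6fd66d5a6083f1507fa420), (nat_lit 0x30a6ceab8b6c1da94774be7157d887f9503f2420), (nat_lit 0x30a6ceb79052dd7ac72fd6f12a5903f9487f2420), (nat_lit 0x30b9d531ab9c2b1d49f875337b6c891fd053f820), (nat_lit 0x30b9d54db062eaebca968bf3ac6d051fc893f820), (nat_lit 0x30b9d5aa0c6cdf5b523b93b58cdca727d2347820), (nat_lit 0x30b9d5b613531f2c51d9ac756ddd2327ca747820), (nat_lit 0x30b9d62e6a8362fcbab7a4adbd60682fce44f820), (nat_lit 0x30b9d6426d5aa34dba5a7d6d9be0e42fc684f820), (nat_lit 0x30b9d6b1509ae51bd69873f7ab65093fc851f820), (nat_lit 0x30b9d6cd4b6424ed55f68d377c64853fd091f820), (nat_lit 0x30b9d829736b295c3ddb946f6ce92747ca327820), (nat_lit 0x30b9d8356c54e92b3e39abaf8de8a347d2727820), (nat_lit 0x30b9d9ad8d829cfdc657a5719d58e84fc642f820), (nat_lit 0x30b9d9c18a5b5d4cc6ba7cb1bbd8644fce82f820), (nat_lit 0x30bbc531b09ae4ed55f68d377c65091f8853fc20),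 (nat_lit 0x30bbc54dab64251bd69873f7ab64851f9093fc20), (nat_lit 0x30bbc5aa136b292b3e39abaf8de927278a347c20), (nat_lit 0x30bbc5b60c54e95c3ddb946f6ce8a32792747c20), (nat_lit 0x30bbc62e6d829d4cc6ba7cb1bbd8e82f8644fc20), (nat_lit 0x30bbc6426a5b5cfdc657a5719d58642f8e84fc20), (nat_lit 0x30bbc6b14b9c2aebca968bf3ac6c893f9051fc20), (nat_lit 0x30bbc6cd5062eb1d49f875337b6d053f8891fc20), (nat_lit 0x30bbc8296c6cdf2c51d9ac756ddca74792327c20), (nat_lit 0x30bbc83573531f5b523b93b58cdd23478a727c20), (nat_lit 0x30bbc9ad8a83634dba5a7d6d9be0684f8e42fc20), (nat_lit 0x30bbc9c18d5aa2fcbab7a4adbd60e44f8682fc20), (nat_lit 0x38d4d7662fdd3159db5d95e0ce2cbe2093f41820), (nat_lit 0x38d4d76e34cbf1265afcaea13ead3f208be41820), (nat_lit 0x38d4d7ba998ef58e5eabb4a7d833e828bc449820), (nat_lit 0x38d4d7c69b76756ede50c567c5b3c428be849820), (nat_lit 0x38d4d8e5d4dbed5662fd96973e413e408bf21820), (nat_lit 0x38d4d8edcfcd2d29e35cadd6cec0bf4093e21820),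 (nat_lit 0x38d4da39fb8e6f8eea4bb559c84fc848be429820), (nat_lit 0x38d4da45f976ef6e6ab0c499d5cfe448bc829820), (nat_lit 0x38d4dcbf6ea46ba84b0cbdb8b9f489f8905f1820), (nat_lit 0x38d4dcd3717bab75cad3d639067505f8889f1820), (nat_lit 0x38d4ddbf31a3a5a5d6ccbe3b09f109f0885f9820), (nat_lit 0x38d4ddd32e7c65785713d5bab67085f0909f9820), (nat_lit 0x38daa76634dbed29e35cadd6cec13e218bf40820), (nat_lit 0x38daa76e2fcd2d5662fd96973e40bf2193e40820), (nat_lit 0x38daa7ba9b8e6f6e6ab0c499d5cfc829be448820), (nat_lit 0x38daa7c69976ef8eea4bb559c84fe429bc848820), (nat_lit 0x38daa8e5cfdd31265afcaea13eacbe4193f20820), (nat_lit 0x38daa8edd4cbf159db5d95e0ce2d3f418be20820), (nat_lit 0x38daaa39f98ef56ede50c567c5b3e849bc428820), (nat_lit 0x38daaa45fb76758e5eabb4a7d833c449be828820), (nat_lit 0x38daacbf71a3a5785713d5bab67109f9885f0820), (nat_lit 0x38daacd36e7c65a5d6ccbe3b09f085f9909f0820), (nat_lit 0x38daadbf2ea46b75cad3d639067489f1905f8820),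 (nat_lit 0x38daadd3317baba84b0cbdb8b9f505f1889f8820), (nat_lit 0x38dd153db9a6eddd6275e3177943e9323c511020), (nat_lit 0x38dd1551bb7e6dcbe192ecd7aac3c5323e911020), (nat_lit 0x38dd16bd5ba671dbd995e4e1a92fc9123e531020), (nat_lit 0x38dd16d1597ef1cd5a72eb217aafe5123c931020), (nat_lit 0x38dd17e68adb7b35f2d766250d54de2a05f49020), (nat_lit 0x38dd17ee8dcabac8731a9da4bbd45f2a0de49020), (nat_lit 0x38dd1a65eddab938771765aabd485e4a0df29020), (nat_lit 0x38dd1a6deacb78c5f6da9e2b0bc8df4a05e29020), (nat_lit 0x38dd1cab6f6d276933b0c73555dca2fa126f1020), (nat_lit 0x38dd1cb77453e78ab38bb775285d26fa0a2f1020), (nat_lit 0x38dd1dab346bd96acf90c76f25e922f20a6f9020), (nat_lit 0x38dd1db72f5519894fabb72f5868a6f2122f9020), (nat_lit 0x38df4565aedc6ebaeb9887592b4c9e3251f11420), (nat_lit 0x38df456db1cbaf096bb65f195c4d1f3249e11420), (nat_lit 0x38df46e551dbb4b95fb887275b311e1249f31420), (nat_lit 0x38df46ed4ecc750adf965f672c309f1251e31420),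 (nat_lit 0x38df472a396ef97b7573d42b864be2227c641420), (nat_lit 0x38df47363b5679ac760cbaeb69cbc6227e241420), (nat_lit 0x38df48a9db6e7b7c7213d2e56657c2427e621420), (nat_lit 0x38df48b5d956fbab716cbc2589d7e6427c221420), (nat_lit 0x38df4cbb6a8b57c642f2eead3ae0c8fa444f1420), (nat_lit 0x38df4cc76d7297d9c355e5ecc96044fa4c8f1420), (nat_lit 0x38df4dbb2d8aa1c9af52edf0cad848f24c4f9420), (nat_lit 0x38df4dc72a7361d62ef5e6b13958c4f2448f9420), (nat_lit 0x38e2e53dbba671cd5a72eb217aafc9313e512020), (nat_lit 0x38e2e551b97ef1dbd995e4e1a92fe5313c912020), (nat_lit 0x38e2e6bd59a6edcbe192ecd7aac3e9113c532020), (nat_lit 0x38e2e6d15b7e6ddd6275e3177943c5113e932020), (nat_lit 0x38e2e7e68ddab8c5f6da9e2b0bc85e290df4a020), (nat_lit 0x38e2e7ee8acb7938771765aabd48df2905e4a020), (nat_lit 0x38e2ea65eadb7ac8731a9da4bbd4de4905f2a020), (nat_lit 0x38e2ea6dedcabb35f2d766250d545f490de2a020), (nat_lit 0x38e2ecab746bd9894fabb72f586922f90a6f2020),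 (nat_lit 0x38e2ecb76f55196acf90c76f25e8a6f9122f2020), (nat_lit 0x38e2edab2f6d278ab38bb775285ca2f1126fa020), (nat_lit 0x38e2edb73453e76933b0c73555dd26f10a2fa020), (nat_lit 0x38e8f565b1dbb50adf965f672c311e3149f12420), (nat_lit 0x38e8f56daecc74b95fb887275b309f3151e12420), (nat_lit 0x38e8f6e54edc6f096bb65f195c4c9e1151f32420), (nat_lit 0x38e8f6ed51cbaebaeb9887592b4d1f1149e32420), (nat_lit 0x38e8f72a3b6e7bab716cbc2589d7c2217e642420), (nat_lit 0x38e8f7363956fb7c7213d2e56657e6217c242420), (nat_lit 0x38e8f8a9d96ef9ac760cbaeb69cbe2417c622420), (nat_lit 0x38e8f8b5db56797b7573d42b864bc6417e222420), (nat_lit 0x38e8fcbb6d8aa1d62ef5e6b1395848f94c4f2420), (nat_lit 0x38e8fcc76a7361c9af52edf0cad8c4f9448f2420), (nat_lit 0x38e8fdbb2a8b57d9c355e5ecc960c8f1444fa420), (nat_lit 0x38e8fdc72d7297c642f2eead3ae044f14c8fa420), (nat_lit 0x38f3b539af8d24cc561a9afb6bf0a83792417c20), (nat_lit 0x38f3b545b473e53b5577643b8d7124378a817c20),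 (nat_lit 0x38f3b6b9548beacb497a9c398bf528178a437c20), (nat_lit 0x38f3b6c54f752b3c4a1762f96d74a41792837c20), (nat_lit 0x38f3b73e2aa3590ece565d6fcc68c92784547c20), (nat_lit 0x38f3b7522d7a98be4eb884afdb6845278c947c20), (nat_lit 0x38f3b7aa8e6c612bad9cacf1aed8822f9064fc20), (nat_lit 0x38f3b7b69153a15d2e7d93317e59062f8824fc20), (nat_lit 0x38f3b8bdcda2a70e32b65cb5dc5c49478c527c20), (nat_lit 0x38f3b8d1ca7b66beb2588575cb5cc54784927c20), (nat_lit 0x38f3ba29f16b972d427cab2d7ee1024f8862fc20), (nat_lit 0x38f3ba35ee54575bc19d94edae60864f9022fc20), (nat_lit 0x38f79539b48beb3c4a1762f96d752837ca417820), (nat_lit 0x38f79545af752acb497a9c398bf4a437d2817820), (nat_lit 0x38f796b94f8d253b5577643b8d70a817d2437820), (nat_lit 0x38f796c55473e4cc561a9afb6bf12417ca837820), (nat_lit 0x38f7973e2da2a6beb2588575cb5c4927cc547820), (nat_lit 0x38f797522a7b670e32b65cb5dc5cc527c4947820), (nat_lit 0x38f797aa916b975bc19d94edae61022fc864f820),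 (nat_lit 0x38f797b68e54572d427cab2d7ee0862fd024f820), (nat_lit 0x38f798bdcaa358be4eb884afdb68c947c4527820), (nat_lit 0x38f798d1cd7a990ece565d6fcc684547cc927820), (nat_lit 0x38f79a29ee6c615d2e7d93317e58824fd062f820), (nat_lit 0x38f79a35f153a12bad9cacf1aed9064fc822f820), (nat_lit 0x4117074a37aeb1beda8ccbd5c9b7c938be519820), (nat_lit 0x411707563a95f19e59f3dd15d637e538bc919820), (nat_lit 0x411708c9daadedbe61eccd1bd9abe918bc539820), (nat_lit 0x411708d5d796ad9ee293dbdbc62bc518be939820), (nat_lit 0x4117095eaed47745671c7da6deb0ff2887e49820), (nat_lit 0x4117096ab1bbb6f6e6dda626ae307e288ff49820), (nat_lit 0x41170ade51d3b346eedc7e18aecc7f488fe29820), (nat_lit 0x41170aea4ebc72f56f1da598de4cfe4887f29820), (nat_lit 0x41170bbb528d6989bf6db67ac570a3f0927f9820), (nat_lit 0x41170bc75574a9663f2ac6fb36f127f08a3f9820), (nat_lit 0x41170d3af58c9f86532db6f9357523f88a7f1820), (nat_lit 0x41170d46f2755f69d36ac678c6f4a7f8923f1820),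 (nat_lit 0x411d15de12d56cca63bb9f1afca8bf30d3e11c20), (nat_lit 0x411d15ea15bcad37e399675b4da93e30cbf11c20), (nat_lit 0x411d185d75d4b0c7db9b9f554cb53f10cbe31c20), (nat_lit 0x411d186972bd713a5bb96714fdb4be10d3f31c20), (nat_lit 0x411d192eb786bb6cf18ac4e9b6bfc228fe649c20), (nat_lit 0x411d1942ba5dfb8df26db329953fe628fc249c20), (nat_lit 0x411d1aae5a85f96df66ac31f96d3e248fc629c20), (nat_lit 0x411d1ac2575eb98cf58db4dfb553c648fe229c20), (nat_lit 0x411d1bcb4bac19d6cecfe632aa6cc9f0c45f9c20), (nat_lit 0x411d1bd75092d9c54f14edb2d7ec45f0cc9f9c20), (nat_lit 0x411d1d4af0aae7d5330fe5b6da6449f8cc5f1c20), (nat_lit 0x411d1d56eb9427c6b2d4ee36a7e4c5f8c49f1c20), (nat_lit 0x4120b74a3aaded9ee293dbdbc62be939bc518820), (nat_lit 0x4120b7563796adbe61eccd1bd9abc539be918820), (nat_lit 0x4120b8c9d7aeb19e59f3dd15d637c919be538820), (nat_lit 0x4120b8d5da95f1beda8ccbd5c9b7e519bc938820), (nat_lit 0x4120b95eb1d3b2f56f1da598de4c7f298fe48820),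 (nat_lit 0x4120b96aaebc7346eedc7e18aeccfe2987f48820), (nat_lit 0x4120bade4ed476f6e6dda626ae30ff4987e28820), (nat_lit 0x4120baea51bbb745671c7da6deb07e498ff28820), (nat_lit 0x4120bbbb558c9f69d36ac678c6f523f18a7f8820), (nat_lit 0x4120bbc752755f86532db6f93574a7f1923f8820), (nat_lit 0x4120bd3af28d69663f2ac6fb36f0a3f9927f0820), (nat_lit 0x4120bd46f574a989bf6db67ac57127f98a3f0820), (nat_lit 0x4122e5de15d4b13a5bb96714fdb53f31cbe10c20), (nat_lit 0x4122e5ea12bd70c7db9b9f554cb4be31d3f10c20), (nat_lit 0x4122e85d72d56d37e399675b4da8bf11d3e30c20), (nat_lit 0x4122e86975bcacca63bb9f1afca93e11cbf30c20), (nat_lit 0x4122e92eba85f98cf58db4dfb553e229fc648c20), (nat_lit 0x4122e942b75eb96df66ac31f96d3c629fe248c20), (nat_lit 0x4122eaae5786bb8df26db329953fc249fe628c20), (nat_lit 0x4122eac25a5dfb6cf18ac4e9b6bfe649fc228c20), (nat_lit 0x4122ebcb50aae7c6b2d4ee36a7e449f1cc5f8c20), (nat_lit 0x4122ebd74b9427d5330fe5b6da64c5f1c49f8c20),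 (nat_lit 0x4122ed4aebac19c54f14edb2d7ecc9f9c45f0c20), (nat_lit 0x4122ed56f092d9d6cecfe632aa6c45f9cc9f0c20), (nat_lit 0x412555ba178eb3cc6d54eb5967cfc3327e711420), (nat_lit 0x412555c61a75f3db6dafe2998a4fe7327c311420), (nat_lit 0x4125575e2bd438a677366edf3c50df3a45e19420), (nat_lit 0x4125576a30baf8d9f778565ecb505e3a4df19420), (nat_lit 0x412558397a8df7cb65b4eaa787b3e3127c731420), (nat_lit 0x412558457776b7dc654fe3676a33c7127e331420), (nat_lit 0x412558ddd0d2faa9f3766e68cc3c5f1a4de39420), (nat_lit 0x412558e9cbbc3ad6733856e93b3cde1a45f39420), (nat_lit 0x41255baf4e845597b793df714658e2f2466f9420), (nat_lit 0x41255bc3515b95ba37accf30f9d866f24e2f9420), (nat_lit 0x41255d2ef1839b9a2bb3df2cf66062fa4e6f1420), (nat_lit 0x41255d42ee5c5bb7ab8ccf6d49e0e6fa462f1420), (nat_lit 0x412b25ba1a8df7dc654fe3676a33e3317c712420), (nat_lit 0x412b25c61776b7cb65b4eaa787b3c7317e312420), (nat_lit 0x412b275e30d2fad6733856e93b3c5f394de1a420),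 (nat_lit 0x412b276a2bbc3aa9f3766e68cc3cde3945f1a420), (nat_lit 0x412b2839778eb3db6dafe2998a4fc3117e732420), (nat_lit 0x412b28457a75f3cc6d54eb5967cfe7117c332420), (nat_lit 0x412b28ddcbd438d9f778565ecb50df1945e3a420), (nat_lit 0x412b28e9d0baf8a677366edf3c505e194df3a420), (nat_lit 0x412b2baf51839bb7ab8ccf6d49e062f14e6fa420), (nat_lit 0x412b2bc34e5c5b9a2bb3df2cf660e6f1462fa420), (nat_lit 0x412b2d2eee8455ba37accf30f9d8e2f9466f2420), (nat_lit 0x412b2d42f15b9597b793df71465866f94e2f2420), (nat_lit 0x412fa5ca0eac5eddd27853399b74e937c6517820), (nat_lit 0x412fa5d611939eacd1966cf9bc746537ce917820), (nat_lit 0x412fa72e328566fb31bda2b78e64a23fd261f820), (nat_lit 0x412fa742355ca74c315c7b776ee5263fca21f820), (nat_lit 0x412fa84971aba8dcbd9854fbbb706917ce537820), (nat_lit 0x412fa8556e9468adbe766b3b9c70e517c6937820), (nat_lit 0x412fa8add58498fc4d5da3736e6d221fca63f820), (nat_lit 0x412fa8c1d25d594b4dbc7ab38eeca61fd223f820),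 (nat_lit 0x412fa93aab8c1b3e29f9652ddde0c32fc474f820), (nat_lit 0x412fa946b072daceaa9b9bedcce0472fcc34f820), (nat_lit 0x412faaba508ad53eb69963f1cdd8434fcc72f820), (nat_lit 0x412faac64b7414ce35fb9d31dcd8c74fc432f820), (nat_lit 0x413575ca11aba8adbe766b3b9c7069378e517c20), (nat_lit 0x413575d60e9468dcbd9854fbbb70e53786917c20), (nat_lit 0x4135772e3584994b4dbc7ab38eed223f8a61fc20), (nat_lit 0x41357742325d58fc4d5da3736e6ca63f9221fc20), (nat_lit 0x413578496eac5eacd1966cf9bc74e91786537c20), (nat_lit 0x4135785571939eddd27853399b7465178e937c20), (nat_lit 0x413578add285674c315c7b776ee4a21f9263fc20), (nat_lit 0x413578c1d55ca6fb31bda2b78e65261f8a23fc20), (nat_lit 0x4135793ab08ad4ce35fb9d31dcd8432f8c74fc20), (nat_lit 0x41357946ab74153eb69963f1cdd8c72f8434fc20), (nat_lit 0x41357aba4b8c1aceaa9b9bedcce0c34f8472fc20), (nat_lit 0x41357ac65072db3e29f9652ddde0474f8c32fc20), (nat_lit 0x495937da92c57515df7d76550e351e3889f19820),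 (nat_lit 0x495937e295b4b4e85f3c8ed4beb49f3891e19820), (nat_lit 0x4959393eb6a637ae662dbb97d543e340bc721820), (nat_lit 0x49593952b87db77ee5cad457c6c3c740be321820), (nat_lit 0x49593a59f5c4af186b3d76dabe289e1891f39820), (nat_lit 0x49593a61f2b56ee5eb7c8e5b0ea91f1889e39820), (nat_lit 0x49593abe58a5b3aeedcdbc61c52fc320be741820), (nat_lit 0x49593ad2567e337e6e2ad3a1d6afe720bc341820), (nat_lit 0x49593b4b0fad23b53b50cdf8d5f4e4f8868f1820), (nat_lit 0x49593b571493e396baebdeb8a87468f88e4f1820), (nat_lit 0x49593c4ad4abddb6c6f0cebaa5f064f08e8f9820), (nat_lit 0x49593c56cf951d95474bddfad870e8f0864f9820), (nat_lit 0x495f464a76ae2fdde971e41b972be430fc811c20), (nat_lit 0x495f46567895afccea0eeadbb8abc830fe411c20), (nat_lit 0x495f495aacc4fab6f2f9869cadc4de40c5f21c20), (nat_lit 0x495f4962b3b33b05735b5ddcdcc45f40cde21c20), (nat_lit 0x495f49c998adb5dcde11e2d5b737c410fe831c20), (nat_lit 0x495f49d5969635cddd6eec1598b7e810fc431c20),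 (nat_lit 0x495f4ada53c338b5775985e2ddb85e20cdf41c20), (nat_lit 0x495f4ae24cb4f906f6fb5ea2acb8df20c5e41c20), (nat_lit 0x495f4b33129d577743aad73716e502f8c86f1c20), (nat_lit 0x495f4b4f156497a8c38dbf76e56486f8d02f1c20), (nat_lit 0x495f4c32d59ca178af8ad772e6ec82f0d06f9c20), (nat_lit 0x495f4c4ed26561a72fadbf33156d06f0c82f9c20), (nat_lit 0x4965565a6fc532d8ef9a5760ebacfe3107f12020), (nat_lit 0x4965566274b3f2a76fb76f211d2c7f310fe12020), (nat_lit 0x496557b2969e399bf5abdaa3a83be2393c61a020), (nat_lit 0x496557ce9865b9bd7550cb6375bbc6393e21a020), (nat_lit 0x496559d994c3f6d767ba57171bc07e110ff32020), (nat_lit 0x496559e18fb536a8e7976f56ed40ff1107e32020), (nat_lit 0x49655a31f89dbb9d714bdb5d7847c2193e63a020), (nat_lit 0x49655a4df6663bbbf1b0ca9da5c7e6193c23a020), (nat_lit 0x49655b3f0ca4dbc82b2eeeeeb8e8c3f9047f2020), (nat_lit 0x49655b53137b1bd5ab71e66f076847f90c3f2020), (nat_lit 0x49655c3ed3a315c5b76eee7508dc43f10c7fa020),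 (nat_lit 0x49655c52cc7cd5d83731e6f4b75cc7f1043fa020), (nat_lit 0x4966c7da95c4aee5eb7c8e5b0ea89e3991f18820), (nat_lit 0x4966c7e292b56f186b3d76dabe291f3989e18820), (nat_lit 0x4966c93eb8a5b37e6e2ad3a1d6afc341be720820), (nat_lit 0x4966c952b67e33aeedcdbc61c52fe741bc320820), (nat_lit 0x4966ca59f2c574e85f3c8ed4beb51e1989f38820), (nat_lit 0x4966ca61f5b4b515df7d76550e349f1991e38820), (nat_lit 0x4966cabe56a6377ee5cad457c6c3e321bc740820), (nat_lit 0x4966cad2587db7ae662dbb97d543c721be340820), (nat_lit 0x4966cb4b14abdd95474bddfad87064f98e8f0820), (nat_lit 0x4966cb570f951db6c6f0cebaa5f0e8f9864f0820), (nat_lit 0x4966cc4acfad2396baebdeb8a874e4f1868f8820), (nat_lit 0x4966cc56d493e3b53b50cdf8d5f468f18e4f8820), (nat_lit 0x4968f64a78adb5cddd6eec1598b7c431fe810c20), (nat_lit 0x4968f656769635dcde11e2d5b737e831fc410c20), (nat_lit 0x4968f95ab3c33906f6fb5ea2acb85e41cdf20c20), (nat_lit 0x4968f962acb4f8b5775985e2ddb8df41c5e20c20),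 (nat_lit 0x4968f9c996ae2fccea0eeadbb8abe411fc830c20), (nat_lit 0x4968f9d59895afdde971e41b972bc811fe430c20), (nat_lit 0x4968fada4cc4fb05735b5ddcdcc4de21c5f40c20), (nat_lit 0x4968fae253b33ab6f2f9869cadc45f21cde40c20), (nat_lit 0x4968fb33159ca1a72fadbf33156c82f9d06f0c20), (nat_lit 0x4968fb4f12656178af8ad772e6ed06f9c82f0c20), (nat_lit 0x4968fc32d29d57a8c38dbf76e56502f1c86f8c20), (nat_lit 0x4968fc4ed564977743aad73716e486f1d02f8c20), (nat_lit 0x496b265a74c3f6a8e7976f56ed407e320ff11020), (nat_lit 0x496b26626fb536d767ba57171bc0ff3207e11020), (nat_lit 0x496b27b2989dbbbbf1b0ca9da5c7c23a3e619020), (nat_lit 0x496b27ce96663b9d714bdb5d7847e63a3c219020), (nat_lit 0x496b29d98fc532a76fb76f211d2cfe1207f31020), (nat_lit 0x496b29e194b3f2d8ef9a5760ebac7f120fe31020), (nat_lit 0x496b2a31f69e39bd7550cb6375bbe21a3c639020), (nat_lit 0x496b2a4df865b99bf5abdaa3a83bc61a3e239020), (nat_lit 0x496b2b3f13a315d83731e6f4b75c43fa0c7f1020),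 (nat_lit 0x496b2b530c7cd5c5b76eee7508dcc7fa043f1020), (nat_lit 0x496b2c3ecca4dbd5ab71e66f0768c3f2047f9020), (nat_lit 0x496b2c52d37b1bc82b2eeeeeb8e847f20c3f9020), (nat_lit 0x496d863e72a55d0d455b5b7b7cf1033788717c20), (nat_lit 0x496d8652757c9cbbc5b982bbadf0873790317c20), (nat_lit 0x496d87ca8cace0aeadd76c73cd6cc43f8481fc20), (nat_lit 0x496d87d6939320de2e3a53b3dbec483f8c41fc20), (nat_lit 0x496d8932af9d14ecb61c8af5bedce24786627c20), (nat_lit 0x496d894eb463d51db57d74359e5c66478e227c20), (nat_lit 0x496d89bd95a4a30bb9bb5ab9acf4831790737c20), (nat_lit 0x496d89d1927d62bd395983797df5071788337c20), (nat_lit 0x496d8a49f3ab16ae42376bb7dd64441f8c83fc20), (nat_lit 0x496d8a55ec94d6dec1da5477cbe4c81f8443fc20), (nat_lit 0x496d8ab2549bdaeda97c8c2f9ee862278e647c20), (nat_lit 0x496d8ace4f651b1caa1d72efbe68e62786247c20), (nat_lit 0x4971663e75a4a2bd395983797df48337d0717820), (nat_lit 0x49716652727d630bb9bb5ab9acf50737c8317820),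 (nat_lit 0x497167ca93ab16dec1da5477cbe4443fcc81f820), (nat_lit 0x497167d68c94d6ae42376bb7dd64c83fc441f820), (nat_lit 0x49716932b49bdb1caa1d72efbe686247ce627820), (nat_lit 0x4971694eaf651aeda97c8c2f9ee8e647c6227820), (nat_lit 0x497169bd92a55cbbc5b982bbadf10317c8737820), (nat_lit 0x497169d1957c9d0d455b5b7b7cf08717d0337820), (nat_lit 0x49716a49ecace0de2e3a53b3dbecc41fc483f820), (nat_lit 0x49716a55f39320aeadd76c73cd6c481fcc43f820), (nat_lit 0x49716ab24f9d151db57d74359e5ce227c6647820), (nat_lit 0x49716ace5463d4ecb61c8af5bedc6627ce247820), (nat_lit 0xf7ed8be75ddf1b09a9cf5c64ca54c32144742420), (nat_lit 0xf7ed8bef5ccf5ab62a3483a537d447214c342420), (nat_lit 0xf7ed8cf37aede11aad537369263d06394821a420), (nat_lit 0xf7ed8cf777e6a0e92dac8aa959bc82395061a420), (nat_lit 0xf7ed8d66fcdf5506362f5bab3a4843414c722420), (nat_lit 0xf7ed8d6efdcf14b9b5d4846ac7c8c74144322420), (nat_lit 0xf7ed8df337ee971941b3729f565086195023a420),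 (nat_lit 0xf7ed8df73ae5d6eac14c8b5f29d102194863a420), (nat_lit 0xf7ed8e5fbbd662d7b9755419494c68114e432420), (nat_lit 0xf7ed8e6bb9bee2aa3a126ad8facce41146832420), (nat_lit 0xf7ed8edf99d6dcda461552e6f930e83146412420), (nat_lit 0xf7ed8eeb9bbe5ca7c5726c274ab064314e812420), (nat_lit 0xf7efab731bee5548b58b7ceae848664a0e229020), (nat_lit 0xf7efab7719e6d4f73670a32b15c8e24a06629020), (nat_lit 0xf7efac72d9eedb472a6b7b251854e62a06249020), (nat_lit 0xf7efac76dbe65af8a990a4e4e5d4622a0e649020), (nat_lit 0xf7efacdb7dc726a5b1f26d1d0ac4c53a04919020), (nat_lit 0xf7eface37cb766d8329553dcb944493a0c519020), (nat_lit 0xf7efaddb3cc758a84e926be2bab8451a0c939020), (nat_lit 0xf7efade33db718d5cdf555230938c91a04539020), (nat_lit 0xf7efae67b8dda9393db162a1572ca31212731020), (nat_lit 0xf7efae6fb6ce28cabd4e9b6128ad27120a331020), (nat_lit 0xf7efaee796de1f3ad1516357274123320a711020), (nat_lit 0xf7efaeef98cd9ec951ae9a9758c0a73212311020),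 (nat_lit 0xf7f16be75cdf54b9b5d4846ac7c843224c741420), (nat_lit 0xf7f16bef5dcf1506362f5bab3a48c72244341420), (nat_lit 0xf7f16cf377ee96eac14c8b5f29d0863a50219420), (nat_lit 0xf7f16cf77ae5d71941b3729f5651023a48619420), (nat_lit 0xf7f16d66fddf1ab62a3483a537d4c34244721420), (nat_lit 0xf7f16d6efccf5b09a9cf5c64ca5447424c321420), (nat_lit 0xf7f16df33aede0e92dac8aa959bd061a48239420), (nat_lit 0xf7f16df737e6a11aad537369263c821a50639420), (nat_lit 0xf7f16e5fb9d6dca7c5726c274ab0e81246431420), (nat_lit 0xf7f16e6bbbbe5cda461552e6f93064124e831420), (nat_lit 0xf7f16edf9bd662aa3a126ad8facc68324e411420), (nat_lit 0xf7f16eeb99bee2d7b9755419494ce43246811420), (nat_lit 0xf7f3bb5f1dd716c6c24e9d5ea8d0c848c4429c20), (nat_lit 0xf7f3bb6b1cbf573542b1649ed7504448cc829c20), (nat_lit 0xf7f3bbf358ed995a4e0d92e2f538a620d2241c20), (nat_lit 0xf7f3bbf756e61927cd6aac2346b92220ca641c20), (nat_lit 0xf7f3bc5edcd760c52eae9ca8d8bc4828cc449c20),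 (nat_lit 0xf7f3bc6addbf2136ae516568a73cc428c4849c20), (nat_lit 0xf7f3bd72f6ee2757b16d941d45452640ca221c20), (nat_lit 0xf7f3bd76f8e5a72a320aaadcf6c4a240d2621c20), (nat_lit 0xf7f3be5bbac5eab74a74831517b50510c8931c20), (nat_lit 0xf7f3be63b7b6ab08c98f5cd4ea348910d0531c20), (nat_lit 0xf7f3bedb97c6a4b8d59484dae7a88530d0911c20), (nat_lit 0xf7f3bee39ab5e507566f5b1b1a290930c8511c20), (nat_lit 0xf7f57b7319eedaf8a990a4e4e5d4e6490622a020), (nat_lit 0xf7f57b771be65b472a6b7b25185462490e62a020), (nat_lit 0xf7f57c72dbee54f73670a32b15c866290e24a020), (nat_lit 0xf7f57c76d9e6d548b58b7ceae848e2290664a020), (nat_lit 0xf7f57cdb7cc758d5cdf55523093845390c91a020), (nat_lit 0xf7f57ce37db718a84e926be2bab8c9390451a020), (nat_lit 0xf7f57ddb3dc726d8329553dcb944c5190493a020), (nat_lit 0xf7f57de33cb766a5b1f26d1d0ac449190c53a020), (nat_lit 0xf7f57e67b6de1ec951ae9a9758c123110a732020), (nat_lit 0xf7f57e6fb8cd9f3ad15163572740a71112332020),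 (nat_lit 0xf7f57ee798dda8cabd4e9b6128aca33112712020), (nat_lit 0xf7f57eef96ce29393db162a1572d27310a312020), (nat_lit 0xf7f79b5f1cd76136ae516568a73c4849cc428c20), (nat_lit 0xf7f79b6b1dbf20c52eae9ca8d8bcc449c4828c20), (nat_lit 0xf7f79bf356ee272a320aaadcf6c52621ca240c20), (nat_lit 0xf7f79bf758e5a757b16d941d4544a221d2640c20), (nat_lit 0xf7f79c5eddd7173542b1649ed750c829c4448c20), (nat_lit 0xf7f79c6adcbf56c6c24e9d5ea8d04429cc848c20), (nat_lit 0xf7f79d72f8ed9927cd6aac2346b8a641d2220c20), (nat_lit 0xf7f79d76f6e6195a4e0d92e2f5392241ca620c20), (nat_lit 0xf7f79e5bb7c6a507566f5b1b1a288511d0930c20), (nat_lit 0xf7f79e63bab5e4b8d59484dae7a90911c8530c20), (nat_lit 0xf7f79edb9ac5eb08c98f5cd4ea350531c8910c20), (nat_lit 0xf7f79ee397b6aab74a74831517b48931d0510c20), (nat_lit 0xf7f9db671adddd28468aabe6b6b1034988728820), (nat_lit 0xf7f9db6f17ce9d55c5ed95270530874990328820), (nat_lit 0xf7f9dbdb5bc65ee552ac8c96d9c065218e940820),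 (nat_lit 0xf7f9dbe359b6df16d2537556a640e92186540820), (nat_lit 0xf7f9dc66d7dea325b9eaad1906cc832990748820), (nat_lit 0xf7f9dc6edacde3583a8d93d8b54d072988348820), (nat_lit 0xf7f9dcdf78d5a4f65630a39b35a8a83992418820), (nat_lit 0xf7f9dceb76be2549d5cb7c5ac82924398a818820), (nat_lit 0xf7f9dd5af9c6e8e6be4c8d60a9ace54186920820), (nat_lit 0xf7f9dd62fbb669153eb374a0d62c69418e520820), (nat_lit 0xf7f9dddf36d62af9c9d0a454c5b528198a438820), (nat_lit 0xf7f9ddeb38bdab464a2b7b953834a41992838820), (nat_lit 0xf7fbcb6717dea3583a8d93d8b54c834890729820), (nat_lit 0xf7fbcb6f1acde325b9eaad1906cd074888329820), (nat_lit 0xf7fbcbdb59c6e9153eb374a0d62ce52086941820), (nat_lit 0xf7fbcbe35bb668e6be4c8d60a9ac69208e541820), (nat_lit 0xf7fbcc66dadddd55c5ed95270531032888749820), (nat_lit 0xf7fbcc6ed7ce9d28468aabe6b6b0872890349820), (nat_lit 0xf7fbccdf76d62b464a2b7b95383528388a419820), (nat_lit 0xf7fbcceb78bdaaf9c9d0a454c5b4a43892819820),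 (nat_lit 0xf7fbcd5afbc65f16d2537556a64065408e921820), (nat_lit 0xf7fbcd62f9b6dee552ac8c96d9c0e94086521820), (nat_lit 0xf7fbcddf38d5a549d5cb7c5ac828a81892439820), (nat_lit 0xf7fbcdeb36be24f65630a39b35a924188a839820), (nat_lit 0xffad8be75cdf54b635cf84653a54c74244321420), (nat_lit 0xffad8bef5dcf1509b6345ba4c7d443424c721420), (nat_lit 0xffad8cf377ee96e941538b69563d021a48639420), (nat_lit 0xffad8cf77ae5d71ac1ac72a929bc861a50239420), (nat_lit 0xffad8d66fddf1ab9aa2f83aaca4847224c341420), (nat_lit 0xffad8d6efccf5b0629d45c6b37c8c32244741420), (nat_lit 0xffad8df33aede0eaadb38a9f2650823a50619420), (nat_lit 0xffad8df737e6a1192d4c735f59d1063a48219420), (nat_lit 0xffad8e5fb9d6dcaa45756c18f94c64324e811420), (nat_lit 0xffad8e6bbbbe5cd7c61252d94acce83246411420), (nat_lit 0xffad8edf9bd662a7ba156ae74930e41246831420), (nat_lit 0xffad8eeb99bee2da39725426fab068124e431420), (nat_lit 0xffafab7319eedaf7298ba4eb184862290e64a020),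 (nat_lit 0xffafab771be65b48aa707b2ae5c8e6290624a020), (nat_lit 0xffafac72dbee54f8b66ba324e854e2490662a020), (nat_lit 0xffafac76d9e6d54735907ce515d466490e22a020), (nat_lit 0xffafacdb7cc758d84df2551cbac4c9190453a020), (nat_lit 0xffaface37db718a5ce956bdd094445190c93a020), (nat_lit 0xffafaddb3dc726d5b29253e30ab849390c51a020), (nat_lit 0xffafade33cb766a831f56d22b938c5390491a020), (nat_lit 0xffafae67b6de1ecad1b19aa1272ca73112312020), (nat_lit 0xffafae6fb8cd9f39514e636158ad23310a712020), (nat_lit 0xffafaee798dda8c93d519b57574127110a332020), (nat_lit 0xffafaeef96ce293abdae629728c0a31112732020), (nat_lit 0xffb16be75ddf1b0629d45c6b37c847414c322420), (nat_lit 0xffb16bef5ccf5ab9aa2f83aaca48c34144722420), (nat_lit 0xffb16cf37aede1192d4c735f59d082195063a420), (nat_lit 0xffb16cf777e6a0eaadb38a9f265106194823a420), (nat_lit 0xffb16d66fcdf5509b6345ba4c7d4c72144342420), (nat_lit 0xffb16d6efdcf14b635cf84653a5443214c742420),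 (nat_lit 0xffb16df337ee971ac1ac72a929bd02394861a420), (nat_lit 0xffb16df73ae5d6e941538b69563c86395021a420), (nat_lit 0xffb16e5fbbd662da39725426fab0e43146812420), (nat_lit 0xffb16e6bb9bee2a7ba156ae7493068314e412420), (nat_lit 0xffb16edf99d6dcd7c61252d94acc64114e832420), (nat_lit 0xffb16eeb9bbe5caa45756c18f94ce81146432420), (nat_lit 0xffb3bb5f1cd761352e4e655ed8d0c429c4848c20), (nat_lit 0xffb3bb6b1dbf20c6aeb19c9ea7504829cc448c20), (nat_lit 0xffb3bbf356ee2727b20daae34538a241d2620c20), (nat_lit 0xffb3bbf758e5a75a316a9422f6b92641ca220c20), (nat_lit 0xffb3bc5eddd71736c2ae64a8a8bc4449cc828c20), (nat_lit 0xffb3bc6adcbf56c542519d68d73cc849c4428c20), (nat_lit 0xffb3bd72f8ed992a4d6dac1cf5452221ca640c20), (nat_lit 0xffb3bd76f6e61957ce0a92dd46c4a621d2240c20), (nat_lit 0xffb3be5bb7c6a508d6745b14e7b50931c8510c20), (nat_lit 0xffb3be63bab5e4b7558f84d51a348531d0910c20), (nat_lit 0xffb3bedb9ac5eb0749945cdb17a88911d0530c20),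 (nat_lit 0xffb3bee397b6aab8ca6f831aea290511c8930c20), (nat_lit 0xffb57b731bee554735907ce515d4e22a06649020), (nat_lit 0xffb57b7719e6d4f8b66ba324e854662a0e249020), (nat_lit 0xffb57c72d9eedb48aa707b2ae5c8624a0e629020), (nat_lit 0xffb57c76dbe65af7298ba4eb1848e64a06229020), (nat_lit 0xffb57cdb7dc726a831f56d22b938491a0c539020), (nat_lit 0xffb57ce37cb766d5b29253e30ab8c51a04939020), (nat_lit 0xffb57ddb3cc758a5ce956bdd0944c93a04519020), (nat_lit 0xffb57de33db718d84df2551cbac4453a0c919020), (nat_lit 0xffb57e67b8dda93abdae629728c127320a311020), (nat_lit 0xffb57e6fb6ce28c93d519b575740a33212711020), (nat_lit 0xffb57ee796de1f39514e636158aca71212331020), (nat_lit 0xffb57eef98cd9ecad1b19aa1272d23120a731020), (nat_lit 0xffb79b5f1dd716c542519d68d73c4428cc849c20), (nat_lit 0xffb79b6b1cbf5736c2ae64a8a8bcc828c4449c20), (nat_lit 0xffb79bf358ed9957ce0a92dd46c52240ca621c20), (nat_lit 0xffb79bf756e6192a4d6dac1cf544a640d2221c20),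 (nat_lit 0xffb79c5edcd760c6aeb19c9ea750c448c4829c20), (nat_lit 0xffb79c6addbf21352e4e655ed8d04848cc429c20), (nat_lit 0xffb79d72f6ee275a316a9422f6b8a220d2641c20), (nat_lit 0xffb79d76f8e5a727b20daae345392620ca241c20), (nat_lit 0xffb79e5bbac5eab8ca6f831aea288930d0511c20), (nat_lit 0xffb79e63b7b6ab0749945cdb17a90530c8911c20), (nat_lit 0xffb79edb97c6a4b7558f84d51a350910c8531c20), (nat_lit 0xffb79ee39ab5e508d6745b14e7b48510d0931c20), (nat_lit 0xffb9db6717dea355ba8a93e706b1072888349820), (nat_lit 0xffb9db6f1acde32839edad26b530832890749820), (nat_lit 0xffb9dbdb59c6e916beac7496a9c069408e521820), (nat_lit 0xffb9dbe35bb668e53e538d56d640e54086921820), (nat_lit 0xffb9dc66dadddd5845ea9518b6cc874890329820), (nat_lit 0xffb9dc6ed7ce9d25c68dabd9054d034888729820), (nat_lit 0xffb9dcdf76d62b49ca307b9ac5a8a41892839820), (nat_lit 0xffb9dceb78bdaaf649cba45b382928188a439820), (nat_lit 0xffb9dd5afbc65f15524c7560d9ace92086541820),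 (nat_lit 0xffb9dd62f9b6dee6d2b38ca0a62c65208e941820), (nat_lit 0xffb9dddf38d5a54655d07c5535b524388a819820), (nat_lit 0xffb9ddeb36be24f9d62ba394c834a83892419820), (nat_lit 0xffbbcb671adddd25c68dabd9054c872990348820), (nat_lit 0xffbbcb6f17ce9d5845ea9518b6cd032988748820), (nat_lit 0xffbbcbdb5bc65ee6d2b38ca0a62ce94186520820), (nat_lit 0xffbbcbe359b6df15524c7560d9ac65418e920820), (nat_lit 0xffbbcc66d7dea32839edad26b531074988328820), (nat_lit 0xffbbcc6edacde355ba8a93e706b0834990728820), (nat_lit 0xffbbccdf78d5a4f9d62ba394c83524198a838820), (nat_lit 0xffbbcceb76be254655d07c5535b4a81992438820), (nat_lit 0xffbbcd5af9c6e8e53e538d56d64069218e540820), (nat_lit 0xffbbcd62fbb66916beac7496a9c0e52186940820), (nat_lit 0xffbbcddf36d62af649cba45b3828a43992818820), (nat_lit 0xffbbcdeb38bdab49ca307b9ac5a928398a418820)]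
noncomputable def AN_lK_W : List (List ℕ) := [[(nat_lit 1), (nat_lit 2), (nat_lit 0), (nat_lit 2), (nat_lit 2)],
  [(nat_lit 0), (nat_lit 1), (nat_lit 0)],
  [(nat_lit 2), (nat_lit 2), (nat_lit 0), (nat_lit 1), (nat_lit 1), (nat_lit 1), (nat_lit 2)],
  [(nat_lit 0), (nat_lit 1), (nat_lit 0), (nat_lit 1), (nat_lit 2), (nat_lit 2)],
  [(nat_lit 1), (nat_lit 1), (nat_lit 0), (nat_lit 1), (nat_lit 1), (nat_lit 1), (nat_lit 1)],
  [(nat_lit 2), (nat_lit 0), (nat_lit 2), (nat_lit 2), (nat_lit 1)],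
  [(nat_lit 1), (nat_lit 1), (nat_lit 0), (nat_lit 2), (nat_lit 2)],
  [(nat_lit 2), (nat_lit 0), (nat_lit 2), (nat_lit 1), (nat_lit 1), (nat_lit 1), (nat_lit 2)],
  [(nat_lit 1), (nat_lit 2), (nat_lit 0), (nat_lit 1), (nat_lit 1), (nat_lit 1), (nat_lit 1)],
  [(nat_lit 0), (nat_lit 1), (nat_lit 0), (nat_lit 2), (nat_lit 1), (nat_lit 1), (nat_lit 1), (nat_lit 1)],
  [(nat_lit 1), (nat_lit 2), (nat_lit 1), (nat_lit 0), (nat_lit 1), (nat_lit 1), (nat_lit 1)],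
  [(nat_lit 1), (nat_lit 2), (nat_lit 1), (nat_lit 1), (nat_lit 0), (nat_lit 1), (nat_lit 1)],
  [(nat_lit 1), (nat_lit 1), (nat_lit 1), (nat_lit 1), (nat_lit 0), (nat_lit 2), (nat_lit 1), (nat_lit 2), (nat_lit 1)],
  [(nat_lit 0), (nat_lit 1), (nat_lit 0), (nat_lit 1), (nat_lit 1), (nat_lit 1), (nat_lit 2), (nat_lit 1), (nat_lit 2), (nat_lit 1)],
  [(nat_lit 2), (nat_lit 2), (nat_lit 0), (nat_lit 2), (nat_lit 2), (nat_lit 1)],
  [(nat_lit 0), (nat_lit 2), (nat_lit 1), (nat_lit 0)],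
  [(nat_lit 1), (nat_lit 1), (nat_lit 0), (nat_lit 1), (nat_lit 1), (nat_lit 2), (nat_lit 1), (nat_lit 2), (nat_lit 1)],
  [(nat_lit 1), (nat_lit 1), (nat_lit 1), (nat_lit 0), (nat_lit 1), (nat_lit 2), (nat_lit 1), (nat_lit 2), (nat_lit 1)],
  [(nat_lit 1), (nat_lit 1), (nat_lit 0), (nat_lit 1), (nat_lit 1), (nat_lit 1), (nat_lit 2), (nat_lit 1)],
  [(nat_lit 2), (nat_lit 0), (nat_lit 1)],
  [(nat_lit 1), (nat_lit 2), (nat_lit 0), (nat_lit 1), (nat_lit 1), (nat_lit 1), (nat_lit 2), (nat_lit 1)],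
  [(nat_lit 0), (nat_lit 2), (nat_lit 1), (nat_lit 0), (nat_lit 2), (nat_lit 1), (nat_lit 2)],
  [(nat_lit 2), (nat_lit 1), (nat_lit 2), (nat_lit 1), (nat_lit 0), (nat_lit 2)],
  [(nat_lit 2), (nat_lit 0), (nat_lit 1), (nat_lit 2), (nat_lit 1), (nat_lit 2)],
  [(nat_lit 2), (nat_lit 2), (nat_lit 0), (nat_lit 1)],
  [(nat_lit 0), (nat_lit 2), (nat_lit 2), (nat_lit 1), (nat_lit 0)],
  [(nat_lit 1), (nat_lit 2), (nat_lit 0), (nat_lit 1), (nat_lit 2)],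
  [(nat_lit 0), (nat_lit 1), (nat_lit 0), (nat_lit 2), (nat_lit 1), (nat_lit 2)],
  [(nat_lit 0), (nat_lit 2), (nat_lit 0), (nat_lit 2), (nat_lit 0), (nat_lit 1), (nat_lit 0)],
  [(nat_lit 2), (nat_lit 0), (nat_lit 2), (nat_lit 1)],
  [(nat_lit 1), (nat_lit 2), (nat_lit 1), (nat_lit 0), (nat_lit 2)],
  [(nat_lit 0), (nat_lit 1), (nat_lit 0), (nat_lit 2), (nat_lit 0), (nat_lit 1), (nat_lit 0), (nat_lit 2)],
  [(nat_lit 1), (nat_lit 2), (nat_lit 0), (nat_lit 2), (nat_lit 1), (nat_lit 1), (nat_lit 1)],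
  [(nat_lit 0), (nat_lit 1), (nat_lit 0), (nat_lit 1), (nat_lit 1), (nat_lit 2)],
  [(nat_lit 1), (nat_lit 1), (nat_lit 0), (nat_lit 1), (nat_lit 2)],
  [(nat_lit 1), (nat_lit 1), (nat_lit 1), (nat_lit 0), (nat_lit 2)],
  [(nat_lit 2), (nat_lit 0), (nat_lit 2), (nat_lit 2), (nat_lit 1), (nat_lit 0)],
  [(nat_lit 0), (nat_lit 2), (nat_lit 0), (nat_lit 2), (nat_lit 0), (nat_lit 2), (nat_lit 1)],
  [(nat_lit 2), (nat_lit 0), (nat_lit 2), (nat_lit 1), (nat_lit 0), (nat_lit 1), (nat_lit 1), (nat_lit 2)],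
  [(nat_lit 1), (nat_lit 0), (nat_lit 1), (nat_lit 0), (nat_lit 2), (nat_lit 2)],
  [(nat_lit 0), (nat_lit 1)],
  [(nat_lit 1), (nat_lit 0), (nat_lit 2), (nat_lit 0), (nat_lit 2), (nat_lit 2)],
  [(nat_lit 0), (nat_lit 1), (nat_lit 1), (nat_lit 2), (nat_lit 2)],
  [(nat_lit 2), (nat_lit 2), (nat_lit 0), (nat_lit 1), (nat_lit 0), (nat_lit 1), (nat_lit 1), (nat_lit 2)],
  [(nat_lit 1), (nat_lit 0), (nat_lit 2), (nat_lit 1), (nat_lit 1), (nat_lit 0), (nat_lit 1), (nat_lit 1)],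
  [(nat_lit 1), (nat_lit 0), (nat_lit 2), (nat_lit 1), (nat_lit 0), (nat_lit 1), (nat_lit 1), (nat_lit 1)],
  [(nat_lit 0), (nat_lit 1), (nat_lit 2), (nat_lit 1), (nat_lit 1), (nat_lit 1), (nat_lit 1)],
  [(nat_lit 1), (nat_lit 0), (nat_lit 2), (nat_lit 0), (nat_lit 1), (nat_lit 1), (nat_lit 1), (nat_lit 1)],
  [(nat_lit 1), (nat_lit 0), (nat_lit 1), (nat_lit 1), (nat_lit 0), (nat_lit 1), (nat_lit 2), (nat_lit 1), (nat_lit 2), (nat_lit 1)],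
  [(nat_lit 1), (nat_lit 0), (nat_lit 1), (nat_lit 0), (nat_lit 1), (nat_lit 1), (nat_lit 2), (nat_lit 1), (nat_lit 2), (nat_lit 1)],
  [(nat_lit 2), (nat_lit 0), (nat_lit 1), (nat_lit 0)],
  [(nat_lit 0), (nat_lit 2), (nat_lit 0), (nat_lit 2), (nat_lit 0), (nat_lit 2), (nat_lit 2), (nat_lit 1)],
  [(nat_lit 0), (nat_lit 1), (nat_lit 1), (nat_lit 1), (nat_lit 1), (nat_lit 2), (nat_lit 1), (nat_lit 2), (nat_lit 1)],
  [(nat_lit 1), (nat_lit 0), (nat_lit 1), (nat_lit 1), (nat_lit 1), (nat_lit 0), (nat_lit 2), (nat_lit 1), (nat_lit 2), (nat_lit 1)],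
  [(nat_lit 0), (nat_lit 2), (nat_lit 1)],
  [(nat_lit 2), (nat_lit 2), (nat_lit 0), (nat_lit 2), (nat_lit 2), (nat_lit 1), (nat_lit 0)],
  [(nat_lit 2), (nat_lit 0), (nat_lit 1), (nat_lit 0), (nat_lit 2), (nat_lit 1), (nat_lit 2)],
  [(nat_lit 2), (nat_lit 1), (nat_lit 0), (nat_lit 2), (nat_lit 1), (nat_lit 0), (nat_lit 2)],
  [(nat_lit 0), (nat_lit 2), (nat_lit 1), (nat_lit 2), (nat_lit 1), (nat_lit 2)],
  [(nat_lit 0), (nat_lit 2), (nat_lit 0), (nat_lit 1), (nat_lit 2), (nat_lit 1), (nat_lit 0), (nat_lit 2)],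
  [(nat_lit 2), (nat_lit 0), (nat_lit 2), (nat_lit 1), (nat_lit 0)],
  [(nat_lit 0), (nat_lit 2), (nat_lit 0), (nat_lit 2), (nat_lit 0), (nat_lit 1)],
  [(nat_lit 0), (nat_lit 1), (nat_lit 2), (nat_lit 0), (nat_lit 1), (nat_lit 0), (nat_lit 2)],
  [(nat_lit 1), (nat_lit 0), (nat_lit 2), (nat_lit 1), (nat_lit 0), (nat_lit 2)],
  [(nat_lit 0), (nat_lit 2), (nat_lit 2), (nat_lit 1)],
  [(nat_lit 2), (nat_lit 2), (nat_lit 0), (nat_lit 1), (nat_lit 0)],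
  [(nat_lit 0), (nat_lit 1), (nat_lit 2), (nat_lit 1), (nat_lit 2)],
  [(nat_lit 1), (nat_lit 0), (nat_lit 2), (nat_lit 0), (nat_lit 1), (nat_lit 2)],
  [(nat_lit 1), (nat_lit 0), (nat_lit 1), (nat_lit 1), (nat_lit 0), (nat_lit 2)],
  [(nat_lit 1), (nat_lit 0), (nat_lit 1), (nat_lit 0), (nat_lit 1), (nat_lit 2)],
  [(nat_lit 0), (nat_lit 1), (nat_lit 1), (nat_lit 1), (nat_lit 2)],
  [(nat_lit 0), (nat_lit 1), (nat_lit 1), (nat_lit 0), (nat_lit 1), (nat_lit 0), (nat_lit 2)],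
  [(nat_lit 2), (nat_lit 1), (nat_lit 1), (nat_lit 1), (nat_lit 0), (nat_lit 2)],
  [(nat_lit 0), (nat_lit 2), (nat_lit 1), (nat_lit 0), (nat_lit 1), (nat_lit 1), (nat_lit 2)],
  [(nat_lit 1), (nat_lit 1), (nat_lit 1), (nat_lit 2), (nat_lit 1), (nat_lit 0), (nat_lit 2), (nat_lit 2)],
  [(nat_lit 0), (nat_lit 1), (nat_lit 0), (nat_lit 1), (nat_lit 1), (nat_lit 2), (nat_lit 1), (nat_lit 2), (nat_lit 2)],
  [(nat_lit 2), (nat_lit 2), (nat_lit 0), (nat_lit 1), (nat_lit 2), (nat_lit 1), (nat_lit 2)],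
  [(nat_lit 0), (nat_lit 2), (nat_lit 2), (nat_lit 1), (nat_lit 0), (nat_lit 2), (nat_lit 1), (nat_lit 2)],
  [(nat_lit 2), (nat_lit 1), (nat_lit 1), (nat_lit 0), (nat_lit 1), (nat_lit 2)],
  [(nat_lit 2), (nat_lit 0), (nat_lit 1), (nat_lit 1), (nat_lit 1), (nat_lit 2)],
  [(nat_lit 1), (nat_lit 1), (nat_lit 0), (nat_lit 1), (nat_lit 2), (nat_lit 1), (nat_lit 2), (nat_lit 2)],
  [(nat_lit 1), (nat_lit 1), (nat_lit 1), (nat_lit 0), (nat_lit 2), (nat_lit 1), (nat_lit 2), (nat_lit 2)],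
  [(nat_lit 2), (nat_lit 2), (nat_lit 1), (nat_lit 2), (nat_lit 1), (nat_lit 0), (nat_lit 2)],
  [(nat_lit 2), (nat_lit 0), (nat_lit 2), (nat_lit 1), (nat_lit 2), (nat_lit 1), (nat_lit 2)],
  [(nat_lit 2), (nat_lit 0), (nat_lit 1), (nat_lit 0), (nat_lit 1), (nat_lit 1), (nat_lit 2)],
  [(nat_lit 2), (nat_lit 1), (nat_lit 0), (nat_lit 1), (nat_lit 0), (nat_lit 1), (nat_lit 2)],
  [(nat_lit 1), (nat_lit 0), (nat_lit 1), (nat_lit 1), (nat_lit 0), (nat_lit 2), (nat_lit 1), (nat_lit 2), (nat_lit 2)],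
  [(nat_lit 1), (nat_lit 0), (nat_lit 1), (nat_lit 0), (nat_lit 1), (nat_lit 2), (nat_lit 1), (nat_lit 2), (nat_lit 2)],
  [(nat_lit 2), (nat_lit 0), (nat_lit 2), (nat_lit 1), (nat_lit 0), (nat_lit 2), (nat_lit 1), (nat_lit 2)],
  [(nat_lit 2), (nat_lit 2), (nat_lit 1), (nat_lit 0), (nat_lit 2), (nat_lit 1), (nat_lit 0), (nat_lit 2)],
  [(nat_lit 0), (nat_lit 2), (nat_lit 1), (nat_lit 1), (nat_lit 1), (nat_lit 2)],
  [(nat_lit 2), (nat_lit 1), (nat_lit 0), (nat_lit 1), (nat_lit 1), (nat_lit 0), (nat_lit 2)],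
  [(nat_lit 0), (nat_lit 1), (nat_lit 1), (nat_lit 1), (nat_lit 2), (nat_lit 1), (nat_lit 2), (nat_lit 2)],
  [(nat_lit 1), (nat_lit 0), (nat_lit 1), (nat_lit 1), (nat_lit 2), (nat_lit 1), (nat_lit 0), (nat_lit 2), (nat_lit 2)],
  [(nat_lit 0), (nat_lit 2), (nat_lit 2), (nat_lit 1), (nat_lit 2), (nat_lit 1), (nat_lit 2)],
  [(nat_lit 2), (nat_lit 2), (nat_lit 0), (nat_lit 1), (nat_lit 0), (nat_lit 2), (nat_lit 1), (nat_lit 2)],
  [(nat_lit 2), (nat_lit 1), (nat_lit 0), (nat_lit 1), (nat_lit 0), (nat_lit 1), (nat_lit 2), (nat_lit 1)],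
  [(nat_lit 2), (nat_lit 0), (nat_lit 1), (nat_lit 0), (nat_lit 1), (nat_lit 1), (nat_lit 2), (nat_lit 1)],
  [(nat_lit 2), (nat_lit 0), (nat_lit 1), (nat_lit 0), (nat_lit 2)],
  [(nat_lit 0), (nat_lit 2), (nat_lit 0), (nat_lit 2), (nat_lit 0), (nat_lit 2), (nat_lit 2), (nat_lit 1), (nat_lit 2)],
  [(nat_lit 2), (nat_lit 1), (nat_lit 0), (nat_lit 1), (nat_lit 1), (nat_lit 0), (nat_lit 2), (nat_lit 1)],
  [(nat_lit 0), (nat_lit 2), (nat_lit 1), (nat_lit 1), (nat_lit 1), (nat_lit 2), (nat_lit 1)],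
  [(nat_lit 0), (nat_lit 2), (nat_lit 1), (nat_lit 2)],
  [(nat_lit 2), (nat_lit 2), (nat_lit 0), (nat_lit 2), (nat_lit 2), (nat_lit 1), (nat_lit 0), (nat_lit 2)],
  [(nat_lit 0), (nat_lit 2), (nat_lit 1), (nat_lit 2), (nat_lit 1), (nat_lit 2), (nat_lit 2)],
  [(nat_lit 0), (nat_lit 2), (nat_lit 0), (nat_lit 1), (nat_lit 2), (nat_lit 1), (nat_lit 0), (nat_lit 2), (nat_lit 2)],
  [(nat_lit 2), (nat_lit 0), (nat_lit 1), (nat_lit 0), (nat_lit 2), (nat_lit 1), (nat_lit 2), (nat_lit 2)],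
  [(nat_lit 2), (nat_lit 1), (nat_lit 0), (nat_lit 2), (nat_lit 1), (nat_lit 0), (nat_lit 2), (nat_lit 2)],
  [(nat_lit 0), (nat_lit 2), (nat_lit 1), (nat_lit 0), (nat_lit 1), (nat_lit 1), (nat_lit 2), (nat_lit 1)],
  [(nat_lit 2), (nat_lit 1), (nat_lit 1), (nat_lit 1), (nat_lit 0), (nat_lit 2), (nat_lit 1)],
  [(nat_lit 2), (nat_lit 2), (nat_lit 0), (nat_lit 2), (nat_lit 2), (nat_lit 1), (nat_lit 2)],
  [(nat_lit 0), (nat_lit 2), (nat_lit 1), (nat_lit 0), (nat_lit 2)],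
  [(nat_lit 2), (nat_lit 0), (nat_lit 1), (nat_lit 1), (nat_lit 1), (nat_lit 2), (nat_lit 1)],
  [(nat_lit 2), (nat_lit 1), (nat_lit 1), (nat_lit 0), (nat_lit 1), (nat_lit 2), (nat_lit 1)],
  [(nat_lit 1), (nat_lit 1), (nat_lit 0), (nat_lit 1), (nat_lit 1), (nat_lit 1), (nat_lit 2), (nat_lit 1), (nat_lit 2)],
  [(nat_lit 2), (nat_lit 0), (nat_lit 1), (nat_lit 2)],
  [(nat_lit 2), (nat_lit 1), (nat_lit 2), (nat_lit 1), (nat_lit 0), (nat_lit 2), (nat_lit 2)],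
  [(nat_lit 2), (nat_lit 0), (nat_lit 1), (nat_lit 2), (nat_lit 1), (nat_lit 2), (nat_lit 2)],
  [(nat_lit 2), (nat_lit 2), (nat_lit 0), (nat_lit 1), (nat_lit 2), (nat_lit 1), (nat_lit 2), (nat_lit 1)],
  [(nat_lit 0), (nat_lit 2), (nat_lit 1), (nat_lit 0), (nat_lit 2), (nat_lit 1), (nat_lit 2), (nat_lit 2)],
  [(nat_lit 1), (nat_lit 1), (nat_lit 0), (nat_lit 1), (nat_lit 1), (nat_lit 1), (nat_lit 1), (nat_lit 2)],
  [(nat_lit 2), (nat_lit 0), (nat_lit 2), (nat_lit 2), (nat_lit 1), (nat_lit 2)],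
  [(nat_lit 1), (nat_lit 2), (nat_lit 0)],
  [(nat_lit 0), (nat_lit 1), (nat_lit 0), (nat_lit 2)],
  [(nat_lit 0), (nat_lit 1), (nat_lit 0), (nat_lit 1)],
  [(nat_lit 1), (nat_lit 2), (nat_lit 0), (nat_lit 2), (nat_lit 2), (nat_lit 1)],
  [(nat_lit 2), (nat_lit 0), (nat_lit 2), (nat_lit 2), (nat_lit 1), (nat_lit 1)],
  [(nat_lit 1), (nat_lit 1), (nat_lit 0)],
  [(nat_lit 1), (nat_lit 1), (nat_lit 2), (nat_lit 2), (nat_lit 1), (nat_lit 0)],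
  [(nat_lit 1), (nat_lit 1), (nat_lit 0), (nat_lit 2), (nat_lit 2), (nat_lit 1)],
  [(nat_lit 0), (nat_lit 1), (nat_lit 0), (nat_lit 1), (nat_lit 2), (nat_lit 2), (nat_lit 1)],
  [(nat_lit 1), (nat_lit 2), (nat_lit 0), (nat_lit 1), (nat_lit 1), (nat_lit 1), (nat_lit 1), (nat_lit 2)],
  [(nat_lit 2), (nat_lit 0), (nat_lit 1), (nat_lit 2), (nat_lit 1), (nat_lit 2), (nat_lit 1)],
  [(nat_lit 1), (nat_lit 2), (nat_lit 1), (nat_lit 0), (nat_lit 2), (nat_lit 2)],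
  [(nat_lit 0), (nat_lit 1), (nat_lit 0), (nat_lit 2), (nat_lit 1), (nat_lit 2), (nat_lit 2)],
  [(nat_lit 1), (nat_lit 2), (nat_lit 0), (nat_lit 1), (nat_lit 2), (nat_lit 2)],
  [(nat_lit 0), (nat_lit 2), (nat_lit 2), (nat_lit 1), (nat_lit 0), (nat_lit 2)],
  [(nat_lit 2), (nat_lit 2), (nat_lit 0), (nat_lit 1), (nat_lit 2)],
  [(nat_lit 2), (nat_lit 0), (nat_lit 2), (nat_lit 1), (nat_lit 2)],
  [(nat_lit 0), (nat_lit 2), (nat_lit 0), (nat_lit 2), (nat_lit 0), (nat_lit 1), (nat_lit 0), (nat_lit 2)],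
  [(nat_lit 2), (nat_lit 1), (nat_lit 1), (nat_lit 0)],
  [(nat_lit 2), (nat_lit 0), (nat_lit 1), (nat_lit 1)],
  [(nat_lit 0), (nat_lit 2), (nat_lit 0), (nat_lit 1), (nat_lit 0), (nat_lit 1), (nat_lit 0)],
  [(nat_lit 0), (nat_lit 2), (nat_lit 1), (nat_lit 0), (nat_lit 1)],
  [(nat_lit 0), (nat_lit 1), (nat_lit 2)],
  [(nat_lit 1), (nat_lit 0), (nat_lit 2), (nat_lit 0)],
  [(nat_lit 2), (nat_lit 0), (nat_lit 2), (nat_lit 2), (nat_lit 1), (nat_lit 0), (nat_lit 2)],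
  [(nat_lit 0), (nat_lit 2), (nat_lit 0), (nat_lit 2), (nat_lit 0), (nat_lit 2), (nat_lit 1), (nat_lit 2)],
  [(nat_lit 1), (nat_lit 0), (nat_lit 1), (nat_lit 0)],
  [(nat_lit 2), (nat_lit 0), (nat_lit 2), (nat_lit 2), (nat_lit 1), (nat_lit 0), (nat_lit 1)],
  [(nat_lit 1), (nat_lit 0), (nat_lit 2), (nat_lit 0), (nat_lit 2), (nat_lit 2), (nat_lit 1)],
  [(nat_lit 0), (nat_lit 1), (nat_lit 1)],
  [(nat_lit 0), (nat_lit 1), (nat_lit 1), (nat_lit 0), (nat_lit 2), (nat_lit 2), (nat_lit 1), (nat_lit 0)],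
  [(nat_lit 0), (nat_lit 1), (nat_lit 1), (nat_lit 2), (nat_lit 2), (nat_lit 1)],
  [(nat_lit 1), (nat_lit 0), (nat_lit 1), (nat_lit 0), (nat_lit 2), (nat_lit 2), (nat_lit 1)],
  [(nat_lit 1), (nat_lit 0), (nat_lit 1), (nat_lit 2), (nat_lit 2), (nat_lit 1), (nat_lit 0)],
  [(nat_lit 1), (nat_lit 0), (nat_lit 2), (nat_lit 0), (nat_lit 1), (nat_lit 2), (nat_lit 2)],
  [(nat_lit 0), (nat_lit 1), (nat_lit 2), (nat_lit 1), (nat_lit 2), (nat_lit 2)],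
  [(nat_lit 1), (nat_lit 0), (nat_lit 2), (nat_lit 1), (nat_lit 0), (nat_lit 2), (nat_lit 2)],
  [(nat_lit 0), (nat_lit 1), (nat_lit 2), (nat_lit 0), (nat_lit 1), (nat_lit 0), (nat_lit 2), (nat_lit 2)],
  [(nat_lit 0), (nat_lit 2), (nat_lit 0), (nat_lit 2), (nat_lit 0), (nat_lit 1), (nat_lit 2)],
  [(nat_lit 2), (nat_lit 0), (nat_lit 2), (nat_lit 1), (nat_lit 0), (nat_lit 2)],
  [(nat_lit 2), (nat_lit 2), (nat_lit 0), (nat_lit 1), (nat_lit 0), (nat_lit 2)],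
  [(nat_lit 0), (nat_lit 2), (nat_lit 2), (nat_lit 1), (nat_lit 2)],
  [(nat_lit 0), (nat_lit 2), (nat_lit 1), (nat_lit 1)],
  [(nat_lit 0), (nat_lit 2), (nat_lit 0), (nat_lit 1), (nat_lit 1), (nat_lit 0)],
  [(nat_lit 2), (nat_lit 0), (nat_lit 1), (nat_lit 0), (nat_lit 1)],
  [(nat_lit 2), (nat_lit 1), (nat_lit 0), (nat_lit 1), (nat_lit 0)],
  [(nat_lit 0), (nat_lit 1), (nat_lit 1), (nat_lit 1), (nat_lit 2), (nat_lit 1)],
  [(nat_lit 1), (nat_lit 0), (nat_lit 1), (nat_lit 1), (nat_lit 2), (nat_lit 1), (nat_lit 0)],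
  [(nat_lit 1), (nat_lit 0), (nat_lit 1), (nat_lit 1), (nat_lit 0), (nat_lit 2), (nat_lit 1)],
  [(nat_lit 1), (nat_lit 0), (nat_lit 1), (nat_lit 0), (nat_lit 1), (nat_lit 2), (nat_lit 1)],
  [(nat_lit 2), (nat_lit 0), (nat_lit 2), (nat_lit 1), (nat_lit 0), (nat_lit 1)],
  [(nat_lit 2), (nat_lit 2), (nat_lit 1), (nat_lit 0), (nat_lit 1), (nat_lit 0)],
  [(nat_lit 1), (nat_lit 0), (nat_lit 2), (nat_lit 1), (nat_lit 0), (nat_lit 2), (nat_lit 1)],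
  [(nat_lit 1), (nat_lit 0), (nat_lit 2), (nat_lit 1), (nat_lit 2), (nat_lit 1), (nat_lit 0)],
  [(nat_lit 0), (nat_lit 2), (nat_lit 2), (nat_lit 1), (nat_lit 1)],
  [(nat_lit 2), (nat_lit 2), (nat_lit 0), (nat_lit 1), (nat_lit 0), (nat_lit 1)],
  [(nat_lit 1), (nat_lit 0), (nat_lit 2), (nat_lit 0), (nat_lit 1), (nat_lit 2), (nat_lit 1)],
  [(nat_lit 0), (nat_lit 1), (nat_lit 2), (nat_lit 1), (nat_lit 2), (nat_lit 1)],
  [(nat_lit 1), (nat_lit 1), (nat_lit 0), (nat_lit 1), (nat_lit 2), (nat_lit 1)],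
  [(nat_lit 1), (nat_lit 1), (nat_lit 1), (nat_lit 0), (nat_lit 2), (nat_lit 1)],
  [(nat_lit 1), (nat_lit 1), (nat_lit 1), (nat_lit 2), (nat_lit 1), (nat_lit 0)],
  [(nat_lit 0), (nat_lit 1), (nat_lit 0), (nat_lit 1), (nat_lit 1), (nat_lit 2), (nat_lit 1)],
  [(nat_lit 2), (nat_lit 2), (nat_lit 0), (nat_lit 1), (nat_lit 1)],
  [(nat_lit 0), (nat_lit 2), (nat_lit 2), (nat_lit 1), (nat_lit 0), (nat_lit 1)],
  [(nat_lit 0), (nat_lit 1), (nat_lit 0), (nat_lit 2), (nat_lit 1), (nat_lit 2), (nat_lit 1)],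
  [(nat_lit 1), (nat_lit 2), (nat_lit 0), (nat_lit 1), (nat_lit 2), (nat_lit 1)],
  [(nat_lit 2), (nat_lit 2), (nat_lit 1), (nat_lit 1), (nat_lit 0)],
  [(nat_lit 2), (nat_lit 0), (nat_lit 2), (nat_lit 1), (nat_lit 1)],
  [(nat_lit 1), (nat_lit 2), (nat_lit 1), (nat_lit 2), (nat_lit 1), (nat_lit 0)],
  [(nat_lit 1), (nat_lit 2), (nat_lit 1), (nat_lit 0), (nat_lit 2), (nat_lit 1)],
  [(nat_lit 0), (nat_lit 1), (nat_lit 2), (nat_lit 2)],
  [(nat_lit 1), (nat_lit 0), (nat_lit 2), (nat_lit 0), (nat_lit 2)],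
  [(nat_lit 1), (nat_lit 0), (nat_lit 1), (nat_lit 1), (nat_lit 0), (nat_lit 2), (nat_lit 1), (nat_lit 1)],
  [(nat_lit 1), (nat_lit 0), (nat_lit 1), (nat_lit 0), (nat_lit 1), (nat_lit 2), (nat_lit 1), (nat_lit 1)],
  [(nat_lit 2), (nat_lit 0), (nat_lit 2), (nat_lit 1), (nat_lit 0), (nat_lit 1), (nat_lit 1)],
  [(nat_lit 1), (nat_lit 0), (nat_lit 1), (nat_lit 0), (nat_lit 2)],
  [(nat_lit 0), (nat_lit 1), (nat_lit 1), (nat_lit 2)],
  [(nat_lit 2), (nat_lit 2), (nat_lit 0), (nat_lit 1), (nat_lit 0), (nat_lit 1), (nat_lit 1)],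
  [(nat_lit 1), (nat_lit 0), (nat_lit 1), (nat_lit 0), (nat_lit 2), (nat_lit 2), (nat_lit 1), (nat_lit 2)],
  [(nat_lit 1), (nat_lit 0), (nat_lit 1), (nat_lit 2), (nat_lit 2), (nat_lit 1), (nat_lit 0), (nat_lit 2)],
  [(nat_lit 1), (nat_lit 0), (nat_lit 2), (nat_lit 0), (nat_lit 1), (nat_lit 2), (nat_lit 1), (nat_lit 1)],
  [(nat_lit 0), (nat_lit 1), (nat_lit 1), (nat_lit 2), (nat_lit 2), (nat_lit 1), (nat_lit 2)],
  [(nat_lit 0), (nat_lit 2), (nat_lit 1), (nat_lit 1), (nat_lit 1), (nat_lit 2), (nat_lit 1), (nat_lit 2)],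
  [(nat_lit 2), (nat_lit 1), (nat_lit 0), (nat_lit 1), (nat_lit 1), (nat_lit 0), (nat_lit 2), (nat_lit 1), (nat_lit 2)],
  [(nat_lit 2), (nat_lit 0), (nat_lit 1), (nat_lit 0), (nat_lit 1), (nat_lit 1), (nat_lit 2), (nat_lit 1), (nat_lit 2)],
  [(nat_lit 2), (nat_lit 1), (nat_lit 0), (nat_lit 1), (nat_lit 0), (nat_lit 1), (nat_lit 2), (nat_lit 1), (nat_lit 2)],
  [(nat_lit 2), (nat_lit 1), (nat_lit 0), (nat_lit 1), (nat_lit 0), (nat_lit 1), (nat_lit 2), (nat_lit 1), (nat_lit 1)],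
  [(nat_lit 2), (nat_lit 0), (nat_lit 1), (nat_lit 0), (nat_lit 2), (nat_lit 2)],
  [(nat_lit 2), (nat_lit 1), (nat_lit 0), (nat_lit 1), (nat_lit 1), (nat_lit 0), (nat_lit 2), (nat_lit 1), (nat_lit 1)],
  [(nat_lit 0), (nat_lit 2), (nat_lit 1), (nat_lit 2), (nat_lit 2)],
  [(nat_lit 2), (nat_lit 0), (nat_lit 1), (nat_lit 0), (nat_lit 2), (nat_lit 1)],
  [(nat_lit 2), (nat_lit 1), (nat_lit 0), (nat_lit 2), (nat_lit 1), (nat_lit 0)],
  [(nat_lit 0), (nat_lit 2), (nat_lit 1), (nat_lit 2), (nat_lit 1)],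
  [(nat_lit 0), (nat_lit 2), (nat_lit 0), (nat_lit 1), (nat_lit 2), (nat_lit 1), (nat_lit 0)],
  [(nat_lit 1), (nat_lit 1), (nat_lit 0), (nat_lit 1), (nat_lit 2), (nat_lit 1), (nat_lit 1)],
  [(nat_lit 1), (nat_lit 1), (nat_lit 1), (nat_lit 0), (nat_lit 2), (nat_lit 1), (nat_lit 1)],
  [(nat_lit 1), (nat_lit 2), (nat_lit 0), (nat_lit 2)],
  [(nat_lit 0), (nat_lit 1), (nat_lit 0), (nat_lit 2), (nat_lit 2)],
  [(nat_lit 2), (nat_lit 2), (nat_lit 0), (nat_lit 1), (nat_lit 1), (nat_lit 1)],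
  [(nat_lit 0), (nat_lit 1), (nat_lit 0), (nat_lit 1), (nat_lit 2)],
  [(nat_lit 1), (nat_lit 1), (nat_lit 0), (nat_lit 2)],
  [(nat_lit 2), (nat_lit 0), (nat_lit 2), (nat_lit 1), (nat_lit 1), (nat_lit 1)],
  [(nat_lit 0), (nat_lit 1), (nat_lit 0), (nat_lit 1), (nat_lit 2), (nat_lit 2), (nat_lit 1), (nat_lit 2)],
  [(nat_lit 1), (nat_lit 2), (nat_lit 0), (nat_lit 1), (nat_lit 2), (nat_lit 1), (nat_lit 1)],
  [(nat_lit 1), (nat_lit 1), (nat_lit 2), (nat_lit 2), (nat_lit 1), (nat_lit 0), (nat_lit 2)],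
  [(nat_lit 1), (nat_lit 1), (nat_lit 0), (nat_lit 2), (nat_lit 2), (nat_lit 1), (nat_lit 2)],
  [(nat_lit 2), (nat_lit 1), (nat_lit 1), (nat_lit 0), (nat_lit 1), (nat_lit 2), (nat_lit 1), (nat_lit 2)],
  [(nat_lit 2), (nat_lit 0), (nat_lit 1), (nat_lit 1), (nat_lit 1), (nat_lit 2), (nat_lit 1), (nat_lit 2)],
  [(nat_lit 2), (nat_lit 1), (nat_lit 1), (nat_lit 1), (nat_lit 0), (nat_lit 2), (nat_lit 1), (nat_lit 2)],
  [(nat_lit 0), (nat_lit 2), (nat_lit 1), (nat_lit 0), (nat_lit 1), (nat_lit 1), (nat_lit 2), (nat_lit 1), (nat_lit 2)],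
  [(nat_lit 0), (nat_lit 2), (nat_lit 1), (nat_lit 0), (nat_lit 2), (nat_lit 2)],
  [(nat_lit 2), (nat_lit 1), (nat_lit 1), (nat_lit 1), (nat_lit 0), (nat_lit 2), (nat_lit 1), (nat_lit 1)],
  [(nat_lit 2), (nat_lit 0), (nat_lit 1), (nat_lit 2), (nat_lit 2)],
  [(nat_lit 2), (nat_lit 1), (nat_lit 1), (nat_lit 0), (nat_lit 1), (nat_lit 2), (nat_lit 1), (nat_lit 1)],
  [(nat_lit 0), (nat_lit 2), (nat_lit 0), (nat_lit 1), (nat_lit 0), (nat_lit 2), (nat_lit 1), (nat_lit 0)],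
  [(nat_lit 0), (nat_lit 2), (nat_lit 1), (nat_lit 0), (nat_lit 2), (nat_lit 1)],
  [(nat_lit 2), (nat_lit 1), (nat_lit 2), (nat_lit 1), (nat_lit 0)],
  [(nat_lit 2), (nat_lit 0), (nat_lit 1), (nat_lit 2), (nat_lit 1)],
  [(nat_lit 2), (nat_lit 0), (nat_lit 2), (nat_lit 1), (nat_lit 2), (nat_lit 2)],
  [(nat_lit 1), (nat_lit 1), (nat_lit 0), (nat_lit 2), (nat_lit 2), (nat_lit 1), (nat_lit 1)],
  [(nat_lit 1), (nat_lit 2), (nat_lit 1), (nat_lit 0)],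
  [(nat_lit 0), (nat_lit 1), (nat_lit 0), (nat_lit 2), (nat_lit 0), (nat_lit 1), (nat_lit 0)],
  [(nat_lit 0), (nat_lit 2), (nat_lit 2), (nat_lit 1), (nat_lit 0), (nat_lit 2), (nat_lit 2)],
  [(nat_lit 2), (nat_lit 2), (nat_lit 0), (nat_lit 1), (nat_lit 2), (nat_lit 2)],
  [(nat_lit 1), (nat_lit 2), (nat_lit 0), (nat_lit 1)],
  [(nat_lit 0), (nat_lit 1), (nat_lit 0), (nat_lit 2), (nat_lit 1)],
  [(nat_lit 0), (nat_lit 1), (nat_lit 0), (nat_lit 1), (nat_lit 1)],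
  [(nat_lit 0), (nat_lit 1), (nat_lit 0), (nat_lit 1), (nat_lit 0), (nat_lit 1), (nat_lit 0)],
  [(nat_lit 1), (nat_lit 1), (nat_lit 1), (nat_lit 0)],
  [(nat_lit 1), (nat_lit 1), (nat_lit 0), (nat_lit 1)],
  [(nat_lit 2), (nat_lit 2), (nat_lit 0), (nat_lit 1), (nat_lit 0), (nat_lit 2), (nat_lit 2)],
  [(nat_lit 0), (nat_lit 2), (nat_lit 2), (nat_lit 1), (nat_lit 2), (nat_lit 2)],
  [(nat_lit 0), (nat_lit 1), (nat_lit 2), (nat_lit 1)],
  [(nat_lit 1), (nat_lit 0), (nat_lit 2), (nat_lit 0), (nat_lit 1)],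
  [(nat_lit 0), (nat_lit 2), (nat_lit 0), (nat_lit 2), (nat_lit 0), (nat_lit 1), (nat_lit 2), (nat_lit 2)],
  [(nat_lit 2), (nat_lit 0), (nat_lit 2), (nat_lit 1), (nat_lit 0), (nat_lit 2), (nat_lit 2)],
  [(nat_lit 0), (nat_lit 1), (nat_lit 2), (nat_lit 0), (nat_lit 1), (nat_lit 0)],
  [(nat_lit 1), (nat_lit 0), (nat_lit 2), (nat_lit 1), (nat_lit 0)],
  [(nat_lit 1), (nat_lit 0), (nat_lit 1), (nat_lit 0), (nat_lit 1)],
  [(nat_lit 1), (nat_lit 0), (nat_lit 1), (nat_lit 1), (nat_lit 0)],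
  [(nat_lit 0), (nat_lit 1), (nat_lit 1), (nat_lit 0), (nat_lit 1), (nat_lit 0)],
  [(nat_lit 0), (nat_lit 1), (nat_lit 1), (nat_lit 1)],
  [(nat_lit 2), (nat_lit 1), (nat_lit 1), (nat_lit 0), (nat_lit 1)],
  [(nat_lit 2), (nat_lit 0), (nat_lit 1), (nat_lit 1), (nat_lit 1)],
  [(nat_lit 1), (nat_lit 1), (nat_lit 1), (nat_lit 0), (nat_lit 2), (nat_lit 1), (nat_lit 2)],
  [(nat_lit 1), (nat_lit 1), (nat_lit 0), (nat_lit 1), (nat_lit 2), (nat_lit 1), (nat_lit 2)],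
  [(nat_lit 2), (nat_lit 1), (nat_lit 1), (nat_lit 1), (nat_lit 0)],
  [(nat_lit 0), (nat_lit 2), (nat_lit 1), (nat_lit 0), (nat_lit 1), (nat_lit 1)],
  [(nat_lit 0), (nat_lit 1), (nat_lit 0), (nat_lit 1), (nat_lit 1), (nat_lit 2), (nat_lit 1), (nat_lit 2)],
  [(nat_lit 1), (nat_lit 1), (nat_lit 1), (nat_lit 2), (nat_lit 1), (nat_lit 0), (nat_lit 2)],
  [(nat_lit 0), (nat_lit 2), (nat_lit 2), (nat_lit 1), (nat_lit 0), (nat_lit 2), (nat_lit 1)],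
  [(nat_lit 2), (nat_lit 2), (nat_lit 0), (nat_lit 1), (nat_lit 2), (nat_lit 1)],
  [(nat_lit 2), (nat_lit 0), (nat_lit 2), (nat_lit 1), (nat_lit 2), (nat_lit 1)],
  [(nat_lit 2), (nat_lit 2), (nat_lit 1), (nat_lit 2), (nat_lit 1), (nat_lit 0)],
  [(nat_lit 0), (nat_lit 2), (nat_lit 1), (nat_lit 1), (nat_lit 1)],
  [(nat_lit 2), (nat_lit 1), (nat_lit 0), (nat_lit 1), (nat_lit 1), (nat_lit 0)],
  [(nat_lit 1), (nat_lit 0), (nat_lit 1), (nat_lit 1), (nat_lit 2), (nat_lit 1), (nat_lit 0), (nat_lit 2)],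
  [(nat_lit 0), (nat_lit 1), (nat_lit 1), (nat_lit 1), (nat_lit 2), (nat_lit 1), (nat_lit 2)],
  [(nat_lit 2), (nat_lit 0), (nat_lit 1), (nat_lit 0), (nat_lit 1), (nat_lit 1)],
  [(nat_lit 2), (nat_lit 1), (nat_lit 0), (nat_lit 1), (nat_lit 0), (nat_lit 1)],
  [(nat_lit 1), (nat_lit 0), (nat_lit 1), (nat_lit 0), (nat_lit 1), (nat_lit 2), (nat_lit 1), (nat_lit 2)],
  [(nat_lit 1), (nat_lit 0), (nat_lit 1), (nat_lit 1), (nat_lit 0), (nat_lit 2), (nat_lit 1), (nat_lit 2)],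
  [(nat_lit 2), (nat_lit 2), (nat_lit 1), (nat_lit 0), (nat_lit 2), (nat_lit 1), (nat_lit 0)],
  [(nat_lit 2), (nat_lit 0), (nat_lit 2), (nat_lit 1), (nat_lit 0), (nat_lit 2), (nat_lit 1)],
  [(nat_lit 2), (nat_lit 2), (nat_lit 0), (nat_lit 1), (nat_lit 0), (nat_lit 2), (nat_lit 1)],
  [(nat_lit 0), (nat_lit 2), (nat_lit 2), (nat_lit 1), (nat_lit 2), (nat_lit 1)],
  [(nat_lit 2), (nat_lit 1), (nat_lit 0), (nat_lit 1), (nat_lit 1), (nat_lit 0), (nat_lit 1)],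
  [(nat_lit 0), (nat_lit 2), (nat_lit 1), (nat_lit 1), (nat_lit 1), (nat_lit 1)],
  [(nat_lit 1), (nat_lit 0), (nat_lit 1), (nat_lit 1), (nat_lit 2), (nat_lit 1), (nat_lit 0), (nat_lit 2), (nat_lit 1)],
  [(nat_lit 0), (nat_lit 1), (nat_lit 1), (nat_lit 1), (nat_lit 2), (nat_lit 1), (nat_lit 2), (nat_lit 1)],
  [(nat_lit 2), (nat_lit 1), (nat_lit 0), (nat_lit 1), (nat_lit 0), (nat_lit 1), (nat_lit 1)],
  [(nat_lit 2), (nat_lit 0), (nat_lit 1), (nat_lit 0), (nat_lit 1), (nat_lit 1), (nat_lit 1)],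
  [(nat_lit 1), (nat_lit 0), (nat_lit 1), (nat_lit 0), (nat_lit 1), (nat_lit 2), (nat_lit 1), (nat_lit 2), (nat_lit 1)],
  [(nat_lit 1), (nat_lit 0), (nat_lit 1), (nat_lit 1), (nat_lit 0), (nat_lit 2), (nat_lit 1), (nat_lit 2), (nat_lit 1)],
  [(nat_lit 2), (nat_lit 2), (nat_lit 0), (nat_lit 1), (nat_lit 0), (nat_lit 2), (nat_lit 1), (nat_lit 1)],
  [(nat_lit 0), (nat_lit 1), (nat_lit 1), (nat_lit 2), (nat_lit 1), (nat_lit 2), (nat_lit 2)],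
  [(nat_lit 1), (nat_lit 0), (nat_lit 1), (nat_lit 0), (nat_lit 2), (nat_lit 1), (nat_lit 2), (nat_lit 2)],
  [(nat_lit 1), (nat_lit 0), (nat_lit 1), (nat_lit 2), (nat_lit 1), (nat_lit 0), (nat_lit 2), (nat_lit 2)],
  [(nat_lit 1), (nat_lit 0), (nat_lit 1), (nat_lit 2), (nat_lit 2), (nat_lit 1), (nat_lit 2), (nat_lit 1), (nat_lit 0)],
  [(nat_lit 0), (nat_lit 1), (nat_lit 1), (nat_lit 2), (nat_lit 2), (nat_lit 1), (nat_lit 2), (nat_lit 1)],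
  [(nat_lit 1), (nat_lit 0), (nat_lit 2), (nat_lit 0), (nat_lit 2), (nat_lit 1)],
  [(nat_lit 0), (nat_lit 1), (nat_lit 2), (nat_lit 2), (nat_lit 1)],
  [(nat_lit 1), (nat_lit 0), (nat_lit 1), (nat_lit 0), (nat_lit 2), (nat_lit 2), (nat_lit 1), (nat_lit 2), (nat_lit 1)],
  [(nat_lit 1), (nat_lit 0), (nat_lit 1), (nat_lit 2), (nat_lit 2), (nat_lit 1), (nat_lit 0), (nat_lit 2), (nat_lit 1)],
  [(nat_lit 1), (nat_lit 0), (nat_lit 2), (nat_lit 2), (nat_lit 1), (nat_lit 0)],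
  [(nat_lit 0), (nat_lit 1), (nat_lit 2), (nat_lit 0), (nat_lit 2), (nat_lit 1), (nat_lit 0)],
  [(nat_lit 0), (nat_lit 1), (nat_lit 1), (nat_lit 0), (nat_lit 2), (nat_lit 1), (nat_lit 0)],
  [(nat_lit 0), (nat_lit 1), (nat_lit 1), (nat_lit 2), (nat_lit 1)],
  [(nat_lit 1), (nat_lit 0), (nat_lit 1), (nat_lit 0), (nat_lit 2), (nat_lit 1)],
  [(nat_lit 1), (nat_lit 0), (nat_lit 1), (nat_lit 2), (nat_lit 1), (nat_lit 0)],
  [(nat_lit 1), (nat_lit 0), (nat_lit 2), (nat_lit 0), (nat_lit 2), (nat_lit 1), (nat_lit 2)],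
  [(nat_lit 0), (nat_lit 1), (nat_lit 2), (nat_lit 2), (nat_lit 1), (nat_lit 2)],
  [(nat_lit 1), (nat_lit 0), (nat_lit 1), (nat_lit 2), (nat_lit 2), (nat_lit 1), (nat_lit 2), (nat_lit 1), (nat_lit 0), (nat_lit 2)],
  [(nat_lit 0), (nat_lit 1), (nat_lit 1), (nat_lit 2), (nat_lit 2), (nat_lit 1), (nat_lit 2), (nat_lit 1), (nat_lit 2)],
  [(nat_lit 1), (nat_lit 0), (nat_lit 2), (nat_lit 2), (nat_lit 1), (nat_lit 0), (nat_lit 2)],
  [(nat_lit 2), (nat_lit 0), (nat_lit 1), (nat_lit 0), (nat_lit 2), (nat_lit 1), (nat_lit 1)],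
  [(nat_lit 1), (nat_lit 0), (nat_lit 1), (nat_lit 0), (nat_lit 2), (nat_lit 2), (nat_lit 1), (nat_lit 2), (nat_lit 1), (nat_lit 2)],
  [(nat_lit 1), (nat_lit 0), (nat_lit 1), (nat_lit 2), (nat_lit 2), (nat_lit 1), (nat_lit 0), (nat_lit 2), (nat_lit 1), (nat_lit 2)],
  [(nat_lit 0), (nat_lit 1), (nat_lit 1), (nat_lit 0), (nat_lit 2), (nat_lit 1), (nat_lit 0), (nat_lit 2)],
  [(nat_lit 0), (nat_lit 1), (nat_lit 1), (nat_lit 2), (nat_lit 1), (nat_lit 2)],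
  [(nat_lit 1), (nat_lit 0), (nat_lit 1), (nat_lit 0), (nat_lit 2), (nat_lit 1), (nat_lit 2)],
  [(nat_lit 1), (nat_lit 0), (nat_lit 1), (nat_lit 2), (nat_lit 1), (nat_lit 0), (nat_lit 2)],
  [(nat_lit 2), (nat_lit 0), (nat_lit 1), (nat_lit 1), (nat_lit 1), (nat_lit 1)],
  [(nat_lit 2), (nat_lit 1), (nat_lit 1), (nat_lit 0), (nat_lit 1), (nat_lit 1)],
  [(nat_lit 1), (nat_lit 1), (nat_lit 1), (nat_lit 0), (nat_lit 2), (nat_lit 1), (nat_lit 2), (nat_lit 1)],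
  [(nat_lit 1), (nat_lit 1), (nat_lit 0), (nat_lit 1), (nat_lit 2), (nat_lit 1), (nat_lit 2), (nat_lit 1)],
  [(nat_lit 0), (nat_lit 2), (nat_lit 1), (nat_lit 0), (nat_lit 1), (nat_lit 1), (nat_lit 1)],
  [(nat_lit 2), (nat_lit 1), (nat_lit 1), (nat_lit 1), (nat_lit 0), (nat_lit 1)],
  [(nat_lit 0), (nat_lit 1), (nat_lit 0), (nat_lit 1), (nat_lit 1), (nat_lit 2), (nat_lit 1), (nat_lit 2), (nat_lit 1)],
  [(nat_lit 1), (nat_lit 1), (nat_lit 1), (nat_lit 2), (nat_lit 1), (nat_lit 0), (nat_lit 2), (nat_lit 1)],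
  [(nat_lit 1), (nat_lit 1), (nat_lit 2), (nat_lit 1), (nat_lit 0), (nat_lit 2), (nat_lit 2)],
  [(nat_lit 1), (nat_lit 1), (nat_lit 0), (nat_lit 2), (nat_lit 1), (nat_lit 2), (nat_lit 2)],
  [(nat_lit 0), (nat_lit 1), (nat_lit 0), (nat_lit 1), (nat_lit 2), (nat_lit 1), (nat_lit 2), (nat_lit 2)],
  [(nat_lit 2), (nat_lit 2), (nat_lit 0), (nat_lit 1), (nat_lit 2), (nat_lit 1), (nat_lit 1)],
  [(nat_lit 1), (nat_lit 1), (nat_lit 2), (nat_lit 2), (nat_lit 1), (nat_lit 0), (nat_lit 2), (nat_lit 1)],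
  [(nat_lit 1), (nat_lit 1), (nat_lit 0), (nat_lit 2), (nat_lit 2), (nat_lit 1), (nat_lit 2), (nat_lit 1)],
  [(nat_lit 2), (nat_lit 0), (nat_lit 1), (nat_lit 1), (nat_lit 1), (nat_lit 1), (nat_lit 2)],
  [(nat_lit 1), (nat_lit 2), (nat_lit 2), (nat_lit 1), (nat_lit 0)],
  [(nat_lit 0), (nat_lit 1), (nat_lit 0), (nat_lit 1), (nat_lit 2), (nat_lit 2), (nat_lit 1), (nat_lit 2), (nat_lit 1)],
  [(nat_lit 1), (nat_lit 1), (nat_lit 2), (nat_lit 2), (nat_lit 1), (nat_lit 2), (nat_lit 1), (nat_lit 0)],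
  [(nat_lit 0), (nat_lit 1), (nat_lit 0), (nat_lit 2), (nat_lit 2), (nat_lit 1)],
  [(nat_lit 1), (nat_lit 2), (nat_lit 0), (nat_lit 2), (nat_lit 1)],
  [(nat_lit 1), (nat_lit 1), (nat_lit 2), (nat_lit 1), (nat_lit 0)],
  [(nat_lit 1), (nat_lit 1), (nat_lit 0), (nat_lit 2), (nat_lit 1)],
  [(nat_lit 0), (nat_lit 1), (nat_lit 0), (nat_lit 1), (nat_lit 2), (nat_lit 1)],
  [(nat_lit 2), (nat_lit 2), (nat_lit 0), (nat_lit 1), (nat_lit 1), (nat_lit 1), (nat_lit 1)],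
  [(nat_lit 2), (nat_lit 0), (nat_lit 1), (nat_lit 2), (nat_lit 1), (nat_lit 1)],
  [(nat_lit 1), (nat_lit 2), (nat_lit 2), (nat_lit 1), (nat_lit 0), (nat_lit 2)],
  [(nat_lit 1), (nat_lit 1), (nat_lit 2), (nat_lit 2), (nat_lit 1), (nat_lit 0), (nat_lit 2), (nat_lit 1), (nat_lit 2)],
  [(nat_lit 1), (nat_lit 1), (nat_lit 0), (nat_lit 2), (nat_lit 2), (nat_lit 1), (nat_lit 2), (nat_lit 1), (nat_lit 2)],
  [(nat_lit 0), (nat_lit 1), (nat_lit 0), (nat_lit 2), (nat_lit 2), (nat_lit 1), (nat_lit 2)],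
  [(nat_lit 1), (nat_lit 2), (nat_lit 0), (nat_lit 2), (nat_lit 1), (nat_lit 2)],
  [(nat_lit 0), (nat_lit 1), (nat_lit 0), (nat_lit 1), (nat_lit 2), (nat_lit 2), (nat_lit 1), (nat_lit 2), (nat_lit 1), (nat_lit 2)],
  [(nat_lit 1), (nat_lit 1), (nat_lit 2), (nat_lit 2), (nat_lit 1), (nat_lit 2), (nat_lit 1), (nat_lit 0), (nat_lit 2)],
  [(nat_lit 1), (nat_lit 1), (nat_lit 2), (nat_lit 1), (nat_lit 0), (nat_lit 2)],
  [(nat_lit 1), (nat_lit 1), (nat_lit 0), (nat_lit 2), (nat_lit 1), (nat_lit 2)],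
  [(nat_lit 0), (nat_lit 1), (nat_lit 0), (nat_lit 1), (nat_lit 2), (nat_lit 1), (nat_lit 2)],
  [(nat_lit 2), (nat_lit 2), (nat_lit 0), (nat_lit 1), (nat_lit 1), (nat_lit 1), (nat_lit 1), (nat_lit 2)],
  [(nat_lit 1), (nat_lit 0), (nat_lit 1), (nat_lit 1), (nat_lit 1), (nat_lit 0)],
  [(nat_lit 0), (nat_lit 1), (nat_lit 1), (nat_lit 1), (nat_lit 1)],
  [(nat_lit 1), (nat_lit 0), (nat_lit 1), (nat_lit 1), (nat_lit 1), (nat_lit 0), (nat_lit 2)],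
  [(nat_lit 0), (nat_lit 1), (nat_lit 1), (nat_lit 1), (nat_lit 1), (nat_lit 2)],
  [(nat_lit 1), (nat_lit 0), (nat_lit 2), (nat_lit 0), (nat_lit 1), (nat_lit 1)],
  [(nat_lit 0), (nat_lit 1), (nat_lit 2), (nat_lit 1), (nat_lit 1)],
  [(nat_lit 1), (nat_lit 0), (nat_lit 1), (nat_lit 0), (nat_lit 1), (nat_lit 1)],
  [(nat_lit 1), (nat_lit 0), (nat_lit 1), (nat_lit 1), (nat_lit 0), (nat_lit 1)],
  [(nat_lit 1), (nat_lit 0), (nat_lit 1), (nat_lit 0), (nat_lit 1), (nat_lit 1), (nat_lit 2)],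
  [(nat_lit 1), (nat_lit 0), (nat_lit 1), (nat_lit 1), (nat_lit 0), (nat_lit 1), (nat_lit 2)],
  [(nat_lit 1), (nat_lit 0), (nat_lit 2), (nat_lit 1), (nat_lit 0), (nat_lit 1)],
  [(nat_lit 1), (nat_lit 0), (nat_lit 2), (nat_lit 1), (nat_lit 1), (nat_lit 0)],
  [(nat_lit 1), (nat_lit 1), (nat_lit 1), (nat_lit 0), (nat_lit 1)],
  [(nat_lit 1), (nat_lit 1), (nat_lit 0), (nat_lit 1), (nat_lit 1)],
  [(nat_lit 1), (nat_lit 1), (nat_lit 1), (nat_lit 0), (nat_lit 1), (nat_lit 2)],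
  [(nat_lit 1), (nat_lit 1), (nat_lit 0), (nat_lit 1), (nat_lit 1), (nat_lit 2)],
  [(nat_lit 1), (nat_lit 2), (nat_lit 1), (nat_lit 1), (nat_lit 0)],
  [(nat_lit 1), (nat_lit 2), (nat_lit 1), (nat_lit 0), (nat_lit 1)],
  [(nat_lit 0), (nat_lit 1), (nat_lit 0), (nat_lit 1), (nat_lit 1), (nat_lit 1)],
  [(nat_lit 1), (nat_lit 1), (nat_lit 1), (nat_lit 1), (nat_lit 0)],
  [(nat_lit 0), (nat_lit 1), (nat_lit 0), (nat_lit 1), (nat_lit 1), (nat_lit 1), (nat_lit 2)],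
  [(nat_lit 1), (nat_lit 1), (nat_lit 1), (nat_lit 1), (nat_lit 0), (nat_lit 2)],
  [(nat_lit 0), (nat_lit 1), (nat_lit 0), (nat_lit 2), (nat_lit 1), (nat_lit 1)],
  [(nat_lit 1), (nat_lit 2), (nat_lit 0), (nat_lit 1), (nat_lit 1)],
  [(nat_lit 0), (nat_lit 2), (nat_lit 0), (nat_lit 2), (nat_lit 2), (nat_lit 1), (nat_lit 0)],
  [(nat_lit 2), (nat_lit 0), (nat_lit 2), (nat_lit 0), (nat_lit 2), (nat_lit 1)],
  [(nat_lit 2), (nat_lit 2), (nat_lit 0), (nat_lit 1), (nat_lit 1), (nat_lit 0), (nat_lit 1), (nat_lit 2)],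
  [(nat_lit 0), (nat_lit 1), (nat_lit 0), (nat_lit 1), (nat_lit 0), (nat_lit 2), (nat_lit 2)],
  [(nat_lit 1)],
  [(nat_lit 0), (nat_lit 1), (nat_lit 0), (nat_lit 2), (nat_lit 0), (nat_lit 2), (nat_lit 2)],
  [(nat_lit 1), (nat_lit 1), (nat_lit 2), (nat_lit 2)],
  [(nat_lit 2), (nat_lit 0), (nat_lit 2), (nat_lit 1), (nat_lit 1), (nat_lit 0), (nat_lit 1), (nat_lit 2)],
  [(nat_lit 1), (nat_lit 2), (nat_lit 0), (nat_lit 1), (nat_lit 0), (nat_lit 1), (nat_lit 1), (nat_lit 1)],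
  [(nat_lit 1), (nat_lit 2), (nat_lit 0), (nat_lit 1), (nat_lit 1), (nat_lit 0), (nat_lit 1), (nat_lit 1)],
  [(nat_lit 1), (nat_lit 2), (nat_lit 1), (nat_lit 1), (nat_lit 1), (nat_lit 1)],
  [(nat_lit 1), (nat_lit 2), (nat_lit 1), (nat_lit 0), (nat_lit 1), (nat_lit 0), (nat_lit 1), (nat_lit 1)],
  [(nat_lit 1), (nat_lit 1), (nat_lit 0), (nat_lit 1), (nat_lit 1), (nat_lit 0), (nat_lit 2), (nat_lit 1), (nat_lit 2), (nat_lit 1)],
  [(nat_lit 1), (nat_lit 1), (nat_lit 1), (nat_lit 0), (nat_lit 1), (nat_lit 0), (nat_lit 2), (nat_lit 1), (nat_lit 2), (nat_lit 1)],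
  [(nat_lit 0), (nat_lit 2), (nat_lit 0), (nat_lit 1), (nat_lit 0)],
  [(nat_lit 2), (nat_lit 0), (nat_lit 2), (nat_lit 0), (nat_lit 2), (nat_lit 2), (nat_lit 1)],
  [(nat_lit 1), (nat_lit 1), (nat_lit 1), (nat_lit 1), (nat_lit 2), (nat_lit 1), (nat_lit 2), (nat_lit 1)],
  [(nat_lit 1), (nat_lit 1), (nat_lit 0), (nat_lit 1), (nat_lit 0), (nat_lit 1), (nat_lit 2), (nat_lit 1), (nat_lit 2), (nat_lit 1)],
  [(nat_lit 2), (nat_lit 1)],
  [(nat_lit 0), (nat_lit 2), (nat_lit 2), (nat_lit 0), (nat_lit 2), (nat_lit 2), (nat_lit 1), (nat_lit 0)],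
  [(nat_lit 0), (nat_lit 2), (nat_lit 0), (nat_lit 1), (nat_lit 0), (nat_lit 2), (nat_lit 1), (nat_lit 2)],
  [(nat_lit 0), (nat_lit 2), (nat_lit 1), (nat_lit 0), (nat_lit 2), (nat_lit 1), (nat_lit 0), (nat_lit 2)],
  [(nat_lit 2), (nat_lit 1), (nat_lit 2), (nat_lit 1), (nat_lit 2)],
  [(nat_lit 2), (nat_lit 0), (nat_lit 1), (nat_lit 2), (nat_lit 1), (nat_lit 0), (nat_lit 2)],
  [(nat_lit 0), (nat_lit 2), (nat_lit 0), (nat_lit 2), (nat_lit 1), (nat_lit 0)],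
  [(nat_lit 2), (nat_lit 0), (nat_lit 2), (nat_lit 0), (nat_lit 1)],
  [(nat_lit 1), (nat_lit 2), (nat_lit 0), (nat_lit 1), (nat_lit 0), (nat_lit 2)],
  [(nat_lit 0), (nat_lit 1), (nat_lit 0), (nat_lit 2), (nat_lit 1), (nat_lit 0), (nat_lit 2)],
  [(nat_lit 2), (nat_lit 2), (nat_lit 1)],
  [(nat_lit 0), (nat_lit 2), (nat_lit 2), (nat_lit 0), (nat_lit 1), (nat_lit 0)],
  [(nat_lit 1), (nat_lit 2), (nat_lit 1), (nat_lit 2)],
  [(nat_lit 0), (nat_lit 1), (nat_lit 0), (nat_lit 2), (nat_lit 0), (nat_lit 1), (nat_lit 2)],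
  [(nat_lit 0), (nat_lit 1), (nat_lit 0), (nat_lit 1), (nat_lit 1), (nat_lit 0), (nat_lit 2)],
  [(nat_lit 0), (nat_lit 1), (nat_lit 0), (nat_lit 1), (nat_lit 0), (nat_lit 1), (nat_lit 2)],
  [(nat_lit 1), (nat_lit 1), (nat_lit 1), (nat_lit 2)],
  [(nat_lit 1), (nat_lit 1), (nat_lit 0), (nat_lit 1), (nat_lit 0), (nat_lit 2)],
  [(nat_lit 0), (nat_lit 1), (nat_lit 2), (nat_lit 0), (nat_lit 2), (nat_lit 2)],
  [(nat_lit 1), (nat_lit 0)],
  [(nat_lit 0), (nat_lit 2), (nat_lit 2), (nat_lit 0), (nat_lit 1), (nat_lit 1), (nat_lit 1), (nat_lit 2)],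
  [(nat_lit 1), (nat_lit 0), (nat_lit 1), (nat_lit 2), (nat_lit 2)],
  [(nat_lit 2), (nat_lit 0), (nat_lit 2), (nat_lit 0), (nat_lit 2), (nat_lit 1), (nat_lit 0)],
  [(nat_lit 0), (nat_lit 2), (nat_lit 0), (nat_lit 2), (nat_lit 2), (nat_lit 1)],
  [(nat_lit 0), (nat_lit 1), (nat_lit 1), (nat_lit 0), (nat_lit 2), (nat_lit 2)],
  [(nat_lit 0), (nat_lit 2), (nat_lit 0), (nat_lit 2), (nat_lit 1), (nat_lit 1), (nat_lit 1), (nat_lit 2)],
  [(nat_lit 0), (nat_lit 1), (nat_lit 2), (nat_lit 0), (nat_lit 1), (nat_lit 1), (nat_lit 1), (nat_lit 1)],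
  [(nat_lit 1), (nat_lit 0), (nat_lit 2), (nat_lit 1), (nat_lit 1), (nat_lit 1), (nat_lit 1)],
  [(nat_lit 0), (nat_lit 1), (nat_lit 2), (nat_lit 1), (nat_lit 0), (nat_lit 1), (nat_lit 1), (nat_lit 1)],
  [(nat_lit 0), (nat_lit 1), (nat_lit 2), (nat_lit 1), (nat_lit 1), (nat_lit 0), (nat_lit 1), (nat_lit 1)],
  [(nat_lit 0), (nat_lit 1), (nat_lit 1), (nat_lit 1), (nat_lit 1), (nat_lit 0), (nat_lit 2), (nat_lit 1), (nat_lit 2), (nat_lit 1)],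
  [(nat_lit 1), (nat_lit 0), (nat_lit 1), (nat_lit 1), (nat_lit 1), (nat_lit 2), (nat_lit 1), (nat_lit 2), (nat_lit 1)],
  [(nat_lit 0), (nat_lit 2), (nat_lit 2), (nat_lit 0), (nat_lit 2), (nat_lit 2), (nat_lit 1)],
  [(nat_lit 2), (nat_lit 1), (nat_lit 0)],
  [(nat_lit 0), (nat_lit 1), (nat_lit 1), (nat_lit 0), (nat_lit 1), (nat_lit 1), (nat_lit 2), (nat_lit 1), (nat_lit 2), (nat_lit 1)],
  [(nat_lit 0), (nat_lit 1), (nat_lit 1), (nat_lit 1), (nat_lit 0), (nat_lit 1), (nat_lit 2), (nat_lit 1), (nat_lit 2), (nat_lit 1)],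
  [(nat_lit 2), (nat_lit 0), (nat_lit 2), (nat_lit 0), (nat_lit 2), (nat_lit 2), (nat_lit 1), (nat_lit 0)],
  [(nat_lit 0), (nat_lit 2), (nat_lit 0), (nat_lit 1)],
  [(nat_lit 2), (nat_lit 0), (nat_lit 1), (nat_lit 0), (nat_lit 2), (nat_lit 1), (nat_lit 0), (nat_lit 2)],
  [(nat_lit 2), (nat_lit 1), (nat_lit 0), (nat_lit 2), (nat_lit 1), (nat_lit 2)],
  [(nat_lit 0), (nat_lit 2), (nat_lit 1), (nat_lit 2), (nat_lit 1), (nat_lit 0), (nat_lit 2)],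
  [(nat_lit 0), (nat_lit 2), (nat_lit 0), (nat_lit 1), (nat_lit 2), (nat_lit 1), (nat_lit 2)],
  [(nat_lit 0), (nat_lit 2), (nat_lit 2), (nat_lit 0), (nat_lit 1)],
  [(nat_lit 2), (nat_lit 2), (nat_lit 1), (nat_lit 0)],
  [(nat_lit 0), (nat_lit 1), (nat_lit 2), (nat_lit 0), (nat_lit 1), (nat_lit 2)],
  [(nat_lit 1), (nat_lit 0), (nat_lit 2), (nat_lit 1), (nat_lit 2)],
  [(nat_lit 2), (nat_lit 0), (nat_lit 2), (nat_lit 0), (nat_lit 1), (nat_lit 0)],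
  [(nat_lit 0), (nat_lit 2), (nat_lit 0), (nat_lit 2), (nat_lit 1)],
  [(nat_lit 0), (nat_lit 1), (nat_lit 2), (nat_lit 1), (nat_lit 0), (nat_lit 2)],
  [(nat_lit 1), (nat_lit 0), (nat_lit 2), (nat_lit 0), (nat_lit 1), (nat_lit 0), (nat_lit 2)],
  [(nat_lit 1), (nat_lit 0), (nat_lit 1), (nat_lit 0), (nat_lit 1), (nat_lit 0), (nat_lit 2)],
  [(nat_lit 1), (nat_lit 0), (nat_lit 1), (nat_lit 1), (nat_lit 2)],
  [(nat_lit 0), (nat_lit 1), (nat_lit 1), (nat_lit 0), (nat_lit 1), (nat_lit 2)],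
  [(nat_lit 0), (nat_lit 1), (nat_lit 1), (nat_lit 1), (nat_lit 0), (nat_lit 2)],
  [(nat_lit 2), (nat_lit 1), (nat_lit 1), (nat_lit 0), (nat_lit 1), (nat_lit 0), (nat_lit 2)],
  [(nat_lit 2), (nat_lit 0), (nat_lit 1), (nat_lit 1), (nat_lit 1), (nat_lit 0), (nat_lit 2)],
  [(nat_lit 1), (nat_lit 1), (nat_lit 0), (nat_lit 1), (nat_lit 2), (nat_lit 1), (nat_lit 0), (nat_lit 2), (nat_lit 2)],
  [(nat_lit 1), (nat_lit 1), (nat_lit 1), (nat_lit 0), (nat_lit 2), (nat_lit 1), (nat_lit 0), (nat_lit 2), (nat_lit 2)],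
  [(nat_lit 2), (nat_lit 2), (nat_lit 0), (nat_lit 1), (nat_lit 2), (nat_lit 1), (nat_lit 0), (nat_lit 2)],
  [(nat_lit 2), (nat_lit 0), (nat_lit 2), (nat_lit 0), (nat_lit 1), (nat_lit 2), (nat_lit 1), (nat_lit 2)],
  [(nat_lit 2), (nat_lit 1), (nat_lit 1), (nat_lit 1), (nat_lit 2)],
  [(nat_lit 2), (nat_lit 0), (nat_lit 1), (nat_lit 1), (nat_lit 0), (nat_lit 1), (nat_lit 2)],
  [(nat_lit 1), (nat_lit 1), (nat_lit 1), (nat_lit 2), (nat_lit 1), (nat_lit 2), (nat_lit 2)],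
  [(nat_lit 1), (nat_lit 1), (nat_lit 0), (nat_lit 1), (nat_lit 0), (nat_lit 2), (nat_lit 1), (nat_lit 2), (nat_lit 2)],
  [(nat_lit 2), (nat_lit 2), (nat_lit 1), (nat_lit 2), (nat_lit 1), (nat_lit 2)],
  [(nat_lit 2), (nat_lit 0), (nat_lit 2), (nat_lit 1), (nat_lit 2), (nat_lit 1), (nat_lit 0), (nat_lit 2)],
  [(nat_lit 0), (nat_lit 2), (nat_lit 1), (nat_lit 1), (nat_lit 1), (nat_lit 0), (nat_lit 2)],
  [(nat_lit 2), (nat_lit 1), (nat_lit 0), (nat_lit 1), (nat_lit 1), (nat_lit 2)],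
  [(nat_lit 0), (nat_lit 1), (nat_lit 1), (nat_lit 1), (nat_lit 2), (nat_lit 1), (nat_lit 0), (nat_lit 2), (nat_lit 2)],
  [(nat_lit 1), (nat_lit 0), (nat_lit 1), (nat_lit 1), (nat_lit 2), (nat_lit 1), (nat_lit 2), (nat_lit 2)],
  [(nat_lit 0), (nat_lit 2), (nat_lit 2), (nat_lit 0), (nat_lit 1), (nat_lit 2), (nat_lit 1), (nat_lit 2)],
  [(nat_lit 2), (nat_lit 2), (nat_lit 1), (nat_lit 0), (nat_lit 2), (nat_lit 1), (nat_lit 2)],
  [(nat_lit 0), (nat_lit 2), (nat_lit 1), (nat_lit 1), (nat_lit 0), (nat_lit 1), (nat_lit 2)],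
  [(nat_lit 0), (nat_lit 2), (nat_lit 0), (nat_lit 1), (nat_lit 1), (nat_lit 1), (nat_lit 2)],
  [(nat_lit 0), (nat_lit 1), (nat_lit 1), (nat_lit 0), (nat_lit 1), (nat_lit 2), (nat_lit 1), (nat_lit 2), (nat_lit 2)],
  [(nat_lit 0), (nat_lit 1), (nat_lit 1), (nat_lit 1), (nat_lit 0), (nat_lit 2), (nat_lit 1), (nat_lit 2), (nat_lit 2)],
  [(nat_lit 0), (nat_lit 2), (nat_lit 2), (nat_lit 1), (nat_lit 2), (nat_lit 1), (nat_lit 0), (nat_lit 2)],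
  [(nat_lit 0), (nat_lit 2), (nat_lit 0), (nat_lit 2), (nat_lit 1), (nat_lit 2), (nat_lit 1), (nat_lit 2)],
  [(nat_lit 2), (nat_lit 1), (nat_lit 0), (nat_lit 1), (nat_lit 1), (nat_lit 2), (nat_lit 1)],
  [(nat_lit 0), (nat_lit 2), (nat_lit 1), (nat_lit 1), (nat_lit 1), (nat_lit 0), (nat_lit 2), (nat_lit 1)],
  [(nat_lit 0), (nat_lit 2), (nat_lit 2), (nat_lit 0), (nat_lit 2), (nat_lit 2), (nat_lit 1), (nat_lit 2)],
  [(nat_lit 2), (nat_lit 1), (nat_lit 0), (nat_lit 2)],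
  [(nat_lit 0), (nat_lit 2), (nat_lit 0), (nat_lit 1), (nat_lit 1), (nat_lit 1), (nat_lit 2), (nat_lit 1)],
  [(nat_lit 0), (nat_lit 2), (nat_lit 1), (nat_lit 1), (nat_lit 0), (nat_lit 1), (nat_lit 2), (nat_lit 1)],
  [(nat_lit 2), (nat_lit 0), (nat_lit 2), (nat_lit 0), (nat_lit 2), (nat_lit 2), (nat_lit 1), (nat_lit 0), (nat_lit 2)],
  [(nat_lit 0), (nat_lit 2), (nat_lit 0), (nat_lit 1), (nat_lit 2)],
  [(nat_lit 0), (nat_lit 2), (nat_lit 1), (nat_lit 2), (nat_lit 1), (nat_lit 0), (nat_lit 2), (nat_lit 2)],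
  [(nat_lit 0), (nat_lit 2), (nat_lit 0), (nat_lit 1), (nat_lit 2), (nat_lit 1), (nat_lit 2), (nat_lit 2)],
  [(nat_lit 0), (nat_lit 2), (nat_lit 2), (nat_lit 0), (nat_lit 1), (nat_lit 2), (nat_lit 1), (nat_lit 2), (nat_lit 1)],
  [(nat_lit 2), (nat_lit 1), (nat_lit 0), (nat_lit 2), (nat_lit 1), (nat_lit 2), (nat_lit 2)],
  [(nat_lit 2), (nat_lit 0), (nat_lit 1), (nat_lit 1), (nat_lit 1), (nat_lit 0), (nat_lit 2), (nat_lit 1)],
  [(nat_lit 2), (nat_lit 1), (nat_lit 1), (nat_lit 0), (nat_lit 1), (nat_lit 0), (nat_lit 2), (nat_lit 1)],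
  [(nat_lit 0), (nat_lit 2), (nat_lit 0), (nat_lit 1), (nat_lit 0), (nat_lit 2)],
  [(nat_lit 2), (nat_lit 0), (nat_lit 2), (nat_lit 0), (nat_lit 2), (nat_lit 2), (nat_lit 1), (nat_lit 2)],
  [(nat_lit 2), (nat_lit 0), (nat_lit 1), (nat_lit 1), (nat_lit 0), (nat_lit 1), (nat_lit 2), (nat_lit 1)],
  [(nat_lit 2), (nat_lit 1), (nat_lit 1), (nat_lit 1), (nat_lit 2), (nat_lit 1)],
  [(nat_lit 2), (nat_lit 1), (nat_lit 2)],
  [(nat_lit 0), (nat_lit 2), (nat_lit 2), (nat_lit 0), (nat_lit 2), (nat_lit 2), (nat_lit 1), (nat_lit 0), (nat_lit 2)],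
  [(nat_lit 2), (nat_lit 1), (nat_lit 2), (nat_lit 1), (nat_lit 2), (nat_lit 2)],
  [(nat_lit 2), (nat_lit 0), (nat_lit 1), (nat_lit 2), (nat_lit 1), (nat_lit 0), (nat_lit 2), (nat_lit 2)],
  [(nat_lit 0), (nat_lit 2), (nat_lit 0), (nat_lit 1), (nat_lit 0), (nat_lit 2), (nat_lit 1), (nat_lit 2), (nat_lit 2)],
  [(nat_lit 0), (nat_lit 2), (nat_lit 1), (nat_lit 0), (nat_lit 2), (nat_lit 1), (nat_lit 0), (nat_lit 2), (nat_lit 2)],
  [(nat_lit 1), (nat_lit 2)],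
  [(nat_lit 0), (nat_lit 1), (nat_lit 0), (nat_lit 2), (nat_lit 0)],
  [(nat_lit 0), (nat_lit 2), (nat_lit 0), (nat_lit 2), (nat_lit 2), (nat_lit 1), (nat_lit 0), (nat_lit 2)],
  [(nat_lit 2), (nat_lit 0), (nat_lit 2), (nat_lit 0), (nat_lit 2), (nat_lit 1), (nat_lit 2)],
  [(nat_lit 0), (nat_lit 1), (nat_lit 0), (nat_lit 1), (nat_lit 0)],
  [(nat_lit 1), (nat_lit 2), (nat_lit 0), (nat_lit 2), (nat_lit 2), (nat_lit 1), (nat_lit 0)],
  [(nat_lit 2), (nat_lit 0), (nat_lit 2), (nat_lit 2), (nat_lit 1), (nat_lit 1), (nat_lit 0)],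
  [(nat_lit 1), (nat_lit 1)],
  [(nat_lit 1), (nat_lit 1), (nat_lit 0), (nat_lit 2), (nat_lit 2), (nat_lit 1), (nat_lit 0)],
  [(nat_lit 1), (nat_lit 1), (nat_lit 2), (nat_lit 2), (nat_lit 1)],
  [(nat_lit 0), (nat_lit 1), (nat_lit 0), (nat_lit 1), (nat_lit 0), (nat_lit 2), (nat_lit 2), (nat_lit 1)],
  [(nat_lit 0), (nat_lit 1), (nat_lit 0), (nat_lit 1), (nat_lit 2), (nat_lit 2), (nat_lit 1), (nat_lit 0)],
  [(nat_lit 0), (nat_lit 1), (nat_lit 0), (nat_lit 2), (nat_lit 0), (nat_lit 1), (nat_lit 2), (nat_lit 2)],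
  [(nat_lit 1), (nat_lit 2), (nat_lit 1), (nat_lit 2), (nat_lit 2)],
  [(nat_lit 0), (nat_lit 1), (nat_lit 0), (nat_lit 2), (nat_lit 1), (nat_lit 0), (nat_lit 2), (nat_lit 2)],
  [(nat_lit 1), (nat_lit 2), (nat_lit 0), (nat_lit 1), (nat_lit 0), (nat_lit 2), (nat_lit 2)],
  [(nat_lit 2), (nat_lit 0), (nat_lit 2), (nat_lit 0), (nat_lit 1), (nat_lit 2)],
  [(nat_lit 0), (nat_lit 2), (nat_lit 0), (nat_lit 2), (nat_lit 1), (nat_lit 0), (nat_lit 2)],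
  [(nat_lit 0), (nat_lit 2), (nat_lit 2), (nat_lit 0), (nat_lit 1), (nat_lit 0), (nat_lit 2)],
  [(nat_lit 2), (nat_lit 2), (nat_lit 1), (nat_lit 2)],
  [(nat_lit 2), (nat_lit 1), (nat_lit 1)],
  [(nat_lit 2), (nat_lit 0), (nat_lit 1), (nat_lit 1), (nat_lit 0)],
  [(nat_lit 0), (nat_lit 2), (nat_lit 0), (nat_lit 1), (nat_lit 0), (nat_lit 1)],
  [(nat_lit 0), (nat_lit 2), (nat_lit 1), (nat_lit 0), (nat_lit 1), (nat_lit 0)],
  [(nat_lit 2), (nat_lit 0), (nat_lit 2), (nat_lit 0), (nat_lit 2), (nat_lit 1), (nat_lit 0), (nat_lit 2)],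
  [(nat_lit 0), (nat_lit 2), (nat_lit 0), (nat_lit 2), (nat_lit 2), (nat_lit 1), (nat_lit 2)],
  [(nat_lit 0), (nat_lit 1), (nat_lit 2), (nat_lit 0)],
  [(nat_lit 1), (nat_lit 0), (nat_lit 2)],
  [(nat_lit 1), (nat_lit 0), (nat_lit 1)],
  [(nat_lit 0), (nat_lit 1), (nat_lit 2), (nat_lit 0), (nat_lit 2), (nat_lit 2), (nat_lit 1)],
  [(nat_lit 0), (nat_lit 2), (nat_lit 0), (nat_lit 2), (nat_lit 2), (nat_lit 1), (nat_lit 1)],
  [(nat_lit 0), (nat_lit 1), (nat_lit 1), (nat_lit 0)],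
  [(nat_lit 0), (nat_lit 1), (nat_lit 1), (nat_lit 2), (nat_lit 2), (nat_lit 1), (nat_lit 0)],
  [(nat_lit 0), (nat_lit 1), (nat_lit 1), (nat_lit 0), (nat_lit 2), (nat_lit 2), (nat_lit 1)],
  [(nat_lit 1), (nat_lit 0), (nat_lit 1), (nat_lit 2), (nat_lit 2), (nat_lit 1)],
  [(nat_lit 1), (nat_lit 0), (nat_lit 1), (nat_lit 0), (nat_lit 2), (nat_lit 2), (nat_lit 1), (nat_lit 0)],
  [(nat_lit 0), (nat_lit 2), (nat_lit 0), (nat_lit 1), (nat_lit 2), (nat_lit 1), (nat_lit 2), (nat_lit 1)],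
  [(nat_lit 0), (nat_lit 1), (nat_lit 2), (nat_lit 1), (nat_lit 0), (nat_lit 2), (nat_lit 2)],
  [(nat_lit 1), (nat_lit 0), (nat_lit 2), (nat_lit 1), (nat_lit 2), (nat_lit 2)],
  [(nat_lit 0), (nat_lit 1), (nat_lit 2), (nat_lit 0), (nat_lit 1), (nat_lit 2), (nat_lit 2)],
  [(nat_lit 2), (nat_lit 2), (nat_lit 1), (nat_lit 0), (nat_lit 2)],
  [(nat_lit 0), (nat_lit 2), (nat_lit 2), (nat_lit 0), (nat_lit 1), (nat_lit 2)],
  [(nat_lit 0), (nat_lit 2), (nat_lit 0), (nat_lit 2), (nat_lit 1), (nat_lit 2)],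
  [(nat_lit 2), (nat_lit 0), (nat_lit 2), (nat_lit 0), (nat_lit 1), (nat_lit 0), (nat_lit 2)],
  [(nat_lit 0), (nat_lit 2), (nat_lit 1), (nat_lit 1), (nat_lit 0)],
  [(nat_lit 0), (nat_lit 2), (nat_lit 0), (nat_lit 1), (nat_lit 1)],
  [(nat_lit 2), (nat_lit 0), (nat_lit 1), (nat_lit 0), (nat_lit 1), (nat_lit 0)],
  [(nat_lit 2), (nat_lit 1), (nat_lit 0), (nat_lit 1)],
  [(nat_lit 0), (nat_lit 1), (nat_lit 1), (nat_lit 0), (nat_lit 1), (nat_lit 2), (nat_lit 1)],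
  [(nat_lit 0), (nat_lit 1), (nat_lit 1), (nat_lit 1), (nat_lit 0), (nat_lit 2), (nat_lit 1)],
  [(nat_lit 0), (nat_lit 1), (nat_lit 1), (nat_lit 1), (nat_lit 2), (nat_lit 1), (nat_lit 0)],
  [(nat_lit 1), (nat_lit 0), (nat_lit 1), (nat_lit 1), (nat_lit 2), (nat_lit 1)],
  [(nat_lit 0), (nat_lit 2), (nat_lit 2), (nat_lit 0), (nat_lit 1), (nat_lit 1)],
  [(nat_lit 2), (nat_lit 2), (nat_lit 1), (nat_lit 0), (nat_lit 1)],
  [(nat_lit 1), (nat_lit 0), (nat_lit 2), (nat_lit 1), (nat_lit 2), (nat_lit 1)],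
  [(nat_lit 0), (nat_lit 1), (nat_lit 2), (nat_lit 0), (nat_lit 1), (nat_lit 2), (nat_lit 1)],
  [(nat_lit 0), (nat_lit 2), (nat_lit 2), (nat_lit 1), (nat_lit 1), (nat_lit 0)],
  [(nat_lit 0), (nat_lit 2), (nat_lit 0), (nat_lit 2), (nat_lit 1), (nat_lit 1)],
  [(nat_lit 0), (nat_lit 1), (nat_lit 2), (nat_lit 1), (nat_lit 2), (nat_lit 1), (nat_lit 0)],
  [(nat_lit 0), (nat_lit 1), (nat_lit 2), (nat_lit 1), (nat_lit 0), (nat_lit 2), (nat_lit 1)],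
  [(nat_lit 1), (nat_lit 1), (nat_lit 1), (nat_lit 2), (nat_lit 1)],
  [(nat_lit 1), (nat_lit 1), (nat_lit 0), (nat_lit 1), (nat_lit 0), (nat_lit 2), (nat_lit 1)],
  [(nat_lit 1), (nat_lit 1), (nat_lit 0), (nat_lit 1), (nat_lit 2), (nat_lit 1), (nat_lit 0)],
  [(nat_lit 1), (nat_lit 1), (nat_lit 1), (nat_lit 0), (nat_lit 2), (nat_lit 1), (nat_lit 0)],
  [(nat_lit 2), (nat_lit 2), (nat_lit 0), (nat_lit 1), (nat_lit 1), (nat_lit 0)],
  [(nat_lit 2), (nat_lit 0), (nat_lit 2), (nat_lit 0), (nat_lit 1), (nat_lit 1)],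
  [(nat_lit 1), (nat_lit 2), (nat_lit 0), (nat_lit 1), (nat_lit 2), (nat_lit 1), (nat_lit 0)],
  [(nat_lit 1), (nat_lit 2), (nat_lit 0), (nat_lit 1), (nat_lit 0), (nat_lit 2), (nat_lit 1)],
  [(nat_lit 2), (nat_lit 2), (nat_lit 1), (nat_lit 1)],
  [(nat_lit 2), (nat_lit 0), (nat_lit 2), (nat_lit 1), (nat_lit 1), (nat_lit 0)],
  [(nat_lit 1), (nat_lit 2), (nat_lit 1), (nat_lit 0), (nat_lit 2), (nat_lit 1), (nat_lit 0)],
  [(nat_lit 1), (nat_lit 2), (nat_lit 1), (nat_lit 2), (nat_lit 1)],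
  [(nat_lit 0), (nat_lit 1), (nat_lit 1), (nat_lit 0), (nat_lit 1), (nat_lit 2), (nat_lit 1), (nat_lit 1)],
  [(nat_lit 0), (nat_lit 1), (nat_lit 1), (nat_lit 1), (nat_lit 0), (nat_lit 2), (nat_lit 1), (nat_lit 1)],
  [(nat_lit 0), (nat_lit 1), (nat_lit 2), (nat_lit 0), (nat_lit 2)],
  [(nat_lit 1), (nat_lit 0), (nat_lit 2), (nat_lit 2)],
  [(nat_lit 0), (nat_lit 2), (nat_lit 2), (nat_lit 0), (nat_lit 1), (nat_lit 1), (nat_lit 1)],
  [(nat_lit 1), (nat_lit 0), (nat_lit 1), (nat_lit 2)],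
  [(nat_lit 0), (nat_lit 1), (nat_lit 1), (nat_lit 0), (nat_lit 2)],
  [(nat_lit 0), (nat_lit 2), (nat_lit 0), (nat_lit 2), (nat_lit 1), (nat_lit 1), (nat_lit 1)],
  [(nat_lit 1), (nat_lit 0), (nat_lit 1), (nat_lit 2), (nat_lit 2), (nat_lit 1), (nat_lit 2)],
  [(nat_lit 0), (nat_lit 1), (nat_lit 2), (nat_lit 0), (nat_lit 1), (nat_lit 2), (nat_lit 1), (nat_lit 1)],
  [(nat_lit 0), (nat_lit 1), (nat_lit 1), (nat_lit 2), (nat_lit 2), (nat_lit 1), (nat_lit 0), (nat_lit 2)],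
  [(nat_lit 0), (nat_lit 1), (nat_lit 1), (nat_lit 0), (nat_lit 2), (nat_lit 2), (nat_lit 1), (nat_lit 2)],
  [(nat_lit 0), (nat_lit 2), (nat_lit 1), (nat_lit 1), (nat_lit 0), (nat_lit 1), (nat_lit 2), (nat_lit 1), (nat_lit 2)],
  [(nat_lit 0), (nat_lit 2), (nat_lit 0), (nat_lit 1), (nat_lit 1), (nat_lit 1), (nat_lit 2), (nat_lit 1), (nat_lit 2)],
  [(nat_lit 0), (nat_lit 2), (nat_lit 1), (nat_lit 1), (nat_lit 1), (nat_lit 0), (nat_lit 2), (nat_lit 1), (nat_lit 2)],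
  [(nat_lit 2), (nat_lit 1), (nat_lit 0), (nat_lit 1), (nat_lit 1), (nat_lit 2), (nat_lit 1), (nat_lit 2)],
  [(nat_lit 2), (nat_lit 1), (nat_lit 0), (nat_lit 2), (nat_lit 2)],
  [(nat_lit 0), (nat_lit 2), (nat_lit 1), (nat_lit 1), (nat_lit 1), (nat_lit 0), (nat_lit 2), (nat_lit 1), (nat_lit 1)],
  [(nat_lit 0), (nat_lit 2), (nat_lit 0), (nat_lit 1), (nat_lit 2), (nat_lit 2)],
  [(nat_lit 0), (nat_lit 2), (nat_lit 1), (nat_lit 1), (nat_lit 0), (nat_lit 1), (nat_lit 2), (nat_lit 1), (nat_lit 1)],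
  [(nat_lit 2), (nat_lit 0), (nat_lit 1), (nat_lit 0), (nat_lit 2), (nat_lit 1), (nat_lit 0)],
  [(nat_lit 2), (nat_lit 1), (nat_lit 0), (nat_lit 2), (nat_lit 1)],
  [(nat_lit 0), (nat_lit 2), (nat_lit 1), (nat_lit 2), (nat_lit 1), (nat_lit 0)],
  [(nat_lit 0), (nat_lit 2), (nat_lit 0), (nat_lit 1), (nat_lit 2), (nat_lit 1)],
  [(nat_lit 1), (nat_lit 2), (nat_lit 2)],
  [(nat_lit 0), (nat_lit 1), (nat_lit 0), (nat_lit 2), (nat_lit 0), (nat_lit 2)],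
  [(nat_lit 1), (nat_lit 1), (nat_lit 0), (nat_lit 1), (nat_lit 2), (nat_lit 1), (nat_lit 0), (nat_lit 1)],
  [(nat_lit 1), (nat_lit 1), (nat_lit 1), (nat_lit 0), (nat_lit 2), (nat_lit 1), (nat_lit 0), (nat_lit 1)],
  [(nat_lit 2), (nat_lit 2), (nat_lit 0), (nat_lit 1), (nat_lit 1), (nat_lit 0), (nat_lit 1)],
  [(nat_lit 0), (nat_lit 1), (nat_lit 0), (nat_lit 1), (nat_lit 0), (nat_lit 2)],
  [(nat_lit 1), (nat_lit 1), (nat_lit 2)],
  [(nat_lit 2), (nat_lit 0), (nat_lit 2), (nat_lit 1), (nat_lit 1), (nat_lit 0), (nat_lit 1)],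
  [(nat_lit 1), (nat_lit 2), (nat_lit 0), (nat_lit 1), (nat_lit 2), (nat_lit 1), (nat_lit 0), (nat_lit 1)],
  [(nat_lit 1), (nat_lit 2), (nat_lit 0), (nat_lit 1), (nat_lit 0), (nat_lit 2), (nat_lit 1), (nat_lit 1)],
  [(nat_lit 1), (nat_lit 1), (nat_lit 0), (nat_lit 2), (nat_lit 2), (nat_lit 1), (nat_lit 0), (nat_lit 2)],
  [(nat_lit 1), (nat_lit 1), (nat_lit 2), (nat_lit 2), (nat_lit 1), (nat_lit 2)],
  [(nat_lit 2), (nat_lit 1), (nat_lit 1), (nat_lit 1), (nat_lit 2), (nat_lit 1), (nat_lit 2)],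
  [(nat_lit 2), (nat_lit 0), (nat_lit 1), (nat_lit 1), (nat_lit 0), (nat_lit 1), (nat_lit 2), (nat_lit 1), (nat_lit 2)],
  [(nat_lit 2), (nat_lit 1), (nat_lit 1), (nat_lit 0), (nat_lit 1), (nat_lit 0), (nat_lit 2), (nat_lit 1), (nat_lit 2)],
  [(nat_lit 2), (nat_lit 0), (nat_lit 1), (nat_lit 1), (nat_lit 1), (nat_lit 0), (nat_lit 2), (nat_lit 1), (nat_lit 2)],
  [(nat_lit 2), (nat_lit 0), (nat_lit 1), (nat_lit 1), (nat_lit 1), (nat_lit 0), (nat_lit 2), (nat_lit 1), (nat_lit 1)],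
  [(nat_lit 0), (nat_lit 2), (nat_lit 0), (nat_lit 1), (nat_lit 0), (nat_lit 2), (nat_lit 2)],
  [(nat_lit 2), (nat_lit 0), (nat_lit 1), (nat_lit 1), (nat_lit 0), (nat_lit 1), (nat_lit 2), (nat_lit 1), (nat_lit 1)],
  [(nat_lit 2), (nat_lit 1), (nat_lit 2), (nat_lit 2)],
  [(nat_lit 0), (nat_lit 2), (nat_lit 0), (nat_lit 1), (nat_lit 0), (nat_lit 2), (nat_lit 1)],
  [(nat_lit 0), (nat_lit 2), (nat_lit 1), (nat_lit 0), (nat_lit 2), (nat_lit 1), (nat_lit 0)],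
  [(nat_lit 2), (nat_lit 1), (nat_lit 2), (nat_lit 1)],
  [(nat_lit 2), (nat_lit 0), (nat_lit 1), (nat_lit 2), (nat_lit 1), (nat_lit 0)],
  [(nat_lit 0), (nat_lit 2), (nat_lit 2), (nat_lit 0), (nat_lit 1), (nat_lit 0), (nat_lit 2), (nat_lit 2)],
  [(nat_lit 2), (nat_lit 2), (nat_lit 1), (nat_lit 2), (nat_lit 2)],
  [(nat_lit 1), (nat_lit 2), (nat_lit 1)],
  [(nat_lit 0), (nat_lit 1), (nat_lit 0), (nat_lit 2), (nat_lit 0), (nat_lit 1)],
  [(nat_lit 2), (nat_lit 0), (nat_lit 2), (nat_lit 0), (nat_lit 1), (nat_lit 2), (nat_lit 2)],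
  [(nat_lit 0), (nat_lit 2), (nat_lit 0), (nat_lit 2), (nat_lit 1), (nat_lit 0), (nat_lit 2), (nat_lit 2)],
  [(nat_lit 1), (nat_lit 2), (nat_lit 0), (nat_lit 1), (nat_lit 0)],
  [(nat_lit 0), (nat_lit 1), (nat_lit 0), (nat_lit 2), (nat_lit 1), (nat_lit 0)],
  [(nat_lit 0), (nat_lit 1), (nat_lit 0), (nat_lit 1), (nat_lit 0), (nat_lit 1)],
  [(nat_lit 0), (nat_lit 1), (nat_lit 0), (nat_lit 1), (nat_lit 1), (nat_lit 0)],
  [(nat_lit 1), (nat_lit 1), (nat_lit 0), (nat_lit 1), (nat_lit 0)],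
  [(nat_lit 1), (nat_lit 1), (nat_lit 1)],
  [(nat_lit 0), (nat_lit 2), (nat_lit 0), (nat_lit 2), (nat_lit 1), (nat_lit 2), (nat_lit 2)],
  [(nat_lit 0), (nat_lit 1), (nat_lit 1), (nat_lit 0), (nat_lit 2), (nat_lit 2), (nat_lit 1), (nat_lit 1)],
  [(nat_lit 0), (nat_lit 1), (nat_lit 2), (nat_lit 1), (nat_lit 0)],
  [(nat_lit 1), (nat_lit 0), (nat_lit 2), (nat_lit 0), (nat_lit 1), (nat_lit 0)],
  [(nat_lit 2), (nat_lit 2), (nat_lit 1), (nat_lit 0), (nat_lit 2), (nat_lit 2)],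
  [(nat_lit 0), (nat_lit 2), (nat_lit 2), (nat_lit 0), (nat_lit 1), (nat_lit 2), (nat_lit 2)],
  [(nat_lit 0), (nat_lit 1), (nat_lit 2), (nat_lit 0), (nat_lit 1)],
  [(nat_lit 1), (nat_lit 0), (nat_lit 2), (nat_lit 1)],
  [(nat_lit 1), (nat_lit 0), (nat_lit 1), (nat_lit 1)],
  [(nat_lit 1), (nat_lit 0), (nat_lit 1), (nat_lit 0), (nat_lit 1), (nat_lit 0)],
  [(nat_lit 0), (nat_lit 1), (nat_lit 1), (nat_lit 1), (nat_lit 0)],
  [(nat_lit 0), (nat_lit 1), (nat_lit 1), (nat_lit 0), (nat_lit 1)],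
  [(nat_lit 2), (nat_lit 1), (nat_lit 1), (nat_lit 1)],
  [(nat_lit 2), (nat_lit 0), (nat_lit 1), (nat_lit 1), (nat_lit 0), (nat_lit 1)],
  [(nat_lit 1), (nat_lit 1), (nat_lit 0), (nat_lit 1), (nat_lit 0), (nat_lit 2), (nat_lit 1), (nat_lit 2)],
  [(nat_lit 1), (nat_lit 1), (nat_lit 1), (nat_lit 2), (nat_lit 1), (nat_lit 2)],
  [(nat_lit 2), (nat_lit 1), (nat_lit 1), (nat_lit 0), (nat_lit 1), (nat_lit 0)],
  [(nat_lit 2), (nat_lit 0), (nat_lit 1), (nat_lit 1), (nat_lit 1), (nat_lit 0)],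
  [(nat_lit 1), (nat_lit 1), (nat_lit 1), (nat_lit 0), (nat_lit 2), (nat_lit 1), (nat_lit 0), (nat_lit 2)],
  [(nat_lit 1), (nat_lit 1), (nat_lit 0), (nat_lit 1), (nat_lit 2), (nat_lit 1), (nat_lit 0), (nat_lit 2)],
  [(nat_lit 2), (nat_lit 0), (nat_lit 2), (nat_lit 0), (nat_lit 1), (nat_lit 2), (nat_lit 1)],
  [(nat_lit 2), (nat_lit 2), (nat_lit 0), (nat_lit 1), (nat_lit 2), (nat_lit 1), (nat_lit 0)],
  [(nat_lit 2), (nat_lit 0), (nat_lit 2), (nat_lit 1), (nat_lit 2), (nat_lit 1), (nat_lit 0)],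
  [(nat_lit 2), (nat_lit 2), (nat_lit 1), (nat_lit 2), (nat_lit 1)],
  [(nat_lit 0), (nat_lit 2), (nat_lit 1), (nat_lit 1), (nat_lit 0), (nat_lit 1)],
  [(nat_lit 0), (nat_lit 2), (nat_lit 0), (nat_lit 1), (nat_lit 1), (nat_lit 1)],
  [(nat_lit 0), (nat_lit 1), (nat_lit 1), (nat_lit 1), (nat_lit 0), (nat_lit 2), (nat_lit 1), (nat_lit 2)],
  [(nat_lit 0), (nat_lit 1), (nat_lit 1), (nat_lit 0), (nat_lit 1), (nat_lit 2), (nat_lit 1), (nat_lit 2)],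
  [(nat_lit 0), (nat_lit 2), (nat_lit 1), (nat_lit 1), (nat_lit 1), (nat_lit 0)],
  [(nat_lit 2), (nat_lit 1), (nat_lit 0), (nat_lit 1), (nat_lit 1)],
  [(nat_lit 1), (nat_lit 0), (nat_lit 1), (nat_lit 1), (nat_lit 2), (nat_lit 1), (nat_lit 2)],
  [(nat_lit 0), (nat_lit 1), (nat_lit 1), (nat_lit 1), (nat_lit 2), (nat_lit 1), (nat_lit 0), (nat_lit 2)],
  [(nat_lit 2), (nat_lit 2), (nat_lit 1), (nat_lit 0), (nat_lit 2), (nat_lit 1)],
  [(nat_lit 0), (nat_lit 2), (nat_lit 2), (nat_lit 0), (nat_lit 1), (nat_lit 2), (nat_lit 1)],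
  [(nat_lit 0), (nat_lit 2), (nat_lit 0), (nat_lit 2), (nat_lit 1), (nat_lit 2), (nat_lit 1)],
  [(nat_lit 0), (nat_lit 2), (nat_lit 2), (nat_lit 1), (nat_lit 2), (nat_lit 1), (nat_lit 0)],
  [(nat_lit 0), (nat_lit 2), (nat_lit 0), (nat_lit 1), (nat_lit 1), (nat_lit 1), (nat_lit 1)],
  [(nat_lit 0), (nat_lit 2), (nat_lit 1), (nat_lit 1), (nat_lit 0), (nat_lit 1), (nat_lit 1)],
  [(nat_lit 0), (nat_lit 1), (nat_lit 1), (nat_lit 1), (nat_lit 0), (nat_lit 2), (nat_lit 1), (nat_lit 2), (nat_lit 1)],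
  [(nat_lit 0), (nat_lit 1), (nat_lit 1), (nat_lit 0), (nat_lit 1), (nat_lit 2), (nat_lit 1), (nat_lit 2), (nat_lit 1)],
  [(nat_lit 2), (nat_lit 1), (nat_lit 0), (nat_lit 1), (nat_lit 1), (nat_lit 1)],
  [(nat_lit 0), (nat_lit 2), (nat_lit 1), (nat_lit 1), (nat_lit 1), (nat_lit 0), (nat_lit 1)],
  [(nat_lit 1), (nat_lit 0), (nat_lit 1), (nat_lit 1), (nat_lit 2), (nat_lit 1), (nat_lit 2), (nat_lit 1)],
  [(nat_lit 0), (nat_lit 1), (nat_lit 1), (nat_lit 1), (nat_lit 2), (nat_lit 1), (nat_lit 0), (nat_lit 2), (nat_lit 1)],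
  [(nat_lit 0), (nat_lit 1), (nat_lit 1), (nat_lit 2), (nat_lit 1), (nat_lit 0), (nat_lit 2), (nat_lit 2)],
  [(nat_lit 0), (nat_lit 1), (nat_lit 1), (nat_lit 0), (nat_lit 2), (nat_lit 1), (nat_lit 2), (nat_lit 2)],
  [(nat_lit 1), (nat_lit 0), (nat_lit 1), (nat_lit 2), (nat_lit 1), (nat_lit 2), (nat_lit 2)],
  [(nat_lit 0), (nat_lit 2), (nat_lit 2), (nat_lit 0), (nat_lit 1), (nat_lit 2), (nat_lit 1), (nat_lit 1)],
  [(nat_lit 0), (nat_lit 1), (nat_lit 1), (nat_lit 2), (nat_lit 2), (nat_lit 1), (nat_lit 0), (nat_lit 2), (nat_lit 1)],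
  [(nat_lit 0), (nat_lit 1), (nat_lit 1), (nat_lit 0), (nat_lit 2), (nat_lit 2), (nat_lit 1), (nat_lit 2), (nat_lit 1)],
  [(nat_lit 1), (nat_lit 0), (nat_lit 2), (nat_lit 0), (nat_lit 2), (nat_lit 1), (nat_lit 0)],
  [(nat_lit 0), (nat_lit 1), (nat_lit 2), (nat_lit 2), (nat_lit 1), (nat_lit 0)],
  [(nat_lit 1), (nat_lit 0), (nat_lit 1), (nat_lit 2), (nat_lit 2), (nat_lit 1), (nat_lit 2), (nat_lit 1)],
  [(nat_lit 0), (nat_lit 1), (nat_lit 1), (nat_lit 2), (nat_lit 2), (nat_lit 1), (nat_lit 2), (nat_lit 1), (nat_lit 0)],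
  [(nat_lit 1), (nat_lit 0), (nat_lit 2), (nat_lit 2), (nat_lit 1)],
  [(nat_lit 0), (nat_lit 1), (nat_lit 2), (nat_lit 0), (nat_lit 2), (nat_lit 1)],
  [(nat_lit 0), (nat_lit 1), (nat_lit 1), (nat_lit 2), (nat_lit 1), (nat_lit 0)],
  [(nat_lit 0), (nat_lit 1), (nat_lit 1), (nat_lit 0), (nat_lit 2), (nat_lit 1)],
  [(nat_lit 1), (nat_lit 0), (nat_lit 1), (nat_lit 2), (nat_lit 1)],
  [(nat_lit 1), (nat_lit 0), (nat_lit 1), (nat_lit 0), (nat_lit 2), (nat_lit 1), (nat_lit 0)],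
  [(nat_lit 0), (nat_lit 2), (nat_lit 0), (nat_lit 1), (nat_lit 2), (nat_lit 1), (nat_lit 1)],
  [(nat_lit 0), (nat_lit 1), (nat_lit 2), (nat_lit 2), (nat_lit 1), (nat_lit 0), (nat_lit 2)],
  [(nat_lit 0), (nat_lit 1), (nat_lit 1), (nat_lit 2), (nat_lit 2), (nat_lit 1), (nat_lit 0), (nat_lit 2), (nat_lit 1), (nat_lit 2)],
  [(nat_lit 0), (nat_lit 1), (nat_lit 1), (nat_lit 0), (nat_lit 2), (nat_lit 2), (nat_lit 1), (nat_lit 2), (nat_lit 1), (nat_lit 2)],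
  [(nat_lit 1), (nat_lit 0), (nat_lit 2), (nat_lit 2), (nat_lit 1), (nat_lit 2)],
  [(nat_lit 0), (nat_lit 1), (nat_lit 2), (nat_lit 0), (nat_lit 2), (nat_lit 1), (nat_lit 2)],
  [(nat_lit 1), (nat_lit 0), (nat_lit 1), (nat_lit 2), (nat_lit 2), (nat_lit 1), (nat_lit 2), (nat_lit 1), (nat_lit 2)],
  [(nat_lit 0), (nat_lit 1), (nat_lit 1), (nat_lit 2), (nat_lit 2), (nat_lit 1), (nat_lit 2), (nat_lit 1), (nat_lit 0), (nat_lit 2)],
  [(nat_lit 0), (nat_lit 1), (nat_lit 1), (nat_lit 2), (nat_lit 1), (nat_lit 0), (nat_lit 2)],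
  [(nat_lit 0), (nat_lit 1), (nat_lit 1), (nat_lit 0), (nat_lit 2), (nat_lit 1), (nat_lit 2)],
  [(nat_lit 1), (nat_lit 0), (nat_lit 1), (nat_lit 2), (nat_lit 1), (nat_lit 2)],
  [(nat_lit 1), (nat_lit 0), (nat_lit 1), (nat_lit 0), (nat_lit 2), (nat_lit 1), (nat_lit 0), (nat_lit 2)],
  [(nat_lit 2), (nat_lit 0), (nat_lit 1), (nat_lit 1), (nat_lit 0), (nat_lit 1), (nat_lit 1)],
  [(nat_lit 2), (nat_lit 1), (nat_lit 1), (nat_lit 1), (nat_lit 1)],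
  [(nat_lit 1), (nat_lit 1), (nat_lit 0), (nat_lit 1), (nat_lit 0), (nat_lit 2), (nat_lit 1), (nat_lit 2), (nat_lit 1)],
  [(nat_lit 1), (nat_lit 1), (nat_lit 1), (nat_lit 2), (nat_lit 1), (nat_lit 2), (nat_lit 1)],
  [(nat_lit 2), (nat_lit 0), (nat_lit 1), (nat_lit 1), (nat_lit 1), (nat_lit 0), (nat_lit 1)],
  [(nat_lit 2), (nat_lit 1), (nat_lit 1), (nat_lit 0), (nat_lit 1), (nat_lit 0), (nat_lit 1)],
  [(nat_lit 1), (nat_lit 1), (nat_lit 1), (nat_lit 0), (nat_lit 2), (nat_lit 1), (nat_lit 0), (nat_lit 2), (nat_lit 1)],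
  [(nat_lit 1), (nat_lit 1), (nat_lit 0), (nat_lit 1), (nat_lit 2), (nat_lit 1), (nat_lit 0), (nat_lit 2), (nat_lit 1)],
  [(nat_lit 1), (nat_lit 1), (nat_lit 0), (nat_lit 2), (nat_lit 1), (nat_lit 0), (nat_lit 2), (nat_lit 2)],
  [(nat_lit 1), (nat_lit 1), (nat_lit 2), (nat_lit 1), (nat_lit 2), (nat_lit 2)],
  [(nat_lit 2), (nat_lit 0), (nat_lit 2), (nat_lit 0), (nat_lit 1), (nat_lit 2), (nat_lit 1), (nat_lit 1)],
  [(nat_lit 2), (nat_lit 2), (nat_lit 0), (nat_lit 1), (nat_lit 2), (nat_lit 1), (nat_lit 0), (nat_lit 1)],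
  [(nat_lit 1), (nat_lit 1), (nat_lit 0), (nat_lit 2), (nat_lit 2), (nat_lit 1), (nat_lit 0), (nat_lit 2), (nat_lit 1)],
  [(nat_lit 1), (nat_lit 1), (nat_lit 2), (nat_lit 2), (nat_lit 1), (nat_lit 2), (nat_lit 1)],
  [(nat_lit 0), (nat_lit 1), (nat_lit 0), (nat_lit 2), (nat_lit 0), (nat_lit 2), (nat_lit 1)],
  [(nat_lit 1), (nat_lit 2), (nat_lit 2), (nat_lit 1)],
  [(nat_lit 1), (nat_lit 1), (nat_lit 2), (nat_lit 2), (nat_lit 1), (nat_lit 0), (nat_lit 2), (nat_lit 1), (nat_lit 0)],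
  [(nat_lit 1), (nat_lit 1), (nat_lit 0), (nat_lit 2), (nat_lit 2), (nat_lit 1), (nat_lit 2), (nat_lit 1), (nat_lit 0)],
  [(nat_lit 0), (nat_lit 1), (nat_lit 0), (nat_lit 2), (nat_lit 2), (nat_lit 1), (nat_lit 0)],
  [(nat_lit 1), (nat_lit 2), (nat_lit 0), (nat_lit 2), (nat_lit 1), (nat_lit 0)],
  [(nat_lit 1), (nat_lit 1), (nat_lit 0), (nat_lit 2), (nat_lit 1), (nat_lit 0)],
  [(nat_lit 1), (nat_lit 1), (nat_lit 2), (nat_lit 1)],
  [(nat_lit 0), (nat_lit 1), (nat_lit 0), (nat_lit 1), (nat_lit 0), (nat_lit 2), (nat_lit 1)],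
  [(nat_lit 0), (nat_lit 1), (nat_lit 0), (nat_lit 1), (nat_lit 2), (nat_lit 1), (nat_lit 0)],
  [(nat_lit 2), (nat_lit 0), (nat_lit 1), (nat_lit 2), (nat_lit 1), (nat_lit 0), (nat_lit 1)],
  [(nat_lit 1), (nat_lit 2), (nat_lit 2), (nat_lit 1), (nat_lit 2)],
  [(nat_lit 1), (nat_lit 1), (nat_lit 0), (nat_lit 2), (nat_lit 2), (nat_lit 1), (nat_lit 0), (nat_lit 2), (nat_lit 1), (nat_lit 2)],
  [(nat_lit 1), (nat_lit 1), (nat_lit 2), (nat_lit 2), (nat_lit 1), (nat_lit 2), (nat_lit 1), (nat_lit 2)],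
  [(nat_lit 2), (nat_lit 0), (nat_lit 1), (nat_lit 2), (nat_lit 1), (nat_lit 1), (nat_lit 0)],
  [(nat_lit 1), (nat_lit 2), (nat_lit 0), (nat_lit 2), (nat_lit 1), (nat_lit 0), (nat_lit 2)],
  [(nat_lit 1), (nat_lit 1), (nat_lit 2), (nat_lit 2), (nat_lit 1), (nat_lit 0), (nat_lit 2), (nat_lit 1), (nat_lit 0), (nat_lit 2)],
  [(nat_lit 1), (nat_lit 1), (nat_lit 0), (nat_lit 2), (nat_lit 2), (nat_lit 1), (nat_lit 2), (nat_lit 1), (nat_lit 0), (nat_lit 2)],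
  [(nat_lit 1), (nat_lit 1), (nat_lit 0), (nat_lit 2), (nat_lit 1), (nat_lit 0), (nat_lit 2)],
  [(nat_lit 1), (nat_lit 1), (nat_lit 2), (nat_lit 1), (nat_lit 2)],
  [(nat_lit 0), (nat_lit 1), (nat_lit 0), (nat_lit 1), (nat_lit 0), (nat_lit 2), (nat_lit 1), (nat_lit 2)],
  [(nat_lit 0), (nat_lit 1), (nat_lit 0), (nat_lit 1), (nat_lit 2), (nat_lit 1), (nat_lit 0), (nat_lit 2)],
  [(nat_lit 0), (nat_lit 1), (nat_lit 1), (nat_lit 1), (nat_lit 0), (nat_lit 1)],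
  [(nat_lit 0), (nat_lit 1), (nat_lit 1), (nat_lit 0), (nat_lit 1), (nat_lit 1)],
  [(nat_lit 0), (nat_lit 1), (nat_lit 1), (nat_lit 1), (nat_lit 0), (nat_lit 1), (nat_lit 2)],
  [(nat_lit 0), (nat_lit 1), (nat_lit 1), (nat_lit 0), (nat_lit 1), (nat_lit 1), (nat_lit 2)],
  [(nat_lit 0), (nat_lit 1), (nat_lit 2), (nat_lit 1), (nat_lit 1), (nat_lit 0)],
  [(nat_lit 0), (nat_lit 1), (nat_lit 2), (nat_lit 1), (nat_lit 0), (nat_lit 1)],
  [(nat_lit 1), (nat_lit 0), (nat_lit 1), (nat_lit 1), (nat_lit 1)],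
  [(nat_lit 0), (nat_lit 1), (nat_lit 1), (nat_lit 1), (nat_lit 1), (nat_lit 0)],
  [(nat_lit 1), (nat_lit 0), (nat_lit 1), (nat_lit 1), (nat_lit 1), (nat_lit 2)],
  [(nat_lit 0), (nat_lit 1), (nat_lit 1), (nat_lit 1), (nat_lit 1), (nat_lit 0), (nat_lit 2)],
  [(nat_lit 1), (nat_lit 0), (nat_lit 2), (nat_lit 1), (nat_lit 1)],
  [(nat_lit 0), (nat_lit 1), (nat_lit 2), (nat_lit 0), (nat_lit 1), (nat_lit 1)],
  [(nat_lit 1), (nat_lit 1), (nat_lit 0), (nat_lit 1), (nat_lit 0), (nat_lit 1)],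
  [(nat_lit 1), (nat_lit 1), (nat_lit 1), (nat_lit 1)],
  [(nat_lit 1), (nat_lit 1), (nat_lit 0), (nat_lit 1), (nat_lit 0), (nat_lit 1), (nat_lit 2)],
  [(nat_lit 1), (nat_lit 1), (nat_lit 1), (nat_lit 1), (nat_lit 2)],
  [(nat_lit 1), (nat_lit 2), (nat_lit 1), (nat_lit 0), (nat_lit 1), (nat_lit 0)],
  [(nat_lit 1), (nat_lit 2), (nat_lit 1), (nat_lit 1)],
  [(nat_lit 1), (nat_lit 1), (nat_lit 1), (nat_lit 0), (nat_lit 1), (nat_lit 0)],
  [(nat_lit 1), (nat_lit 1), (nat_lit 0), (nat_lit 1), (nat_lit 1), (nat_lit 0)],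
  [(nat_lit 1), (nat_lit 1), (nat_lit 1), (nat_lit 0), (nat_lit 1), (nat_lit 0), (nat_lit 2)],
  [(nat_lit 1), (nat_lit 1), (nat_lit 0), (nat_lit 1), (nat_lit 1), (nat_lit 0), (nat_lit 2)],
  [(nat_lit 1), (nat_lit 2), (nat_lit 0), (nat_lit 1), (nat_lit 1), (nat_lit 0)],
  [(nat_lit 1), (nat_lit 2), (nat_lit 0), (nat_lit 1), (nat_lit 0), (nat_lit 1)],
  [(nat_lit 1), (nat_lit 2), (nat_lit 2), (nat_lit 1), (nat_lit 0), (nat_lit 2), (nat_lit 1), (nat_lit 2)],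
  [(nat_lit 1), (nat_lit 2), (nat_lit 2), (nat_lit 1), (nat_lit 2), (nat_lit 1), (nat_lit 0), (nat_lit 2)],
  [(nat_lit 0), (nat_lit 1), (nat_lit 0), (nat_lit 2), (nat_lit 2), (nat_lit 1), (nat_lit 2), (nat_lit 1)],
  [(nat_lit 1), (nat_lit 2), (nat_lit 0), (nat_lit 2), (nat_lit 1), (nat_lit 2), (nat_lit 1)],
  [(nat_lit 1), (nat_lit 2), (nat_lit 0), (nat_lit 2), (nat_lit 1), (nat_lit 2), (nat_lit 1), (nat_lit 2)],
  [(nat_lit 0), (nat_lit 1), (nat_lit 0), (nat_lit 2), (nat_lit 2), (nat_lit 1), (nat_lit 2), (nat_lit 1), (nat_lit 2)],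
  [(nat_lit 1), (nat_lit 2), (nat_lit 2), (nat_lit 1), (nat_lit 2), (nat_lit 1), (nat_lit 0)],
  [(nat_lit 1), (nat_lit 2), (nat_lit 2), (nat_lit 1), (nat_lit 0), (nat_lit 2), (nat_lit 1)],
  [(nat_lit 1), (nat_lit 1), (nat_lit 2), (nat_lit 1), (nat_lit 0), (nat_lit 2), (nat_lit 1)],
  [(nat_lit 1), (nat_lit 1), (nat_lit 0), (nat_lit 2), (nat_lit 1), (nat_lit 2), (nat_lit 1)],
  [(nat_lit 0), (nat_lit 1), (nat_lit 0), (nat_lit 1), (nat_lit 2), (nat_lit 1), (nat_lit 2), (nat_lit 1)],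
  [(nat_lit 1), (nat_lit 1), (nat_lit 2), (nat_lit 1), (nat_lit 2), (nat_lit 1), (nat_lit 0)],
  [(nat_lit 1), (nat_lit 0), (nat_lit 2), (nat_lit 2), (nat_lit 1), (nat_lit 0), (nat_lit 1)],
  [(nat_lit 1), (nat_lit 0), (nat_lit 2), (nat_lit 2), (nat_lit 1), (nat_lit 1), (nat_lit 0)],
  [(nat_lit 1), (nat_lit 0), (nat_lit 2), (nat_lit 0), (nat_lit 2), (nat_lit 1), (nat_lit 1)],
  [(nat_lit 0), (nat_lit 1), (nat_lit 2), (nat_lit 2), (nat_lit 1), (nat_lit 1)],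
  [(nat_lit 1), (nat_lit 0), (nat_lit 1), (nat_lit 1), (nat_lit 0), (nat_lit 1), (nat_lit 2), (nat_lit 1), (nat_lit 2), (nat_lit 2)],
  [(nat_lit 1), (nat_lit 0), (nat_lit 1), (nat_lit 0), (nat_lit 1), (nat_lit 1), (nat_lit 2), (nat_lit 1), (nat_lit 2), (nat_lit 2)],
  [(nat_lit 0), (nat_lit 1), (nat_lit 1), (nat_lit 1), (nat_lit 1), (nat_lit 2), (nat_lit 1), (nat_lit 2), (nat_lit 2)],
  [(nat_lit 1), (nat_lit 0), (nat_lit 1), (nat_lit 1), (nat_lit 1), (nat_lit 0), (nat_lit 2), (nat_lit 1), (nat_lit 2), (nat_lit 2)],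
  [(nat_lit 0), (nat_lit 2), (nat_lit 2)],
  [(nat_lit 1), (nat_lit 0), (nat_lit 1), (nat_lit 2), (nat_lit 1), (nat_lit 1), (nat_lit 0)],
  [(nat_lit 1), (nat_lit 0), (nat_lit 1), (nat_lit 2), (nat_lit 1), (nat_lit 0), (nat_lit 1)],
  [(nat_lit 0), (nat_lit 2), (nat_lit 0), (nat_lit 2), (nat_lit 0)],
  [(nat_lit 0), (nat_lit 1), (nat_lit 2), (nat_lit 2), (nat_lit 1), (nat_lit 2), (nat_lit 1), (nat_lit 2)],
  [(nat_lit 1), (nat_lit 0), (nat_lit 2), (nat_lit 0), (nat_lit 2), (nat_lit 1), (nat_lit 2), (nat_lit 1), (nat_lit 2)],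
  [(nat_lit 1), (nat_lit 0), (nat_lit 2), (nat_lit 2), (nat_lit 1), (nat_lit 0), (nat_lit 2), (nat_lit 1)],
  [(nat_lit 1), (nat_lit 0), (nat_lit 2), (nat_lit 2), (nat_lit 1), (nat_lit 2), (nat_lit 1), (nat_lit 0)],
  [(nat_lit 1), (nat_lit 0), (nat_lit 2), (nat_lit 2), (nat_lit 1), (nat_lit 2), (nat_lit 1), (nat_lit 0), (nat_lit 2)],
  [(nat_lit 1), (nat_lit 0), (nat_lit 2), (nat_lit 2), (nat_lit 1), (nat_lit 0), (nat_lit 2), (nat_lit 1), (nat_lit 2)],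
  [(nat_lit 1), (nat_lit 0), (nat_lit 2), (nat_lit 0), (nat_lit 2), (nat_lit 1), (nat_lit 2), (nat_lit 1)],
  [(nat_lit 0), (nat_lit 1), (nat_lit 2), (nat_lit 2), (nat_lit 1), (nat_lit 2), (nat_lit 1)],
  [(nat_lit 1), (nat_lit 0), (nat_lit 1), (nat_lit 2), (nat_lit 1), (nat_lit 2), (nat_lit 1), (nat_lit 0)],
  [(nat_lit 0), (nat_lit 1), (nat_lit 1), (nat_lit 2), (nat_lit 1), (nat_lit 2), (nat_lit 1)],
  [(nat_lit 1), (nat_lit 0), (nat_lit 1), (nat_lit 0), (nat_lit 2), (nat_lit 1), (nat_lit 2), (nat_lit 1)],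
  [(nat_lit 1), (nat_lit 0), (nat_lit 1), (nat_lit 2), (nat_lit 1), (nat_lit 0), (nat_lit 2), (nat_lit 1)],
  [(nat_lit 0), (nat_lit 1), (nat_lit 0), (nat_lit 2), (nat_lit 1), (nat_lit 1), (nat_lit 1), (nat_lit 2)],
  [(nat_lit 1), (nat_lit 2), (nat_lit 0), (nat_lit 1), (nat_lit 1), (nat_lit 1), (nat_lit 2)],
  [(nat_lit 2), (nat_lit 0)],
  [(nat_lit 1), (nat_lit 1), (nat_lit 0), (nat_lit 1), (nat_lit 1), (nat_lit 1), (nat_lit 2)],
  [(nat_lit 1), (nat_lit 2), (nat_lit 1), (nat_lit 1), (nat_lit 0), (nat_lit 1), (nat_lit 2)],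
  [(nat_lit 1), (nat_lit 2), (nat_lit 1), (nat_lit 0), (nat_lit 1), (nat_lit 1), (nat_lit 2)],
  [(nat_lit 0), (nat_lit 1), (nat_lit 0), (nat_lit 1), (nat_lit 1), (nat_lit 1), (nat_lit 1), (nat_lit 2)],
  [(nat_lit 2), (nat_lit 2), (nat_lit 0), (nat_lit 2), (nat_lit 2)],
  [(nat_lit 1), (nat_lit 1), (nat_lit 0), (nat_lit 1), (nat_lit 1), (nat_lit 2), (nat_lit 1), (nat_lit 2)],
  [(nat_lit 1), (nat_lit 1), (nat_lit 1), (nat_lit 0), (nat_lit 1), (nat_lit 2), (nat_lit 1), (nat_lit 2)],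
  [(nat_lit 1), (nat_lit 1), (nat_lit 1), (nat_lit 1), (nat_lit 0), (nat_lit 2), (nat_lit 1), (nat_lit 2)],
  [(nat_lit 0), (nat_lit 1), (nat_lit 0), (nat_lit 1), (nat_lit 1), (nat_lit 1), (nat_lit 2), (nat_lit 1), (nat_lit 2)],
  [(nat_lit 0), (nat_lit 1), (nat_lit 0), (nat_lit 2), (nat_lit 2), (nat_lit 1), (nat_lit 1)],
  [(nat_lit 1), (nat_lit 2), (nat_lit 0), (nat_lit 2), (nat_lit 1), (nat_lit 1)],
  [(nat_lit 1), (nat_lit 2), (nat_lit 2), (nat_lit 1), (nat_lit 1), (nat_lit 0)],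
  [(nat_lit 1), (nat_lit 2), (nat_lit 2), (nat_lit 1), (nat_lit 0), (nat_lit 1)],
  [(nat_lit 1), (nat_lit 1), (nat_lit 1), (nat_lit 1), (nat_lit 0), (nat_lit 2), (nat_lit 1), (nat_lit 2), (nat_lit 2)],
  [(nat_lit 0), (nat_lit 1), (nat_lit 0), (nat_lit 1), (nat_lit 1), (nat_lit 1), (nat_lit 2), (nat_lit 1), (nat_lit 2), (nat_lit 2)],
  [(nat_lit 1), (nat_lit 1), (nat_lit 0), (nat_lit 1), (nat_lit 1), (nat_lit 2), (nat_lit 1), (nat_lit 2), (nat_lit 2)],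
  [(nat_lit 1), (nat_lit 1), (nat_lit 1), (nat_lit 0), (nat_lit 1), (nat_lit 2), (nat_lit 1), (nat_lit 2), (nat_lit 2)],
  [(nat_lit 1), (nat_lit 1), (nat_lit 0), (nat_lit 2), (nat_lit 1), (nat_lit 1)],
  [(nat_lit 2), (nat_lit 0), (nat_lit 2)],
  [(nat_lit 2), (nat_lit 2), (nat_lit 0)],
  [(nat_lit 0), (nat_lit 1), (nat_lit 0), (nat_lit 1), (nat_lit 2), (nat_lit 1), (nat_lit 1)],
  [(nat_lit 1), (nat_lit 0), (nat_lit 2), (nat_lit 1), (nat_lit 0), (nat_lit 1), (nat_lit 1), (nat_lit 2)],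
  [(nat_lit 1), (nat_lit 0), (nat_lit 2), (nat_lit 1), (nat_lit 1), (nat_lit 0), (nat_lit 1), (nat_lit 2)],
  [(nat_lit 1), (nat_lit 0), (nat_lit 1), (nat_lit 1), (nat_lit 1), (nat_lit 0), (nat_lit 1), (nat_lit 2)],
  [(nat_lit 0), (nat_lit 2)],
  [(nat_lit 1), (nat_lit 0), (nat_lit 2), (nat_lit 0), (nat_lit 1), (nat_lit 1), (nat_lit 1), (nat_lit 2)],
  [(nat_lit 0), (nat_lit 1), (nat_lit 2), (nat_lit 1), (nat_lit 1), (nat_lit 1), (nat_lit 2)],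
  [(nat_lit 0), (nat_lit 2), (nat_lit 0), (nat_lit 2), (nat_lit 0), (nat_lit 2), (nat_lit 2)],
  [(nat_lit 1), (nat_lit 0), (nat_lit 1), (nat_lit 1), (nat_lit 0), (nat_lit 1), (nat_lit 1), (nat_lit 2)],
  [(nat_lit 0), (nat_lit 1), (nat_lit 1), (nat_lit 1), (nat_lit 1), (nat_lit 2), (nat_lit 1), (nat_lit 2)],
  [(nat_lit 1), (nat_lit 0), (nat_lit 1), (nat_lit 1), (nat_lit 1), (nat_lit 0), (nat_lit 2), (nat_lit 1), (nat_lit 2)],
  [(nat_lit 1), (nat_lit 0), (nat_lit 1), (nat_lit 1), (nat_lit 0), (nat_lit 1), (nat_lit 2), (nat_lit 1), (nat_lit 2)],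
  [(nat_lit 1), (nat_lit 0), (nat_lit 1), (nat_lit 0), (nat_lit 1), (nat_lit 1), (nat_lit 2), (nat_lit 1), (nat_lit 2)],
  [(nat_lit 1), (nat_lit 0), (nat_lit 2), (nat_lit 1), (nat_lit 1), (nat_lit 0), (nat_lit 1)],
  [(nat_lit 1), (nat_lit 0), (nat_lit 2), (nat_lit 1), (nat_lit 0), (nat_lit 1), (nat_lit 1)],
  [(nat_lit 0), (nat_lit 1), (nat_lit 1), (nat_lit 1), (nat_lit 1), (nat_lit 2), (nat_lit 1)],
  [(nat_lit 1), (nat_lit 0), (nat_lit 1), (nat_lit 1), (nat_lit 1), (nat_lit 0), (nat_lit 2), (nat_lit 1)],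
  [(nat_lit 0), (nat_lit 1), (nat_lit 2), (nat_lit 1), (nat_lit 1), (nat_lit 1)],
  [(nat_lit 1), (nat_lit 0), (nat_lit 2), (nat_lit 0), (nat_lit 1), (nat_lit 1), (nat_lit 1)],
  [(nat_lit 0), (nat_lit 2), (nat_lit 0), (nat_lit 2), (nat_lit 0), (nat_lit 2)],
  [(nat_lit 1), (nat_lit 0), (nat_lit 1), (nat_lit 1), (nat_lit 0), (nat_lit 1), (nat_lit 1)],
  [(nat_lit 1), (nat_lit 0), (nat_lit 1), (nat_lit 1), (nat_lit 0), (nat_lit 1), (nat_lit 2), (nat_lit 1)],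
  [(nat_lit 1), (nat_lit 0), (nat_lit 1), (nat_lit 0), (nat_lit 1), (nat_lit 1), (nat_lit 2), (nat_lit 1)],
  [(nat_lit 1), (nat_lit 0), (nat_lit 1), (nat_lit 1), (nat_lit 1), (nat_lit 0), (nat_lit 1)],
  [(nat_lit 0)],
  [(nat_lit 1), (nat_lit 2), (nat_lit 0), (nat_lit 1), (nat_lit 1), (nat_lit 1)],
  [(nat_lit 0), (nat_lit 1), (nat_lit 0), (nat_lit 2), (nat_lit 1), (nat_lit 1), (nat_lit 1)],
  [(nat_lit 1), (nat_lit 1), (nat_lit 0), (nat_lit 1), (nat_lit 1), (nat_lit 2), (nat_lit 1)],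
  [(nat_lit 1), (nat_lit 1), (nat_lit 1), (nat_lit 0), (nat_lit 1), (nat_lit 2), (nat_lit 1)],
  [(nat_lit 1), (nat_lit 2), (nat_lit 1), (nat_lit 0), (nat_lit 1), (nat_lit 1)],
  [(nat_lit 1), (nat_lit 2), (nat_lit 1), (nat_lit 1), (nat_lit 0), (nat_lit 1)],
  [(nat_lit 0), (nat_lit 1), (nat_lit 0), (nat_lit 1), (nat_lit 1), (nat_lit 1), (nat_lit 1)],
  [(nat_lit 2), (nat_lit 2), (nat_lit 0), (nat_lit 2)],
  [(nat_lit 1), (nat_lit 1), (nat_lit 1), (nat_lit 1), (nat_lit 0), (nat_lit 2), (nat_lit 1)],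
  [(nat_lit 0), (nat_lit 1), (nat_lit 0), (nat_lit 1), (nat_lit 1), (nat_lit 1), (nat_lit 2), (nat_lit 1)],
  [(nat_lit 2), (nat_lit 0), (nat_lit 2), (nat_lit 2)],
  [(nat_lit 1), (nat_lit 1), (nat_lit 0), (nat_lit 1), (nat_lit 1), (nat_lit 1)],
  [(nat_lit 1), (nat_lit 2), (nat_lit 2), (nat_lit 1), (nat_lit 2), (nat_lit 1), (nat_lit 2)],
  [(nat_lit 1), (nat_lit 2), (nat_lit 2), (nat_lit 1), (nat_lit 0), (nat_lit 2), (nat_lit 1), (nat_lit 0), (nat_lit 2)],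
  [(nat_lit 1), (nat_lit 2), (nat_lit 0), (nat_lit 2), (nat_lit 1), (nat_lit 2), (nat_lit 1), (nat_lit 0)],
  [(nat_lit 1), (nat_lit 2), (nat_lit 0), (nat_lit 2), (nat_lit 1), (nat_lit 0), (nat_lit 2), (nat_lit 1)],
  [(nat_lit 1), (nat_lit 2), (nat_lit 0), (nat_lit 2), (nat_lit 1), (nat_lit 0), (nat_lit 2), (nat_lit 1), (nat_lit 2)],
  [(nat_lit 1), (nat_lit 2), (nat_lit 0), (nat_lit 2), (nat_lit 1), (nat_lit 2), (nat_lit 1), (nat_lit 0), (nat_lit 2)],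
  [(nat_lit 1), (nat_lit 2), (nat_lit 2), (nat_lit 1), (nat_lit 0), (nat_lit 2), (nat_lit 1), (nat_lit 0)],
  [(nat_lit 1), (nat_lit 2), (nat_lit 2), (nat_lit 1), (nat_lit 2), (nat_lit 1)],
  [(nat_lit 1), (nat_lit 1), (nat_lit 0), (nat_lit 2), (nat_lit 1), (nat_lit 0), (nat_lit 2), (nat_lit 1)],
  [(nat_lit 1), (nat_lit 1), (nat_lit 2), (nat_lit 1), (nat_lit 2), (nat_lit 1)],
  [(nat_lit 1), (nat_lit 1), (nat_lit 2), (nat_lit 1), (nat_lit 0), (nat_lit 2), (nat_lit 1), (nat_lit 0)],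
  [(nat_lit 1), (nat_lit 1), (nat_lit 0), (nat_lit 2), (nat_lit 1), (nat_lit 2), (nat_lit 1), (nat_lit 0)],
  [(nat_lit 1), (nat_lit 0), (nat_lit 2), (nat_lit 2), (nat_lit 1), (nat_lit 1)],
  [(nat_lit 0), (nat_lit 1), (nat_lit 2), (nat_lit 0), (nat_lit 2), (nat_lit 1), (nat_lit 1)],
  [(nat_lit 0), (nat_lit 1), (nat_lit 2), (nat_lit 2), (nat_lit 1), (nat_lit 1), (nat_lit 0)],
  [(nat_lit 0), (nat_lit 1), (nat_lit 2), (nat_lit 2), (nat_lit 1), (nat_lit 0), (nat_lit 1)],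
  [(nat_lit 0), (nat_lit 1), (nat_lit 1), (nat_lit 1), (nat_lit 1), (nat_lit 0), (nat_lit 2), (nat_lit 1), (nat_lit 2), (nat_lit 2)],
  [(nat_lit 1), (nat_lit 0), (nat_lit 1), (nat_lit 1), (nat_lit 1), (nat_lit 2), (nat_lit 1), (nat_lit 2), (nat_lit 2)],
  [(nat_lit 0), (nat_lit 1), (nat_lit 1), (nat_lit 0), (nat_lit 1), (nat_lit 1), (nat_lit 2), (nat_lit 1), (nat_lit 2), (nat_lit 2)],
  [(nat_lit 0), (nat_lit 1), (nat_lit 1), (nat_lit 1), (nat_lit 0), (nat_lit 1), (nat_lit 2), (nat_lit 1), (nat_lit 2), (nat_lit 2)],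
  [(nat_lit 0), (nat_lit 1), (nat_lit 1), (nat_lit 0), (nat_lit 2), (nat_lit 1), (nat_lit 1)],
  [(nat_lit 0), (nat_lit 2), (nat_lit 0), (nat_lit 2)],
  [(nat_lit 0), (nat_lit 2), (nat_lit 2), (nat_lit 0)],
  [(nat_lit 1), (nat_lit 0), (nat_lit 1), (nat_lit 2), (nat_lit 1), (nat_lit 1)],
  [(nat_lit 0), (nat_lit 1), (nat_lit 2), (nat_lit 2), (nat_lit 1), (nat_lit 0), (nat_lit 2), (nat_lit 1), (nat_lit 2)],
  [(nat_lit 0), (nat_lit 1), (nat_lit 2), (nat_lit 2), (nat_lit 1), (nat_lit 2), (nat_lit 1), (nat_lit 0), (nat_lit 2)],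
  [(nat_lit 1), (nat_lit 0), (nat_lit 2), (nat_lit 2), (nat_lit 1), (nat_lit 2), (nat_lit 1)],
  [(nat_lit 0), (nat_lit 1), (nat_lit 2), (nat_lit 0), (nat_lit 2), (nat_lit 1), (nat_lit 2), (nat_lit 1)],
  [(nat_lit 0), (nat_lit 1), (nat_lit 2), (nat_lit 0), (nat_lit 2), (nat_lit 1), (nat_lit 2), (nat_lit 1), (nat_lit 2)],
  [(nat_lit 1), (nat_lit 0), (nat_lit 2), (nat_lit 2), (nat_lit 1), (nat_lit 2), (nat_lit 1), (nat_lit 2)],
  [(nat_lit 0), (nat_lit 1), (nat_lit 2), (nat_lit 2), (nat_lit 1), (nat_lit 2), (nat_lit 1), (nat_lit 0)],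
  [(nat_lit 0), (nat_lit 1), (nat_lit 2), (nat_lit 2), (nat_lit 1), (nat_lit 0), (nat_lit 2), (nat_lit 1)],
  [(nat_lit 0), (nat_lit 1), (nat_lit 1), (nat_lit 2), (nat_lit 1), (nat_lit 0), (nat_lit 2), (nat_lit 1)],
  [(nat_lit 0), (nat_lit 1), (nat_lit 1), (nat_lit 0), (nat_lit 2), (nat_lit 1), (nat_lit 2), (nat_lit 1)],
  [(nat_lit 1), (nat_lit 0), (nat_lit 1), (nat_lit 2), (nat_lit 1), (nat_lit 2), (nat_lit 1)],
  [(nat_lit 0), (nat_lit 1), (nat_lit 1), (nat_lit 2), (nat_lit 1), (nat_lit 2), (nat_lit 1), (nat_lit 0)],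
  [(nat_lit 1), (nat_lit 2), (nat_lit 0), (nat_lit 1), (nat_lit 1), (nat_lit 0), (nat_lit 1), (nat_lit 2)],
  [(nat_lit 1), (nat_lit 2), (nat_lit 0), (nat_lit 1), (nat_lit 0), (nat_lit 1), (nat_lit 1), (nat_lit 2)],
  [(nat_lit 1), (nat_lit 1), (nat_lit 0), (nat_lit 1), (nat_lit 0), (nat_lit 1), (nat_lit 1), (nat_lit 2)],
  [(nat_lit 2)],
  [(nat_lit 1), (nat_lit 2), (nat_lit 1), (nat_lit 0), (nat_lit 1), (nat_lit 0), (nat_lit 1), (nat_lit 2)],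
  [(nat_lit 1), (nat_lit 2), (nat_lit 1), (nat_lit 1), (nat_lit 1), (nat_lit 2)],
  [(nat_lit 2), (nat_lit 0), (nat_lit 2), (nat_lit 0), (nat_lit 2), (nat_lit 2)],
  [(nat_lit 1), (nat_lit 1), (nat_lit 0), (nat_lit 1), (nat_lit 1), (nat_lit 0), (nat_lit 1), (nat_lit 2)],
  [(nat_lit 1), (nat_lit 1), (nat_lit 1), (nat_lit 1), (nat_lit 2), (nat_lit 1), (nat_lit 2)],
  [(nat_lit 1), (nat_lit 1), (nat_lit 0), (nat_lit 1), (nat_lit 0), (nat_lit 1), (nat_lit 2), (nat_lit 1), (nat_lit 2)],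
  [(nat_lit 1), (nat_lit 1), (nat_lit 0), (nat_lit 1), (nat_lit 1), (nat_lit 0), (nat_lit 2), (nat_lit 1), (nat_lit 2)],
  [(nat_lit 1), (nat_lit 1), (nat_lit 1), (nat_lit 0), (nat_lit 1), (nat_lit 0), (nat_lit 2), (nat_lit 1), (nat_lit 2)],
  [(nat_lit 1), (nat_lit 2), (nat_lit 0), (nat_lit 2), (nat_lit 1), (nat_lit 1), (nat_lit 0)],
  [(nat_lit 1), (nat_lit 2), (nat_lit 0), (nat_lit 2), (nat_lit 1), (nat_lit 0), (nat_lit 1)],
  [(nat_lit 1), (nat_lit 2), (nat_lit 2), (nat_lit 1), (nat_lit 0), (nat_lit 1), (nat_lit 0)],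
  [(nat_lit 1), (nat_lit 2), (nat_lit 2), (nat_lit 1), (nat_lit 1)],
  [(nat_lit 1), (nat_lit 1), (nat_lit 0), (nat_lit 1), (nat_lit 1), (nat_lit 0), (nat_lit 2), (nat_lit 1), (nat_lit 2), (nat_lit 2)],
  [(nat_lit 1), (nat_lit 1), (nat_lit 1), (nat_lit 0), (nat_lit 1), (nat_lit 0), (nat_lit 2), (nat_lit 1), (nat_lit 2), (nat_lit 2)],
  [(nat_lit 1), (nat_lit 1), (nat_lit 1), (nat_lit 1), (nat_lit 2), (nat_lit 1), (nat_lit 2), (nat_lit 2)],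
  [(nat_lit 1), (nat_lit 1), (nat_lit 0), (nat_lit 1), (nat_lit 0), (nat_lit 1), (nat_lit 2), (nat_lit 1), (nat_lit 2), (nat_lit 2)],
  [(nat_lit 2), (nat_lit 2)],
  [(nat_lit 1), (nat_lit 1), (nat_lit 0), (nat_lit 2), (nat_lit 1), (nat_lit 0), (nat_lit 1)],
  [(nat_lit 1), (nat_lit 1), (nat_lit 0), (nat_lit 2), (nat_lit 1), (nat_lit 1), (nat_lit 0)],
  [(nat_lit 2), (nat_lit 0), (nat_lit 2), (nat_lit 0)],
  [(nat_lit 1), (nat_lit 0), (nat_lit 2), (nat_lit 1), (nat_lit 1), (nat_lit 1), (nat_lit 2)],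
  [(nat_lit 0), (nat_lit 1), (nat_lit 2), (nat_lit 0), (nat_lit 1), (nat_lit 1), (nat_lit 1), (nat_lit 2)],
  [(nat_lit 0), (nat_lit 2), (nat_lit 0)],
  [(nat_lit 0), (nat_lit 1), (nat_lit 1), (nat_lit 0), (nat_lit 1), (nat_lit 1), (nat_lit 1), (nat_lit 2)],
  [(nat_lit 0), (nat_lit 1), (nat_lit 2), (nat_lit 1), (nat_lit 1), (nat_lit 0), (nat_lit 1), (nat_lit 2)],
  [(nat_lit 0), (nat_lit 1), (nat_lit 2), (nat_lit 1), (nat_lit 0), (nat_lit 1), (nat_lit 1), (nat_lit 2)],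
  [(nat_lit 1), (nat_lit 0), (nat_lit 1), (nat_lit 1), (nat_lit 1), (nat_lit 1), (nat_lit 2)],
  [(nat_lit 0), (nat_lit 2), (nat_lit 2), (nat_lit 0), (nat_lit 2), (nat_lit 2)],
  [(nat_lit 0), (nat_lit 1), (nat_lit 1), (nat_lit 0), (nat_lit 1), (nat_lit 1), (nat_lit 2), (nat_lit 1), (nat_lit 2)],
  [(nat_lit 0), (nat_lit 1), (nat_lit 1), (nat_lit 1), (nat_lit 0), (nat_lit 1), (nat_lit 2), (nat_lit 1), (nat_lit 2)],
  [(nat_lit 0), (nat_lit 1), (nat_lit 1), (nat_lit 1), (nat_lit 1), (nat_lit 0), (nat_lit 2), (nat_lit 1), (nat_lit 2)],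
  [(nat_lit 1), (nat_lit 0), (nat_lit 1), (nat_lit 1), (nat_lit 1), (nat_lit 2), (nat_lit 1), (nat_lit 2)],
  [(nat_lit 0), (nat_lit 1), (nat_lit 2), (nat_lit 0), (nat_lit 1), (nat_lit 1), (nat_lit 1)],
  [(nat_lit 1), (nat_lit 0), (nat_lit 2), (nat_lit 1), (nat_lit 1), (nat_lit 1)],
  [(nat_lit 0), (nat_lit 1), (nat_lit 1), (nat_lit 0), (nat_lit 1), (nat_lit 1), (nat_lit 2), (nat_lit 1)],
  [(nat_lit 0), (nat_lit 1), (nat_lit 1), (nat_lit 1), (nat_lit 0), (nat_lit 1), (nat_lit 2), (nat_lit 1)],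
  [(nat_lit 0), (nat_lit 1), (nat_lit 2), (nat_lit 1), (nat_lit 0), (nat_lit 1), (nat_lit 1)],
  [(nat_lit 0), (nat_lit 1), (nat_lit 2), (nat_lit 1), (nat_lit 1), (nat_lit 0), (nat_lit 1)],
  [(nat_lit 1), (nat_lit 0), (nat_lit 1), (nat_lit 1), (nat_lit 1), (nat_lit 1)],
  [(nat_lit 0), (nat_lit 2), (nat_lit 2), (nat_lit 0), (nat_lit 2)],
  [(nat_lit 0), (nat_lit 1), (nat_lit 1), (nat_lit 1), (nat_lit 1), (nat_lit 0), (nat_lit 2), (nat_lit 1)],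
  [(nat_lit 1), (nat_lit 0), (nat_lit 1), (nat_lit 1), (nat_lit 1), (nat_lit 2), (nat_lit 1)],
  [(nat_lit 0), (nat_lit 2), (nat_lit 0), (nat_lit 2), (nat_lit 2)],
  [(nat_lit 0), (nat_lit 1), (nat_lit 1), (nat_lit 0), (nat_lit 1), (nat_lit 1), (nat_lit 1)],
  [(nat_lit 1), (nat_lit 2), (nat_lit 0), (nat_lit 1), (nat_lit 0), (nat_lit 1), (nat_lit 1)],
  [(nat_lit 1), (nat_lit 2), (nat_lit 0), (nat_lit 1), (nat_lit 1), (nat_lit 0), (nat_lit 1)],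
  [(nat_lit 1), (nat_lit 1), (nat_lit 1), (nat_lit 1), (nat_lit 2), (nat_lit 1)],
  [(nat_lit 1), (nat_lit 1), (nat_lit 0), (nat_lit 1), (nat_lit 0), (nat_lit 1), (nat_lit 2), (nat_lit 1)],
  [(nat_lit 1), (nat_lit 2), (nat_lit 1), (nat_lit 1), (nat_lit 1)],
  [(nat_lit 1), (nat_lit 2), (nat_lit 1), (nat_lit 0), (nat_lit 1), (nat_lit 0), (nat_lit 1)],
  [(nat_lit 2), (nat_lit 0), (nat_lit 2), (nat_lit 0), (nat_lit 2)],
  [(nat_lit 1), (nat_lit 1), (nat_lit 0), (nat_lit 1), (nat_lit 1), (nat_lit 0), (nat_lit 1)],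
  [(nat_lit 1), (nat_lit 1), (nat_lit 0), (nat_lit 1), (nat_lit 1), (nat_lit 0), (nat_lit 2), (nat_lit 1)],
  [(nat_lit 1), (nat_lit 1), (nat_lit 1), (nat_lit 0), (nat_lit 1), (nat_lit 0), (nat_lit 2), (nat_lit 1)],
  [(nat_lit 1), (nat_lit 1), (nat_lit 0), (nat_lit 1), (nat_lit 0), (nat_lit 1), (nat_lit 1)],
  []]
noncomputable def AN_lK_h (c : ℕ) : ℕ := Nat.mod c (nat_lit 122599)
noncomputable def AN_lK_T0 : ST := (.node (nat_lit 0x19dd153dbba671cbda75eb17a943e5113c932020) (.node (nat_lit 0x11a6c52dbc876f9b69d5dc5f8953e43a7c819420) (.node (nat_lit 0x119938716aeb731a6f5675e4fc54fe2147f42420) (.node (nat_lit 0x119706367c57736bedf1c525a757e7493c32a020) (.node (nat_lit 0x1194d9f590e2f528df1bada8ecbc9f28d1e49c20) (.node (nat_lit 0x1194d6766be42f276adbae1f1cd11f48c9e29c20) (.node (nat_lit 0x1194d5ce1c676dade2afbc9d9a47e940fc521c20) (.leaf (nat_lit 0x1194d5b21d9f2d7ce254d55db7c7c540fe921c20))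 (.node (nat_lit 0x1194d67270eaef58eb19959eedd09e48d1f29c20) (.leaf (nat_lit 0x1194d5ce1c676dade2afbc9d9a47e940fc521c20)) (.leaf (nat_lit 0x1194d67270eaef58eb19959eedd09e48d1f29c20)))) (.node (nat_lit 0x1194d84d7d6731acda4fbd63ba3bc920fe541c20) (.node (nat_lit 0x1194d8317c9f717ddab4d4a397bbe520fc941c20) (.leaf (nat_lit 0x1194d6766be42f276adbae1f1cd11f48c9e29c20)) (.leaf (nat_lit 0x1194d8317c9f717ddab4d4a397bbe520fc941c20))) (.node (nat_lit 0x1194d9f18bec35575ed996291dbd1e28c9f49c20) (.leaf (nat_lit 0x1194d84d7d6731acda4fbd63ba3bc920fe541c20)) (.leaf (nat_lit 0x1194d9f18bec35575ed996291dbd1e28c9f49c20))))) (.node (nat_lit 0x1194dec3935b258a574eb5f2f8eca8f0d24f9c20) (.node (nat_lit 0x1194de43ac5ceb87caeeb6b748e528f8ca4f1c20) (.node (nat_lit 0x1194de2fb3832b6a4b51c5f6f764a4f8d28f1c20) (.leaf (nat_lit 0x1194d9f590e2f528df1bada8ecbc9f28d1e49c20)) (.leaf (nat_lit 0x1194de2fb3832b6a4b51c5f6f764a4f8d28f1c20)))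 (.node (nat_lit 0x1194deaf8c84e567d6f1c6b3476d24f0ca8f9c20) (.leaf (nat_lit 0x1194de43ac5ceb87caeeb6b748e528f8ca4f1c20)) (.leaf (nat_lit 0x1194deaf8c84e567d6f1c6b3476d24f0ca8f9c20)))) (.node (nat_lit 0x11970575ace4f1495b377ee35d393f390be1a020) (.node (nat_lit 0x11970571b3eb30fadb7aa6632bb8be3913f1a020) (.leaf (nat_lit 0x1194dec3935b258a574eb5f2f8eca8f0d24f9c20)) (.leaf (nat_lit 0x11970571b3eb30fadb7aa6632bb8be3913f1a020))) (.node (nat_lit 0x1197062a7d6f338d6e8eb3e578d7c3493e72a020) (.leaf (nat_lit 0x11970575ace4f1495b377ee35d393f390be1a020)) (.leaf (nat_lit 0x1197062a7d6f338d6e8eb3e578d7c3493e72a020)))))) (.node (nat_lit 0x11970eb38a9b6998bf15ddb4e95ce5f1069fa020) (.node (nat_lit 0x119709a99c6f778be5eeb52ba8cbe3293c74a020) (.node (nat_lit 0x119706f14cececf9633aa6dd5bc53e190bf3a020) (.leaf (nat_lit 0x119706367c57736bedf1c525a757e7493c32a020)) (.node (nat_lit 0x119706f553e32d4ae3777e5d2d44bf1913e3a020)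 (.leaf (nat_lit 0x119706f14cececf9633aa6dd5bc53e190bf3a020)) (.leaf (nat_lit 0x119706f553e32d4ae3777e5d2d44bf1913e3a020)))) (.node (nat_lit 0x11970e33ad9a9f9752d5de2f196865f90e9f2020) (.node (nat_lit 0x119709b59d57376d6691c3eb774bc7293e34a020) (.leaf (nat_lit 0x119709a99c6f778be5eeb52ba8cbe3293c74a020)) (.leaf (nat_lit 0x119709b59d57376d6691c3eb774bc7293e34a020))) (.node (nat_lit 0x11970e4faa635fb8d312cdaeeae8e9f9065f2020) (.leaf (nat_lit 0x11970e33ad9a9f9752d5de2f196865f90e9f2020)) (.leaf (nat_lit 0x11970e4faa635fb8d312cdaeeae8e9f9065f2020))))) (.node (nat_lit 0x119935f20deab717e6f676ab4c487e414ff22420) (.node (nat_lit 0x1199352dbd8735bb5dd2cc698abfc4397e81a420) (.node (nat_lit 0x11970ecf8d62a9b73ed2ce351adc69f10e5fa020) (.leaf (nat_lit 0x11970eb38a9b6998bf15ddb4e95ce5f1069fa020)) (.leaf (nat_lit 0x11970ecf8d62a9b73ed2ce351adc69f10e5fa020))) (.node (nat_lit 0x11993541bc5f759c5e35dba9693fe8397c41a420)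 (.leaf (nat_lit 0x1199352dbd8735bb5dd2cc698abfc4397e81a420)) (.leaf (nat_lit 0x11993541bc5f759c5e35dba9693fe8397c41a420)))) (.node (nat_lit 0x119936ad5c876fbc6a32cb9f6ad3e4197c83a420) (.node (nat_lit 0x119935f60ae376ea67588deafb48ff4147e22420) (.leaf (nat_lit 0x119935f20deab717e6f676ab4c487e414ff22420)) (.leaf (nat_lit 0x119935f60ae376ea67588deafb48ff4147e22420))) (.node (nat_lit 0x119936c15d5f2f9b69d5dc5f8953c8197e43a420) (.leaf (nat_lit 0x119936ad5c876fbc6a32cb9f6ad3e4197c83a420)) (.leaf (nat_lit 0x119936c15d5f2f9b69d5dc5f8953c8197e43a420))))))) (.node (nat_lit 0x119aae43b35b2567d6f1c6b3476ca8f9d24f0c20) (.node (nat_lit 0x119aa5ce1d67317ddab4d4a397bbc941fe520c20) (.node (nat_lit 0x11993e37ab54237abb74d67127d907f9483f2420) (.node (nat_lit 0x119938756de2b2e7eef88ea54b547f214fe42420) (.leaf (nat_lit 0x119938716aeb731a6f5675e4fc54fe2147f42420)) (.node (nat_lit 0x11993e2bb06ae3a93b2fbef15a5883f9507f2420)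 (.leaf (nat_lit 0x119938756de2b2e7eef88ea54b547f214fe42420)) (.leaf (nat_lit 0x11993e2bb06ae3a93b2fbef15a5883f9507f2420)))) (.node (nat_lit 0x11993eb79052dd794734d6ed57e087f1503fa420) (.node (nat_lit 0x11993eab8b6c1daac76fbe6d2a6103f1487fa420) (.leaf (nat_lit 0x11993e37ab54237abb74d67127d907f9483f2420)) (.leaf (nat_lit 0x11993eab8b6c1daac76fbe6d2a6103f1487fa420))) (.node (nat_lit 0x119aa5b21c9f71acda4fbd63ba3be541fc920c20) (.leaf (nat_lit 0x11993eb79052dd794734d6ed57e087f1503fa420)) (.leaf (nat_lit 0x119aa5b21c9f71acda4fbd63ba3be541fc920c20))))) (.node (nat_lit 0x119aa84d7c676d7ce254d55db7c7e921fc540c20) (.node (nat_lit 0x119aa67670e2f5575ed996291dbc9f49d1e28c20) (.node (nat_lit 0x119aa6726bec3528df1bada8ecbd1e49c9f28c20) (.leaf (nat_lit 0x119aa5ce1d67317ddab4d4a397bbc941fe520c20)) (.leaf (nat_lit 0x119aa6726bec3528df1bada8ecbd1e49c9f28c20))) (.node (nat_lit 0x119aa8317d9f2dade2afbc9d9a47c521fe940c20)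 (.leaf (nat_lit 0x119aa67670e2f5575ed996291dbc9f49d1e28c20)) (.leaf (nat_lit 0x119aa8317d9f2dade2afbc9d9a47c521fe940c20)))) (.node (nat_lit 0x119aa9f58be42f58eb19959eedd11f29c9e48c20) (.node (nat_lit 0x119aa9f190eaef276adbae1f1cd09e29d1f48c20) (.leaf (nat_lit 0x119aa84d7c676d7ce254d55db7c7e921fc540c20)) (.leaf (nat_lit 0x119aa9f190eaef276adbae1f1cd09e29d1f48c20))) (.node (nat_lit 0x119aae2fac84e58a574eb5f2f8ed24f9ca8f0c20) (.leaf (nat_lit 0x119aa9f58be42f58eb19959eedd11f29c9e48c20)) (.leaf (nat_lit 0x119aae2fac84e58a574eb5f2f8ed24f9ca8f0c20)))))) (.node (nat_lit 0x11a0b6f153eb31495b377ee35d38be1a13f39020) (.node (nat_lit 0x11a0b571aceced4ae3777e5d2d453e3a0bf19020) (.node (nat_lit 0x119aaeaf93832b87caeeb6b748e4a4f1d28f8c20) (.leaf (nat_lit 0x119aae43b35b2567d6f1c6b3476ca8f9d24f0c20)) (.node (nat_lit 0x119aaec38c5ceb6a4b51c5f6f76528f1ca4f8c20) (.leaf (nat_lit 0x119aaeaf93832b87caeeb6b748e4a4f1d28f8c20))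 (.leaf (nat_lit 0x119aaec38c5ceb6a4b51c5f6f76528f1ca4f8c20)))) (.node (nat_lit 0x11a0b62a7c6f776d6691c3eb774be34a3c729020) (.node (nat_lit 0x11a0b575b3e32cf9633aa6dd5bc4bf3a13e19020) (.leaf (nat_lit 0x11a0b571aceced4ae3777e5d2d453e3a0bf19020)) (.leaf (nat_lit 0x11a0b575b3e32cf9633aa6dd5bc4bf3a13e19020))) (.node (nat_lit 0x11a0b6367d57378be5eeb52ba8cbc74a3e329020) (.leaf (nat_lit 0x11a0b62a7c6f776d6691c3eb774be34a3c729020)) (.leaf (nat_lit 0x11a0b6367d57378be5eeb52ba8cbc74a3e329020))))) (.node (nat_lit 0x11a0be33aa9b69b73ed2ce351adce5fa069f1020) (.node (nat_lit 0x11a0b9a99d6f336bedf1c525a757c32a3e749020) (.node (nat_lit 0x11a0b6f54ce4f0fadb7aa6632bb93f1a0be39020) (.leaf (nat_lit 0x11a0b6f153eb31495b377ee35d38be1a13f39020)) (.leaf (nat_lit 0x11a0b6f54ce4f0fadb7aa6632bb93f1a0be39020))) (.node (nat_lit 0x11a0b9b59c57738d6e8eb3e578d7e72a3c349020) (.leaf (nat_lit 0x11a0b9a99d6f336bedf1c525a757c32a3e749020))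 (.leaf (nat_lit 0x11a0b9b59c57738d6e8eb3e578d7e72a3c349020)))) (.node (nat_lit 0x11a0beb38d9a9fb8d312cdaeeae865f20e9f9020) (.node (nat_lit 0x11a0be4fad62a998bf15ddb4e95c69fa0e5f1020) (.leaf (nat_lit 0x11a0be33aa9b69b73ed2ce351adce5fa069f1020)) (.leaf (nat_lit 0x11a0be4fad62a998bf15ddb4e95c69fa0e5f1020))) (.node (nat_lit 0x11a0becf8a635f9752d5de2f1968e9f2065f9020) (.leaf (nat_lit 0x11a0beb38d9a9fb8d312cdaeeae865f20e9f9020)) (.leaf (nat_lit 0x11a0becf8a635f9752d5de2f1968e9f2065f9020)))))))) (.node (nat_lit 0x11bbc6b1509ae51d569673f37c6c851fd093f820) (.node (nat_lit 0x11b9d5b60c54e95b3dd994758ddd27478a327c20) (.node (nat_lit 0x11a6c8756ae37717e6f676ab4c48ff2247e41420) (.node (nat_lit 0x11a6c5f60de2b31a6f5675e4fc547f424fe21420) (.node (nat_lit 0x11a6c541bd5f2fbc6a32cb9f6ad3c83a7e419420) (.leaf (nat_lit 0x11a6c52dbc876f9b69d5dc5f8953e43a7c819420)) (.node (nat_lit 0x11a6c5f20aeb72e7eef88ea54b54fe4247f21420)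 (.leaf (nat_lit 0x11a6c541bd5f2fbc6a32cb9f6ad3c83a7e419420)) (.leaf (nat_lit 0x11a6c5f20aeb72e7eef88ea54b54fe4247f21420)))) (.node (nat_lit 0x11a6c6c15c5f75bb5dd2cc698abfe81a7c439420) (.node (nat_lit 0x11a6c6ad5d87359c5e35dba9693fc41a7e839420) (.leaf (nat_lit 0x11a6c5f60de2b31a6f5675e4fc547f424fe21420)) (.leaf (nat_lit 0x11a6c6ad5d87359c5e35dba9693fc41a7e839420))) (.node (nat_lit 0x11a6c8716deab6ea67588deafb487e224ff41420) (.leaf (nat_lit 0x11a6c6c15c5f75bb5dd2cc698abfe81a7c439420)) (.leaf (nat_lit 0x11a6c8716deab6ea67588deafb487e224ff41420))))) (.node (nat_lit 0x11a6ceb78b5423a93b2fbef15a5907f2483f9420) (.node (nat_lit 0x11a6ce37b052ddaac76fbe6d2a6087fa503f1420) (.node (nat_lit 0x11a6ce2bab6c1d794734d6ed57e103fa487f1420) (.leaf (nat_lit 0x11a6c8756ae37717e6f676ab4c48ff2247e41420)) (.leaf (nat_lit 0x11a6ce2bab6c1d794734d6ed57e103fa487f1420))) (.node (nat_lit 0x11a6ceab906ae37abb74d67127d883f2507f9420)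 (.leaf (nat_lit 0x11a6ce37b052ddaac76fbe6d2a6087fa503f1420)) (.leaf (nat_lit 0x11a6ceab906ae37abb74d67127d883f2507f9420)))) (.node (nat_lit 0x11b9d54dab64251d569673f37c6d093f8851fc20) (.node (nat_lit 0x11b9d531b09ae4ebd5f88d33ab6c853f9091fc20) (.leaf (nat_lit 0x11a6ceb78b5423a93b2fbef15a5907f2483f9420)) (.leaf (nat_lit 0x11b9d531b09ae4ebd5f88d33ab6c853f9091fc20))) (.node (nat_lit 0x11b9d5aa136b292c3e3babb56cdca34792727c20) (.leaf (nat_lit 0x11b9d54dab64251d569673f37c6d093f8851fc20)) (.leaf (nat_lit 0x11b9d5aa136b292c3e3babb56cdca34792727c20)))))) (.node (nat_lit 0x11b9d9ad8a83634cba577d71bd58e42f8684fc20) (.node (nat_lit 0x11b9d6b14b9c2aed4a988bf77b65051f8893fc20) (.node (nat_lit 0x11b9d62e6d829d4dc6b77cad9d60644f8e82fc20) (.leaf (nat_lit 0x11b9d5b60c54e95b3dd994758ddd27478a327c20)) (.node (nat_lit 0x11b9d6426a5b5cfcc65aa56dbbe0e84f8642fc20) (.leaf (nat_lit 0x11b9d62e6d829d4dc6b77cad9d60644f8e82fc20))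 (.leaf (nat_lit 0x11b9d6426a5b5cfcc65aa56dbbe0e84f8642fc20)))) (.node (nat_lit 0x11b9d8296c6cdf2b51dbac6f8ce923278a747c20) (.node (nat_lit 0x11b9d6cd5062eb1bc9f67537ac64891f9053fc20) (.leaf (nat_lit 0x11b9d6b14b9c2aed4a988bf77b65051f8893fc20)) (.leaf (nat_lit 0x11b9d6cd5062eb1bc9f67537ac64891f9053fc20))) (.node (nat_lit 0x11b9d83573531f5c523993af6de8a72792347c20) (.leaf (nat_lit 0x11b9d8296c6cdf2b51dbac6f8ce923278a747c20)) (.leaf (nat_lit 0x11b9d83573531f5c523993af6de8a72792347c20))))) (.node (nat_lit 0x11bbc5aa0c6cdf5c523993af6de92347ca727820) (.node (nat_lit 0x11bbc531ab9c2b1bc9f67537ac65053fc891f820) (.node (nat_lit 0x11b9d9c18d5aa2fdbabaa4b19bd8682f8e44fc20) (.leaf (nat_lit 0x11b9d9ad8a83634cba577d71bd58e42f8684fc20)) (.leaf (nat_lit 0x11b9d9c18d5aa2fdbabaa4b19bd8682f8e44fc20))) (.node (nat_lit 0x11bbc54db062eaed4a988bf77b64893fd051f820) (.leaf (nat_lit 0x11bbc531ab9c2b1bc9f67537ac65053fc891f820))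 (.leaf (nat_lit 0x11bbc54db062eaed4a988bf77b64893fd051f820)))) (.node (nat_lit 0x11bbc62e6a8362fdbabaa4b19bd8e44fc682f820) (.node (nat_lit 0x11bbc5b613531f2b51dbac6f8ce8a747d2327820) (.leaf (nat_lit 0x11bbc5aa0c6cdf5c523993af6de92347ca727820)) (.leaf (nat_lit 0x11bbc5b613531f2b51dbac6f8ce8a747d2327820))) (.node (nat_lit 0x11bbc6426d5aa34cba577d71bd58684fce42f820) (.leaf (nat_lit 0x11bbc62e6a8362fdbabaa4b19bd8e44fc682f820)) (.leaf (nat_lit 0x11bbc6426d5aa34cba577d71bd58684fce42f820))))))) (.node (nat_lit 0x19d4dcd36e7c65a856d3be38b67509f1885f8820) (.node (nat_lit 0x19d4d76e2fcd2d59e2fc96a0cead3e418bf20820) (.node (nat_lit 0x11bbc8356c54e92c3e3babb56cdd2727ca347820) (.node (nat_lit 0x11bbc6cd4b6424ebd5f88d33ab6d091fc853f820) (.leaf (nat_lit 0x11bbc6b1509ae51d569673f37c6c851fd093f820)) (.node (nat_lit 0x11bbc829736b295b3dd994758ddca327d2747820) (.leaf (nat_lit 0x11bbc6cd4b6424ebd5f88d33ab6d091fc853f820))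 (.leaf (nat_lit 0x11bbc829736b295b3dd994758ddca327d2747820)))) (.node (nat_lit 0x11bbc9c18a5b5d4dc6b77cad9d60e82fc644f820) (.node (nat_lit 0x11bbc9ad8d829cfcc65aa56dbbe0642fce84f820) (.leaf (nat_lit 0x11bbc8356c54e92c3e3babb56cdd2727ca347820)) (.leaf (nat_lit 0x11bbc9ad8d829cfcc65aa56dbbe0642fce84f820))) (.node (nat_lit 0x19d4d76634dbed26635dade13e2cbf4193e20820) (.leaf (nat_lit 0x11bbc9c18a5b5d4dc6b77cad9d60e82fc644f820)) (.leaf (nat_lit 0x19d4d76634dbed26635dade13e2cbf4193e20820))))) (.node (nat_lit 0x19d4d8edd4cbf1565b5c95d73ec0be2193f40820) (.node (nat_lit 0x19d4d7c69976ef8e6a50b567d5b3c849be428820) (.node (nat_lit 0x19d4d7ba9b8e6f6eeaabc4a7c833e449bc828820) (.leaf (nat_lit 0x19d4d76e2fcd2d59e2fc96a0cead3e418bf20820)) (.leaf (nat_lit 0x19d4d7ba9b8e6f6eeaabc4a7c833e449bc828820))) (.node (nat_lit 0x19d4d8e5cfdd3129dafdae96ce413f218be40820) (.leaf (nat_lit 0x19d4d7c69976ef8e6a50b567d5b3c849be428820))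 (.leaf (nat_lit 0x19d4d8e5cfdd3129dafdae96ce413f218be40820)))) (.node (nat_lit 0x19d4da45fb76758edeb0b499c5cfe829bc448820) (.node (nat_lit 0x19d4da39f98ef56e5e4bc559d84fc429be848820) (.leaf (nat_lit 0x19d4d8edd4cbf1565b5c95d73ec0be2193f40820)) (.leaf (nat_lit 0x19d4da39f98ef56e5e4bc559d84fc429be848820))) (.node (nat_lit 0x19d4dcbf71a3a575d70cd5b909f485f1909f8820) (.leaf (nat_lit 0x19d4da45fb76758edeb0b499c5cfe829bc448820)) (.leaf (nat_lit 0x19d4dcbf71a3a575d70cd5b909f485f1909f8820)))))) (.node (nat_lit 0x19daa8e5d4dbed59e2fc96a0ceacbf2093e41820) (.node (nat_lit 0x19daa7662fdd31565b5c95d73ec13f408be21820) (.node (nat_lit 0x19d4ddbf2ea46b784accd63ab9f105f9889f0820) (.leaf (nat_lit 0x19d4dcd36e7c65a856d3be38b67509f1885f8820)) (.node (nat_lit 0x19d4ddd3317baba5cb13bdbb067089f9905f0820) (.leaf (nat_lit 0x19d4ddbf2ea46b784accd63ab9f105f9889f0820)) (.leaf (nat_lit 0x19d4ddd3317baba5cb13bdbb067089f9905f0820))))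 (.node (nat_lit 0x19daa7ba998ef58edeb0b499c5cfc448be829820) (.node (nat_lit 0x19daa76e34cbf129dafdae96ce40be4093f21820) (.leaf (nat_lit 0x19daa7662fdd31565b5c95d73ec13f408be21820)) (.leaf (nat_lit 0x19daa76e34cbf129dafdae96ce40be4093f21820))) (.node (nat_lit 0x19daa7c69b76756e5e4bc559d84fe848bc429820) (.leaf (nat_lit 0x19daa7ba998ef58edeb0b499c5cfc448be829820)) (.leaf (nat_lit 0x19daa7c69b76756e5e4bc559d84fe848bc429820))))) (.node (nat_lit 0x19daacbf6ea46ba5cb13bdbb067105f0889f9820) (.node (nat_lit 0x19daaa39fb8e6f8e6a50b567d5b3e428bc849820) (.node (nat_lit 0x19daa8edcfcd2d26635dade13e2d3e208bf41820) (.leaf (nat_lit 0x19daa8e5d4dbed59e2fc96a0ceacbf2093e41820)) (.leaf (nat_lit 0x19daa8edcfcd2d26635dade13e2d3e208bf41820))) (.node (nat_lit 0x19daaa45f976ef6eeaabc4a7c833c828be449820) (.leaf (nat_lit 0x19daaa39fb8e6f8e6a50b567d5b3e428bc849820)) (.leaf (nat_lit 0x19daaa45f976ef6eeaabc4a7c833c828be449820))))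 (.node (nat_lit 0x19daadbf31a3a5a856d3be38b67485f8909f1820) (.node (nat_lit 0x19daacd3717bab784accd63ab9f089f0905f9820) (.leaf (nat_lit 0x19daacbf6ea46ba5cb13bdbb067105f0889f9820)) (.leaf (nat_lit 0x19daacd3717bab784accd63ab9f089f0905f9820))) (.node (nat_lit 0x19daadd32e7c6575d70cd5b909f509f8885f1820) (.leaf (nat_lit 0x19daadbf31a3a5a856d3be38b67485f8909f1820)) (.leaf (nat_lit 0x19daadd32e7c6575d70cd5b909f509f8885f1820))))))))) (.node (nat_lit 0x19f79539af8d24cb56179af98d7524178a837c20) (.node (nat_lit 0x19e2ea65eddab935f71a65a50bd4df2a05e49020) (.node (nat_lit 0x19df46ed51cbaeb96b9687675c309e3151f12420) (.node (nat_lit 0x19dd1a6dedcabb3872da662abbc8de2905f4a020) (.node (nat_lit 0x19dd16d15b7e6ddbe272e321aaafe9313c512020) (.node (nat_lit 0x19dd1551b97ef1dd5992e4d77ac3c9113e532020) (.leaf (nat_lit 0x19dd153dbba671cbda75eb17a943e5113c932020)) (.node (nat_lit 0x19dd16bd59a6edcd6195ece1792fc5313e912020)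 (.leaf (nat_lit 0x19dd1551b97ef1dd5992e4d77ac3c9113e532020)) (.leaf (nat_lit 0x19dd16bd59a6edcd6195ece1792fc5313e912020)))) (.node (nat_lit 0x19dd17ee8acb7935f71a65a50bd45e490df2a020) (.node (nat_lit 0x19dd17e68ddab8c876d79e24bd54df4905e2a020) (.leaf (nat_lit 0x19dd16d15b7e6ddbe272e321aaafe9313c512020)) (.leaf (nat_lit 0x19dd17e68ddab8c876d79e24bd54df4905e2a020))) (.node (nat_lit 0x19dd1a65eadb7ac5f3179dab0d485f290de4a020) (.leaf (nat_lit 0x19dd17ee8acb7935f71a65a50bd45e490df2a020)) (.leaf (nat_lit 0x19dd1a65eadb7ac5f3179dab0d485f290de4a020))))) (.node (nat_lit 0x19dd1db73453e76ab3abc72f2868a2f9126f2020) (.node (nat_lit 0x19dd1cb76f5519694f8bc775585d22f10a6fa020) (.node (nat_lit 0x19dd1cab746bd98acfb0b73525dca6f1122fa020) (.leaf (nat_lit 0x19dd1a6dedcabb3872da662abbc8de2905f4a020)) (.leaf (nat_lit 0x19dd1cab746bd98acfb0b73525dca6f1122fa020))) (.node (nat_lit 0x19dd1dab2f6d27893390b76f55e926f90a2f2020)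 (.leaf (nat_lit 0x19dd1cb76f5519694f8bc775585d22f10a6fa020)) (.leaf (nat_lit 0x19dd1dab2f6d27893390b76f55e926f90a2f2020)))) (.node (nat_lit 0x19df456daecc74badfb687192c4d1e1149f32420) (.node (nat_lit 0x19df4565b1dbb5095f985f595b4c9f1151e32420) (.leaf (nat_lit 0x19dd1db73453e76ab3abc72f2868a2f9126f2020)) (.leaf (nat_lit 0x19df4565b1dbb5095f985f595b4c9f1151e32420))) (.node (nat_lit 0x19df46e54edc6f0aebb85f272b311f3149e12420) (.leaf (nat_lit 0x19df456daecc74badfb687192c4d1e1149f32420)) (.leaf (nat_lit 0x19df46e54edc6f0aebb85f272b311f3149e12420)))))) (.node (nat_lit 0x19df4dbb2a8b57d64352e5f13ad844f94c8f2420) (.node (nat_lit 0x19df48a9d96ef9ab7613bae58657c6217e242420) (.node (nat_lit 0x19df472a3b6e7bac7173bc2b664be6417c222420) (.leaf (nat_lit 0x19df46ed51cbaeb96b9687675c309e3151f12420)) (.node (nat_lit 0x19df47363956fb7b720cd2eb89cbc2417e622420) (.leaf (nat_lit 0x19df472a3b6e7bac7173bc2b664be6417c222420))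 (.leaf (nat_lit 0x19df47363956fb7b720cd2eb89cbc2417e622420)))) (.node (nat_lit 0x19df4cbb6d8aa1d9aef2e6accae0c4f1448fa420) (.node (nat_lit 0x19df48b5db56797c756cd42569d7e2217c642420) (.leaf (nat_lit 0x19df48a9d96ef9ab7613bae58657c6217e242420)) (.leaf (nat_lit 0x19df48b5db56797c756cd42569d7e2217c642420))) (.node (nat_lit 0x19df4cc76a7361c62f55eded396048f14c4fa420) (.leaf (nat_lit 0x19df4cbb6d8aa1d9aef2e6accae0c4f1448fa420)) (.leaf (nat_lit 0x19df4cc76a7361c62f55eded396048f14c4fa420))))) (.node (nat_lit 0x19e2e6bd5ba671dd5992e4d77ac3e5323c911020) (.node (nat_lit 0x19e2e53db9a6eddbe272e321aaafc5123e931020) (.node (nat_lit 0x19df4dc72d7297c9c2f5eeb0c958c8f9444f2420) (.leaf (nat_lit 0x19df4dbb2a8b57d64352e5f13ad844f94c8f2420)) (.leaf (nat_lit 0x19df4dc72d7297c9c2f5eeb0c958c8f9444f2420))) (.node (nat_lit 0x19e2e551bb7e6dcd6195ece1792fe9123c531020) (.leaf (nat_lit 0x19e2e53db9a6eddbe272e321aaafc5123e931020))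 (.leaf (nat_lit 0x19e2e551bb7e6dcd6195ece1792fe9123c531020)))) (.node (nat_lit 0x19e2e7e68adb7b3872da662abbc85f4a0de29020) (.node (nat_lit 0x19e2e6d1597ef1cbda75eb17a943c9323e511020) (.leaf (nat_lit 0x19e2e6bd5ba671dd5992e4d77ac3e5323c911020)) (.leaf (nat_lit 0x19e2e6d1597ef1cbda75eb17a943c9323e511020))) (.node (nat_lit 0x19e2e7ee8dcabac5f3179dab0d48de4a05f29020) (.leaf (nat_lit 0x19e2e7e68adb7b3872da662abbc85f4a0de29020)) (.leaf (nat_lit 0x19e2e7ee8dcabac5f3179dab0d48de4a05f29020))))))) (.node (nat_lit 0x19e8fcc76d7297d64352e5f13ad8c8f2444f9420) (.node (nat_lit 0x19e8f56db1cbaf0aebb85f272b309e1251f31420) (.node (nat_lit 0x19e2ecb77453e7893390b76f55e8a2f2126f9020) (.node (nat_lit 0x19e2ea6deacb78c876d79e24bd545e2a0df49020) (.leaf (nat_lit 0x19e2ea65eddab935f71a65a50bd4df2a05e49020)) (.node (nat_lit 0x19e2ecab6f6d276ab3abc72f286926f20a2f9020) (.leaf (nat_lit 0x19e2ea6deacb78c876d79e24bd545e2a0df49020))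 (.leaf (nat_lit 0x19e2ecab6f6d276ab3abc72f286926f20a2f9020)))) (.node (nat_lit 0x19e2edb72f55198acfb0b73525dd22fa0a6f1020) (.node (nat_lit 0x19e2edab346bd9694f8bc775585ca6fa122f1020) (.leaf (nat_lit 0x19e2ecb77453e7893390b76f55e8a2f2126f9020)) (.leaf (nat_lit 0x19e2edab346bd9694f8bc775585ca6fa122f1020))) (.node (nat_lit 0x19e8f565aedc6eb96b9687675c311f1249e31420) (.leaf (nat_lit 0x19e2edb72f55198acfb0b73525dd22fa0a6f1020)) (.leaf (nat_lit 0x19e8f565aedc6eb96b9687675c311f1249e31420))))) (.node (nat_lit 0x19e8f7363b5679ab7613bae58657e2427c621420) (.node (nat_lit 0x19e8f6ed4ecc75095f985f595b4d1e3249f11420) (.node (nat_lit 0x19e8f6e551dbb4badfb687192c4c9f3251e11420) (.leaf (nat_lit 0x19e8f56db1cbaf0aebb85f272b309e1251f31420)) (.leaf (nat_lit 0x19e8f6e551dbb4badfb687192c4c9f3251e11420))) (.node (nat_lit 0x19e8f72a396ef97c756cd42569d7c6427e221420) (.leaf (nat_lit 0x19e8f6ed4ecc75095f985f595b4d1e3249f11420))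 (.leaf (nat_lit 0x19e8f72a396ef97c756cd42569d7c6427e221420)))) (.node (nat_lit 0x19e8f8b5d956fbac7173bc2b664bc2227e641420) (.node (nat_lit 0x19e8f8a9db6e7b7b720cd2eb89cbe6227c241420) (.leaf (nat_lit 0x19e8f7363b5679ab7613bae58657e2427c621420)) (.leaf (nat_lit 0x19e8f8a9db6e7b7b720cd2eb89cbe6227c241420))) (.node (nat_lit 0x19e8fcbb6a8b57c9c2f5eeb0c95844f24c8f9420) (.leaf (nat_lit 0x19e8f8b5d956fbac7173bc2b664bc2227e641420)) (.leaf (nat_lit 0x19e8fcbb6a8b57c9c2f5eeb0c95844f24c8f9420)))))) (.node (nat_lit 0x19f3b73e2da2a6be3256856fdc68c547c4927820) (.node (nat_lit 0x19f3b539b48beb3b4a1a62fb8bf0a417d2837820) (.node (nat_lit 0x19e8fdbb2d8aa1c62f55eded3960c4fa448f1420) (.leaf (nat_lit 0x19e8fcc76d7297d64352e5f13ad8c8f2444f9420)) (.node (nat_lit 0x19e8fdc72a7361d9aef2e6accae048fa4c4f1420) (.leaf (nat_lit 0x19e8fdbb2d8aa1c62f55eded3960c4fa448f1420)) (.leaf (nat_lit 0x19e8fdc72a7361d9aef2e6accae048fa4c4f1420))))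 (.node (nat_lit 0x19f3b6b94f8d253c557a64396bf52437ca817820) (.node (nat_lit 0x19f3b545af752acc49779c3b6d712817ca437820) (.leaf (nat_lit 0x19f3b539b48beb3b4a1a62fb8bf0a417d2837820)) (.leaf (nat_lit 0x19f3b545af752acc49779c3b6d712817ca437820))) (.node (nat_lit 0x19f3b6c55473e4cb56179af98d74a837d2417820) (.leaf (nat_lit 0x19f3b6b94f8d253c557a64396bf52437ca817820)) (.leaf (nat_lit 0x19f3b6c55473e4cb56179af98d74a837d2417820))))) (.node (nat_lit 0x19f3b8bdcaa358beceb684b5cc5c4527cc947820) (.node (nat_lit 0x19f3b7aa916b975d419c94f17ed8864fd022f820) (.node (nat_lit 0x19f3b7522a7b670eb2b85cafcb684947cc527820) (.leaf (nat_lit 0x19f3b73e2da2a6be3256856fdc68c547c4927820)) (.leaf (nat_lit 0x19f3b7522a7b670eb2b85cafcb684947cc527820))) (.node (nat_lit 0x19f3b7b68e54572bc27dab31ae59024fc862f820) (.leaf (nat_lit 0x19f3b7aa916b975d419c94f17ed8864fd022f820)) (.leaf (nat_lit 0x19f3b7b68e54572bc27dab31ae59024fc862f820))))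 (.node (nat_lit 0x19f3ba29ee6c615bae7c932daee1062fc824f820) (.node (nat_lit 0x19f3b8d1cd7a990e4e585d75db5cc927c4547820) (.leaf (nat_lit 0x19f3b8bdcaa358beceb684b5cc5c4527cc947820)) (.leaf (nat_lit 0x19f3b8d1cd7a990e4e585d75db5cc927c4547820))) (.node (nat_lit 0x19f3ba35f153a12d2d9daced7e60822fd064f820) (.leaf (nat_lit 0x19f3ba29ee6c615bae7c932daee1062fc824f820)) (.leaf (nat_lit 0x19f3ba35f153a12d2d9daced7e60822fd064f820)))))))) (.node (nat_lit 0x221d1aae5786bb8cf26ab31fb6d3e629fc248c20) (.node (nat_lit 0x221708d5da95f1be5a93cbdbd62bc939be518820) (.node (nat_lit 0x19f797b69153a15bae7c932daee0824f9062fc20) (.node (nat_lit 0x19f796c54f752b3b4a1a62fb8bf128378a417c20) (.node (nat_lit 0x19f79545b473e53c557a64396bf4a81792437c20) (.leaf (nat_lit 0x19f79539af8d24cb56179af98d7524178a837c20)) (.node (nat_lit 0x19f796b9548beacc49779c3b6d70a43792817c20) (.leaf (nat_lit 0x19f79545b473e53c557a64396bf4a81792437c20))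 (.leaf (nat_lit 0x19f796b9548beacc49779c3b6d70a43792817c20)))) (.node (nat_lit 0x19f797522d7a98beceb684b5cc5cc94784527c20) (.node (nat_lit 0x19f7973e2aa3590e4e585d75db5c45478c927c20) (.leaf (nat_lit 0x19f796c54f752b3b4a1a62fb8bf128378a417c20)) (.leaf (nat_lit 0x19f7973e2aa3590e4e585d75db5c45478c927c20))) (.node (nat_lit 0x19f797aa8e6c612d2d9daced7e61064f8822fc20) (.leaf (nat_lit 0x19f797522d7a98beceb684b5cc5cc94784527c20)) (.leaf (nat_lit 0x19f797aa8e6c612d2d9daced7e61064f8822fc20))))) (.node (nat_lit 0x19f79a35ee54575d419c94f17ed9022f8864fc20) (.node (nat_lit 0x19f798d1ca7b66be3256856fdc6849278c547c20) (.node (nat_lit 0x19f798bdcda2a70eb2b85cafcb68c52784947c20) (.leaf (nat_lit 0x19f797b69153a15bae7c932daee0824f9062fc20)) (.leaf (nat_lit 0x19f798bdcda2a70eb2b85cafcb68c52784947c20))) (.node (nat_lit 0x19f79a29f16b972bc27dab31ae58862f9024fc20) (.leaf (nat_lit 0x19f798d1ca7b66be3256856fdc6849278c547c20))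 (.leaf (nat_lit 0x19f79a29f16b972bc27dab31ae58862f9024fc20)))) (.node (nat_lit 0x221707563796adbee1f3cd15c637e919bc538820) (.node (nat_lit 0x2217074a3aaded9e628cdbd5d9b7c519be938820) (.leaf (nat_lit 0x19f79a35ee54575d419c94f17ed9022f8864fc20)) (.leaf (nat_lit 0x2217074a3aaded9e628cdbd5d9b7c519be938820))) (.node (nat_lit 0x221708c9d7aeb19ed9ecdd1bc9abe539bc918820) (.leaf (nat_lit 0x221707563796adbee1f3cd15c637e919bc538820)) (.leaf (nat_lit 0x221708c9d7aeb19ed9ecdd1bc9abe539bc918820)))))) (.node (nat_lit 0x22170d3af28d6969bf2dc6f8c57527f18a3f8820) (.node (nat_lit 0x22170ade4ed476f566dca618decc7e298ff48820) (.node (nat_lit 0x2217095eb1d3b2f6ef1ca5a6aeb0fe4987f28820) (.leaf (nat_lit 0x221708d5da95f1be5a93cbdbd62bc939be518820)) (.node (nat_lit 0x2217096aaebc73456edd7e26de307f498fe28820) (.leaf (nat_lit 0x2217095eb1d3b2f6ef1ca5a6aeb0fe4987f28820)) (.leaf (nat_lit 0x2217096aaebc73456edd7e26de307f498fe28820))))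 (.node (nat_lit 0x22170bbb558c9f66536dc67b3570a7f9923f0820) (.node (nat_lit 0x22170aea51bbb746e71d7d98ae4cff2987e48820) (.leaf (nat_lit 0x22170ade4ed476f566dca618decc7e298ff48820)) (.leaf (nat_lit 0x22170aea51bbb746e71d7d98ae4cff2987e48820))) (.node (nat_lit 0x22170bc752755f89d32ab6fac6f123f98a7f0820) (.leaf (nat_lit 0x22170bbb558c9f66536dc67b3570a7f9923f0820)) (.leaf (nat_lit 0x22170bc752755f89d32ab6fac6f123f98a7f0820))))) (.node (nat_lit 0x221d185d72d56d3a639b6754fcb53e31cbf10c20) (.node (nat_lit 0x221d15de15d4b137dbbb671b4ca8be11d3f30c20) (.node (nat_lit 0x22170d46f574a9863f6ab67936f4a3f1927f8820) (.leaf (nat_lit 0x22170d3af28d6969bf2dc6f8c57527f18a3f8820)) (.leaf (nat_lit 0x22170d46f574a9863f6ab67936f4a3f1927f8820))) (.node (nat_lit 0x221d15ea12bd70ca5b999f5afda93f11cbe30c20) (.leaf (nat_lit 0x221d15de15d4b137dbbb671b4ca8be11d3f30c20)) (.leaf (nat_lit 0x221d15ea12bd70ca5b999f5afda93f11cbe30c20))))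 (.node (nat_lit 0x221d192eba85f98df58ab4e996bfc649fe228c20) (.node (nat_lit 0x221d186975bcacc7e3b99f154db4bf31d3e10c20) (.leaf (nat_lit 0x221d185d72d56d3a639b6754fcb53e31cbf10c20)) (.leaf (nat_lit 0x221d186975bcacc7e3b99f154db4bf31d3e10c20))) (.node (nat_lit 0x221d1942b75eb96cf66dc329b53fe249fc628c20) (.leaf (nat_lit 0x221d192eba85f98df58ab4e996bfc649fe228c20)) (.leaf (nat_lit 0x221d1942b75eb96cf66dc329b53fe249fc628c20))))))) (.node (nat_lit 0x2220bbc75574a969bf2dc6f8c574a3f8927f1820) (.node (nat_lit 0x2220b7563a95f19ed9ecdd1bc9abc918be539820) (.node (nat_lit 0x221d1bd74b9427d6b314e5b2a7ec49f9cc5f0c20) (.node (nat_lit 0x221d1ac25a5dfb6df18dc4df9553c229fe648c20) (.leaf (nat_lit 0x221d1aae5786bb8cf26ab31fb6d3e629fc248c20)) (.node (nat_lit 0x221d1bcb50aae7c532cfee32da6cc5f9c49f0c20) (.leaf (nat_lit 0x221d1ac25a5dfb6df18dc4df9553c229fe648c20)) (.leaf (nat_lit 0x221d1bcb50aae7c532cfee32da6cc5f9c49f0c20))))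 (.node (nat_lit 0x221d1d56f092d9d54ed4e636d7e4c9f1c45f8c20) (.node (nat_lit 0x221d1d4aebac19c6cf0fedb6aa6445f1cc9f8c20) (.leaf (nat_lit 0x221d1bd74b9427d6b314e5b2a7ec49f9cc5f0c20)) (.leaf (nat_lit 0x221d1d4aebac19c6cf0fedb6aa6445f1cc9f8c20))) (.node (nat_lit 0x2220b74a37aeb1be5a93cbdbd62be518bc939820) (.leaf (nat_lit 0x221d1d56f092d9d54ed4e636d7e4c9f1c45f8c20)) (.leaf (nat_lit 0x2220b74a37aeb1be5a93cbdbd62be518bc939820))))) (.node (nat_lit 0x2220b96ab1bbb6f566dca618deccff4887e29820) (.node (nat_lit 0x2220b8d5d796ad9e628cdbd5d9b7e938bc519820) (.node (nat_lit 0x2220b8c9daadedbee1f3cd15c637c538be919820) (.leaf (nat_lit 0x2220b7563a95f19ed9ecdd1bc9abc918be539820)) (.leaf (nat_lit 0x2220b8c9daadedbee1f3cd15c637c538be919820))) (.node (nat_lit 0x2220b95eaed47746e71d7d98ae4c7e488ff29820) (.leaf (nat_lit 0x2220b8d5d796ad9e628cdbd5d9b7e938bc519820)) (.leaf (nat_lit 0x2220b95eaed47746e71d7d98ae4c7e488ff29820))))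 (.node (nat_lit 0x2220baea4ebc72f6ef1ca5a6aeb07f288fe49820) (.node (nat_lit 0x2220bade51d3b3456edd7e26de30fe2887f49820) (.leaf (nat_lit 0x2220b96ab1bbb6f566dca618deccff4887e29820)) (.leaf (nat_lit 0x2220bade51d3b3456edd7e26de30fe2887f49820))) (.node (nat_lit 0x2220bbbb528d69863f6ab67936f527f88a3f1820) (.leaf (nat_lit 0x2220baea4ebc72f6ef1ca5a6aeb07f288fe49820)) (.leaf (nat_lit 0x2220bbbb528d69863f6ab67936f527f88a3f1820)))))) (.node (nat_lit 0x2222e92eb786bb6df18dc4df9553e648fc229c20) (.node (nat_lit 0x2222e5de12d56cc7e3b99f154db53e10cbf31c20) (.node (nat_lit 0x2220bd3af58c9f89d32ab6fac6f0a7f0923f9820) (.leaf (nat_lit 0x2220bbc75574a969bf2dc6f8c574a3f8927f1820)) (.node (nat_lit 0x2220bd46f2755f66536dc67b357123f08a7f9820) (.leaf (nat_lit 0x2220bd3af58c9f89d32ab6fac6f0a7f0923f9820)) (.leaf (nat_lit 0x2220bd46f2755f66536dc67b357123f08a7f9820)))) (.node (nat_lit 0x2222e85d75d4b0ca5b999f5afda8be30d3f11c20)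 (.node (nat_lit 0x2222e5ea15bcad3a639b6754fcb4bf10d3e31c20) (.leaf (nat_lit 0x2222e5de12d56cc7e3b99f154db53e10cbf31c20)) (.leaf (nat_lit 0x2222e5ea15bcad3a639b6754fcb4bf10d3e31c20))) (.node (nat_lit 0x2222e86972bd7137dbbb671b4ca93f30cbe11c20) (.leaf (nat_lit 0x2222e85d75d4b0ca5b999f5afda8be30d3f11c20)) (.leaf (nat_lit 0x2222e86972bd7137dbbb671b4ca93f30cbe11c20))))) (.node (nat_lit 0x2222ebcb4bac19d54ed4e636d7e445f8cc9f1c20) (.node (nat_lit 0x2222eaae5a85f96cf66dc329b53fc628fe249c20) (.node (nat_lit 0x2222e942ba5dfb8cf26ab31fb6d3c248fe629c20) (.leaf (nat_lit 0x2222e92eb786bb6df18dc4df9553e648fc229c20)) (.leaf (nat_lit 0x2222e942ba5dfb8cf26ab31fb6d3c248fe629c20))) (.node (nat_lit 0x2222eac2575eb98df58ab4e996bfe228fc649c20) (.leaf (nat_lit 0x2222eaae5a85f96cf66dc329b53fc628fe249c20)) (.leaf (nat_lit 0x2222eac2575eb98df58ab4e996bfe228fc649c20)))) (.node (nat_lit 0x2222ed4af0aae7d6b314e5b2a7ecc5f0c49f9c20)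 (.node (nat_lit 0x2222ebd75092d9c6cf0fedb6aa64c9f8c45f1c20) (.leaf (nat_lit 0x2222ebcb4bac19d54ed4e636d7e445f8cc9f1c20)) (.leaf (nat_lit 0x2222ebd75092d9c6cf0fedb6aa64c9f8c45f1c20))) (.node (nat_lit 0x2222ed56eb9427c532cfee32da6c49f0cc5f9c20) (.leaf (nat_lit 0x2222ed4af0aae7d6b314e5b2a7ecc5f0c49f9c20)) (.leaf (nat_lit 0x2222ed56eb9427c532cfee32da6c49f0cc5f9c20))))))))))
noncomputable def AN_lK_T1 : ST := (.node (nat_lit 0x2a6d863e75a4a2bbb95b837bacf10717c8337820) (.node (nat_lit 0x2a5f464a78adb5ccdd71ec1bb72be811fc430c20) (.node (nat_lit 0x222fa8add285674b315d7b738e6d263f8a21fc20) (.node (nat_lit 0x222b276a30baf8d6777656693c3cdf1a45e39420) (.node (nat_lit 0x222558e9d0baf8a9f7386ee8cb3cdf3945e1a420) (.node (nat_lit 0x2225576a2bbc3aa673786e5f3b505f194de3a420) (.node (nat_lit 0x222555c61776b7cc65afea996a4fe3117c732420) (.leaf (nat_lit 0x222555ba1a8df7db6554e35987cfc7117e332420))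 (.node (nat_lit 0x2225575e30d2fad9f33656decc50de1945f3a420) (.leaf (nat_lit 0x222555c61776b7cc65afea996a4fe3117c732420)) (.leaf (nat_lit 0x2225575e30d2fad9f33656decc50de1945f3a420)))) (.node (nat_lit 0x222558457a75f3cb6d4feb678a33c3317e712420) (.node (nat_lit 0x22255839778eb3dc6db4e2a767b3e7317c312420) (.leaf (nat_lit 0x2225576a2bbc3aa673786e5f3b505f194de3a420)) (.leaf (nat_lit 0x22255839778eb3dc6db4e2a767b3e7317c312420))) (.node (nat_lit 0x222558ddcbd438d6777656693c3c5e394df1a420) (.leaf (nat_lit 0x222558457a75f3cb6d4feb678a33c3317e712420)) (.leaf (nat_lit 0x222558ddcbd438d6777656693c3c5e394df1a420))))) (.node (nat_lit 0x22255d42f15b959a378cdf6cf9e0e2f1466fa420) (.node (nat_lit 0x22255bc34e5c5b97abacdf3149d862f94e6f2420) (.node (nat_lit 0x22255baf51839bba2b93cf70f658e6f9462f2420) (.leaf (nat_lit 0x222558e9d0baf8a9f7386ee8cb3cdf3945e1a420)) (.leaf (nat_lit 0x22255baf51839bba2b93cf70f658e6f9462f2420)))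 (.node (nat_lit 0x22255d2eee8455b7b7b3cf2d466066f14e2fa420) (.leaf (nat_lit 0x22255bc34e5c5b97abacdf3149d862f94e6f2420)) (.leaf (nat_lit 0x22255d2eee8455b7b7b3cf2d466066f14e2fa420)))) (.node (nat_lit 0x222b25c61a75f3dc6db4e2a767b3c3127e731420) (.node (nat_lit 0x222b25ba178eb3cb6d4feb678a33e7127c331420) (.leaf (nat_lit 0x22255d42f15b959a378cdf6cf9e0e2f1466fa420)) (.leaf (nat_lit 0x222b25ba178eb3cb6d4feb678a33e7127c331420))) (.node (nat_lit 0x222b275e2bd438a9f7386ee8cb3c5e1a4df39420) (.leaf (nat_lit 0x222b25c61a75f3dc6db4e2a767b3c3127e731420)) (.leaf (nat_lit 0x222b275e2bd438a9f7386ee8cb3c5e1a4df39420)))))) (.node (nat_lit 0x222b2d2ef1839b97abacdf3149d8e6f2462f9420) (.node (nat_lit 0x222b28ddd0d2faa673786e5f3b50de3a45f19420) (.node (nat_lit 0x222b28397a8df7cc65afea996a4fc7327e311420) (.leaf (nat_lit 0x222b276a30baf8d6777656693c3cdf1a45e39420)) (.node (nat_lit 0x222b28457776b7db6554e35987cfe3327c711420)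 (.leaf (nat_lit 0x222b28397a8df7cc65afea996a4fc7327e311420)) (.leaf (nat_lit 0x222b28457776b7db6554e35987cfe3327c711420)))) (.node (nat_lit 0x222b2baf4e84559a378cdf6cf9e066fa4e2f1420) (.node (nat_lit 0x222b28e9cbbc3ad9f33656decc505f3a4de19420) (.leaf (nat_lit 0x222b28ddd0d2faa673786e5f3b50de3a45f19420)) (.leaf (nat_lit 0x222b28e9cbbc3ad9f33656decc505f3a4de19420))) (.node (nat_lit 0x222b2bc3515b95b7b7b3cf2d4660e2fa466f1420) (.leaf (nat_lit 0x222b2baf4e84559a378cdf6cf9e066fa4e2f1420)) (.leaf (nat_lit 0x222b2bc3515b95b7b7b3cf2d4660e2fa466f1420))))) (.node (nat_lit 0x222fa72e3584994c4dbd7ab76e64a61f9223fc20) (.node (nat_lit 0x222fa5ca11aba8acbe786b39bb74e51786937c20) (.node (nat_lit 0x222b2d42ee5c5bba2b93cf70f65862f24e6f9420) (.leaf (nat_lit 0x222b2d2ef1839b97abacdf3149d8e6f2462f9420)) (.leaf (nat_lit 0x222b2d42ee5c5bba2b93cf70f65862f24e6f9420))) (.node (nat_lit 0x222fa5d60e9468ddbd9654f99c7469178e537c20)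 (.leaf (nat_lit 0x222fa5ca11aba8acbe786b39bb74e51786937c20)) (.leaf (nat_lit 0x222fa5d60e9468ddbd9654f99c7469178e537c20)))) (.node (nat_lit 0x222fa8496eac5eadd1986cfb9b7065378e917c20) (.node (nat_lit 0x222fa742325d58fb4d5ca3778ee5221f8a63fc20) (.leaf (nat_lit 0x222fa72e3584994c4dbd7ab76e64a61f9223fc20)) (.leaf (nat_lit 0x222fa742325d58fb4d5ca3778ee5221f8a63fc20))) (.node (nat_lit 0x222fa85571939edcd276533bbc70e93786517c20) (.leaf (nat_lit 0x222fa8496eac5eadd1986cfb9b7065378e917c20)) (.leaf (nat_lit 0x222fa85571939edcd276533bbc70e93786517c20))))))) (.node (nat_lit 0x22357946b072dace2a999bf1ddd8c34fc472f820) (.node (nat_lit 0x223575d611939eadd1986cfb9b70e917c6537820) (.node (nat_lit 0x222fa946ab74153e369b63eddce0434f8c72fc20) (.node (nat_lit 0x222fa8c1d55ca6fc31bca2b36eeca23f9261fc20) (.leaf (nat_lit 0x222fa8add285674b315d7b738e6d263f8a21fc20)) (.node (nat_lit 0x222fa93ab08ad4ceb5f99d2dcde0c74f8432fc20)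 (.leaf (nat_lit 0x222fa8c1d55ca6fc31bca2b36eeca23f9261fc20)) (.leaf (nat_lit 0x222fa93ab08ad4ceb5f99d2dcde0c74f8432fc20)))) (.node (nat_lit 0x222faac65072db3ea9fb6531ccd8c32f8474fc20) (.node (nat_lit 0x222faaba4b8c1ace2a999bf1ddd8472f8c34fc20) (.leaf (nat_lit 0x222fa946ab74153e369b63eddce0434f8c72fc20)) (.leaf (nat_lit 0x222faaba4b8c1ace2a999bf1ddd8472f8c34fc20))) (.node (nat_lit 0x223575ca0eac5edcd276533bbc706517ce937820) (.leaf (nat_lit 0x222faac65072db3ea9fb6531ccd8c32f8474fc20)) (.leaf (nat_lit 0x223575ca0eac5edcd276533bbc706517ce937820))))) (.node (nat_lit 0x223578556e9468acbe786b39bb746937ce517820) (.node (nat_lit 0x22357742355ca74b315d7b738e6ca21fd263f820) (.node (nat_lit 0x2235772e328566fc31bca2b36eed261fca23f820) (.leaf (nat_lit 0x223575d611939eadd1986cfb9b70e917c6537820)) (.leaf (nat_lit 0x2235772e328566fc31bca2b36eed261fca23f820))) (.node (nat_lit 0x2235784971aba8ddbd9654f99c74e537c6917820)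 (.leaf (nat_lit 0x22357742355ca74b315d7b738e6ca21fd263f820)) (.leaf (nat_lit 0x2235784971aba8ddbd9654f99c74e537c6917820)))) (.node (nat_lit 0x223578c1d25d594c4dbd7ab76e65223fca61f820) (.node (nat_lit 0x223578add58498fb4d5ca3778ee4a63fd221f820) (.leaf (nat_lit 0x223578556e9468acbe786b39bb746937ce517820)) (.leaf (nat_lit 0x223578add58498fb4d5ca3778ee4a63fd221f820))) (.node (nat_lit 0x2235793aab8c1b3ea9fb6531ccd8474fcc32f820) (.leaf (nat_lit 0x223578c1d25d594c4dbd7ab76e65223fca61f820)) (.leaf (nat_lit 0x2235793aab8c1b3ea9fb6531ccd8474fcc32f820)))))) (.node (nat_lit 0x2a593a59f2c574e5df3d8edb0e289f3991e18820) (.node (nat_lit 0x2a5937da95c4aee86b7d8e54be351f1989e38820) (.node (nat_lit 0x22357aba508ad53e369b63eddce0c72fc434f820) (.leaf (nat_lit 0x22357946b072dace2a999bf1ddd8c34fc472f820)) (.node (nat_lit 0x22357ac64b7414ceb5f99d2dcde0432fcc74f820) (.leaf (nat_lit 0x22357aba508ad53e369b63eddce0c72fc434f820))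 (.leaf (nat_lit 0x22357ac64b7414ceb5f99d2dcde0432fcc74f820)))) (.node (nat_lit 0x2a59393eb8a5b37eee2dd397c543e721bc340820) (.node (nat_lit 0x2a5937e292b56f15eb3c76d50eb49e1991f38820) (.leaf (nat_lit 0x2a5937da95c4aee86b7d8e54be351f1989e38820)) (.leaf (nat_lit 0x2a5937e292b56f15eb3c76d50eb49e1991f38820))) (.node (nat_lit 0x2a593952b67e33ae6dcabc57d6c3c321be740820) (.leaf (nat_lit 0x2a59393eb8a5b37eee2dd397c543e721bc340820)) (.leaf (nat_lit 0x2a593952b67e33ae6dcabc57d6c3c321be740820))))) (.node (nat_lit 0x2a593b4b14abdd96c750ddf8a5f4e8f1864f8820) (.node (nat_lit 0x2a593abe56a6377e65cdd461d52fc741be320820) (.node (nat_lit 0x2a593a61f5b4b5185f7c765abea91e3989f18820) (.leaf (nat_lit 0x2a593a59f2c574e5df3d8edb0e289f3991e18820)) (.leaf (nat_lit 0x2a593a61f5b4b5185f7c765abea91e3989f18820))) (.node (nat_lit 0x2a593ad2587db7aee62abba1c6afe341bc720820) (.leaf (nat_lit 0x2a593abe56a6377e65cdd461d52fc741be320820))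 (.leaf (nat_lit 0x2a593ad2587db7aee62abba1c6afe341bc720820)))) (.node (nat_lit 0x2a593c4acfad23953af0debad5f068f98e4f0820) (.node (nat_lit 0x2a593b570f951db546ebceb8d87464f18e8f8820) (.leaf (nat_lit 0x2a593b4b14abdd96c750ddf8a5f4e8f1864f8820)) (.leaf (nat_lit 0x2a593b570f951db546ebceb8d87464f18e8f8820))) (.node (nat_lit 0x2a593c56d493e3b6bb4bcdfaa870e4f9868f0820) (.leaf (nat_lit 0x2a593c4acfad23953af0debad5f068f98e4f0820)) (.leaf (nat_lit 0x2a593c56d493e3b6bb4bcdfaa870e4f9868f0820)))))))) (.node (nat_lit 0x2a66cabe58a5b3ae6dcabc57d6c3e740bc321820) (.node (nat_lit 0x2a6557ce96663b9bf150db63a5bbc21a3e639020) (.node (nat_lit 0x2a5f4ae253b33ab572fb86a2dcb8de41c5f20c20) (.node (nat_lit 0x2a5f4962acb4f8b6f75b85dcacc45e21cdf40c20) (.node (nat_lit 0x2a5f4656769635ddde0ee2db98abc411fe830c20) (.leaf (nat_lit 0x2a5f464a78adb5ccdd71ec1bb72be811fc430c20)) (.node (nat_lit 0x2a5f495ab3c3390576f95e9cddc4df21c5e40c20)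 (.leaf (nat_lit 0x2a5f4656769635ddde0ee2db98abc411fe830c20)) (.leaf (nat_lit 0x2a5f495ab3c3390576f95e9cddc4df21c5e40c20)))) (.node (nat_lit 0x2a5f49d59895afdce96ee415b8b7e431fc810c20) (.node (nat_lit 0x2a5f49c996ae2fcdea11ead59737c831fe410c20) (.leaf (nat_lit 0x2a5f4962acb4f8b6f75b85dcacc45e21cdf40c20)) (.leaf (nat_lit 0x2a5f49c996ae2fcdea11ead59737c831fe410c20))) (.node (nat_lit 0x2a5f4ada4cc4fb06f3595de2adb85f41cde20c20) (.leaf (nat_lit 0x2a5f49d59895afdce96ee415b8b7e431fc810c20)) (.leaf (nat_lit 0x2a5f4ada4cc4fb06f3595de2adb85f41cde20c20))))) (.node (nat_lit 0x2a5f4c4ed5649778c3add732e56d02f9c86f0c20) (.node (nat_lit 0x2a5f4b4f126561772f8dd777156482f1d06f8c20) (.node (nat_lit 0x2a5f4b33159ca1a8afaabf36e6e506f1c82f8c20) (.leaf (nat_lit 0x2a5f4ae253b33ab572fb86a2dcb8de41c5f20c20)) (.leaf (nat_lit 0x2a5f4b33159ca1a8afaabf36e6e506f1c82f8c20))) (.node (nat_lit 0x2a5f4c32d29d57a7438abf7316ec86f9d02f0c20)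 (.leaf (nat_lit 0x2a5f4b4f126561772f8dd777156482f1d06f8c20)) (.leaf (nat_lit 0x2a5f4c32d29d57a7438abf7316ec86f9d02f0c20)))) (.node (nat_lit 0x2a6556626fb536d8e7b75720ed2c7e120ff31020) (.node (nat_lit 0x2a65565a74c3f6a7679a6f611bacff1207e31020) (.leaf (nat_lit 0x2a5f4c4ed5649778c3add732e56d02f9c86f0c20)) (.leaf (nat_lit 0x2a65565a74c3f6a7679a6f611bacff1207e31020))) (.node (nat_lit 0x2a6557b2989dbbbd71abcaa3783be61a3c239020) (.leaf (nat_lit 0x2a6556626fb536d8e7b75720ed2c7e120ff31020)) (.leaf (nat_lit 0x2a6557b2989dbbbd71abcaa3783be61a3c239020)))))) (.node (nat_lit 0x2a655c3ecca4dbd82b6ee674b8dc47fa0c3f1020) (.node (nat_lit 0x2a655a31f69e39bbf54bcb5da847c63a3e219020) (.node (nat_lit 0x2a6559d98fc532a8efba6f16ebc07f320fe11020) (.leaf (nat_lit 0x2a6557ce96663b9bf150db63a5bbc21a3e639020)) (.node (nat_lit 0x2a6559e194b3f2d76f9757571d40fe3207f11020) (.leaf (nat_lit 0x2a6559d98fc532a8efba6f16ebc07f320fe11020))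 (.leaf (nat_lit 0x2a6559e194b3f2d76f9757571d40fe3207f11020)))) (.node (nat_lit 0x2a655b3f13a315d5b72ee6ef08e8c7f2043f9020) (.node (nat_lit 0x2a655a4df865b99d75b0da9d75c7e23a3c619020) (.leaf (nat_lit 0x2a655a31f69e39bbf54bcb5da847c63a3e219020)) (.leaf (nat_lit 0x2a655a4df865b99d75b0da9d75c7e23a3c619020))) (.node (nat_lit 0x2a655b530c7cd5c83771ee6eb76843f20c7f9020) (.leaf (nat_lit 0x2a655b3f13a315d5b72ee6ef08e8c7f2043f9020)) (.leaf (nat_lit 0x2a655b530c7cd5c83771ee6eb76843f20c7f9020))))) (.node (nat_lit 0x2a66c93eb6a637aee62abba1c6afc720be341820) (.node (nat_lit 0x2a66c7da92c575185f7c765abea89f1891e39820) (.node (nat_lit 0x2a655c52d37b1bc5ab31eef5075cc3fa047f1020) (.leaf (nat_lit 0x2a655c3ecca4dbd82b6ee674b8dc47fa0c3f1020)) (.leaf (nat_lit 0x2a655c52d37b1bc5ab31eef5075cc3fa047f1020))) (.node (nat_lit 0x2a66c7e295b4b4e5df3d8edb0e291e1889f39820) (.leaf (nat_lit 0x2a66c7da92c575185f7c765abea89f1891e39820))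 (.leaf (nat_lit 0x2a66c7e295b4b4e5df3d8edb0e291e1889f39820)))) (.node (nat_lit 0x2a66ca59f5c4af15eb3c76d50eb51f3889e19820) (.node (nat_lit 0x2a66c952b87db77e65cdd461d52fe320bc741820) (.leaf (nat_lit 0x2a66c93eb6a637aee62abba1c6afc720be341820)) (.leaf (nat_lit 0x2a66c952b87db77e65cdd461d52fe320bc741820))) (.node (nat_lit 0x2a66ca61f2b56ee86b7d8e54be349e3891f19820) (.leaf (nat_lit 0x2a66ca59f5c4af15eb3c76d50eb51f3889e19820)) (.leaf (nat_lit 0x2a66ca61f2b56ee86b7d8e54be349e3891f19820))))))) (.node (nat_lit 0x2a68fb4f156497a7438abf7316ed02f0c86f9c20) (.node (nat_lit 0x2a68f6567895afcdea11ead59737e410fc831c20) (.node (nat_lit 0x2a66cb571493e3953af0debad5f0e4f0868f9820) (.node (nat_lit 0x2a66cad2567e337eee2dd397c543c340be721820) (.leaf (nat_lit 0x2a66cabe58a5b3ae6dcabc57d6c3e740bc321820)) (.node (nat_lit 0x2a66cb4b0fad23b6bb4bcdfaa87068f08e4f9820) (.leaf (nat_lit 0x2a66cad2567e337eee2dd397c543c340be721820))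 (.leaf (nat_lit 0x2a66cb4b0fad23b6bb4bcdfaa87068f08e4f9820)))) (.node (nat_lit 0x2a66cc56cf951d96c750ddf8a5f464f88e8f1820) (.node (nat_lit 0x2a66cc4ad4abddb546ebceb8d874e8f8864f1820) (.leaf (nat_lit 0x2a66cb571493e3953af0debad5f0e4f0868f9820)) (.leaf (nat_lit 0x2a66cc4ad4abddb546ebceb8d874e8f8864f1820))) (.node (nat_lit 0x2a68f64a76ae2fdce96ee415b8b7c810fe431c20) (.leaf (nat_lit 0x2a66cc56cf951d96c750ddf8a5f464f88e8f1820)) (.leaf (nat_lit 0x2a68f64a76ae2fdce96ee415b8b7c810fe431c20))))) (.node (nat_lit 0x2a68f9d5969635ccdd71ec1bb72bc430fe811c20) (.node (nat_lit 0x2a68f962b3b33b06f3595de2adb8de20c5f41c20) (.node (nat_lit 0x2a68f95aacc4fab572fb86a2dcb85f20cde41c20) (.leaf (nat_lit 0x2a68f6567895afcdea11ead59737e410fc831c20)) (.leaf (nat_lit 0x2a68f95aacc4fab572fb86a2dcb85f20cde41c20))) (.node (nat_lit 0x2a68f9c998adb5ddde0ee2db98abe830fc411c20) (.leaf (nat_lit 0x2a68f962b3b33b06f3595de2adb8de20c5f41c20))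 (.leaf (nat_lit 0x2a68f9c998adb5ddde0ee2db98abe830fc411c20)))) (.node (nat_lit 0x2a68fae24cb4f90576f95e9cddc45e40cdf21c20) (.node (nat_lit 0x2a68fada53c338b6f75b85dcacc4df40c5e21c20) (.leaf (nat_lit 0x2a68f9d5969635ccdd71ec1bb72bc430fe811c20)) (.leaf (nat_lit 0x2a68fada53c338b6f75b85dcacc4df40c5e21c20))) (.node (nat_lit 0x2a68fb33129d5778c3add732e56c86f0d02f9c20) (.leaf (nat_lit 0x2a68fae24cb4f90576f95e9cddc45e40cdf21c20)) (.leaf (nat_lit 0x2a68fb33129d5778c3add732e56c86f0d02f9c20)))))) (.node (nat_lit 0x2a6b29d994c3f6d8e7b75720ed2cff3107e12020) (.node (nat_lit 0x2a6b265a6fc532d76f9757571d407f110fe32020) (.node (nat_lit 0x2a68fc32d59ca1772f8dd777156506f8c82f1c20) (.leaf (nat_lit 0x2a68fb4f156497a7438abf7316ed02f0c86f9c20)) (.node (nat_lit 0x2a68fc4ed26561a8afaabf36e6e482f8d06f1c20) (.leaf (nat_lit 0x2a68fc32d59ca1772f8dd777156506f8c82f1c20)) (.leaf (nat_lit 0x2a68fc4ed26561a8afaabf36e6e482f8d06f1c20))))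 (.node (nat_lit 0x2a6b27b2969e399d75b0da9d75c7c6193e23a020) (.node (nat_lit 0x2a6b266274b3f2a8efba6f16ebc0fe1107f32020) (.leaf (nat_lit 0x2a6b265a6fc532d76f9757571d407f110fe32020)) (.leaf (nat_lit 0x2a6b266274b3f2a8efba6f16ebc0fe1107f32020))) (.node (nat_lit 0x2a6b27ce9865b9bbf54bcb5da847e2193c63a020) (.leaf (nat_lit 0x2a6b27b2969e399d75b0da9d75c7c6193e23a020)) (.leaf (nat_lit 0x2a6b27ce9865b9bbf54bcb5da847e2193c63a020))))) (.node (nat_lit 0x2a6b2b3f0ca4dbc5ab31eef5075c47f10c3fa020) (.node (nat_lit 0x2a6b2a31f89dbb9bf150db63a5bbe6393c21a020) (.node (nat_lit 0x2a6b29e18fb536a7679a6f611bac7e310ff12020) (.leaf (nat_lit 0x2a6b29d994c3f6d8e7b75720ed2cff3107e12020)) (.leaf (nat_lit 0x2a6b29e18fb536a7679a6f611bac7e310ff12020))) (.node (nat_lit 0x2a6b2a4df6663bbd71abcaa3783bc2393e61a020) (.leaf (nat_lit 0x2a6b2a31f89dbb9bf150db63a5bbe6393c21a020)) (.leaf (nat_lit 0x2a6b2a4df6663bbd71abcaa3783bc2393e61a020))))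 (.node (nat_lit 0x2a6b2c3ed3a315c83771ee6eb768c7f9043f2020) (.node (nat_lit 0x2a6b2b53137b1bd82b6ee674b8dcc3f1047fa020) (.leaf (nat_lit 0x2a6b2b3f0ca4dbc5ab31eef5075c47f10c3fa020)) (.leaf (nat_lit 0x2a6b2b53137b1bd82b6ee674b8dcc3f1047fa020))) (.node (nat_lit 0x2a6b2c52cc7cd5d5b72ee6ef08e843f90c7f2020) (.leaf (nat_lit 0x2a6b2c3ed3a315c83771ee6eb768c7f9043f2020)) (.leaf (nat_lit 0x2a6b2c52cc7cd5d5b72ee6ef08e843f90c7f2020))))))))) (.node (nat_lit 0x309aa5b21d9f2d7de24fd5639a3be920fc541c20) (.node (nat_lit 0x3094d9f190eaef28ead9ae28edbd1f49c9e28c20) (.node (nat_lit 0x2a7167d6939320deae3753b7cd64c41f8483fc20) (.node (nat_lit 0x2a6d89d1957c9d0bc5595b79adf50337c8717820) (.node (nat_lit 0x2a6d87d68c94d6aec23a6bb3cbec441fcc83f820) (.node (nat_lit 0x2a6d8652727d630d39b95abb7df08317d0737820) (.leaf (nat_lit 0x2a6d863e75a4a2bbb95b837bacf10717c8337820)) (.node (nat_lit 0x2a6d87ca93ab16de41d75473dd6cc81fc443f820)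 (.leaf (nat_lit 0x2a6d8652727d630d39b95abb7df08317d0737820)) (.leaf (nat_lit 0x2a6d87ca93ab16de41d75473dd6cc81fc443f820)))) (.node (nat_lit 0x2a6d894eaf651aeca97d8c35be5c6227ce647820) (.node (nat_lit 0x2a6d8932b49bdb1daa1c72f59edce627c6247820) (.leaf (nat_lit 0x2a6d87d68c94d6aec23a6bb3cbec441fcc83f820)) (.leaf (nat_lit 0x2a6d8932b49bdb1daa1c72f59edce627c6247820))) (.node (nat_lit 0x2a6d89bd92a55cbd45bb82b97cf48737d0317820) (.leaf (nat_lit 0x2a6d894eaf651aeca97d8c35be5c6227ce647820)) (.leaf (nat_lit 0x2a6d89bd92a55cbd45bb82b97cf48737d0317820))))) (.node (nat_lit 0x2a6d8ace5463d4edb61d8aef9e68e247c6627820) (.node (nat_lit 0x2a6d8a55f39320ae2dda6c77dbe4c43fc481f820) (.node (nat_lit 0x2a6d8a49ecace0deae3753b7cd64483fcc41f820) (.leaf (nat_lit 0x2a6d89d1957c9d0bc5595b79adf50337c8717820)) (.leaf (nat_lit 0x2a6d8a49ecace0deae3753b7cd64483fcc41f820))) (.node (nat_lit 0x2a6d8ab24f9d151cb57c742fbee86647ce227820)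 (.leaf (nat_lit 0x2a6d8a55f39320ae2dda6c77dbe4c43fc481f820)) (.leaf (nat_lit 0x2a6d8ab24f9d151cb57c742fbee86647ce227820)))) (.node (nat_lit 0x2a716652757c9cbd45bb82b97cf5031788737c20) (.node (nat_lit 0x2a71663e72a55d0bc5595b79adf4871790337c20) (.leaf (nat_lit 0x2a6d8ace5463d4edb61d8aef9e68e247c6627820)) (.leaf (nat_lit 0x2a71663e72a55d0bc5595b79adf4871790337c20))) (.node (nat_lit 0x2a7167ca8cace0ae2dda6c77dbe4481f8c43fc20) (.leaf (nat_lit 0x2a716652757c9cbd45bb82b97cf5031788737c20)) (.leaf (nat_lit 0x2a7167ca8cace0ae2dda6c77dbe4481f8c43fc20)))))) (.node (nat_lit 0x2a716ab2549bdaeca97d8c35be5ce64786227c20) (.node (nat_lit 0x2a7169bd95a4a30d39b95abb7df1073788317c20) (.node (nat_lit 0x2a716932af9d14edb61d8aef9e6866278e247c20) (.leaf (nat_lit 0x2a7167d6939320deae3753b7cd64c41f8483fc20)) (.node (nat_lit 0x2a71694eb463d51cb57c742fbee8e22786647c20) (.leaf (nat_lit 0x2a716932af9d14edb61d8aef9e6866278e247c20))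 (.leaf (nat_lit 0x2a71694eb463d51cb57c742fbee8e22786647c20)))) (.node (nat_lit 0x2a716a49f3ab16aec23a6bb3cbecc83f8441fc20) (.node (nat_lit 0x2a7169d1927d62bbb95b837bacf0833790717c20) (.leaf (nat_lit 0x2a7169bd95a4a30d39b95abb7df1073788317c20)) (.leaf (nat_lit 0x2a7169d1927d62bbb95b837bacf0833790717c20))) (.node (nat_lit 0x2a716a55ec94d6de41d75473dd6c443f8c81fc20) (.leaf (nat_lit 0x2a716a49f3ab16aec23a6bb3cbecc83f8441fc20)) (.leaf (nat_lit 0x2a716a55ec94d6de41d75473dd6c443f8c81fc20))))) (.node (nat_lit 0x3094d6726bec35275f19ad9f1dd09f29d1e48c20) (.node (nat_lit 0x3094d5b21c9f71adda54bd5d97c7c921fe540c20) (.node (nat_lit 0x2a716ace4f651b1daa1c72f59edc62478e627c20) (.leaf (nat_lit 0x2a716ab2549bdaeca97d8c35be5ce64786227c20)) (.leaf (nat_lit 0x2a716ace4f651b1daa1c72f59edc62478e627c20))) (.node (nat_lit 0x3094d5ce1d67317cdaafd49dba47e521fc940c20) (.leaf (nat_lit 0x3094d5b21c9f71adda54bd5d97c7c921fe540c20))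 (.leaf (nat_lit 0x3094d5ce1d67317cdaafd49dba47e521fc940c20)))) (.node (nat_lit 0x3094d8317d9f2dace2b4bca3b7bbe941fc520c20) (.node (nat_lit 0x3094d67670e2f558dedb961eecd11e29c9f48c20) (.leaf (nat_lit 0x3094d6726bec35275f19ad9f1dd09f29d1e48c20)) (.leaf (nat_lit 0x3094d67670e2f558dedb961eecd11e29c9f48c20))) (.node (nat_lit 0x3094d84d7c676d7de24fd5639a3bc541fe920c20) (.leaf (nat_lit 0x3094d8317d9f2dace2b4bca3b7bbe941fc520c20)) (.leaf (nat_lit 0x3094d84d7c676d7de24fd5639a3bc541fe920c20))))))) (.node (nat_lit 0x30970e4fad62a9973f12ddaf1ae8e5f2069f9020) (.node (nat_lit 0x30970575b3e32cfae337a6e32d393e1a0bf39020) (.node (nat_lit 0x3094de43b35b256a56eec6b6f8e524f1ca8f8c20) (.node (nat_lit 0x3094d9f58be42f576b1b95a91cbc9e49d1f28c20) (.leaf (nat_lit 0x3094d9f190eaef28ead9ae28edbd1f49c9e28c20)) (.node (nat_lit 0x3094de2fac84e587d751b5f74764a8f1d24f8c20) (.leaf (nat_lit 0x3094d9f58be42f576b1b95a91cbc9e49d1f28c20))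 (.leaf (nat_lit 0x3094de2fac84e587d751b5f74764a8f1d24f8c20)))) (.node (nat_lit 0x3094dec38c5ceb67cb4ec5f348eca4f9d28f0c20) (.node (nat_lit 0x3094deaf93832b8a4af1b6b2f76d28f9ca4f0c20) (.leaf (nat_lit 0x3094de43b35b256a56eec6b6f8e524f1ca8f8c20)) (.leaf (nat_lit 0x3094deaf93832b8a4af1b6b2f76d28f9ca4f0c20))) (.node (nat_lit 0x30970571aceced49637a7e635bb8bf1a13e39020) (.leaf (nat_lit 0x3094dec38c5ceb67cb4ec5f348eca4f9d28f0c20)) (.leaf (nat_lit 0x30970571aceced49637a7e635bb8bf1a13e39020))))) (.node (nat_lit 0x309706f54ce4f0f95b77a65d5d44be3a13f19020) (.node (nat_lit 0x309706367d57378d65f1b5257757e32a3c749020) (.node (nat_lit 0x3097062a7c6f776be68ec3e5a8d7c72a3e349020) (.leaf (nat_lit 0x30970575b3e32cfae337a6e32d393e1a0bf39020)) (.leaf (nat_lit 0x3097062a7c6f776be68ec3e5a8d7c72a3e349020))) (.node (nat_lit 0x309706f153eb314adb3a7edd2bc53f3a0be19020) (.leaf (nat_lit 0x309706367d57378d65f1b5257757e32a3c749020))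 (.leaf (nat_lit 0x309706f153eb314adb3a7edd2bc53f3a0be19020)))) (.node (nat_lit 0x309709b59c57738bee91b3eba74bc34a3e729020) (.node (nat_lit 0x309709a99d6f336d6deec52b78cbe74a3c329020) (.leaf (nat_lit 0x309706f54ce4f0f95b77a65d5d44be3a13f19020)) (.leaf (nat_lit 0x309709a99d6f336d6deec52b78cbe74a3c329020))) (.node (nat_lit 0x30970e33aa9b69b8bed5ce2ee96869f20e5f9020) (.leaf (nat_lit 0x309709b59c57738bee91b3eba74bc34a3e729020)) (.leaf (nat_lit 0x30970e33aa9b69b8bed5ce2ee96869f20e5f9020)))))) (.node (nat_lit 0x309936ad5d87359b5e32db9f8ad3e83a7c419420) (.node (nat_lit 0x3099352dbc876f9c69d2dc696abfc81a7e439420) (.node (nat_lit 0x30970eb38d9a9fb75315cdb5195ce9fa065f1020) (.leaf (nat_lit 0x30970e4fad62a9973f12ddaf1ae8e5f2069f9020)) (.node (nat_lit 0x30970ecf8a635f98d2d2de34eadc65fa0e9f1020) (.leaf (nat_lit 0x30970eb38d9a9fb75315cdb5195ce9fa065f1020)) (.leaf (nat_lit 0x30970ecf8a635f98d2d2de34eadc65fa0e9f1020))))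 (.node (nat_lit 0x309935f20aeb72ea6ef68eaafc487f224fe41420) (.node (nat_lit 0x30993541bd5f2fbb6a35cba9893fe41a7c839420) (.leaf (nat_lit 0x3099352dbc876f9c69d2dc696abfc81a7e439420)) (.leaf (nat_lit 0x30993541bd5f2fbb6a35cba9893fe41a7c839420))) (.node (nat_lit 0x309935f60de2b317ef5875eb4b48fe2247f41420) (.leaf (nat_lit 0x309935f20aeb72ea6ef68eaafc487f224fe41420)) (.leaf (nat_lit 0x309935f60de2b317ef5875eb4b48fe2247f41420))))) (.node (nat_lit 0x30993e2bab6c1d7ac72fd6f12a5887f2503f9420) (.node (nat_lit 0x309938716deab6e7e7568de54c54ff4247e21420) (.node (nat_lit 0x309936c15c5f75bc5dd5cc5f6953c43a7e819420) (.leaf (nat_lit 0x309936ad5d87359b5e32db9f8ad3e83a7c419420)) (.leaf (nat_lit 0x309936c15c5f75bc5dd5cc5f6953c43a7e819420))) (.node (nat_lit 0x309938756ae3771a66f876a4fb547e424ff21420) (.leaf (nat_lit 0x309938716deab6e7e7568de54c54ff4247e21420)) (.leaf (nat_lit 0x309938756ae3771a66f876a4fb547e424ff21420))))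 (.node (nat_lit 0x30993eab906ae3793b6fd66d5a6107fa483f1420) (.node (nat_lit 0x30993e37b052dda94774be7157d903f2487f9420) (.leaf (nat_lit 0x30993e2bab6c1d7ac72fd6f12a5887f2503f9420)) (.leaf (nat_lit 0x30993e37b052dda94774be7157d903f2487f9420))) (.node (nat_lit 0x30993eb78b5423aabb34beed27e083fa507f1420) (.leaf (nat_lit 0x30993eab906ae3793b6fd66d5a6107fa483f1420)) (.leaf (nat_lit 0x30993eb78b5423aabb34beed27e083fa507f1420)))))))) (.node (nat_lit 0x30a6c8716aeb7317ef5875eb4b487f414fe22420) (.node (nat_lit 0x30a0b6367c57736d6deec52b78cbc3293e74a020) (.node (nat_lit 0x309aa9f590e2f5275f19ad9f1dd11e48c9f29c20) (.node (nat_lit 0x309aa6766be42f28ead9ae28edbc9e28d1f49c20) (.node (nat_lit 0x309aa5ce1c676dace2b4bca3b7bbc520fe941c20) (.leaf (nat_lit 0x309aa5b21d9f2d7de24fd5639a3be920fc541c20)) (.node (nat_lit 0x309aa67270eaef576b1b95a91cbd1f28c9e49c20) (.leaf (nat_lit 0x309aa5ce1c676dace2b4bca3b7bbc520fe941c20))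 (.leaf (nat_lit 0x309aa67270eaef576b1b95a91cbd1f28c9e49c20)))) (.node (nat_lit 0x309aa84d7d6731adda54bd5d97c7e540fc921c20) (.node (nat_lit 0x309aa8317c9f717cdaafd49dba47c940fe521c20) (.leaf (nat_lit 0x309aa6766be42f28ead9ae28edbc9e28d1f49c20)) (.leaf (nat_lit 0x309aa8317c9f717cdaafd49dba47c940fe521c20))) (.node (nat_lit 0x309aa9f18bec3558dedb961eecd09f48d1e29c20) (.leaf (nat_lit 0x309aa84d7d6731adda54bd5d97c7e540fc921c20)) (.leaf (nat_lit 0x309aa9f18bec3558dedb961eecd09f48d1e29c20))))) (.node (nat_lit 0x309aaec3935b2587d751b5f7476524f8ca8f1c20) (.node (nat_lit 0x309aae43ac5ceb8a4af1b6b2f76ca4f0d28f9c20) (.node (nat_lit 0x309aae2fb3832b67cb4ec5f348ed28f0ca4f9c20) (.leaf (nat_lit 0x309aa9f590e2f5275f19ad9f1dd11e48c9f29c20)) (.leaf (nat_lit 0x309aae2fb3832b67cb4ec5f348ed28f0ca4f9c20))) (.node (nat_lit 0x309aaeaf8c84e56a56eec6b6f8e4a8f8d24f1c20) (.leaf (nat_lit 0x309aae43ac5ceb8a4af1b6b2f76ca4f0d28f9c20))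 (.leaf (nat_lit 0x309aaeaf8c84e56a56eec6b6f8e4a8f8d24f1c20)))) (.node (nat_lit 0x30a0b575ace4f14adb3a7edd2bc4be1913f3a020) (.node (nat_lit 0x30a0b571b3eb30f95b77a65d5d453f190be3a020) (.leaf (nat_lit 0x309aaec3935b2587d751b5f7476524f8ca8f1c20)) (.leaf (nat_lit 0x30a0b571b3eb30f95b77a65d5d453f190be3a020))) (.node (nat_lit 0x30a0b62a7d6f338bee91b3eba74be7293c34a020) (.leaf (nat_lit 0x30a0b575ace4f14adb3a7edd2bc4be1913f3a020)) (.leaf (nat_lit 0x30a0b62a7d6f338bee91b3eba74be7293c34a020)))))) (.node (nat_lit 0x30a0beb38a9b69973f12ddaf1ae869f90e5f2020) (.node (nat_lit 0x30a0b9a99c6f778d65f1b5257757c7493e32a020) (.node (nat_lit 0x30a0b6f14cececfae337a6e32d38bf3913e1a020) (.leaf (nat_lit 0x30a0b6367c57736d6deec52b78cbc3293e74a020)) (.node (nat_lit 0x30a0b6f553e32d49637a7e635bb93e390bf1a020) (.leaf (nat_lit 0x30a0b6f14cececfae337a6e32d38bf3913e1a020)) (.leaf (nat_lit 0x30a0b6f553e32d49637a7e635bb93e390bf1a020))))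 (.node (nat_lit 0x30a0be33ad9a9f98d2d2de34eadce9f1065fa020) (.node (nat_lit 0x30a0b9b59d57376be68ec3e5a8d7e3493c72a020) (.leaf (nat_lit 0x30a0b9a99c6f778d65f1b5257757c7493e32a020)) (.leaf (nat_lit 0x30a0b9b59d57376be68ec3e5a8d7e3493c72a020))) (.node (nat_lit 0x30a0be4faa635fb75315cdb5195c65f10e9fa020) (.leaf (nat_lit 0x30a0be33ad9a9f98d2d2de34eadce9f1065fa020)) (.leaf (nat_lit 0x30a0be4faa635fb75315cdb5195c65f10e9fa020))))) (.node (nat_lit 0x30a6c5f20deab71a66f876a4fb54ff2147e42420) (.node (nat_lit 0x30a6c52dbd8735bc5dd5cc5f6953e8197c43a420) (.node (nat_lit 0x30a0becf8d62a9b8bed5ce2ee968e5f9069f2020) (.leaf (nat_lit 0x30a0beb38a9b69973f12ddaf1ae869f90e5f2020)) (.leaf (nat_lit 0x30a0becf8d62a9b8bed5ce2ee968e5f9069f2020))) (.node (nat_lit 0x30a6c541bc5f759b5e32db9f8ad3c4197e83a420) (.leaf (nat_lit 0x30a6c52dbd8735bc5dd5cc5f6953e8197c43a420)) (.leaf (nat_lit 0x30a6c541bc5f759b5e32db9f8ad3c4197e83a420))))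 (.node (nat_lit 0x30a6c6ad5c876fbb6a35cba9893fc8397e41a420) (.node (nat_lit 0x30a6c5f60ae376e7e7568de54c547e214ff42420) (.leaf (nat_lit 0x30a6c5f20deab71a66f876a4fb54ff2147e42420)) (.leaf (nat_lit 0x30a6c5f60ae376e7e7568de54c547e214ff42420))) (.node (nat_lit 0x30a6c6c15d5f2f9c69d2dc696abfe4397c81a420) (.leaf (nat_lit 0x30a6c6ad5c876fbb6a35cba9893fc8397e41a420)) (.leaf (nat_lit 0x30a6c6c15d5f2f9c69d2dc696abfe4397c81a420))))))) (.node (nat_lit 0x30b9d8356c54e92b3e39abaf8de8a347d2727820) (.node (nat_lit 0x30b9d54db062eaebca968bf3ac6d051fc893f820) (.node (nat_lit 0x30a6ce37ab5423793b6fd66d5a6083f1507fa420) (.node (nat_lit 0x30a6c8756de2b2ea6ef68eaafc48fe4147f22420) (.leaf (nat_lit 0x30a6c8716aeb7317ef5875eb4b487f414fe22420)) (.node (nat_lit 0x30a6ce2bb06ae3aabb34beed27e107f1483fa420) (.leaf (nat_lit 0x30a6c8756de2b2ea6ef68eaafc48fe4147f22420)) (.leaf (nat_lit 0x30a6ce2bb06ae3aabb34beed27e107f1483fa420))))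 (.node (nat_lit 0x30a6ceb79052dd7ac72fd6f12a5903f9487f2420) (.node (nat_lit 0x30a6ceab8b6c1da94774be7157d887f9503f2420) (.leaf (nat_lit 0x30a6ce37ab5423793b6fd66d5a6083f1507fa420)) (.leaf (nat_lit 0x30a6ceab8b6c1da94774be7157d887f9503f2420))) (.node (nat_lit 0x30b9d531ab9c2b1d49f875337b6c891fd053f820) (.leaf (nat_lit 0x30a6ceb79052dd7ac72fd6f12a5903f9487f2420)) (.leaf (nat_lit 0x30b9d531ab9c2b1d49f875337b6c891fd053f820))))) (.node (nat_lit 0x30b9d6426d5aa34dba5a7d6d9be0e42fc684f820) (.node (nat_lit 0x30b9d5b613531f2c51d9ac756ddd2327ca747820) (.node (nat_lit 0x30b9d5aa0c6cdf5b523b93b58cdca727d2347820) (.leaf (nat_lit 0x30b9d54db062eaebca968bf3ac6d051fc893f820)) (.leaf (nat_lit 0x30b9d5aa0c6cdf5b523b93b58cdca727d2347820))) (.node (nat_lit 0x30b9d62e6a8362fcbab7a4adbd60682fce44f820) (.leaf (nat_lit 0x30b9d5b613531f2c51d9ac756ddd2327ca747820)) (.leaf (nat_lit 0x30b9d62e6a8362fcbab7a4adbd60682fce44f820))))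 (.node (nat_lit 0x30b9d6cd4b6424ed55f68d377c64853fd091f820) (.node (nat_lit 0x30b9d6b1509ae51bd69873f7ab65093fc851f820) (.leaf (nat_lit 0x30b9d6426d5aa34dba5a7d6d9be0e42fc684f820)) (.leaf (nat_lit 0x30b9d6b1509ae51bd69873f7ab65093fc851f820))) (.node (nat_lit 0x30b9d829736b295c3ddb946f6ce92747ca327820) (.leaf (nat_lit 0x30b9d6cd4b6424ed55f68d377c64853fd091f820)) (.leaf (nat_lit 0x30b9d829736b295c3ddb946f6ce92747ca327820)))))) (.node (nat_lit 0x30bbc62e6d829d4cc6ba7cb1bbd8e82f8644fc20) (.node (nat_lit 0x30bbc531b09ae4ed55f68d377c65091f8853fc20) (.node (nat_lit 0x30b9d9ad8d829cfdc657a5719d58e84fc642f820) (.leaf (nat_lit 0x30b9d8356c54e92b3e39abaf8de8a347d2727820)) (.node (nat_lit 0x30b9d9c18a5b5d4cc6ba7cb1bbd8644fce82f820) (.leaf (nat_lit 0x30b9d9ad8d829cfdc657a5719d58e84fc642f820)) (.leaf (nat_lit 0x30b9d9c18a5b5d4cc6ba7cb1bbd8644fce82f820)))) (.node (nat_lit 0x30bbc5aa136b292b3e39abaf8de927278a347c20)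 (.node (nat_lit 0x30bbc54dab64251bd69873f7ab64851f9093fc20) (.leaf (nat_lit 0x30bbc531b09ae4ed55f68d377c65091f8853fc20)) (.leaf (nat_lit 0x30bbc54dab64251bd69873f7ab64851f9093fc20))) (.node (nat_lit 0x30bbc5b60c54e95c3ddb946f6ce8a32792747c20) (.leaf (nat_lit 0x30bbc5aa136b292b3e39abaf8de927278a347c20)) (.leaf (nat_lit 0x30bbc5b60c54e95c3ddb946f6ce8a32792747c20))))) (.node (nat_lit 0x30bbc8296c6cdf2c51d9ac756ddca74792327c20) (.node (nat_lit 0x30bbc6b14b9c2aebca968bf3ac6c893f9051fc20) (.node (nat_lit 0x30bbc6426a5b5cfdc657a5719d58642f8e84fc20) (.leaf (nat_lit 0x30bbc62e6d829d4cc6ba7cb1bbd8e82f8644fc20)) (.leaf (nat_lit 0x30bbc6426a5b5cfdc657a5719d58642f8e84fc20))) (.node (nat_lit 0x30bbc6cd5062eb1d49f875337b6d053f8891fc20) (.leaf (nat_lit 0x30bbc6b14b9c2aebca968bf3ac6c893f9051fc20)) (.leaf (nat_lit 0x30bbc6cd5062eb1d49f875337b6d053f8891fc20)))) (.node (nat_lit 0x30bbc9ad8a83634dba5a7d6d9be0684f8e42fc20)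 (.node (nat_lit 0x30bbc83573531f5b523b93b58cdd23478a727c20) (.leaf (nat_lit 0x30bbc8296c6cdf2c51d9ac756ddca74792327c20)) (.leaf (nat_lit 0x30bbc83573531f5b523b93b58cdd23478a727c20))) (.node (nat_lit 0x30bbc9c18d5aa2fcbab7a4adbd60e44f8682fc20) (.leaf (nat_lit 0x30bbc9ad8a83634dba5a7d6d9be0684f8e42fc20)) (.leaf (nat_lit 0x30bbc9c18d5aa2fcbab7a4adbd60e44f8682fc20))))))))))
noncomputable def AN_lK_T2 : ST := (.node (nat_lit 0x4120b74a3aaded9ee293dbdbc62be939bc518820) (.node (nat_lit 0x38e8f565b1dbb50adf965f672c311e3149f12420) (.node (nat_lit 0x38dd1a65eddab938771765aabd485e4a0df29020) (.node (nat_lit 0x38daa7c69976ef8eea4bb559c84fe429bc848820) (.node (nat_lit 0x38d4da45f976ef6e6ab0c499d5cfe448bc829820) (.node (nat_lit 0x38d4d7c69b76756ede50c567c5b3c428be849820) (.node (nat_lit 0x38d4d76e34cbf1265afcaea13ead3f208be41820) (.leaf (nat_lit 0x38d4d7662fdd3159db5d95e0ce2cbe2093f41820))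 (.node (nat_lit 0x38d4d7ba998ef58e5eabb4a7d833e828bc449820) (.leaf (nat_lit 0x38d4d76e34cbf1265afcaea13ead3f208be41820)) (.leaf (nat_lit 0x38d4d7ba998ef58e5eabb4a7d833e828bc449820)))) (.node (nat_lit 0x38d4d8edcfcd2d29e35cadd6cec0bf4093e21820) (.node (nat_lit 0x38d4d8e5d4dbed5662fd96973e413e408bf21820) (.leaf (nat_lit 0x38d4d7c69b76756ede50c567c5b3c428be849820)) (.leaf (nat_lit 0x38d4d8e5d4dbed5662fd96973e413e408bf21820))) (.node (nat_lit 0x38d4da39fb8e6f8eea4bb559c84fc848be429820) (.leaf (nat_lit 0x38d4d8edcfcd2d29e35cadd6cec0bf4093e21820)) (.leaf (nat_lit 0x38d4da39fb8e6f8eea4bb559c84fc848be429820))))) (.node (nat_lit 0x38d4ddd32e7c65785713d5bab67085f0909f9820) (.node (nat_lit 0x38d4dcd3717bab75cad3d639067505f8889f1820) (.node (nat_lit 0x38d4dcbf6ea46ba84b0cbdb8b9f489f8905f1820) (.leaf (nat_lit 0x38d4da45f976ef6e6ab0c499d5cfe448bc829820)) (.leaf (nat_lit 0x38d4dcbf6ea46ba84b0cbdb8b9f489f8905f1820)))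 (.node (nat_lit 0x38d4ddbf31a3a5a5d6ccbe3b09f109f0885f9820) (.leaf (nat_lit 0x38d4dcd3717bab75cad3d639067505f8889f1820)) (.leaf (nat_lit 0x38d4ddbf31a3a5a5d6ccbe3b09f109f0885f9820)))) (.node (nat_lit 0x38daa76e2fcd2d5662fd96973e40bf2193e40820) (.node (nat_lit 0x38daa76634dbed29e35cadd6cec13e218bf40820) (.leaf (nat_lit 0x38d4ddd32e7c65785713d5bab67085f0909f9820)) (.leaf (nat_lit 0x38daa76634dbed29e35cadd6cec13e218bf40820))) (.node (nat_lit 0x38daa7ba9b8e6f6e6ab0c499d5cfc829be448820) (.leaf (nat_lit 0x38daa76e2fcd2d5662fd96973e40bf2193e40820)) (.leaf (nat_lit 0x38daa7ba9b8e6f6e6ab0c499d5cfc829be448820)))))) (.node (nat_lit 0x38daadbf2ea46b75cad3d639067489f1905f8820) (.node (nat_lit 0x38daaa39f98ef56ede50c567c5b3e849bc428820) (.node (nat_lit 0x38daa8e5cfdd31265afcaea13eacbe4193f20820) (.leaf (nat_lit 0x38daa7c69976ef8eea4bb559c84fe429bc848820)) (.node (nat_lit 0x38daa8edd4cbf159db5d95e0ce2d3f418be20820)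 (.leaf (nat_lit 0x38daa8e5cfdd31265afcaea13eacbe4193f20820)) (.leaf (nat_lit 0x38daa8edd4cbf159db5d95e0ce2d3f418be20820)))) (.node (nat_lit 0x38daacbf71a3a5785713d5bab67109f9885f0820) (.node (nat_lit 0x38daaa45fb76758e5eabb4a7d833c449be828820) (.leaf (nat_lit 0x38daaa39f98ef56ede50c567c5b3e849bc428820)) (.leaf (nat_lit 0x38daaa45fb76758e5eabb4a7d833c449be828820))) (.node (nat_lit 0x38daacd36e7c65a5d6ccbe3b09f085f9909f0820) (.leaf (nat_lit 0x38daacbf71a3a5785713d5bab67109f9885f0820)) (.leaf (nat_lit 0x38daacd36e7c65a5d6ccbe3b09f085f9909f0820))))) (.node (nat_lit 0x38dd16bd5ba671dbd995e4e1a92fc9123e531020) (.node (nat_lit 0x38dd153db9a6eddd6275e3177943e9323c511020) (.node (nat_lit 0x38daadd3317baba84b0cbdb8b9f505f1889f8820) (.leaf (nat_lit 0x38daadbf2ea46b75cad3d639067489f1905f8820)) (.leaf (nat_lit 0x38daadd3317baba84b0cbdb8b9f505f1889f8820))) (.node (nat_lit 0x38dd1551bb7e6dcbe192ecd7aac3c5323e911020)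 (.leaf (nat_lit 0x38dd153db9a6eddd6275e3177943e9323c511020)) (.leaf (nat_lit 0x38dd1551bb7e6dcbe192ecd7aac3c5323e911020)))) (.node (nat_lit 0x38dd17e68adb7b35f2d766250d54de2a05f49020) (.node (nat_lit 0x38dd16d1597ef1cd5a72eb217aafe5123c931020) (.leaf (nat_lit 0x38dd16bd5ba671dbd995e4e1a92fc9123e531020)) (.leaf (nat_lit 0x38dd16d1597ef1cd5a72eb217aafe5123c931020))) (.node (nat_lit 0x38dd17ee8dcabac8731a9da4bbd45f2a0de49020) (.leaf (nat_lit 0x38dd17e68adb7b35f2d766250d54de2a05f49020)) (.leaf (nat_lit 0x38dd17ee8dcabac8731a9da4bbd45f2a0de49020))))))) (.node (nat_lit 0x38df4cc76d7297d9c355e5ecc96044fa4c8f1420) (.node (nat_lit 0x38df456db1cbaf096bb65f195c4d1f3249e11420) (.node (nat_lit 0x38dd1cb77453e78ab38bb775285d26fa0a2f1020) (.node (nat_lit 0x38dd1a6deacb78c5f6da9e2b0bc8df4a05e29020) (.leaf (nat_lit 0x38dd1a65eddab938771765aabd485e4a0df29020)) (.node (nat_lit 0x38dd1cab6f6d276933b0c73555dca2fa126f1020)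 (.leaf (nat_lit 0x38dd1a6deacb78c5f6da9e2b0bc8df4a05e29020)) (.leaf (nat_lit 0x38dd1cab6f6d276933b0c73555dca2fa126f1020)))) (.node (nat_lit 0x38dd1db72f5519894fabb72f5868a6f2122f9020) (.node (nat_lit 0x38dd1dab346bd96acf90c76f25e922f20a6f9020) (.leaf (nat_lit 0x38dd1cb77453e78ab38bb775285d26fa0a2f1020)) (.leaf (nat_lit 0x38dd1dab346bd96acf90c76f25e922f20a6f9020))) (.node (nat_lit 0x38df4565aedc6ebaeb9887592b4c9e3251f11420) (.leaf (nat_lit 0x38dd1db72f5519894fabb72f5868a6f2122f9020)) (.leaf (nat_lit 0x38df4565aedc6ebaeb9887592b4c9e3251f11420))))) (.node (nat_lit 0x38df47363b5679ac760cbaeb69cbc6227e241420) (.node (nat_lit 0x38df46ed4ecc750adf965f672c309f1251e31420) (.node (nat_lit 0x38df46e551dbb4b95fb887275b311e1249f31420) (.leaf (nat_lit 0x38df456db1cbaf096bb65f195c4d1f3249e11420)) (.leaf (nat_lit 0x38df46e551dbb4b95fb887275b311e1249f31420))) (.node (nat_lit 0x38df472a396ef97b7573d42b864be2227c641420)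 (.leaf (nat_lit 0x38df46ed4ecc750adf965f672c309f1251e31420)) (.leaf (nat_lit 0x38df472a396ef97b7573d42b864be2227c641420)))) (.node (nat_lit 0x38df48b5d956fbab716cbc2589d7e6427c221420) (.node (nat_lit 0x38df48a9db6e7b7c7213d2e56657c2427e621420) (.leaf (nat_lit 0x38df47363b5679ac760cbaeb69cbc6227e241420)) (.leaf (nat_lit 0x38df48a9db6e7b7c7213d2e56657c2427e621420))) (.node (nat_lit 0x38df4cbb6a8b57c642f2eead3ae0c8fa444f1420) (.leaf (nat_lit 0x38df48b5d956fbab716cbc2589d7e6427c221420)) (.leaf (nat_lit 0x38df4cbb6a8b57c642f2eead3ae0c8fa444f1420)))))) (.node (nat_lit 0x38e2e7e68ddab8c5f6da9e2b0bc85e290df4a020) (.node (nat_lit 0x38e2e53dbba671cd5a72eb217aafc9313e512020) (.node (nat_lit 0x38df4dbb2d8aa1c9af52edf0cad848f24c4f9420) (.leaf (nat_lit 0x38df4cc76d7297d9c355e5ecc96044fa4c8f1420)) (.node (nat_lit 0x38df4dc72a7361d62ef5e6b13958c4f2448f9420) (.leaf (nat_lit 0x38df4dbb2d8aa1c9af52edf0cad848f24c4f9420))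 (.leaf (nat_lit 0x38df4dc72a7361d62ef5e6b13958c4f2448f9420)))) (.node (nat_lit 0x38e2e6bd59a6edcbe192ecd7aac3e9113c532020) (.node (nat_lit 0x38e2e551b97ef1dbd995e4e1a92fe5313c912020) (.leaf (nat_lit 0x38e2e53dbba671cd5a72eb217aafc9313e512020)) (.leaf (nat_lit 0x38e2e551b97ef1dbd995e4e1a92fe5313c912020))) (.node (nat_lit 0x38e2e6d15b7e6ddd6275e3177943c5113e932020) (.leaf (nat_lit 0x38e2e6bd59a6edcbe192ecd7aac3e9113c532020)) (.leaf (nat_lit 0x38e2e6d15b7e6ddd6275e3177943c5113e932020))))) (.node (nat_lit 0x38e2ecab746bd9894fabb72f586922f90a6f2020) (.node (nat_lit 0x38e2ea65eadb7ac8731a9da4bbd4de4905f2a020) (.node (nat_lit 0x38e2e7ee8acb7938771765aabd48df2905e4a020) (.leaf (nat_lit 0x38e2e7e68ddab8c5f6da9e2b0bc85e290df4a020)) (.leaf (nat_lit 0x38e2e7ee8acb7938771765aabd48df2905e4a020))) (.node (nat_lit 0x38e2ea6dedcabb35f2d766250d545f490de2a020) (.leaf (nat_lit 0x38e2ea65eadb7ac8731a9da4bbd4de4905f2a020))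 (.leaf (nat_lit 0x38e2ea6dedcabb35f2d766250d545f490de2a020)))) (.node (nat_lit 0x38e2edab2f6d278ab38bb775285ca2f1126fa020) (.node (nat_lit 0x38e2ecb76f55196acf90c76f25e8a6f9122f2020) (.leaf (nat_lit 0x38e2ecab746bd9894fabb72f586922f90a6f2020)) (.leaf (nat_lit 0x38e2ecb76f55196acf90c76f25e8a6f9122f2020))) (.node (nat_lit 0x38e2edb73453e76933b0c73555dd26f10a2fa020) (.leaf (nat_lit 0x38e2edab2f6d278ab38bb775285ca2f1126fa020)) (.leaf (nat_lit 0x38e2edb73453e76933b0c73555dd26f10a2fa020)))))))) (.node (nat_lit 0x38f797aa916b975bc19d94edae61022fc864f820) (.node (nat_lit 0x38f3b6c54f752b3c4a1762f96d74a41792837c20) (.node (nat_lit 0x38e8f8b5db56797b7573d42b864bc6417e222420) (.node (nat_lit 0x38e8f6ed51cbaebaeb9887592b4d1f1149e32420) (.node (nat_lit 0x38e8f56daecc74b95fb887275b309f3151e12420) (.leaf (nat_lit 0x38e8f565b1dbb50adf965f672c311e3149f12420)) (.node (nat_lit 0x38e8f6e54edc6f096bb65f195c4c9e1151f32420)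 (.leaf (nat_lit 0x38e8f56daecc74b95fb887275b309f3151e12420)) (.leaf (nat_lit 0x38e8f6e54edc6f096bb65f195c4c9e1151f32420)))) (.node (nat_lit 0x38e8f7363956fb7c7213d2e56657e6217c242420) (.node (nat_lit 0x38e8f72a3b6e7bab716cbc2589d7c2217e642420) (.leaf (nat_lit 0x38e8f6ed51cbaebaeb9887592b4d1f1149e32420)) (.leaf (nat_lit 0x38e8f72a3b6e7bab716cbc2589d7c2217e642420))) (.node (nat_lit 0x38e8f8a9d96ef9ac760cbaeb69cbe2417c622420) (.leaf (nat_lit 0x38e8f7363956fb7c7213d2e56657e6217c242420)) (.leaf (nat_lit 0x38e8f8a9d96ef9ac760cbaeb69cbe2417c622420))))) (.node (nat_lit 0x38e8fdc72d7297c642f2eead3ae044f14c8fa420) (.node (nat_lit 0x38e8fcc76a7361c9af52edf0cad8c4f9448f2420) (.node (nat_lit 0x38e8fcbb6d8aa1d62ef5e6b1395848f94c4f2420) (.leaf (nat_lit 0x38e8f8b5db56797b7573d42b864bc6417e222420)) (.leaf (nat_lit 0x38e8fcbb6d8aa1d62ef5e6b1395848f94c4f2420))) (.node (nat_lit 0x38e8fdbb2a8b57d9c355e5ecc960c8f1444fa420)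 (.leaf (nat_lit 0x38e8fcc76a7361c9af52edf0cad8c4f9448f2420)) (.leaf (nat_lit 0x38e8fdbb2a8b57d9c355e5ecc960c8f1444fa420)))) (.node (nat_lit 0x38f3b545b473e53b5577643b8d7124378a817c20) (.node (nat_lit 0x38f3b539af8d24cc561a9afb6bf0a83792417c20) (.leaf (nat_lit 0x38e8fdc72d7297c642f2eead3ae044f14c8fa420)) (.leaf (nat_lit 0x38f3b539af8d24cc561a9afb6bf0a83792417c20))) (.node (nat_lit 0x38f3b6b9548beacb497a9c398bf528178a437c20) (.leaf (nat_lit 0x38f3b545b473e53b5577643b8d7124378a817c20)) (.leaf (nat_lit 0x38f3b6b9548beacb497a9c398bf528178a437c20)))))) (.node (nat_lit 0x38f3ba29f16b972d427cab2d7ee1024f8862fc20) (.node (nat_lit 0x38f3b7aa8e6c612bad9cacf1aed8822f9064fc20) (.node (nat_lit 0x38f3b73e2aa3590ece565d6fcc68c92784547c20) (.leaf (nat_lit 0x38f3b6c54f752b3c4a1762f96d74a41792837c20)) (.node (nat_lit 0x38f3b7522d7a98be4eb884afdb6845278c947c20) (.leaf (nat_lit 0x38f3b73e2aa3590ece565d6fcc68c92784547c20))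 (.leaf (nat_lit 0x38f3b7522d7a98be4eb884afdb6845278c947c20)))) (.node (nat_lit 0x38f3b8bdcda2a70e32b65cb5dc5c49478c527c20) (.node (nat_lit 0x38f3b7b69153a15d2e7d93317e59062f8824fc20) (.leaf (nat_lit 0x38f3b7aa8e6c612bad9cacf1aed8822f9064fc20)) (.leaf (nat_lit 0x38f3b7b69153a15d2e7d93317e59062f8824fc20))) (.node (nat_lit 0x38f3b8d1ca7b66beb2588575cb5cc54784927c20) (.leaf (nat_lit 0x38f3b8bdcda2a70e32b65cb5dc5c49478c527c20)) (.leaf (nat_lit 0x38f3b8d1ca7b66beb2588575cb5cc54784927c20))))) (.node (nat_lit 0x38f796b94f8d253b5577643b8d70a817d2437820) (.node (nat_lit 0x38f79539b48beb3c4a1762f96d752837ca417820) (.node (nat_lit 0x38f3ba35ee54575bc19d94edae60864f9022fc20) (.leaf (nat_lit 0x38f3ba29f16b972d427cab2d7ee1024f8862fc20)) (.leaf (nat_lit 0x38f3ba35ee54575bc19d94edae60864f9022fc20))) (.node (nat_lit 0x38f79545af752acb497a9c398bf4a437d2817820) (.leaf (nat_lit 0x38f79539b48beb3c4a1762f96d752837ca417820))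 (.leaf (nat_lit 0x38f79545af752acb497a9c398bf4a437d2817820)))) (.node (nat_lit 0x38f7973e2da2a6beb2588575cb5c4927cc547820) (.node (nat_lit 0x38f796c55473e4cc561a9afb6bf12417ca837820) (.leaf (nat_lit 0x38f796b94f8d253b5577643b8d70a817d2437820)) (.leaf (nat_lit 0x38f796c55473e4cc561a9afb6bf12417ca837820))) (.node (nat_lit 0x38f797522a7b670e32b65cb5dc5cc527c4947820) (.leaf (nat_lit 0x38f7973e2da2a6beb2588575cb5c4927cc547820)) (.leaf (nat_lit 0x38f797522a7b670e32b65cb5dc5cc527c4947820))))))) (.node (nat_lit 0x41170bc75574a9663f2ac6fb36f127f08a3f9820) (.node (nat_lit 0x411707563a95f19e59f3dd15d637e538bc919820) (.node (nat_lit 0x38f798d1cd7a990ece565d6fcc684547cc927820) (.node (nat_lit 0x38f797b68e54572d427cab2d7ee0862fd024f820) (.leaf (nat_lit 0x38f797aa916b975bc19d94edae61022fc864f820)) (.node (nat_lit 0x38f798bdcaa358be4eb884afdb68c947c4527820) (.leaf (nat_lit 0x38f797b68e54572d427cab2d7ee0862fd024f820))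 (.leaf (nat_lit 0x38f798bdcaa358be4eb884afdb68c947c4527820)))) (.node (nat_lit 0x38f79a35f153a12bad9cacf1aed9064fc822f820) (.node (nat_lit 0x38f79a29ee6c615d2e7d93317e58824fd062f820) (.leaf (nat_lit 0x38f798d1cd7a990ece565d6fcc684547cc927820)) (.leaf (nat_lit 0x38f79a29ee6c615d2e7d93317e58824fd062f820))) (.node (nat_lit 0x4117074a37aeb1beda8ccbd5c9b7c938be519820) (.leaf (nat_lit 0x38f79a35f153a12bad9cacf1aed9064fc822f820)) (.leaf (nat_lit 0x4117074a37aeb1beda8ccbd5c9b7c938be519820))))) (.node (nat_lit 0x4117096ab1bbb6f6e6dda626ae307e288ff49820) (.node (nat_lit 0x411708d5d796ad9ee293dbdbc62bc518be939820) (.node (nat_lit 0x411708c9daadedbe61eccd1bd9abe918bc539820) (.leaf (nat_lit 0x411707563a95f19e59f3dd15d637e538bc919820)) (.leaf (nat_lit 0x411708c9daadedbe61eccd1bd9abe918bc539820))) (.node (nat_lit 0x4117095eaed47745671c7da6deb0ff2887e49820) (.leaf (nat_lit 0x411708d5d796ad9ee293dbdbc62bc518be939820))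 (.leaf (nat_lit 0x4117095eaed47745671c7da6deb0ff2887e49820)))) (.node (nat_lit 0x41170aea4ebc72f56f1da598de4cfe4887f29820) (.node (nat_lit 0x41170ade51d3b346eedc7e18aecc7f488fe29820) (.leaf (nat_lit 0x4117096ab1bbb6f6e6dda626ae307e288ff49820)) (.leaf (nat_lit 0x41170ade51d3b346eedc7e18aecc7f488fe29820))) (.node (nat_lit 0x41170bbb528d6989bf6db67ac570a3f0927f9820) (.leaf (nat_lit 0x41170aea4ebc72f56f1da598de4cfe4887f29820)) (.leaf (nat_lit 0x41170bbb528d6989bf6db67ac570a3f0927f9820)))))) (.node (nat_lit 0x411d192eb786bb6cf18ac4e9b6bfc228fe649c20) (.node (nat_lit 0x411d15de12d56cca63bb9f1afca8bf30d3e11c20) (.node (nat_lit 0x41170d3af58c9f86532db6f9357523f88a7f1820) (.leaf (nat_lit 0x41170bc75574a9663f2ac6fb36f127f08a3f9820)) (.node (nat_lit 0x41170d46f2755f69d36ac678c6f4a7f8923f1820) (.leaf (nat_lit 0x41170d3af58c9f86532db6f9357523f88a7f1820)) (.leaf (nat_lit 0x41170d46f2755f69d36ac678c6f4a7f8923f1820))))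 (.node (nat_lit 0x411d185d75d4b0c7db9b9f554cb53f10cbe31c20) (.node (nat_lit 0x411d15ea15bcad37e399675b4da93e30cbf11c20) (.leaf (nat_lit 0x411d15de12d56cca63bb9f1afca8bf30d3e11c20)) (.leaf (nat_lit 0x411d15ea15bcad37e399675b4da93e30cbf11c20))) (.node (nat_lit 0x411d186972bd713a5bb96714fdb4be10d3f31c20) (.leaf (nat_lit 0x411d185d75d4b0c7db9b9f554cb53f10cbe31c20)) (.leaf (nat_lit 0x411d186972bd713a5bb96714fdb4be10d3f31c20))))) (.node (nat_lit 0x411d1bcb4bac19d6cecfe632aa6cc9f0c45f9c20) (.node (nat_lit 0x411d1aae5a85f96df66ac31f96d3e248fc629c20) (.node (nat_lit 0x411d1942ba5dfb8df26db329953fe628fc249c20) (.leaf (nat_lit 0x411d192eb786bb6cf18ac4e9b6bfc228fe649c20)) (.leaf (nat_lit 0x411d1942ba5dfb8df26db329953fe628fc249c20))) (.node (nat_lit 0x411d1ac2575eb98cf58db4dfb553c648fe229c20) (.leaf (nat_lit 0x411d1aae5a85f96df66ac31f96d3e248fc629c20)) (.leaf (nat_lit 0x411d1ac2575eb98cf58db4dfb553c648fe229c20))))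 (.node (nat_lit 0x411d1d4af0aae7d5330fe5b6da6449f8cc5f1c20) (.node (nat_lit 0x411d1bd75092d9c54f14edb2d7ec45f0cc9f9c20) (.leaf (nat_lit 0x411d1bcb4bac19d6cecfe632aa6cc9f0c45f9c20)) (.leaf (nat_lit 0x411d1bd75092d9c54f14edb2d7ec45f0cc9f9c20))) (.node (nat_lit 0x411d1d56eb9427c6b2d4ee36a7e4c5f8c49f1c20) (.leaf (nat_lit 0x411d1d4af0aae7d5330fe5b6da6449f8cc5f1c20)) (.leaf (nat_lit 0x411d1d56eb9427c6b2d4ee36a7e4c5f8c49f1c20))))))))) (.node (nat_lit 0x413575ca11aba8adbe766b3b9c7069378e517c20) (.node (nat_lit 0x412558ddd0d2faa9f3766e68cc3c5f1a4de39420) (.node (nat_lit 0x4122e86975bcacca63bb9f1afca93e11cbf30c20) (.node (nat_lit 0x4120baea51bbb745671c7da6deb07e498ff28820) (.node (nat_lit 0x4120b8d5da95f1beda8ccbd5c9b7e519bc938820) (.node (nat_lit 0x4120b7563796adbe61eccd1bd9abc539be918820) (.leaf (nat_lit 0x4120b74a3aaded9ee293dbdbc62be939bc518820)) (.node (nat_lit 0x4120b8c9d7aeb19e59f3dd15d637c919be538820)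 (.leaf (nat_lit 0x4120b7563796adbe61eccd1bd9abc539be918820)) (.leaf (nat_lit 0x4120b8c9d7aeb19e59f3dd15d637c919be538820)))) (.node (nat_lit 0x4120b96aaebc7346eedc7e18aeccfe2987f48820) (.node (nat_lit 0x4120b95eb1d3b2f56f1da598de4c7f298fe48820) (.leaf (nat_lit 0x4120b8d5da95f1beda8ccbd5c9b7e519bc938820)) (.leaf (nat_lit 0x4120b95eb1d3b2f56f1da598de4c7f298fe48820))) (.node (nat_lit 0x4120bade4ed476f6e6dda626ae30ff4987e28820) (.leaf (nat_lit 0x4120b96aaebc7346eedc7e18aeccfe2987f48820)) (.leaf (nat_lit 0x4120bade4ed476f6e6dda626ae30ff4987e28820))))) (.node (nat_lit 0x4120bd46f574a989bf6db67ac57127f98a3f0820) (.node (nat_lit 0x4120bbc752755f86532db6f93574a7f1923f8820) (.node (nat_lit 0x4120bbbb558c9f69d36ac678c6f523f18a7f8820) (.leaf (nat_lit 0x4120baea51bbb745671c7da6deb07e498ff28820)) (.leaf (nat_lit 0x4120bbbb558c9f69d36ac678c6f523f18a7f8820))) (.node (nat_lit 0x4120bd3af28d69663f2ac6fb36f0a3f9927f0820)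 (.leaf (nat_lit 0x4120bbc752755f86532db6f93574a7f1923f8820)) (.leaf (nat_lit 0x4120bd3af28d69663f2ac6fb36f0a3f9927f0820)))) (.node (nat_lit 0x4122e5ea12bd70c7db9b9f554cb4be31d3f10c20) (.node (nat_lit 0x4122e5de15d4b13a5bb96714fdb53f31cbe10c20) (.leaf (nat_lit 0x4120bd46f574a989bf6db67ac57127f98a3f0820)) (.leaf (nat_lit 0x4122e5de15d4b13a5bb96714fdb53f31cbe10c20))) (.node (nat_lit 0x4122e85d72d56d37e399675b4da8bf11d3e30c20) (.leaf (nat_lit 0x4122e5ea12bd70c7db9b9f554cb4be31d3f10c20)) (.leaf (nat_lit 0x4122e85d72d56d37e399675b4da8bf11d3e30c20)))))) (.node (nat_lit 0x4122ed4aebac19c54f14edb2d7ecc9f9c45f0c20) (.node (nat_lit 0x4122eaae5786bb8df26db329953fc249fe628c20) (.node (nat_lit 0x4122e92eba85f98cf58db4dfb553e229fc648c20) (.leaf (nat_lit 0x4122e86975bcacca63bb9f1afca93e11cbf30c20)) (.node (nat_lit 0x4122e942b75eb96df66ac31f96d3c629fe248c20) (.leaf (nat_lit 0x4122e92eba85f98cf58db4dfb553e229fc648c20))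 (.leaf (nat_lit 0x4122e942b75eb96df66ac31f96d3c629fe248c20)))) (.node (nat_lit 0x4122ebcb50aae7c6b2d4ee36a7e449f1cc5f8c20) (.node (nat_lit 0x4122eac25a5dfb6cf18ac4e9b6bfe649fc228c20) (.leaf (nat_lit 0x4122eaae5786bb8df26db329953fc249fe628c20)) (.leaf (nat_lit 0x4122eac25a5dfb6cf18ac4e9b6bfe649fc228c20))) (.node (nat_lit 0x4122ebd74b9427d5330fe5b6da64c5f1c49f8c20) (.leaf (nat_lit 0x4122ebcb50aae7c6b2d4ee36a7e449f1cc5f8c20)) (.leaf (nat_lit 0x4122ebd74b9427d5330fe5b6da64c5f1c49f8c20))))) (.node (nat_lit 0x4125575e2bd438a677366edf3c50df3a45e19420) (.node (nat_lit 0x412555ba178eb3cc6d54eb5967cfc3327e711420) (.node (nat_lit 0x4122ed56f092d9d6cecfe632aa6c45f9cc9f0c20) (.leaf (nat_lit 0x4122ed4aebac19c54f14edb2d7ecc9f9c45f0c20)) (.leaf (nat_lit 0x4122ed56f092d9d6cecfe632aa6c45f9cc9f0c20))) (.node (nat_lit 0x412555c61a75f3db6dafe2998a4fe7327c311420) (.leaf (nat_lit 0x412555ba178eb3cc6d54eb5967cfc3327e711420))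 (.leaf (nat_lit 0x412555c61a75f3db6dafe2998a4fe7327c311420)))) (.node (nat_lit 0x412558397a8df7cb65b4eaa787b3e3127c731420) (.node (nat_lit 0x4125576a30baf8d9f778565ecb505e3a4df19420) (.leaf (nat_lit 0x4125575e2bd438a677366edf3c50df3a45e19420)) (.leaf (nat_lit 0x4125576a30baf8d9f778565ecb505e3a4df19420))) (.node (nat_lit 0x412558457776b7dc654fe3676a33c7127e331420) (.leaf (nat_lit 0x412558397a8df7cb65b4eaa787b3e3127c731420)) (.leaf (nat_lit 0x412558457776b7dc654fe3676a33c7127e331420))))))) (.node (nat_lit 0x412b2bc34e5c5b9a2bb3df2cf660e6f1462fa420) (.node (nat_lit 0x412b25c61776b7cb65b4eaa787b3c7317e312420) (.node (nat_lit 0x41255bc3515b95ba37accf30f9d866f24e2f9420) (.node (nat_lit 0x412558e9cbbc3ad6733856e93b3cde1a45f39420) (.leaf (nat_lit 0x412558ddd0d2faa9f3766e68cc3c5f1a4de39420)) (.node (nat_lit 0x41255baf4e845597b793df714658e2f2466f9420) (.leaf (nat_lit 0x412558e9cbbc3ad6733856e93b3cde1a45f39420))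 (.leaf (nat_lit 0x41255baf4e845597b793df714658e2f2466f9420)))) (.node (nat_lit 0x41255d42ee5c5bb7ab8ccf6d49e0e6fa462f1420) (.node (nat_lit 0x41255d2ef1839b9a2bb3df2cf66062fa4e6f1420) (.leaf (nat_lit 0x41255bc3515b95ba37accf30f9d866f24e2f9420)) (.leaf (nat_lit 0x41255d2ef1839b9a2bb3df2cf66062fa4e6f1420))) (.node (nat_lit 0x412b25ba1a8df7dc654fe3676a33e3317c712420) (.leaf (nat_lit 0x41255d42ee5c5bb7ab8ccf6d49e0e6fa462f1420)) (.leaf (nat_lit 0x412b25ba1a8df7dc654fe3676a33e3317c712420))))) (.node (nat_lit 0x412b28457a75f3cc6d54eb5967cfe7117c332420) (.node (nat_lit 0x412b276a2bbc3aa9f3766e68cc3cde3945f1a420) (.node (nat_lit 0x412b275e30d2fad6733856e93b3c5f394de1a420) (.leaf (nat_lit 0x412b25c61776b7cb65b4eaa787b3c7317e312420)) (.leaf (nat_lit 0x412b275e30d2fad6733856e93b3c5f394de1a420))) (.node (nat_lit 0x412b2839778eb3db6dafe2998a4fc3117e732420) (.leaf (nat_lit 0x412b276a2bbc3aa9f3766e68cc3cde3945f1a420))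 (.leaf (nat_lit 0x412b2839778eb3db6dafe2998a4fc3117e732420)))) (.node (nat_lit 0x412b28e9d0baf8a677366edf3c505e194df3a420) (.node (nat_lit 0x412b28ddcbd438d9f778565ecb50df1945e3a420) (.leaf (nat_lit 0x412b28457a75f3cc6d54eb5967cfe7117c332420)) (.leaf (nat_lit 0x412b28ddcbd438d9f778565ecb50df1945e3a420))) (.node (nat_lit 0x412b2baf51839bb7ab8ccf6d49e062f14e6fa420) (.leaf (nat_lit 0x412b28e9d0baf8a677366edf3c505e194df3a420)) (.leaf (nat_lit 0x412b2baf51839bb7ab8ccf6d49e062f14e6fa420)))))) (.node (nat_lit 0x412fa84971aba8dcbd9854fbbb706917ce537820) (.node (nat_lit 0x412fa5ca0eac5eddd27853399b74e937c6517820) (.node (nat_lit 0x412b2d2eee8455ba37accf30f9d8e2f9466f2420) (.leaf (nat_lit 0x412b2bc34e5c5b9a2bb3df2cf660e6f1462fa420)) (.node (nat_lit 0x412b2d42f15b9597b793df71465866f94e2f2420) (.leaf (nat_lit 0x412b2d2eee8455ba37accf30f9d8e2f9466f2420)) (.leaf (nat_lit 0x412b2d42f15b9597b793df71465866f94e2f2420))))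 (.node (nat_lit 0x412fa72e328566fb31bda2b78e64a23fd261f820) (.node (nat_lit 0x412fa5d611939eacd1966cf9bc746537ce917820) (.leaf (nat_lit 0x412fa5ca0eac5eddd27853399b74e937c6517820)) (.leaf (nat_lit 0x412fa5d611939eacd1966cf9bc746537ce917820))) (.node (nat_lit 0x412fa742355ca74c315c7b776ee5263fca21f820) (.leaf (nat_lit 0x412fa72e328566fb31bda2b78e64a23fd261f820)) (.leaf (nat_lit 0x412fa742355ca74c315c7b776ee5263fca21f820))))) (.node (nat_lit 0x412fa93aab8c1b3e29f9652ddde0c32fc474f820) (.node (nat_lit 0x412fa8add58498fc4d5da3736e6d221fca63f820) (.node (nat_lit 0x412fa8556e9468adbe766b3b9c70e517c6937820) (.leaf (nat_lit 0x412fa84971aba8dcbd9854fbbb706917ce537820)) (.leaf (nat_lit 0x412fa8556e9468adbe766b3b9c70e517c6937820))) (.node (nat_lit 0x412fa8c1d25d594b4dbc7ab38eeca61fd223f820) (.leaf (nat_lit 0x412fa8add58498fc4d5da3736e6d221fca63f820)) (.leaf (nat_lit 0x412fa8c1d25d594b4dbc7ab38eeca61fd223f820))))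 (.node (nat_lit 0x412faaba508ad53eb69963f1cdd8434fcc72f820) (.node (nat_lit 0x412fa946b072daceaa9b9bedcce0472fcc34f820) (.leaf (nat_lit 0x412fa93aab8c1b3e29f9652ddde0c32fc474f820)) (.leaf (nat_lit 0x412fa946b072daceaa9b9bedcce0472fcc34f820))) (.node (nat_lit 0x412faac64b7414ce35fb9d31dcd8c74fc432f820) (.leaf (nat_lit 0x412faaba508ad53eb69963f1cdd8434fcc72f820)) (.leaf (nat_lit 0x412faac64b7414ce35fb9d31dcd8c74fc432f820)))))))) (.node (nat_lit 0x495f4ada53c338b5775985e2ddb85e20cdf41c20) (.node (nat_lit 0x49593952b87db77ee5cad457c6c3c740be321820) (.node (nat_lit 0x413578c1d55ca6fb31bda2b78e65261f8a23fc20) (.node (nat_lit 0x41357742325d58fc4d5da3736e6ca63f9221fc20) (.node (nat_lit 0x413575d60e9468dcbd9854fbbb70e53786917c20) (.leaf (nat_lit 0x413575ca11aba8adbe766b3b9c7069378e517c20)) (.node (nat_lit 0x4135772e3584994b4dbc7ab38eed223f8a61fc20) (.leaf (nat_lit 0x413575d60e9468dcbd9854fbbb70e53786917c20))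 (.leaf (nat_lit 0x4135772e3584994b4dbc7ab38eed223f8a61fc20)))) (.node (nat_lit 0x4135785571939eddd27853399b7465178e937c20) (.node (nat_lit 0x413578496eac5eacd1966cf9bc74e91786537c20) (.leaf (nat_lit 0x41357742325d58fc4d5da3736e6ca63f9221fc20)) (.leaf (nat_lit 0x413578496eac5eacd1966cf9bc74e91786537c20))) (.node (nat_lit 0x413578add285674c315c7b776ee4a21f9263fc20) (.leaf (nat_lit 0x4135785571939eddd27853399b7465178e937c20)) (.leaf (nat_lit 0x413578add285674c315c7b776ee4a21f9263fc20))))) (.node (nat_lit 0x41357ac65072db3e29f9652ddde0474f8c32fc20) (.node (nat_lit 0x41357946ab74153eb69963f1cdd8c72f8434fc20) (.node (nat_lit 0x4135793ab08ad4ce35fb9d31dcd8432f8c74fc20) (.leaf (nat_lit 0x413578c1d55ca6fb31bda2b78e65261f8a23fc20)) (.leaf (nat_lit 0x4135793ab08ad4ce35fb9d31dcd8432f8c74fc20))) (.node (nat_lit 0x41357aba4b8c1aceaa9b9bedcce0c34f8472fc20) (.leaf (nat_lit 0x41357946ab74153eb69963f1cdd8c72f8434fc20))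 (.leaf (nat_lit 0x41357aba4b8c1aceaa9b9bedcce0c34f8472fc20)))) (.node (nat_lit 0x495937e295b4b4e85f3c8ed4beb49f3891e19820) (.node (nat_lit 0x495937da92c57515df7d76550e351e3889f19820) (.leaf (nat_lit 0x41357ac65072db3e29f9652ddde0474f8c32fc20)) (.leaf (nat_lit 0x495937da92c57515df7d76550e351e3889f19820))) (.node (nat_lit 0x4959393eb6a637ae662dbb97d543e340bc721820) (.leaf (nat_lit 0x495937e295b4b4e85f3c8ed4beb49f3891e19820)) (.leaf (nat_lit 0x4959393eb6a637ae662dbb97d543e340bc721820)))))) (.node (nat_lit 0x49593c4ad4abddb6c6f0cebaa5f064f08e8f9820) (.node (nat_lit 0x49593abe58a5b3aeedcdbc61c52fc320be741820) (.node (nat_lit 0x49593a59f5c4af186b3d76dabe289e1891f39820) (.leaf (nat_lit 0x49593952b87db77ee5cad457c6c3c740be321820)) (.node (nat_lit 0x49593a61f2b56ee5eb7c8e5b0ea91f1889e39820) (.leaf (nat_lit 0x49593a59f5c4af186b3d76dabe289e1891f39820)) (.leaf (nat_lit 0x49593a61f2b56ee5eb7c8e5b0ea91f1889e39820))))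 (.node (nat_lit 0x49593b4b0fad23b53b50cdf8d5f4e4f8868f1820) (.node (nat_lit 0x49593ad2567e337e6e2ad3a1d6afe720bc341820) (.leaf (nat_lit 0x49593abe58a5b3aeedcdbc61c52fc320be741820)) (.leaf (nat_lit 0x49593ad2567e337e6e2ad3a1d6afe720bc341820))) (.node (nat_lit 0x49593b571493e396baebdeb8a87468f88e4f1820) (.leaf (nat_lit 0x49593b4b0fad23b53b50cdf8d5f4e4f8868f1820)) (.leaf (nat_lit 0x49593b571493e396baebdeb8a87468f88e4f1820))))) (.node (nat_lit 0x495f495aacc4fab6f2f9869cadc4de40c5f21c20) (.node (nat_lit 0x495f464a76ae2fdde971e41b972be430fc811c20) (.node (nat_lit 0x49593c56cf951d95474bddfad870e8f0864f9820) (.leaf (nat_lit 0x49593c4ad4abddb6c6f0cebaa5f064f08e8f9820)) (.leaf (nat_lit 0x49593c56cf951d95474bddfad870e8f0864f9820))) (.node (nat_lit 0x495f46567895afccea0eeadbb8abc830fe411c20) (.leaf (nat_lit 0x495f464a76ae2fdde971e41b972be430fc811c20)) (.leaf (nat_lit 0x495f46567895afccea0eeadbb8abc830fe411c20))))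 (.node (nat_lit 0x495f49c998adb5dcde11e2d5b737c410fe831c20) (.node (nat_lit 0x495f4962b3b33b05735b5ddcdcc45f40cde21c20) (.leaf (nat_lit 0x495f495aacc4fab6f2f9869cadc4de40c5f21c20)) (.leaf (nat_lit 0x495f4962b3b33b05735b5ddcdcc45f40cde21c20))) (.node (nat_lit 0x495f49d5969635cddd6eec1598b7e810fc431c20) (.leaf (nat_lit 0x495f49c998adb5dcde11e2d5b737c410fe831c20)) (.leaf (nat_lit 0x495f49d5969635cddd6eec1598b7e810fc431c20))))))) (.node (nat_lit 0x49655b53137b1bd5ab71e66f076847f90c3f2020) (.node (nat_lit 0x4965566274b3f2a76fb76f211d2c7f310fe12020) (.node (nat_lit 0x495f4b4f156497a8c38dbf76e56486f8d02f1c20) (.node (nat_lit 0x495f4ae24cb4f906f6fb5ea2acb8df20c5e41c20) (.leaf (nat_lit 0x495f4ada53c338b5775985e2ddb85e20cdf41c20)) (.node (nat_lit 0x495f4b33129d577743aad73716e502f8c86f1c20) (.leaf (nat_lit 0x495f4ae24cb4f906f6fb5ea2acb8df20c5e41c20)) (.leaf (nat_lit 0x495f4b33129d577743aad73716e502f8c86f1c20))))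 (.node (nat_lit 0x495f4c4ed26561a72fadbf33156d06f0c82f9c20) (.node (nat_lit 0x495f4c32d59ca178af8ad772e6ec82f0d06f9c20) (.leaf (nat_lit 0x495f4b4f156497a8c38dbf76e56486f8d02f1c20)) (.leaf (nat_lit 0x495f4c32d59ca178af8ad772e6ec82f0d06f9c20))) (.node (nat_lit 0x4965565a6fc532d8ef9a5760ebacfe3107f12020) (.leaf (nat_lit 0x495f4c4ed26561a72fadbf33156d06f0c82f9c20)) (.leaf (nat_lit 0x4965565a6fc532d8ef9a5760ebacfe3107f12020))))) (.node (nat_lit 0x496559e18fb536a8e7976f56ed40ff1107e32020) (.node (nat_lit 0x496557ce9865b9bd7550cb6375bbc6393e21a020) (.node (nat_lit 0x496557b2969e399bf5abdaa3a83be2393c61a020) (.leaf (nat_lit 0x4965566274b3f2a76fb76f211d2c7f310fe12020)) (.leaf (nat_lit 0x496557b2969e399bf5abdaa3a83be2393c61a020))) (.node (nat_lit 0x496559d994c3f6d767ba57171bc07e110ff32020) (.leaf (nat_lit 0x496557ce9865b9bd7550cb6375bbc6393e21a020)) (.leaf (nat_lit 0x496559d994c3f6d767ba57171bc07e110ff32020))))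 (.node (nat_lit 0x49655a4df6663bbbf1b0ca9da5c7e6193c23a020) (.node (nat_lit 0x49655a31f89dbb9d714bdb5d7847c2193e63a020) (.leaf (nat_lit 0x496559e18fb536a8e7976f56ed40ff1107e32020)) (.leaf (nat_lit 0x49655a31f89dbb9d714bdb5d7847c2193e63a020))) (.node (nat_lit 0x49655b3f0ca4dbc82b2eeeeeb8e8c3f9047f2020) (.leaf (nat_lit 0x49655a4df6663bbbf1b0ca9da5c7e6193c23a020)) (.leaf (nat_lit 0x49655b3f0ca4dbc82b2eeeeeb8e8c3f9047f2020)))))) (.node (nat_lit 0x4966ca59f2c574e85f3c8ed4beb51e1989f38820) (.node (nat_lit 0x4966c7da95c4aee5eb7c8e5b0ea89e3991f18820) (.node (nat_lit 0x49655c3ed3a315c5b76eee7508dc43f10c7fa020) (.leaf (nat_lit 0x49655b53137b1bd5ab71e66f076847f90c3f2020)) (.node (nat_lit 0x49655c52cc7cd5d83731e6f4b75cc7f1043fa020) (.leaf (nat_lit 0x49655c3ed3a315c5b76eee7508dc43f10c7fa020)) (.leaf (nat_lit 0x49655c52cc7cd5d83731e6f4b75cc7f1043fa020)))) (.node (nat_lit 0x4966c93eb8a5b37e6e2ad3a1d6afc341be720820)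 (.node (nat_lit 0x4966c7e292b56f186b3d76dabe291f3989e18820) (.leaf (nat_lit 0x4966c7da95c4aee5eb7c8e5b0ea89e3991f18820)) (.leaf (nat_lit 0x4966c7e292b56f186b3d76dabe291f3989e18820))) (.node (nat_lit 0x4966c952b67e33aeedcdbc61c52fe741bc320820) (.leaf (nat_lit 0x4966c93eb8a5b37e6e2ad3a1d6afc341be720820)) (.leaf (nat_lit 0x4966c952b67e33aeedcdbc61c52fe741bc320820))))) (.node (nat_lit 0x4966cb4b14abdd95474bddfad87064f98e8f0820) (.node (nat_lit 0x4966cabe56a6377ee5cad457c6c3e321bc740820) (.node (nat_lit 0x4966ca61f5b4b515df7d76550e349f1991e38820) (.leaf (nat_lit 0x4966ca59f2c574e85f3c8ed4beb51e1989f38820)) (.leaf (nat_lit 0x4966ca61f5b4b515df7d76550e349f1991e38820))) (.node (nat_lit 0x4966cad2587db7ae662dbb97d543c721be340820) (.leaf (nat_lit 0x4966cabe56a6377ee5cad457c6c3e321bc740820)) (.leaf (nat_lit 0x4966cad2587db7ae662dbb97d543c721be340820)))) (.node (nat_lit 0x4966cc4acfad2396baebdeb8a874e4f1868f8820)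 (.node (nat_lit 0x4966cb570f951db6c6f0cebaa5f0e8f9864f0820) (.leaf (nat_lit 0x4966cb4b14abdd95474bddfad87064f98e8f0820)) (.leaf (nat_lit 0x4966cb570f951db6c6f0cebaa5f0e8f9864f0820))) (.node (nat_lit 0x4966cc56d493e3b53b50cdf8d5f468f18e4f8820) (.leaf (nat_lit 0x4966cc4acfad2396baebdeb8a874e4f1868f8820)) (.leaf (nat_lit 0x4966cc56d493e3b53b50cdf8d5f468f18e4f8820))))))))))
noncomputable def AN_lK_T3 : ST := (.node (nat_lit 0xf7f9db671adddd28468aabe6b6b1034988728820) (.node (nat_lit 0xf7efab731bee5548b58b7ceae848664a0e229020) (.node (nat_lit 0x496d89bd95a4a30bb9bb5ab9acf4831790737c20) (.node (nat_lit 0x496b27ce96663b9d714bdb5d7847e63a3c219020) (.node (nat_lit 0x4968fae253b33ab6f2f9869cadc45f21cde40c20) (.node (nat_lit 0x4968f962acb4f8b5775985e2ddb8df41c5e20c20) (.node (nat_lit 0x4968f656769635dcde11e2d5b737e831fc410c20) (.leaf (nat_lit 0x4968f64a78adb5cddd6eec1598b7c431fe810c20))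 (.node (nat_lit 0x4968f95ab3c33906f6fb5ea2acb85e41cdf20c20) (.leaf (nat_lit 0x4968f656769635dcde11e2d5b737e831fc410c20)) (.leaf (nat_lit 0x4968f95ab3c33906f6fb5ea2acb85e41cdf20c20)))) (.node (nat_lit 0x4968f9d59895afdde971e41b972bc811fe430c20) (.node (nat_lit 0x4968f9c996ae2fccea0eeadbb8abe411fc830c20) (.leaf (nat_lit 0x4968f962acb4f8b5775985e2ddb8df41c5e20c20)) (.leaf (nat_lit 0x4968f9c996ae2fccea0eeadbb8abe411fc830c20))) (.node (nat_lit 0x4968fada4cc4fb05735b5ddcdcc4de21c5f40c20) (.leaf (nat_lit 0x4968f9d59895afdde971e41b972bc811fe430c20)) (.leaf (nat_lit 0x4968fada4cc4fb05735b5ddcdcc4de21c5f40c20))))) (.node (nat_lit 0x4968fc4ed564977743aad73716e486f1d02f8c20) (.node (nat_lit 0x4968fb4f12656178af8ad772e6ed06f9c82f0c20) (.node (nat_lit 0x4968fb33159ca1a72fadbf33156c82f9d06f0c20) (.leaf (nat_lit 0x4968fae253b33ab6f2f9869cadc45f21cde40c20)) (.leaf (nat_lit 0x4968fb33159ca1a72fadbf33156c82f9d06f0c20)))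 (.node (nat_lit 0x4968fc32d29d57a8c38dbf76e56502f1c86f8c20) (.leaf (nat_lit 0x4968fb4f12656178af8ad772e6ed06f9c82f0c20)) (.leaf (nat_lit 0x4968fc32d29d57a8c38dbf76e56502f1c86f8c20)))) (.node (nat_lit 0x496b26626fb536d767ba57171bc0ff3207e11020) (.node (nat_lit 0x496b265a74c3f6a8e7976f56ed407e320ff11020) (.leaf (nat_lit 0x4968fc4ed564977743aad73716e486f1d02f8c20)) (.leaf (nat_lit 0x496b265a74c3f6a8e7976f56ed407e320ff11020))) (.node (nat_lit 0x496b27b2989dbbbbf1b0ca9da5c7c23a3e619020) (.leaf (nat_lit 0x496b26626fb536d767ba57171bc0ff3207e11020)) (.leaf (nat_lit 0x496b27b2989dbbbbf1b0ca9da5c7c23a3e619020)))))) (.node (nat_lit 0x496b2c3ecca4dbd5ab71e66f0768c3f2047f9020) (.node (nat_lit 0x496b2a31f69e39bd7550cb6375bbe21a3c639020) (.node (nat_lit 0x496b29d98fc532a76fb76f211d2cfe1207f31020) (.leaf (nat_lit 0x496b27ce96663b9d714bdb5d7847e63a3c219020)) (.node (nat_lit 0x496b29e194b3f2d8ef9a5760ebac7f120fe31020)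 (.leaf (nat_lit 0x496b29d98fc532a76fb76f211d2cfe1207f31020)) (.leaf (nat_lit 0x496b29e194b3f2d8ef9a5760ebac7f120fe31020)))) (.node (nat_lit 0x496b2b3f13a315d83731e6f4b75c43fa0c7f1020) (.node (nat_lit 0x496b2a4df865b99bf5abdaa3a83bc61a3e239020) (.leaf (nat_lit 0x496b2a31f69e39bd7550cb6375bbe21a3c639020)) (.leaf (nat_lit 0x496b2a4df865b99bf5abdaa3a83bc61a3e239020))) (.node (nat_lit 0x496b2b530c7cd5c5b76eee7508dcc7fa043f1020) (.leaf (nat_lit 0x496b2b3f13a315d83731e6f4b75c43fa0c7f1020)) (.leaf (nat_lit 0x496b2b530c7cd5c5b76eee7508dcc7fa043f1020))))) (.node (nat_lit 0x496d87ca8cace0aeadd76c73cd6cc43f8481fc20) (.node (nat_lit 0x496d863e72a55d0d455b5b7b7cf1033788717c20) (.node (nat_lit 0x496b2c52d37b1bc82b2eeeeeb8e847f20c3f9020) (.leaf (nat_lit 0x496b2c3ecca4dbd5ab71e66f0768c3f2047f9020)) (.leaf (nat_lit 0x496b2c52d37b1bc82b2eeeeeb8e847f20c3f9020))) (.node (nat_lit 0x496d8652757c9cbbc5b982bbadf0873790317c20)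 (.leaf (nat_lit 0x496d863e72a55d0d455b5b7b7cf1033788717c20)) (.leaf (nat_lit 0x496d8652757c9cbbc5b982bbadf0873790317c20)))) (.node (nat_lit 0x496d8932af9d14ecb61c8af5bedce24786627c20) (.node (nat_lit 0x496d87d6939320de2e3a53b3dbec483f8c41fc20) (.leaf (nat_lit 0x496d87ca8cace0aeadd76c73cd6cc43f8481fc20)) (.leaf (nat_lit 0x496d87d6939320de2e3a53b3dbec483f8c41fc20))) (.node (nat_lit 0x496d894eb463d51db57d74359e5c66478e227c20) (.leaf (nat_lit 0x496d8932af9d14ecb61c8af5bedce24786627c20)) (.leaf (nat_lit 0x496d894eb463d51db57d74359e5c66478e227c20))))))) (.node (nat_lit 0x49716a55f39320aeadd76c73cd6c481fcc43f820) (.node (nat_lit 0x49716652727d630bb9bb5ab9acf50737c8317820) (.node (nat_lit 0x496d8a55ec94d6dec1da5477cbe4c81f8443fc20) (.node (nat_lit 0x496d89d1927d62bd395983797df5071788337c20) (.leaf (nat_lit 0x496d89bd95a4a30bb9bb5ab9acf4831790737c20)) (.node (nat_lit 0x496d8a49f3ab16ae42376bb7dd64441f8c83fc20)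 (.leaf (nat_lit 0x496d89d1927d62bd395983797df5071788337c20)) (.leaf (nat_lit 0x496d8a49f3ab16ae42376bb7dd64441f8c83fc20)))) (.node (nat_lit 0x496d8ace4f651b1caa1d72efbe68e62786247c20) (.node (nat_lit 0x496d8ab2549bdaeda97c8c2f9ee862278e647c20) (.leaf (nat_lit 0x496d8a55ec94d6dec1da5477cbe4c81f8443fc20)) (.leaf (nat_lit 0x496d8ab2549bdaeda97c8c2f9ee862278e647c20))) (.node (nat_lit 0x4971663e75a4a2bd395983797df48337d0717820) (.leaf (nat_lit 0x496d8ace4f651b1caa1d72efbe68e62786247c20)) (.leaf (nat_lit 0x4971663e75a4a2bd395983797df48337d0717820))))) (.node (nat_lit 0x4971694eaf651aeda97c8c2f9ee8e647c6227820) (.node (nat_lit 0x497167d68c94d6ae42376bb7dd64c83fc441f820) (.node (nat_lit 0x497167ca93ab16dec1da5477cbe4443fcc81f820) (.leaf (nat_lit 0x49716652727d630bb9bb5ab9acf50737c8317820)) (.leaf (nat_lit 0x497167ca93ab16dec1da5477cbe4443fcc81f820))) (.node (nat_lit 0x49716932b49bdb1caa1d72efbe686247ce627820)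 (.leaf (nat_lit 0x497167d68c94d6ae42376bb7dd64c83fc441f820)) (.leaf (nat_lit 0x49716932b49bdb1caa1d72efbe686247ce627820)))) (.node (nat_lit 0x497169d1957c9d0d455b5b7b7cf08717d0337820) (.node (nat_lit 0x497169bd92a55cbbc5b982bbadf10317c8737820) (.leaf (nat_lit 0x4971694eaf651aeda97c8c2f9ee8e647c6227820)) (.leaf (nat_lit 0x497169bd92a55cbbc5b982bbadf10317c8737820))) (.node (nat_lit 0x49716a49ecace0de2e3a53b3dbecc41fc483f820) (.leaf (nat_lit 0x497169d1957c9d0d455b5b7b7cf08717d0337820)) (.leaf (nat_lit 0x49716a49ecace0de2e3a53b3dbecc41fc483f820)))))) (.node (nat_lit 0xf7ed8d66fcdf5506362f5bab3a4843414c722420) (.node (nat_lit 0xf7ed8be75ddf1b09a9cf5c64ca54c32144742420) (.node (nat_lit 0x49716ab24f9d151db57d74359e5ce227c6647820) (.leaf (nat_lit 0x49716a55f39320aeadd76c73cd6c481fcc43f820)) (.node (nat_lit 0x49716ace5463d4ecb61c8af5bedc6627ce247820) (.leaf (nat_lit 0x49716ab24f9d151db57d74359e5ce227c6647820))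 (.leaf (nat_lit 0x49716ace5463d4ecb61c8af5bedc6627ce247820)))) (.node (nat_lit 0xf7ed8cf37aede11aad537369263d06394821a420) (.node (nat_lit 0xf7ed8bef5ccf5ab62a3483a537d447214c342420) (.leaf (nat_lit 0xf7ed8be75ddf1b09a9cf5c64ca54c32144742420)) (.leaf (nat_lit 0xf7ed8bef5ccf5ab62a3483a537d447214c342420))) (.node (nat_lit 0xf7ed8cf777e6a0e92dac8aa959bc82395061a420) (.leaf (nat_lit 0xf7ed8cf37aede11aad537369263d06394821a420)) (.leaf (nat_lit 0xf7ed8cf777e6a0e92dac8aa959bc82395061a420))))) (.node (nat_lit 0xf7ed8e5fbbd662d7b9755419494c68114e432420) (.node (nat_lit 0xf7ed8df337ee971941b3729f565086195023a420) (.node (nat_lit 0xf7ed8d6efdcf14b9b5d4846ac7c8c74144322420) (.leaf (nat_lit 0xf7ed8d66fcdf5506362f5bab3a4843414c722420)) (.leaf (nat_lit 0xf7ed8d6efdcf14b9b5d4846ac7c8c74144322420))) (.node (nat_lit 0xf7ed8df73ae5d6eac14c8b5f29d102194863a420) (.leaf (nat_lit 0xf7ed8df337ee971941b3729f565086195023a420))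 (.leaf (nat_lit 0xf7ed8df73ae5d6eac14c8b5f29d102194863a420)))) (.node (nat_lit 0xf7ed8edf99d6dcda461552e6f930e83146412420) (.node (nat_lit 0xf7ed8e6bb9bee2aa3a126ad8facce41146832420) (.leaf (nat_lit 0xf7ed8e5fbbd662d7b9755419494c68114e432420)) (.leaf (nat_lit 0xf7ed8e6bb9bee2aa3a126ad8facce41146832420))) (.node (nat_lit 0xf7ed8eeb9bbe5ca7c5726c274ab064314e812420) (.leaf (nat_lit 0xf7ed8edf99d6dcda461552e6f930e83146412420)) (.leaf (nat_lit 0xf7ed8eeb9bbe5ca7c5726c274ab064314e812420)))))))) (.node (nat_lit 0xf7f3bd72f6ee2757b16d941d45452640ca221c20) (.node (nat_lit 0xf7f16cf77ae5d71941b3729f5651023a48619420) (.node (nat_lit 0xf7efade33db718d5cdf555230938c91a04539020) (.node (nat_lit 0xf7efac76dbe65af8a990a4e4e5d4622a0e649020) (.node (nat_lit 0xf7efab7719e6d4f73670a32b15c8e24a06629020) (.leaf (nat_lit 0xf7efab731bee5548b58b7ceae848664a0e229020)) (.node (nat_lit 0xf7efac72d9eedb472a6b7b251854e62a06249020)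 (.leaf (nat_lit 0xf7efab7719e6d4f73670a32b15c8e24a06629020)) (.leaf (nat_lit 0xf7efac72d9eedb472a6b7b251854e62a06249020)))) (.node (nat_lit 0xf7eface37cb766d8329553dcb944493a0c519020) (.node (nat_lit 0xf7efacdb7dc726a5b1f26d1d0ac4c53a04919020) (.leaf (nat_lit 0xf7efac76dbe65af8a990a4e4e5d4622a0e649020)) (.leaf (nat_lit 0xf7efacdb7dc726a5b1f26d1d0ac4c53a04919020))) (.node (nat_lit 0xf7efaddb3cc758a84e926be2bab8451a0c939020) (.leaf (nat_lit 0xf7eface37cb766d8329553dcb944493a0c519020)) (.leaf (nat_lit 0xf7efaddb3cc758a84e926be2bab8451a0c939020))))) (.node (nat_lit 0xf7efaeef98cd9ec951ae9a9758c0a73212311020) (.node (nat_lit 0xf7efae6fb6ce28cabd4e9b6128ad27120a331020) (.node (nat_lit 0xf7efae67b8dda9393db162a1572ca31212731020) (.leaf (nat_lit 0xf7efade33db718d5cdf555230938c91a04539020)) (.leaf (nat_lit 0xf7efae67b8dda9393db162a1572ca31212731020))) (.node (nat_lit 0xf7efaee796de1f3ad1516357274123320a711020)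 (.leaf (nat_lit 0xf7efae6fb6ce28cabd4e9b6128ad27120a331020)) (.leaf (nat_lit 0xf7efaee796de1f3ad1516357274123320a711020)))) (.node (nat_lit 0xf7f16bef5dcf1506362f5bab3a48c72244341420) (.node (nat_lit 0xf7f16be75cdf54b9b5d4846ac7c843224c741420) (.leaf (nat_lit 0xf7efaeef98cd9ec951ae9a9758c0a73212311020)) (.leaf (nat_lit 0xf7f16be75cdf54b9b5d4846ac7c843224c741420))) (.node (nat_lit 0xf7f16cf377ee96eac14c8b5f29d0863a50219420) (.leaf (nat_lit 0xf7f16bef5dcf1506362f5bab3a48c72244341420)) (.leaf (nat_lit 0xf7f16cf377ee96eac14c8b5f29d0863a50219420)))))) (.node (nat_lit 0xf7f16edf9bd662aa3a126ad8facc68324e411420) (.node (nat_lit 0xf7f16df33aede0e92dac8aa959bd061a48239420) (.node (nat_lit 0xf7f16d66fddf1ab62a3483a537d4c34244721420) (.leaf (nat_lit 0xf7f16cf77ae5d71941b3729f5651023a48619420)) (.node (nat_lit 0xf7f16d6efccf5b09a9cf5c64ca5447424c321420) (.leaf (nat_lit 0xf7f16d66fddf1ab62a3483a537d4c34244721420))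 (.leaf (nat_lit 0xf7f16d6efccf5b09a9cf5c64ca5447424c321420)))) (.node (nat_lit 0xf7f16e5fb9d6dca7c5726c274ab0e81246431420) (.node (nat_lit 0xf7f16df737e6a11aad537369263c821a50639420) (.leaf (nat_lit 0xf7f16df33aede0e92dac8aa959bd061a48239420)) (.leaf (nat_lit 0xf7f16df737e6a11aad537369263c821a50639420))) (.node (nat_lit 0xf7f16e6bbbbe5cda461552e6f93064124e831420) (.leaf (nat_lit 0xf7f16e5fb9d6dca7c5726c274ab0e81246431420)) (.leaf (nat_lit 0xf7f16e6bbbbe5cda461552e6f93064124e831420))))) (.node (nat_lit 0xf7f3bbf358ed995a4e0d92e2f538a620d2241c20) (.node (nat_lit 0xf7f3bb5f1dd716c6c24e9d5ea8d0c848c4429c20) (.node (nat_lit 0xf7f16eeb99bee2d7b9755419494ce43246811420) (.leaf (nat_lit 0xf7f16edf9bd662aa3a126ad8facc68324e411420)) (.leaf (nat_lit 0xf7f16eeb99bee2d7b9755419494ce43246811420))) (.node (nat_lit 0xf7f3bb6b1cbf573542b1649ed7504448cc829c20) (.leaf (nat_lit 0xf7f3bb5f1dd716c6c24e9d5ea8d0c848c4429c20))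 (.leaf (nat_lit 0xf7f3bb6b1cbf573542b1649ed7504448cc829c20)))) (.node (nat_lit 0xf7f3bc5edcd760c52eae9ca8d8bc4828cc449c20) (.node (nat_lit 0xf7f3bbf756e61927cd6aac2346b92220ca641c20) (.leaf (nat_lit 0xf7f3bbf358ed995a4e0d92e2f538a620d2241c20)) (.leaf (nat_lit 0xf7f3bbf756e61927cd6aac2346b92220ca641c20))) (.node (nat_lit 0xf7f3bc6addbf2136ae516568a73cc428c4849c20) (.leaf (nat_lit 0xf7f3bc5edcd760c52eae9ca8d8bc4828cc449c20)) (.leaf (nat_lit 0xf7f3bc6addbf2136ae516568a73cc428c4849c20))))))) (.node (nat_lit 0xf7f57e6fb8cd9f3ad15163572740a71112332020) (.node (nat_lit 0xf7f57b771be65b472a6b7b25185462490e62a020) (.node (nat_lit 0xf7f3be63b7b6ab08c98f5cd4ea348910d0531c20) (.node (nat_lit 0xf7f3bd76f8e5a72a320aaadcf6c4a240d2621c20) (.leaf (nat_lit 0xf7f3bd72f6ee2757b16d941d45452640ca221c20)) (.node (nat_lit 0xf7f3be5bbac5eab74a74831517b50510c8931c20) (.leaf (nat_lit 0xf7f3bd76f8e5a72a320aaadcf6c4a240d2621c20))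 (.leaf (nat_lit 0xf7f3be5bbac5eab74a74831517b50510c8931c20)))) (.node (nat_lit 0xf7f3bee39ab5e507566f5b1b1a290930c8511c20) (.node (nat_lit 0xf7f3bedb97c6a4b8d59484dae7a88530d0911c20) (.leaf (nat_lit 0xf7f3be63b7b6ab08c98f5cd4ea348910d0531c20)) (.leaf (nat_lit 0xf7f3bedb97c6a4b8d59484dae7a88530d0911c20))) (.node (nat_lit 0xf7f57b7319eedaf8a990a4e4e5d4e6490622a020) (.leaf (nat_lit 0xf7f3bee39ab5e507566f5b1b1a290930c8511c20)) (.leaf (nat_lit 0xf7f57b7319eedaf8a990a4e4e5d4e6490622a020))))) (.node (nat_lit 0xf7f57ce37db718a84e926be2bab8c9390451a020) (.node (nat_lit 0xf7f57c76d9e6d548b58b7ceae848e2290664a020) (.node (nat_lit 0xf7f57c72dbee54f73670a32b15c866290e24a020) (.leaf (nat_lit 0xf7f57b771be65b472a6b7b25185462490e62a020)) (.leaf (nat_lit 0xf7f57c72dbee54f73670a32b15c866290e24a020))) (.node (nat_lit 0xf7f57cdb7cc758d5cdf55523093845390c91a020) (.leaf (nat_lit 0xf7f57c76d9e6d548b58b7ceae848e2290664a020))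 (.leaf (nat_lit 0xf7f57cdb7cc758d5cdf55523093845390c91a020)))) (.node (nat_lit 0xf7f57de33cb766a5b1f26d1d0ac449190c53a020) (.node (nat_lit 0xf7f57ddb3dc726d8329553dcb944c5190493a020) (.leaf (nat_lit 0xf7f57ce37db718a84e926be2bab8c9390451a020)) (.leaf (nat_lit 0xf7f57ddb3dc726d8329553dcb944c5190493a020))) (.node (nat_lit 0xf7f57e67b6de1ec951ae9a9758c123110a732020) (.leaf (nat_lit 0xf7f57de33cb766a5b1f26d1d0ac449190c53a020)) (.leaf (nat_lit 0xf7f57e67b6de1ec951ae9a9758c123110a732020)))))) (.node (nat_lit 0xf7f79c5eddd7173542b1649ed750c829c4448c20) (.node (nat_lit 0xf7f79b5f1cd76136ae516568a73c4849cc428c20) (.node (nat_lit 0xf7f57ee798dda8cabd4e9b6128aca33112712020) (.leaf (nat_lit 0xf7f57e6fb8cd9f3ad15163572740a71112332020)) (.node (nat_lit 0xf7f57eef96ce29393db162a1572d27310a312020) (.leaf (nat_lit 0xf7f57ee798dda8cabd4e9b6128aca33112712020)) (.leaf (nat_lit 0xf7f57eef96ce29393db162a1572d27310a312020))))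 (.node (nat_lit 0xf7f79bf356ee272a320aaadcf6c52621ca240c20) (.node (nat_lit 0xf7f79b6b1dbf20c52eae9ca8d8bcc449c4828c20) (.leaf (nat_lit 0xf7f79b5f1cd76136ae516568a73c4849cc428c20)) (.leaf (nat_lit 0xf7f79b6b1dbf20c52eae9ca8d8bcc449c4828c20))) (.node (nat_lit 0xf7f79bf758e5a757b16d941d4544a221d2640c20) (.leaf (nat_lit 0xf7f79bf356ee272a320aaadcf6c52621ca240c20)) (.leaf (nat_lit 0xf7f79bf758e5a757b16d941d4544a221d2640c20))))) (.node (nat_lit 0xf7f79e5bb7c6a507566f5b1b1a288511d0930c20) (.node (nat_lit 0xf7f79d72f8ed9927cd6aac2346b8a641d2220c20) (.node (nat_lit 0xf7f79c6adcbf56c6c24e9d5ea8d04429cc848c20) (.leaf (nat_lit 0xf7f79c5eddd7173542b1649ed750c829c4448c20)) (.leaf (nat_lit 0xf7f79c6adcbf56c6c24e9d5ea8d04429cc848c20))) (.node (nat_lit 0xf7f79d76f6e6195a4e0d92e2f5392241ca620c20) (.leaf (nat_lit 0xf7f79d72f8ed9927cd6aac2346b8a641d2220c20)) (.leaf (nat_lit 0xf7f79d76f6e6195a4e0d92e2f5392241ca620c20))))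 (.node (nat_lit 0xf7f79edb9ac5eb08c98f5cd4ea350531c8910c20) (.node (nat_lit 0xf7f79e63bab5e4b8d59484dae7a90911c8530c20) (.leaf (nat_lit 0xf7f79e5bb7c6a507566f5b1b1a288511d0930c20)) (.leaf (nat_lit 0xf7f79e63bab5e4b8d59484dae7a90911c8530c20))) (.node (nat_lit 0xf7f79ee397b6aab74a74831517b48931d0510c20) (.leaf (nat_lit 0xf7f79edb9ac5eb08c98f5cd4ea350531c8910c20)) (.leaf (nat_lit 0xf7f79ee397b6aab74a74831517b48931d0510c20))))))))) (.node (nat_lit 0xffb3bb5f1cd761352e4e655ed8d0c429c4848c20) (.node (nat_lit 0xffad8df33aede0eaadb38a9f2650823a50619420) (.node (nat_lit 0xf7fbcbe35bb668e6be4c8d60a9ac69208e541820) (.node (nat_lit 0xf7f9dceb76be2549d5cb7c5ac82924398a818820) (.node (nat_lit 0xf7f9dbe359b6df16d2537556a640e92186540820) (.node (nat_lit 0xf7f9db6f17ce9d55c5ed95270530874990328820) (.leaf (nat_lit 0xf7f9db671adddd28468aabe6b6b1034988728820)) (.node (nat_lit 0xf7f9dbdb5bc65ee552ac8c96d9c065218e940820)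 (.leaf (nat_lit 0xf7f9db6f17ce9d55c5ed95270530874990328820)) (.leaf (nat_lit 0xf7f9dbdb5bc65ee552ac8c96d9c065218e940820)))) (.node (nat_lit 0xf7f9dc6edacde3583a8d93d8b54d072988348820) (.node (nat_lit 0xf7f9dc66d7dea325b9eaad1906cc832990748820) (.leaf (nat_lit 0xf7f9dbe359b6df16d2537556a640e92186540820)) (.leaf (nat_lit 0xf7f9dc66d7dea325b9eaad1906cc832990748820))) (.node (nat_lit 0xf7f9dcdf78d5a4f65630a39b35a8a83992418820) (.leaf (nat_lit 0xf7f9dc6edacde3583a8d93d8b54d072988348820)) (.leaf (nat_lit 0xf7f9dcdf78d5a4f65630a39b35a8a83992418820))))) (.node (nat_lit 0xf7f9ddeb38bdab464a2b7b953834a41992838820) (.node (nat_lit 0xf7f9dd62fbb669153eb374a0d62c69418e520820) (.node (nat_lit 0xf7f9dd5af9c6e8e6be4c8d60a9ace54186920820) (.leaf (nat_lit 0xf7f9dceb76be2549d5cb7c5ac82924398a818820)) (.leaf (nat_lit 0xf7f9dd5af9c6e8e6be4c8d60a9ace54186920820))) (.node (nat_lit 0xf7f9dddf36d62af9c9d0a454c5b528198a438820)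 (.leaf (nat_lit 0xf7f9dd62fbb669153eb374a0d62c69418e520820)) (.leaf (nat_lit 0xf7f9dddf36d62af9c9d0a454c5b528198a438820)))) (.node (nat_lit 0xf7fbcb6f1acde325b9eaad1906cd074888329820) (.node (nat_lit 0xf7fbcb6717dea3583a8d93d8b54c834890729820) (.leaf (nat_lit 0xf7f9ddeb38bdab464a2b7b953834a41992838820)) (.leaf (nat_lit 0xf7fbcb6717dea3583a8d93d8b54c834890729820))) (.node (nat_lit 0xf7fbcbdb59c6e9153eb374a0d62ce52086941820) (.leaf (nat_lit 0xf7fbcb6f1acde325b9eaad1906cd074888329820)) (.leaf (nat_lit 0xf7fbcbdb59c6e9153eb374a0d62ce52086941820)))))) (.node (nat_lit 0xf7fbcddf38d5a549d5cb7c5ac828a81892439820) (.node (nat_lit 0xf7fbccdf76d62b464a2b7b95383528388a419820) (.node (nat_lit 0xf7fbcc66dadddd55c5ed95270531032888749820) (.leaf (nat_lit 0xf7fbcbe35bb668e6be4c8d60a9ac69208e541820)) (.node (nat_lit 0xf7fbcc6ed7ce9d28468aabe6b6b0872890349820) (.leaf (nat_lit 0xf7fbcc66dadddd55c5ed95270531032888749820))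 (.leaf (nat_lit 0xf7fbcc6ed7ce9d28468aabe6b6b0872890349820)))) (.node (nat_lit 0xf7fbcd5afbc65f16d2537556a64065408e921820) (.node (nat_lit 0xf7fbcceb78bdaaf9c9d0a454c5b4a43892819820) (.leaf (nat_lit 0xf7fbccdf76d62b464a2b7b95383528388a419820)) (.leaf (nat_lit 0xf7fbcceb78bdaaf9c9d0a454c5b4a43892819820))) (.node (nat_lit 0xf7fbcd62f9b6dee552ac8c96d9c0e94086521820) (.leaf (nat_lit 0xf7fbcd5afbc65f16d2537556a64065408e921820)) (.leaf (nat_lit 0xf7fbcd62f9b6dee552ac8c96d9c0e94086521820))))) (.node (nat_lit 0xffad8cf377ee96e941538b69563d021a48639420) (.node (nat_lit 0xffad8be75cdf54b635cf84653a54c74244321420) (.node (nat_lit 0xf7fbcdeb36be24f65630a39b35a924188a839820) (.leaf (nat_lit 0xf7fbcddf38d5a549d5cb7c5ac828a81892439820)) (.leaf (nat_lit 0xf7fbcdeb36be24f65630a39b35a924188a839820))) (.node (nat_lit 0xffad8bef5dcf1509b6345ba4c7d443424c721420) (.leaf (nat_lit 0xffad8be75cdf54b635cf84653a54c74244321420))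 (.leaf (nat_lit 0xffad8bef5dcf1509b6345ba4c7d443424c721420)))) (.node (nat_lit 0xffad8d66fddf1ab9aa2f83aaca4847224c341420) (.node (nat_lit 0xffad8cf77ae5d71ac1ac72a929bc861a50239420) (.leaf (nat_lit 0xffad8cf377ee96e941538b69563d021a48639420)) (.leaf (nat_lit 0xffad8cf77ae5d71ac1ac72a929bc861a50239420))) (.node (nat_lit 0xffad8d6efccf5b0629d45c6b37c8c32244741420) (.leaf (nat_lit 0xffad8d66fddf1ab9aa2f83aaca4847224c341420)) (.leaf (nat_lit 0xffad8d6efccf5b0629d45c6b37c8c32244741420))))))) (.node (nat_lit 0xffafae6fb8cd9f39514e636158ad23310a712020) (.node (nat_lit 0xffafab771be65b48aa707b2ae5c8e6290624a020) (.node (nat_lit 0xffad8e6bbbbe5cd7c61252d94acce83246411420) (.node (nat_lit 0xffad8df737e6a1192d4c735f59d1063a48219420) (.leaf (nat_lit 0xffad8df33aede0eaadb38a9f2650823a50619420)) (.node (nat_lit 0xffad8e5fb9d6dcaa45756c18f94c64324e811420) (.leaf (nat_lit 0xffad8df737e6a1192d4c735f59d1063a48219420))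 (.leaf (nat_lit 0xffad8e5fb9d6dcaa45756c18f94c64324e811420)))) (.node (nat_lit 0xffad8eeb99bee2da39725426fab068124e431420) (.node (nat_lit 0xffad8edf9bd662a7ba156ae74930e41246831420) (.leaf (nat_lit 0xffad8e6bbbbe5cd7c61252d94acce83246411420)) (.leaf (nat_lit 0xffad8edf9bd662a7ba156ae74930e41246831420))) (.node (nat_lit 0xffafab7319eedaf7298ba4eb184862290e64a020) (.leaf (nat_lit 0xffad8eeb99bee2da39725426fab068124e431420)) (.leaf (nat_lit 0xffafab7319eedaf7298ba4eb184862290e64a020))))) (.node (nat_lit 0xffaface37db718a5ce956bdd094445190c93a020) (.node (nat_lit 0xffafac76d9e6d54735907ce515d466490e22a020) (.node (nat_lit 0xffafac72dbee54f8b66ba324e854e2490662a020) (.leaf (nat_lit 0xffafab771be65b48aa707b2ae5c8e6290624a020)) (.leaf (nat_lit 0xffafac72dbee54f8b66ba324e854e2490662a020))) (.node (nat_lit 0xffafacdb7cc758d84df2551cbac4c9190453a020) (.leaf (nat_lit 0xffafac76d9e6d54735907ce515d466490e22a020))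 (.leaf (nat_lit 0xffafacdb7cc758d84df2551cbac4c9190453a020)))) (.node (nat_lit 0xffafade33cb766a831f56d22b938c5390491a020) (.node (nat_lit 0xffafaddb3dc726d5b29253e30ab849390c51a020) (.leaf (nat_lit 0xffaface37db718a5ce956bdd094445190c93a020)) (.leaf (nat_lit 0xffafaddb3dc726d5b29253e30ab849390c51a020))) (.node (nat_lit 0xffafae67b6de1ecad1b19aa1272ca73112312020) (.leaf (nat_lit 0xffafade33cb766a831f56d22b938c5390491a020)) (.leaf (nat_lit 0xffafae67b6de1ecad1b19aa1272ca73112312020)))))) (.node (nat_lit 0xffb16d66fcdf5509b6345ba4c7d4c72144342420) (.node (nat_lit 0xffb16be75ddf1b0629d45c6b37c847414c322420) (.node (nat_lit 0xffafaee798dda8c93d519b57574127110a332020) (.leaf (nat_lit 0xffafae6fb8cd9f39514e636158ad23310a712020)) (.node (nat_lit 0xffafaeef96ce293abdae629728c0a31112732020) (.leaf (nat_lit 0xffafaee798dda8c93d519b57574127110a332020)) (.leaf (nat_lit 0xffafaeef96ce293abdae629728c0a31112732020))))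 (.node (nat_lit 0xffb16cf37aede1192d4c735f59d082195063a420) (.node (nat_lit 0xffb16bef5ccf5ab9aa2f83aaca48c34144722420) (.leaf (nat_lit 0xffb16be75ddf1b0629d45c6b37c847414c322420)) (.leaf (nat_lit 0xffb16bef5ccf5ab9aa2f83aaca48c34144722420))) (.node (nat_lit 0xffb16cf777e6a0eaadb38a9f265106194823a420) (.leaf (nat_lit 0xffb16cf37aede1192d4c735f59d082195063a420)) (.leaf (nat_lit 0xffb16cf777e6a0eaadb38a9f265106194823a420))))) (.node (nat_lit 0xffb16e5fbbd662da39725426fab0e43146812420) (.node (nat_lit 0xffb16df337ee971ac1ac72a929bd02394861a420) (.node (nat_lit 0xffb16d6efdcf14b635cf84653a5443214c742420) (.leaf (nat_lit 0xffb16d66fcdf5509b6345ba4c7d4c72144342420)) (.leaf (nat_lit 0xffb16d6efdcf14b635cf84653a5443214c742420))) (.node (nat_lit 0xffb16df73ae5d6e941538b69563c86395021a420) (.leaf (nat_lit 0xffb16df337ee971ac1ac72a929bd02394861a420)) (.leaf (nat_lit 0xffb16df73ae5d6e941538b69563c86395021a420))))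 (.node (nat_lit 0xffb16edf99d6dcd7c61252d94acc64114e832420) (.node (nat_lit 0xffb16e6bb9bee2a7ba156ae7493068314e412420) (.leaf (nat_lit 0xffb16e5fbbd662da39725426fab0e43146812420)) (.leaf (nat_lit 0xffb16e6bb9bee2a7ba156ae7493068314e412420))) (.node (nat_lit 0xffb16eeb9bbe5caa45756c18f94ce81146432420) (.leaf (nat_lit 0xffb16edf99d6dcd7c61252d94acc64114e832420)) (.leaf (nat_lit 0xffb16eeb9bbe5caa45756c18f94ce81146432420)))))))) (.node (nat_lit 0xffb79d72f6ee275a316a9422f6b8a220d2641c20) (.node (nat_lit 0xffb57c76dbe65af7298ba4eb1848e64a06229020) (.node (nat_lit 0xffb3bd76f6e61957ce0a92dd46c4a621d2240c20) (.node (nat_lit 0xffb3bbf758e5a75a316a9422f6b92641ca220c20) (.node (nat_lit 0xffb3bb6b1dbf20c6aeb19c9ea7504829cc448c20) (.leaf (nat_lit 0xffb3bb5f1cd761352e4e655ed8d0c429c4848c20)) (.node (nat_lit 0xffb3bbf356ee2727b20daae34538a241d2620c20) (.leaf (nat_lit 0xffb3bb6b1dbf20c6aeb19c9ea7504829cc448c20))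 (.leaf (nat_lit 0xffb3bbf356ee2727b20daae34538a241d2620c20)))) (.node (nat_lit 0xffb3bc6adcbf56c542519d68d73cc849c4428c20) (.node (nat_lit 0xffb3bc5eddd71736c2ae64a8a8bc4449cc828c20) (.leaf (nat_lit 0xffb3bbf758e5a75a316a9422f6b92641ca220c20)) (.leaf (nat_lit 0xffb3bc5eddd71736c2ae64a8a8bc4449cc828c20))) (.node (nat_lit 0xffb3bd72f8ed992a4d6dac1cf5452221ca640c20) (.leaf (nat_lit 0xffb3bc6adcbf56c542519d68d73cc849c4428c20)) (.leaf (nat_lit 0xffb3bd72f8ed992a4d6dac1cf5452221ca640c20))))) (.node (nat_lit 0xffb3bee397b6aab8ca6f831aea290511c8930c20) (.node (nat_lit 0xffb3be63bab5e4b7558f84d51a348531d0910c20) (.node (nat_lit 0xffb3be5bb7c6a508d6745b14e7b50931c8510c20) (.leaf (nat_lit 0xffb3bd76f6e61957ce0a92dd46c4a621d2240c20)) (.leaf (nat_lit 0xffb3be5bb7c6a508d6745b14e7b50931c8510c20))) (.node (nat_lit 0xffb3bedb9ac5eb0749945cdb17a88911d0530c20) (.leaf (nat_lit 0xffb3be63bab5e4b7558f84d51a348531d0910c20))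 (.leaf (nat_lit 0xffb3bedb9ac5eb0749945cdb17a88911d0530c20)))) (.node (nat_lit 0xffb57b7719e6d4f8b66ba324e854662a0e249020) (.node (nat_lit 0xffb57b731bee554735907ce515d4e22a06649020) (.leaf (nat_lit 0xffb3bee397b6aab8ca6f831aea290511c8930c20)) (.leaf (nat_lit 0xffb57b731bee554735907ce515d4e22a06649020))) (.node (nat_lit 0xffb57c72d9eedb48aa707b2ae5c8624a0e629020) (.leaf (nat_lit 0xffb57b7719e6d4f8b66ba324e854662a0e249020)) (.leaf (nat_lit 0xffb57c72d9eedb48aa707b2ae5c8624a0e629020)))))) (.node (nat_lit 0xffb57ee796de1f39514e636158aca71212331020) (.node (nat_lit 0xffb57ddb3cc758a5ce956bdd0944c93a04519020) (.node (nat_lit 0xffb57cdb7dc726a831f56d22b938491a0c539020) (.leaf (nat_lit 0xffb57c76dbe65af7298ba4eb1848e64a06229020)) (.node (nat_lit 0xffb57ce37cb766d5b29253e30ab8c51a04939020) (.leaf (nat_lit 0xffb57cdb7dc726a831f56d22b938491a0c539020)) (.leaf (nat_lit 0xffb57ce37cb766d5b29253e30ab8c51a04939020))))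 (.node (nat_lit 0xffb57e67b8dda93abdae629728c127320a311020) (.node (nat_lit 0xffb57de33db718d84df2551cbac4453a0c919020) (.leaf (nat_lit 0xffb57ddb3cc758a5ce956bdd0944c93a04519020)) (.leaf (nat_lit 0xffb57de33db718d84df2551cbac4453a0c919020))) (.node (nat_lit 0xffb57e6fb6ce28c93d519b575740a33212711020) (.leaf (nat_lit 0xffb57e67b8dda93abdae629728c127320a311020)) (.leaf (nat_lit 0xffb57e6fb6ce28c93d519b575740a33212711020))))) (.node (nat_lit 0xffb79bf358ed9957ce0a92dd46c52240ca621c20) (.node (nat_lit 0xffb79b5f1dd716c542519d68d73c4428cc849c20) (.node (nat_lit 0xffb57eef98cd9ecad1b19aa1272d23120a731020) (.leaf (nat_lit 0xffb57ee796de1f39514e636158aca71212331020)) (.leaf (nat_lit 0xffb57eef98cd9ecad1b19aa1272d23120a731020))) (.node (nat_lit 0xffb79b6b1cbf5736c2ae64a8a8bcc828c4449c20) (.leaf (nat_lit 0xffb79b5f1dd716c542519d68d73c4428cc849c20)) (.leaf (nat_lit 0xffb79b6b1cbf5736c2ae64a8a8bcc828c4449c20))))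 (.node (nat_lit 0xffb79c5edcd760c6aeb19c9ea750c448c4829c20) (.node (nat_lit 0xffb79bf756e6192a4d6dac1cf544a640d2221c20) (.leaf (nat_lit 0xffb79bf358ed9957ce0a92dd46c52240ca621c20)) (.leaf (nat_lit 0xffb79bf756e6192a4d6dac1cf544a640d2221c20))) (.node (nat_lit 0xffb79c6addbf21352e4e655ed8d04848cc429c20) (.leaf (nat_lit 0xffb79c5edcd760c6aeb19c9ea750c448c4829c20)) (.leaf (nat_lit 0xffb79c6addbf21352e4e655ed8d04848cc429c20))))))) (.node (nat_lit 0xffb9dd62f9b6dee6d2b38ca0a62c65208e941820) (.node (nat_lit 0xffb9db6f1acde32839edad26b530832890749820) (.node (nat_lit 0xffb79e63b7b6ab0749945cdb17a90530c8911c20) (.node (nat_lit 0xffb79d76f8e5a727b20daae345392620ca241c20) (.leaf (nat_lit 0xffb79d72f6ee275a316a9422f6b8a220d2641c20)) (.node (nat_lit 0xffb79e5bbac5eab8ca6f831aea288930d0511c20) (.leaf (nat_lit 0xffb79d76f8e5a727b20daae345392620ca241c20)) (.leaf (nat_lit 0xffb79e5bbac5eab8ca6f831aea288930d0511c20))))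 (.node (nat_lit 0xffb79ee39ab5e508d6745b14e7b48510d0931c20) (.node (nat_lit 0xffb79edb97c6a4b7558f84d51a350910c8531c20) (.leaf (nat_lit 0xffb79e63b7b6ab0749945cdb17a90530c8911c20)) (.leaf (nat_lit 0xffb79edb97c6a4b7558f84d51a350910c8531c20))) (.node (nat_lit 0xffb9db6717dea355ba8a93e706b1072888349820) (.leaf (nat_lit 0xffb79ee39ab5e508d6745b14e7b48510d0931c20)) (.leaf (nat_lit 0xffb9db6717dea355ba8a93e706b1072888349820))))) (.node (nat_lit 0xffb9dc6ed7ce9d25c68dabd9054d034888729820) (.node (nat_lit 0xffb9dbe35bb668e53e538d56d640e54086921820) (.node (nat_lit 0xffb9dbdb59c6e916beac7496a9c069408e521820) (.leaf (nat_lit 0xffb9db6f1acde32839edad26b530832890749820)) (.leaf (nat_lit 0xffb9dbdb59c6e916beac7496a9c069408e521820))) (.node (nat_lit 0xffb9dc66dadddd5845ea9518b6cc874890329820) (.leaf (nat_lit 0xffb9dbe35bb668e53e538d56d640e54086921820)) (.leaf (nat_lit 0xffb9dc66dadddd5845ea9518b6cc874890329820))))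 (.node (nat_lit 0xffb9dceb78bdaaf649cba45b382928188a439820) (.node (nat_lit 0xffb9dcdf76d62b49ca307b9ac5a8a41892839820) (.leaf (nat_lit 0xffb9dc6ed7ce9d25c68dabd9054d034888729820)) (.leaf (nat_lit 0xffb9dcdf76d62b49ca307b9ac5a8a41892839820))) (.node (nat_lit 0xffb9dd5afbc65f15524c7560d9ace92086541820) (.leaf (nat_lit 0xffb9dceb78bdaaf649cba45b382928188a439820)) (.leaf (nat_lit 0xffb9dd5afbc65f15524c7560d9ace92086541820)))))) (.node (nat_lit 0xffbbcc66d7dea32839edad26b531074988328820) (.node (nat_lit 0xffbbcb671adddd25c68dabd9054c872990348820) (.node (nat_lit 0xffb9dddf38d5a54655d07c5535b524388a819820) (.leaf (nat_lit 0xffb9dd62f9b6dee6d2b38ca0a62c65208e941820)) (.node (nat_lit 0xffb9ddeb36be24f9d62ba394c834a83892419820) (.leaf (nat_lit 0xffb9dddf38d5a54655d07c5535b524388a819820)) (.leaf (nat_lit 0xffb9ddeb36be24f9d62ba394c834a83892419820)))) (.node (nat_lit 0xffbbcbdb5bc65ee6d2b38ca0a62ce94186520820)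 (.node (nat_lit 0xffbbcb6f17ce9d5845ea9518b6cd032988748820) (.leaf (nat_lit 0xffbbcb671adddd25c68dabd9054c872990348820)) (.leaf (nat_lit 0xffbbcb6f17ce9d5845ea9518b6cd032988748820))) (.node (nat_lit 0xffbbcbe359b6df15524c7560d9ac65418e920820) (.leaf (nat_lit 0xffbbcbdb5bc65ee6d2b38ca0a62ce94186520820)) (.leaf (nat_lit 0xffbbcbe359b6df15524c7560d9ac65418e920820))))) (.node (nat_lit 0xffbbcd5af9c6e8e53e538d56d64069218e540820) (.node (nat_lit 0xffbbccdf78d5a4f9d62ba394c83524198a838820) (.node (nat_lit 0xffbbcc6edacde355ba8a93e706b0834990728820) (.leaf (nat_lit 0xffbbcc66d7dea32839edad26b531074988328820)) (.leaf (nat_lit 0xffbbcc6edacde355ba8a93e706b0834990728820))) (.node (nat_lit 0xffbbcceb76be254655d07c5535b4a81992438820) (.leaf (nat_lit 0xffbbccdf78d5a4f9d62ba394c83524198a838820)) (.leaf (nat_lit 0xffbbcceb76be254655d07c5535b4a81992438820)))) (.node (nat_lit 0xffbbcddf36d62af649cba45b3828a43992818820)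 (.node (nat_lit 0xffbbcd62fbb66916beac7496a9c0e52186940820) (.leaf (nat_lit 0xffbbcd5af9c6e8e53e538d56d64069218e540820)) (.leaf (nat_lit 0xffbbcd62fbb66916beac7496a9c0e52186940820))) (.node (nat_lit 0xffbbcdeb38bdab49ca307b9ac5a928398a418820) (.leaf (nat_lit 0xffbbcddf36d62af649cba45b3828a43992818820)) (.leaf (nat_lit 0xffbbcdeb38bdab49ca307b9ac5a928398a418820))))))))))
noncomputable def AN_lK_T : ST := (.node (nat_lit 0x38d4d7662fdd3159db5d95e0ce2cbe2093f41820) (.node (nat_lit 0x222555ba1a8df7db6554e35987cfc7117e332420) AN_lK_T0 AN_lK_T1) (.node (nat_lit 0x4968f64a78adb5cddd6eec1598b7c431fe810c20) AN_lK_T2 AN_lK_T3))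
theorem AN_lK_E {G : Type*} [Group G] {R : ℕ → G → Prop} {z u v a b i j k l p t c r s : G}
    (M : Md0 AN_o AN_cs R [z, u, v, a, b, i, j, k, l, p, t, c, r, s]) :
    EnumS R AN_lK (sp [i, p, c]) :=
  enumS_tree M.μ.1 (M.reps.tms M.μ.1 [(.v (nat_lit 5)), (.v (nat_lit 9)), (.v (nat_lit 11))] (cs' := [(nat_lit 0xf7f9ddeb38bdab464a2b7b953834a41992838820), (nat_lit 0x3094d8317d9f2dace2b4bca3b7bbe941fc520c20), (nat_lit 0xffb3bbf758e5a75a316a9422f6b92641ca220c20)]) (by decide +kernel))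
    (Ws := AN_lK_W) (T := AN_lK_T) (by decide +kernel) (by decide +kernel)
theorem AN_lK_c {G : Type*} [Group G] {R : ℕ → G → Prop} {z u v a b i j k l p t c r s : G}
    (M : Md0 AN_o AN_cs R [z, u, v, a, b, i, j, k, l, p, t, c, r, s]) :
    #(sp [i, p, c]) = 960 :=
  (AN_lK_E M).card M.μ (h := AN_lK_h) (by decide +kernel)
noncomputable def AN_lT : List ℕ := [(nat_lit 0xffbbcdeb38bdab49ca307b9ac5a928398a418820), (nat_lit 0xf7f9ddeb38bdab464a2b7b953834a41992838820), (nat_lit 0xf7fbcceb78bdaaf9c9d0a454c5b4a43892819820), (nat_lit 0xf7fbcddf38d5a549d5cb7c5ac828a81892439820), (nat_lit 0xf7fbcdeb36be24f65630a39b35a924188a839820), (nat_lit 0xffb3be5bb7c6a508d6745b14e7b50931c8510c20), (nat_lit 0xffb57c76dbe65af7298ba4eb1848e64a06229020), (nat_lit 0xffb9dceb78bdaaf649cba45b382928188a439820), (nat_lit 0xffb9dddf38d5a54655d07c5535b524388a819820), (nat_lit 0xffb9ddeb36be24f9d62ba394c834a83892419820),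 (nat_lit 0xf7f79e5bb7c6a507566f5b1b1a288511d0930c20), (nat_lit 0xf7efac76dbe65af8a990a4e4e5d4622a0e649020), (nat_lit 0xffbbccdf78d5a4f9d62ba394c83524198a838820), (nat_lit 0xffbbcceb76be254655d07c5535b4a81992438820), (nat_lit 0xf7f3bedb97c6a4b8d59484dae7a88530d0911c20), (nat_lit 0xf7f57b771be65b472a6b7b25185462490e62a020), (nat_lit 0xffbbcddf36d62af649cba45b3828a43992818820), (nat_lit 0xf7f3be63b7b6ab08c98f5cd4ea348910d0531c20), (nat_lit 0xf7f57c72dbee54f73670a32b15c866290e24a020), (nat_lit 0xf7f3be5bbac5eab74a74831517b50510c8931c20), (nat_lit 0xf7f57c76d9e6d548b58b7ceae848e2290664a020), (nat_lit 0xffad8be75cdf54b635cf84653a54c74244321420), (nat_lit 0xf7f9dcdf78d5a4f65630a39b35a8a83992418820), (nat_lit 0xf7f9dceb76be2549d5cb7c5ac82924398a818820), (nat_lit 0xffb79edb97c6a4b7558f84d51a350910c8531c20), (nat_lit 0xffafab771be65b48aa707b2ae5c8e6290624a020), (nat_lit 0xf7f9dddf36d62af9c9d0a454c5b528198a438820),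 (nat_lit 0xffb79e63b7b6ab0749945cdb17a90530c8911c20), (nat_lit 0xffafac72dbee54f8b66ba324e854e2490662a020), (nat_lit 0xffb79e5bbac5eab8ca6f831aea288930d0511c20), (nat_lit 0xffafac76d9e6d54735907ce515d466490e22a020), (nat_lit 0xf7f16be75cdf54b9b5d4846ac7c843224c741420), (nat_lit 0xf7fbccdf76d62b464a2b7b95383528388a419820), (nat_lit 0xffb3bee397b6aab8ca6f831aea290511c8930c20), (nat_lit 0xffb57b731bee554735907ce515d4e22a06649020), (nat_lit 0xffb3bedb9ac5eb0749945cdb17a88911d0530c20), (nat_lit 0xffb57b7719e6d4f8b66ba324e854662a0e249020), (nat_lit 0xf7ed8d66fcdf5506362f5bab3a4843414c722420), (nat_lit 0xffb3be63bab5e4b7558f84d51a348531d0910c20), (nat_lit 0xffb57c72d9eedb48aa707b2ae5c8624a0e629020), (nat_lit 0xf7ed8bef5ccf5ab62a3483a537d447214c342420), (nat_lit 0xf7ed8be75ddf1b09a9cf5c64ca54c32144742420), (nat_lit 0xffb9dcdf76d62b49ca307b9ac5a8a41892839820), (nat_lit 0xf7f79ee397b6aab74a74831517b48931d0510c20),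 (nat_lit 0xf7efab731bee5548b58b7ceae848664a0e229020), (nat_lit 0xf7f79edb9ac5eb08c98f5cd4ea350531c8910c20), (nat_lit 0xf7efab7719e6d4f73670a32b15c8e24a06629020), (nat_lit 0xffb16d66fcdf5509b6345ba4c7d4c72144342420), (nat_lit 0xf7f79e63bab5e4b8d59484dae7a90911c8530c20), (nat_lit 0xf7efac72d9eedb472a6b7b251854e62a06249020), (nat_lit 0xffb16bef5ccf5ab9aa2f83aaca48c34144722420), (nat_lit 0xffb16be75ddf1b0629d45c6b37c847414c322420), (nat_lit 0xf7f3bee39ab5e507566f5b1b1a290930c8511c20), (nat_lit 0xf7f57b7319eedaf8a990a4e4e5d4e6490622a020), (nat_lit 0xffad8d6efccf5b0629d45c6b37c8c32244741420), (nat_lit 0xffad8d66fddf1ab9aa2f83aaca4847224c341420), (nat_lit 0xffad8bef5dcf1509b6345ba4c7d443424c721420), (nat_lit 0xffb79ee39ab5e508d6745b14e7b48510d0931c20), (nat_lit 0xffafab7319eedaf7298ba4eb184862290e64a020), (nat_lit 0xf7f16d6efccf5b09a9cf5c64ca5447424c321420), (nat_lit 0xf7f16d66fddf1ab62a3483a537d4c34244721420),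 (nat_lit 0xf7f16bef5dcf1506362f5bab3a48c72244341420), (nat_lit 0xf7ed8d6efdcf14b9b5d4846ac7c8c74144322420), (nat_lit 0xffb16d6efdcf14b635cf84653a5443214c742420)]
noncomputable def AN_lT_W : List (List ℕ) := [[],
  [(nat_lit 0)],
  [(nat_lit 1)],
  [(nat_lit 2)],
  [(nat_lit 3)],
  [(nat_lit 4)],
  [(nat_lit 5)],
  [(nat_lit 0), (nat_lit 1)],
  [(nat_lit 0), (nat_lit 2)],
  [(nat_lit 0), (nat_lit 3)],
  [(nat_lit 0), (nat_lit 4)],
  [(nat_lit 0), (nat_lit 5)],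
  [(nat_lit 1), (nat_lit 2)],
  [(nat_lit 1), (nat_lit 3)],
  [(nat_lit 1), (nat_lit 4)],
  [(nat_lit 1), (nat_lit 5)],
  [(nat_lit 2), (nat_lit 3)],
  [(nat_lit 2), (nat_lit 4)],
  [(nat_lit 2), (nat_lit 5)],
  [(nat_lit 3), (nat_lit 4)],
  [(nat_lit 3), (nat_lit 5)],
  [(nat_lit 4), (nat_lit 5)],
  [(nat_lit 0), (nat_lit 1), (nat_lit 2)],
  [(nat_lit 0), (nat_lit 1), (nat_lit 3)],
  [(nat_lit 0), (nat_lit 1), (nat_lit 4)],
  [(nat_lit 0), (nat_lit 1), (nat_lit 5)],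
  [(nat_lit 0), (nat_lit 2), (nat_lit 3)],
  [(nat_lit 0), (nat_lit 2), (nat_lit 4)],
  [(nat_lit 0), (nat_lit 2), (nat_lit 5)],
  [(nat_lit 0), (nat_lit 3), (nat_lit 4)],
  [(nat_lit 0), (nat_lit 3), (nat_lit 5)],
  [(nat_lit 0), (nat_lit 4), (nat_lit 5)],
  [(nat_lit 1), (nat_lit 2), (nat_lit 3)],
  [(nat_lit 1), (nat_lit 2), (nat_lit 4)],
  [(nat_lit 1), (nat_lit 2), (nat_lit 5)],
  [(nat_lit 1), (nat_lit 3), (nat_lit 4)],
  [(nat_lit 1), (nat_lit 3), (nat_lit 5)],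
  [(nat_lit 1), (nat_lit 4), (nat_lit 5)],
  [(nat_lit 2), (nat_lit 3), (nat_lit 4)],
  [(nat_lit 2), (nat_lit 3), (nat_lit 5)],
  [(nat_lit 2), (nat_lit 4), (nat_lit 5)],
  [(nat_lit 3), (nat_lit 4), (nat_lit 5)],
  [(nat_lit 0), (nat_lit 1), (nat_lit 2), (nat_lit 3)],
  [(nat_lit 0), (nat_lit 1), (nat_lit 2), (nat_lit 4)],
  [(nat_lit 0), (nat_lit 1), (nat_lit 2), (nat_lit 5)],
  [(nat_lit 0), (nat_lit 1), (nat_lit 3), (nat_lit 4)],
  [(nat_lit 0), (nat_lit 1), (nat_lit 3), (nat_lit 5)],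
  [(nat_lit 0), (nat_lit 1), (nat_lit 4), (nat_lit 5)],
  [(nat_lit 0), (nat_lit 2), (nat_lit 3), (nat_lit 4)],
  [(nat_lit 0), (nat_lit 2), (nat_lit 3), (nat_lit 5)],
  [(nat_lit 0), (nat_lit 2), (nat_lit 4), (nat_lit 5)],
  [(nat_lit 0), (nat_lit 3), (nat_lit 4), (nat_lit 5)],
  [(nat_lit 1), (nat_lit 2), (nat_lit 3), (nat_lit 4)],
  [(nat_lit 1), (nat_lit 2), (nat_lit 3), (nat_lit 5)],
  [(nat_lit 1), (nat_lit 2), (nat_lit 4), (nat_lit 5)],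
  [(nat_lit 1), (nat_lit 3), (nat_lit 4), (nat_lit 5)],
  [(nat_lit 2), (nat_lit 3), (nat_lit 4), (nat_lit 5)],
  [(nat_lit 0), (nat_lit 1), (nat_lit 2), (nat_lit 3), (nat_lit 4)],
  [(nat_lit 0), (nat_lit 1), (nat_lit 2), (nat_lit 3), (nat_lit 5)],
  [(nat_lit 0), (nat_lit 1), (nat_lit 2), (nat_lit 4), (nat_lit 5)],
  [(nat_lit 0), (nat_lit 1), (nat_lit 3), (nat_lit 4), (nat_lit 5)],
  [(nat_lit 0), (nat_lit 2), (nat_lit 3), (nat_lit 4), (nat_lit 5)],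
  [(nat_lit 1), (nat_lit 2), (nat_lit 3), (nat_lit 4), (nat_lit 5)],
  [(nat_lit 0), (nat_lit 1), (nat_lit 2), (nat_lit 3), (nat_lit 4), (nat_lit 5)]]
noncomputable def AN_lT_h (c : ℕ) : ℕ := Nat.mod c (nat_lit 1849)
theorem AN_lT_E {G : Type*} [Group G] {R : ℕ → G → Prop} {z u v a b i j k l p t c r s : G}
    (M : Md0 AN_o AN_cs R [z, u, v, a, b, i, j, k, l, p, t, c, r, s]) :
    EnumS R AN_lT (sp [i, j, k, l, r, s]) :=
  enumS_sp M.μ.1 (M.reps.tms M.μ.1 [(.v (nat_lit 5)), (.v (nat_lit 6)), (.v (nat_lit 7)), (.v (nat_lit 8)), (.v (nat_lit 12)), (.v (nat_lit 13))] (cs' := [(nat_lit 0xf7f9ddeb38bdab464a2b7b953834a41992838820), (nat_lit 0xf7fbcceb78bdaaf9c9d0a454c5b4a43892819820), (nat_lit 0xf7fbcddf38d5a549d5cb7c5ac828a81892439820), (nat_lit 0xf7fbcdeb36be24f65630a39b35a924188a839820), (nat_lit 0xffb3be5bb7c6a508d6745b14e7b50931c8510c20), (nat_lit 0xffb57c76dbe65af7298ba4eb1848e64a06229020)])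 (by decide +kernel))
    (Ws := AN_lT_W) (by decide +kernel) (by decide +kernel)
theorem AN_lT_c {G : Type*} [Group G] {R : ℕ → G → Prop} {z u v a b i j k l p t c r s : G}
    (M : Md0 AN_o AN_cs R [z, u, v, a, b, i, j, k, l, p, t, c, r, s]) :
    #(sp [i, j, k, l, r, s]) = 64 :=
  (AN_lT_E M).card M.μ (h := AN_lT_h) (by decide +kernel)
noncomputable def AN_lN : List ℕ := [(nat_lit 0xf7ed8be75ddf1b09a9cf5c64ca54c32144742420), (nat_lit 0xf7ed8bef5ccf5ab62a3483a537d447214c342420), (nat_lit 0xf7ed8cf37aede11aad537369263d06394821a420), (nat_lit 0xf7ed8cf777e6a0e92dac8aa959bc82395061a420), (nat_lit 0xf7ed8d66fcdf5506362f5bab3a4843414c722420), (nat_lit 0xf7ed8d6efdcf14b9b5d4846ac7c8c74144322420), (nat_lit 0xf7ed8df337ee971941b3729f565086195023a420), (nat_lit 0xf7ed8df73ae5d6eac14c8b5f29d102194863a420), (nat_lit 0xf7ed8e5fbbd662d7b9755419494c68114e432420), (nat_lit 0xf7ed8e6bb9bee2aa3a126ad8facce41146832420),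 (nat_lit 0xf7ed8edf99d6dcda461552e6f930e83146412420), (nat_lit 0xf7ed8eeb9bbe5ca7c5726c274ab064314e812420), (nat_lit 0xf7efab731bee5548b58b7ceae848664a0e229020), (nat_lit 0xf7efab7719e6d4f73670a32b15c8e24a06629020), (nat_lit 0xf7efac72d9eedb472a6b7b251854e62a06249020), (nat_lit 0xf7efac76dbe65af8a990a4e4e5d4622a0e649020), (nat_lit 0xf7efacdb7dc726a5b1f26d1d0ac4c53a04919020), (nat_lit 0xf7eface37cb766d8329553dcb944493a0c519020), (nat_lit 0xf7efaddb3cc758a84e926be2bab8451a0c939020), (nat_lit 0xf7efade33db718d5cdf555230938c91a04539020), (nat_lit 0xf7efae67b8dda9393db162a1572ca31212731020), (nat_lit 0xf7efae6fb6ce28cabd4e9b6128ad27120a331020), (nat_lit 0xf7efaee796de1f3ad1516357274123320a711020), (nat_lit 0xf7efaeef98cd9ec951ae9a9758c0a73212311020), (nat_lit 0xf7f16be75cdf54b9b5d4846ac7c843224c741420), (nat_lit 0xf7f16bef5dcf1506362f5bab3a48c72244341420), (nat_lit 0xf7f16cf377ee96eac14c8b5f29d0863a50219420),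 (nat_lit 0xf7f16cf77ae5d71941b3729f5651023a48619420), (nat_lit 0xf7f16d66fddf1ab62a3483a537d4c34244721420), (nat_lit 0xf7f16d6efccf5b09a9cf5c64ca5447424c321420), (nat_lit 0xf7f16df33aede0e92dac8aa959bd061a48239420), (nat_lit 0xf7f16df737e6a11aad537369263c821a50639420), (nat_lit 0xf7f16e5fb9d6dca7c5726c274ab0e81246431420), (nat_lit 0xf7f16e6bbbbe5cda461552e6f93064124e831420), (nat_lit 0xf7f16edf9bd662aa3a126ad8facc68324e411420), (nat_lit 0xf7f16eeb99bee2d7b9755419494ce43246811420), (nat_lit 0xf7f3bb5f1dd716c6c24e9d5ea8d0c848c4429c20), (nat_lit 0xf7f3bb6b1cbf573542b1649ed7504448cc829c20), (nat_lit 0xf7f3bbf358ed995a4e0d92e2f538a620d2241c20), (nat_lit 0xf7f3bbf756e61927cd6aac2346b92220ca641c20), (nat_lit 0xf7f3bc5edcd760c52eae9ca8d8bc4828cc449c20), (nat_lit 0xf7f3bc6addbf2136ae516568a73cc428c4849c20), (nat_lit 0xf7f3bd72f6ee2757b16d941d45452640ca221c20), (nat_lit 0xf7f3bd76f8e5a72a320aaadcf6c4a240d2621c20),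 (nat_lit 0xf7f3be5bbac5eab74a74831517b50510c8931c20), (nat_lit 0xf7f3be63b7b6ab08c98f5cd4ea348910d0531c20), (nat_lit 0xf7f3bedb97c6a4b8d59484dae7a88530d0911c20), (nat_lit 0xf7f3bee39ab5e507566f5b1b1a290930c8511c20), (nat_lit 0xf7f57b7319eedaf8a990a4e4e5d4e6490622a020), (nat_lit 0xf7f57b771be65b472a6b7b25185462490e62a020), (nat_lit 0xf7f57c72dbee54f73670a32b15c866290e24a020), (nat_lit 0xf7f57c76d9e6d548b58b7ceae848e2290664a020), (nat_lit 0xf7f57cdb7cc758d5cdf55523093845390c91a020), (nat_lit 0xf7f57ce37db718a84e926be2bab8c9390451a020), (nat_lit 0xf7f57ddb3dc726d8329553dcb944c5190493a020), (nat_lit 0xf7f57de33cb766a5b1f26d1d0ac449190c53a020), (nat_lit 0xf7f57e67b6de1ec951ae9a9758c123110a732020), (nat_lit 0xf7f57e6fb8cd9f3ad15163572740a71112332020), (nat_lit 0xf7f57ee798dda8cabd4e9b6128aca33112712020), (nat_lit 0xf7f57eef96ce29393db162a1572d27310a312020), (nat_lit 0xf7f79b5f1cd76136ae516568a73c4849cc428c20),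 (nat_lit 0xf7f79b6b1dbf20c52eae9ca8d8bcc449c4828c20), (nat_lit 0xf7f79bf356ee272a320aaadcf6c52621ca240c20), (nat_lit 0xf7f79bf758e5a757b16d941d4544a221d2640c20), (nat_lit 0xf7f79c5eddd7173542b1649ed750c829c4448c20), (nat_lit 0xf7f79c6adcbf56c6c24e9d5ea8d04429cc848c20), (nat_lit 0xf7f79d72f8ed9927cd6aac2346b8a641d2220c20), (nat_lit 0xf7f79d76f6e6195a4e0d92e2f5392241ca620c20), (nat_lit 0xf7f79e5bb7c6a507566f5b1b1a288511d0930c20), (nat_lit 0xf7f79e63bab5e4b8d59484dae7a90911c8530c20), (nat_lit 0xf7f79edb9ac5eb08c98f5cd4ea350531c8910c20), (nat_lit 0xf7f79ee397b6aab74a74831517b48931d0510c20), (nat_lit 0xf7f9db671adddd28468aabe6b6b1034988728820), (nat_lit 0xf7f9db6f17ce9d55c5ed95270530874990328820), (nat_lit 0xf7f9dbdb5bc65ee552ac8c96d9c065218e940820), (nat_lit 0xf7f9dbe359b6df16d2537556a640e92186540820), (nat_lit 0xf7f9dc66d7dea325b9eaad1906cc832990748820), (nat_lit 0xf7f9dc6edacde3583a8d93d8b54d072988348820),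 (nat_lit 0xf7f9dcdf78d5a4f65630a39b35a8a83992418820), (nat_lit 0xf7f9dceb76be2549d5cb7c5ac82924398a818820), (nat_lit 0xf7f9dd5af9c6e8e6be4c8d60a9ace54186920820), (nat_lit 0xf7f9dd62fbb669153eb374a0d62c69418e520820), (nat_lit 0xf7f9dddf36d62af9c9d0a454c5b528198a438820), (nat_lit 0xf7f9ddeb38bdab464a2b7b953834a41992838820), (nat_lit 0xf7fbcb6717dea3583a8d93d8b54c834890729820), (nat_lit 0xf7fbcb6f1acde325b9eaad1906cd074888329820), (nat_lit 0xf7fbcbdb59c6e9153eb374a0d62ce52086941820), (nat_lit 0xf7fbcbe35bb668e6be4c8d60a9ac69208e541820), (nat_lit 0xf7fbcc66dadddd55c5ed95270531032888749820), (nat_lit 0xf7fbcc6ed7ce9d28468aabe6b6b0872890349820), (nat_lit 0xf7fbccdf76d62b464a2b7b95383528388a419820), (nat_lit 0xf7fbcceb78bdaaf9c9d0a454c5b4a43892819820), (nat_lit 0xf7fbcd5afbc65f16d2537556a64065408e921820), (nat_lit 0xf7fbcd62f9b6dee552ac8c96d9c0e94086521820), (nat_lit 0xf7fbcddf38d5a549d5cb7c5ac828a81892439820),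 (nat_lit 0xf7fbcdeb36be24f65630a39b35a924188a839820), (nat_lit 0xffad8be75cdf54b635cf84653a54c74244321420), (nat_lit 0xffad8bef5dcf1509b6345ba4c7d443424c721420), (nat_lit 0xffad8cf377ee96e941538b69563d021a48639420), (nat_lit 0xffad8cf77ae5d71ac1ac72a929bc861a50239420), (nat_lit 0xffad8d66fddf1ab9aa2f83aaca4847224c341420), (nat_lit 0xffad8d6efccf5b0629d45c6b37c8c32244741420), (nat_lit 0xffad8df33aede0eaadb38a9f2650823a50619420), (nat_lit 0xffad8df737e6a1192d4c735f59d1063a48219420), (nat_lit 0xffad8e5fb9d6dcaa45756c18f94c64324e811420), (nat_lit 0xffad8e6bbbbe5cd7c61252d94acce83246411420), (nat_lit 0xffad8edf9bd662a7ba156ae74930e41246831420), (nat_lit 0xffad8eeb99bee2da39725426fab068124e431420), (nat_lit 0xffafab7319eedaf7298ba4eb184862290e64a020), (nat_lit 0xffafab771be65b48aa707b2ae5c8e6290624a020), (nat_lit 0xffafac72dbee54f8b66ba324e854e2490662a020), (nat_lit 0xffafac76d9e6d54735907ce515d466490e22a020),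 (nat_lit 0xffafacdb7cc758d84df2551cbac4c9190453a020), (nat_lit 0xffaface37db718a5ce956bdd094445190c93a020), (nat_lit 0xffafaddb3dc726d5b29253e30ab849390c51a020), (nat_lit 0xffafade33cb766a831f56d22b938c5390491a020), (nat_lit 0xffafae67b6de1ecad1b19aa1272ca73112312020), (nat_lit 0xffafae6fb8cd9f39514e636158ad23310a712020), (nat_lit 0xffafaee798dda8c93d519b57574127110a332020), (nat_lit 0xffafaeef96ce293abdae629728c0a31112732020), (nat_lit 0xffb16be75ddf1b0629d45c6b37c847414c322420), (nat_lit 0xffb16bef5ccf5ab9aa2f83aaca48c34144722420), (nat_lit 0xffb16cf37aede1192d4c735f59d082195063a420), (nat_lit 0xffb16cf777e6a0eaadb38a9f265106194823a420), (nat_lit 0xffb16d66fcdf5509b6345ba4c7d4c72144342420), (nat_lit 0xffb16d6efdcf14b635cf84653a5443214c742420), (nat_lit 0xffb16df337ee971ac1ac72a929bd02394861a420), (nat_lit 0xffb16df73ae5d6e941538b69563c86395021a420), (nat_lit 0xffb16e5fbbd662da39725426fab0e43146812420),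 (nat_lit 0xffb16e6bb9bee2a7ba156ae7493068314e412420), (nat_lit 0xffb16edf99d6dcd7c61252d94acc64114e832420), (nat_lit 0xffb16eeb9bbe5caa45756c18f94ce81146432420), (nat_lit 0xffb3bb5f1cd761352e4e655ed8d0c429c4848c20), (nat_lit 0xffb3bb6b1dbf20c6aeb19c9ea7504829cc448c20), (nat_lit 0xffb3bbf356ee2727b20daae34538a241d2620c20), (nat_lit 0xffb3bbf758e5a75a316a9422f6b92641ca220c20), (nat_lit 0xffb3bc5eddd71736c2ae64a8a8bc4449cc828c20), (nat_lit 0xffb3bc6adcbf56c542519d68d73cc849c4428c20), (nat_lit 0xffb3bd72f8ed992a4d6dac1cf5452221ca640c20), (nat_lit 0xffb3bd76f6e61957ce0a92dd46c4a621d2240c20), (nat_lit 0xffb3be5bb7c6a508d6745b14e7b50931c8510c20), (nat_lit 0xffb3be63bab5e4b7558f84d51a348531d0910c20), (nat_lit 0xffb3bedb9ac5eb0749945cdb17a88911d0530c20), (nat_lit 0xffb3bee397b6aab8ca6f831aea290511c8930c20), (nat_lit 0xffb57b731bee554735907ce515d4e22a06649020), (nat_lit 0xffb57b7719e6d4f8b66ba324e854662a0e249020),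 (nat_lit 0xffb57c72d9eedb48aa707b2ae5c8624a0e629020), (nat_lit 0xffb57c76dbe65af7298ba4eb1848e64a06229020), (nat_lit 0xffb57cdb7dc726a831f56d22b938491a0c539020), (nat_lit 0xffb57ce37cb766d5b29253e30ab8c51a04939020), (nat_lit 0xffb57ddb3cc758a5ce956bdd0944c93a04519020), (nat_lit 0xffb57de33db718d84df2551cbac4453a0c919020), (nat_lit 0xffb57e67b8dda93abdae629728c127320a311020), (nat_lit 0xffb57e6fb6ce28c93d519b575740a33212711020), (nat_lit 0xffb57ee796de1f39514e636158aca71212331020), (nat_lit 0xffb57eef98cd9ecad1b19aa1272d23120a731020), (nat_lit 0xffb79b5f1dd716c542519d68d73c4428cc849c20), (nat_lit 0xffb79b6b1cbf5736c2ae64a8a8bcc828c4449c20), (nat_lit 0xffb79bf358ed9957ce0a92dd46c52240ca621c20), (nat_lit 0xffb79bf756e6192a4d6dac1cf544a640d2221c20), (nat_lit 0xffb79c5edcd760c6aeb19c9ea750c448c4829c20), (nat_lit 0xffb79c6addbf21352e4e655ed8d04848cc429c20), (nat_lit 0xffb79d72f6ee275a316a9422f6b8a220d2641c20),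 (nat_lit 0xffb79d76f8e5a727b20daae345392620ca241c20), (nat_lit 0xffb79e5bbac5eab8ca6f831aea288930d0511c20), (nat_lit 0xffb79e63b7b6ab0749945cdb17a90530c8911c20), (nat_lit 0xffb79edb97c6a4b7558f84d51a350910c8531c20), (nat_lit 0xffb79ee39ab5e508d6745b14e7b48510d0931c20), (nat_lit 0xffb9db6717dea355ba8a93e706b1072888349820), (nat_lit 0xffb9db6f1acde32839edad26b530832890749820), (nat_lit 0xffb9dbdb59c6e916beac7496a9c069408e521820), (nat_lit 0xffb9dbe35bb668e53e538d56d640e54086921820), (nat_lit 0xffb9dc66dadddd5845ea9518b6cc874890329820), (nat_lit 0xffb9dc6ed7ce9d25c68dabd9054d034888729820), (nat_lit 0xffb9dcdf76d62b49ca307b9ac5a8a41892839820), (nat_lit 0xffb9dceb78bdaaf649cba45b382928188a439820), (nat_lit 0xffb9dd5afbc65f15524c7560d9ace92086541820), (nat_lit 0xffb9dd62f9b6dee6d2b38ca0a62c65208e941820), (nat_lit 0xffb9dddf38d5a54655d07c5535b524388a819820), (nat_lit 0xffb9ddeb36be24f9d62ba394c834a83892419820),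 (nat_lit 0xffbbcb671adddd25c68dabd9054c872990348820), (nat_lit 0xffbbcb6f17ce9d5845ea9518b6cd032988748820), (nat_lit 0xffbbcbdb5bc65ee6d2b38ca0a62ce94186520820), (nat_lit 0xffbbcbe359b6df15524c7560d9ac65418e920820), (nat_lit 0xffbbcc66d7dea32839edad26b531074988328820), (nat_lit 0xffbbcc6edacde355ba8a93e706b0834990728820), (nat_lit 0xffbbccdf78d5a4f9d62ba394c83524198a838820), (nat_lit 0xffbbcceb76be254655d07c5535b4a81992438820), (nat_lit 0xffbbcd5af9c6e8e53e538d56d64069218e540820), (nat_lit 0xffbbcd62fbb66916beac7496a9c0e52186940820), (nat_lit 0xffbbcddf36d62af649cba45b3828a43992818820), (nat_lit 0xffbbcdeb38bdab49ca307b9ac5a928398a418820)]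
noncomputable def AN_lN_W : List (List ℕ) := [[(nat_lit 3), (nat_lit 4), (nat_lit 5)],
  [(nat_lit 2), (nat_lit 4), (nat_lit 5)],
  [(nat_lit 1), (nat_lit 2), (nat_lit 3), (nat_lit 6), (nat_lit 5), (nat_lit 6)],
  [(nat_lit 1), (nat_lit 6), (nat_lit 5), (nat_lit 6)],
  [(nat_lit 1), (nat_lit 4), (nat_lit 5)],
  [(nat_lit 1), (nat_lit 2), (nat_lit 3), (nat_lit 4), (nat_lit 5)],
  [(nat_lit 2), (nat_lit 6), (nat_lit 5), (nat_lit 6)],
  [(nat_lit 3), (nat_lit 6), (nat_lit 5), (nat_lit 6)],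
  [(nat_lit 2), (nat_lit 6), (nat_lit 5)],
  [(nat_lit 3), (nat_lit 6), (nat_lit 5)],
  [(nat_lit 1), (nat_lit 2), (nat_lit 3), (nat_lit 6), (nat_lit 5)],
  [(nat_lit 1), (nat_lit 6), (nat_lit 5)],
  [(nat_lit 0), (nat_lit 1), (nat_lit 2), (nat_lit 5)],
  [(nat_lit 0), (nat_lit 1), (nat_lit 3), (nat_lit 5)],
  [(nat_lit 0), (nat_lit 2), (nat_lit 3), (nat_lit 5)],
  [(nat_lit 0), (nat_lit 5)],
  [(nat_lit 0), (nat_lit 1), (nat_lit 3), (nat_lit 4), (nat_lit 6)],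
  [(nat_lit 0), (nat_lit 1), (nat_lit 2), (nat_lit 4), (nat_lit 6)],
  [(nat_lit 0), (nat_lit 4), (nat_lit 6)],
  [(nat_lit 0), (nat_lit 2), (nat_lit 3), (nat_lit 4), (nat_lit 6)],
  [(nat_lit 0), (nat_lit 6), (nat_lit 6)],
  [(nat_lit 0), (nat_lit 2), (nat_lit 3), (nat_lit 6), (nat_lit 6)],
  [(nat_lit 0), (nat_lit 1), (nat_lit 3), (nat_lit 6), (nat_lit 6)],
  [(nat_lit 0), (nat_lit 1), (nat_lit 2), (nat_lit 6), (nat_lit 6)],
  [(nat_lit 0), (nat_lit 4), (nat_lit 5)],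
  [(nat_lit 0), (nat_lit 2), (nat_lit 3), (nat_lit 4), (nat_lit 5)],
  [(nat_lit 0), (nat_lit 1), (nat_lit 2), (nat_lit 6), (nat_lit 5), (nat_lit 6)],
  [(nat_lit 0), (nat_lit 1), (nat_lit 3), (nat_lit 6), (nat_lit 5), (nat_lit 6)],
  [(nat_lit 0), (nat_lit 1), (nat_lit 3), (nat_lit 4), (nat_lit 5)],
  [(nat_lit 0), (nat_lit 1), (nat_lit 2), (nat_lit 4), (nat_lit 5)],
  [(nat_lit 0), (nat_lit 2), (nat_lit 3), (nat_lit 6), (nat_lit 5), (nat_lit 6)],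
  [(nat_lit 0), (nat_lit 6), (nat_lit 5), (nat_lit 6)],
  [(nat_lit 0), (nat_lit 2), (nat_lit 3), (nat_lit 6), (nat_lit 5)],
  [(nat_lit 0), (nat_lit 6), (nat_lit 5)],
  [(nat_lit 0), (nat_lit 1), (nat_lit 2), (nat_lit 6), (nat_lit 5)],
  [(nat_lit 0), (nat_lit 1), (nat_lit 3), (nat_lit 6), (nat_lit 5)],
  [(nat_lit 1), (nat_lit 2), (nat_lit 3), (nat_lit 5), (nat_lit 6), (nat_lit 6)],
  [(nat_lit 1), (nat_lit 5), (nat_lit 6), (nat_lit 6)],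
  [(nat_lit 2), (nat_lit 6)],
  [(nat_lit 3), (nat_lit 6)],
  [(nat_lit 2), (nat_lit 5), (nat_lit 6), (nat_lit 6)],
  [(nat_lit 3), (nat_lit 5), (nat_lit 6), (nat_lit 6)],
  [(nat_lit 1), (nat_lit 2), (nat_lit 3), (nat_lit 6)],
  [(nat_lit 1), (nat_lit 6)],
  [(nat_lit 3), (nat_lit 4)],
  [(nat_lit 2), (nat_lit 4)],
  [(nat_lit 1), (nat_lit 4)],
  [(nat_lit 1), (nat_lit 2), (nat_lit 3), (nat_lit 4)],
  [(nat_lit 1), (nat_lit 2), (nat_lit 3), (nat_lit 5)],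
  [(nat_lit 1), (nat_lit 5)],
  [(nat_lit 2), (nat_lit 5)],
  [(nat_lit 3), (nat_lit 5)],
  [(nat_lit 1), (nat_lit 4), (nat_lit 6)],
  [(nat_lit 1), (nat_lit 2), (nat_lit 3), (nat_lit 4), (nat_lit 6)],
  [(nat_lit 3), (nat_lit 4), (nat_lit 6)],
  [(nat_lit 2), (nat_lit 4), (nat_lit 6)],
  [(nat_lit 3), (nat_lit 6), (nat_lit 6)],
  [(nat_lit 2), (nat_lit 6), (nat_lit 6)],
  [(nat_lit 1), (nat_lit 6), (nat_lit 6)],
  [(nat_lit 1), (nat_lit 2), (nat_lit 3), (nat_lit 6), (nat_lit 6)],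
  [(nat_lit 0), (nat_lit 1), (nat_lit 2), (nat_lit 5), (nat_lit 6), (nat_lit 6)],
  [(nat_lit 0), (nat_lit 1), (nat_lit 3), (nat_lit 5), (nat_lit 6), (nat_lit 6)],
  [(nat_lit 0), (nat_lit 2), (nat_lit 3), (nat_lit 6)],
  [(nat_lit 0), (nat_lit 6)],
  [(nat_lit 0), (nat_lit 2), (nat_lit 3), (nat_lit 5), (nat_lit 6), (nat_lit 6)],
  [(nat_lit 0), (nat_lit 5), (nat_lit 6), (nat_lit 6)],
  [(nat_lit 0), (nat_lit 1), (nat_lit 2), (nat_lit 6)],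
  [(nat_lit 0), (nat_lit 1), (nat_lit 3), (nat_lit 6)],
  [(nat_lit 0), (nat_lit 4)],
  [(nat_lit 0), (nat_lit 2), (nat_lit 3), (nat_lit 4)],
  [(nat_lit 0), (nat_lit 1), (nat_lit 3), (nat_lit 4)],
  [(nat_lit 0), (nat_lit 1), (nat_lit 2), (nat_lit 4)],
  [(nat_lit 0), (nat_lit 1), (nat_lit 3), (nat_lit 5), (nat_lit 6)],
  [(nat_lit 0), (nat_lit 1), (nat_lit 2), (nat_lit 5), (nat_lit 6)],
  [(nat_lit 0), (nat_lit 4), (nat_lit 6), (nat_lit 6)],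
  [(nat_lit 0), (nat_lit 2), (nat_lit 3), (nat_lit 4), (nat_lit 6), (nat_lit 6)],
  [(nat_lit 0), (nat_lit 5), (nat_lit 6)],
  [(nat_lit 0), (nat_lit 2), (nat_lit 3), (nat_lit 5), (nat_lit 6)],
  [(nat_lit 0), (nat_lit 1), (nat_lit 2)],
  [(nat_lit 0), (nat_lit 1), (nat_lit 3)],
  [(nat_lit 0), (nat_lit 1), (nat_lit 3), (nat_lit 4), (nat_lit 6), (nat_lit 6)],
  [(nat_lit 0), (nat_lit 1), (nat_lit 2), (nat_lit 4), (nat_lit 6), (nat_lit 6)],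
  [(nat_lit 0), (nat_lit 2), (nat_lit 3)],
  [(nat_lit 0)],
  [(nat_lit 1), (nat_lit 5), (nat_lit 6)],
  [(nat_lit 1), (nat_lit 2), (nat_lit 3), (nat_lit 5), (nat_lit 6)],
  [(nat_lit 3), (nat_lit 4), (nat_lit 6), (nat_lit 6)],
  [(nat_lit 2), (nat_lit 4), (nat_lit 6), (nat_lit 6)],
  [(nat_lit 3), (nat_lit 5), (nat_lit 6)],
  [(nat_lit 2), (nat_lit 5), (nat_lit 6)],
  [(nat_lit 1), (nat_lit 2), (nat_lit 3)],
  [(nat_lit 1)],
  [(nat_lit 1), (nat_lit 4), (nat_lit 6), (nat_lit 6)],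
  [(nat_lit 1), (nat_lit 2), (nat_lit 3), (nat_lit 4), (nat_lit 6), (nat_lit 6)],
  [(nat_lit 2)],
  [(nat_lit 3)],
  [(nat_lit 4), (nat_lit 5)],
  [(nat_lit 2), (nat_lit 3), (nat_lit 4), (nat_lit 5)],
  [(nat_lit 1), (nat_lit 2), (nat_lit 6), (nat_lit 5), (nat_lit 6)],
  [(nat_lit 1), (nat_lit 3), (nat_lit 6), (nat_lit 5), (nat_lit 6)],
  [(nat_lit 1), (nat_lit 3), (nat_lit 4), (nat_lit 5)],
  [(nat_lit 1), (nat_lit 2), (nat_lit 4), (nat_lit 5)],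
  [(nat_lit 2), (nat_lit 3), (nat_lit 6), (nat_lit 5), (nat_lit 6)],
  [(nat_lit 6), (nat_lit 5), (nat_lit 6)],
  [(nat_lit 2), (nat_lit 3), (nat_lit 6), (nat_lit 5)],
  [(nat_lit 6), (nat_lit 5)],
  [(nat_lit 1), (nat_lit 2), (nat_lit 6), (nat_lit 5)],
  [(nat_lit 1), (nat_lit 3), (nat_lit 6), (nat_lit 5)],
  [(nat_lit 0), (nat_lit 1), (nat_lit 2), (nat_lit 3), (nat_lit 5)],
  [(nat_lit 0), (nat_lit 1), (nat_lit 5)],
  [(nat_lit 0), (nat_lit 2), (nat_lit 5)],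
  [(nat_lit 0), (nat_lit 3), (nat_lit 5)],
  [(nat_lit 0), (nat_lit 1), (nat_lit 4), (nat_lit 6)],
  [(nat_lit 0), (nat_lit 1), (nat_lit 2), (nat_lit 3), (nat_lit 4), (nat_lit 6)],
  [(nat_lit 0), (nat_lit 3), (nat_lit 4), (nat_lit 6)],
  [(nat_lit 0), (nat_lit 2), (nat_lit 4), (nat_lit 6)],
  [(nat_lit 0), (nat_lit 3), (nat_lit 6), (nat_lit 6)],
  [(nat_lit 0), (nat_lit 2), (nat_lit 6), (nat_lit 6)],
  [(nat_lit 0), (nat_lit 1), (nat_lit 6), (nat_lit 6)],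
  [(nat_lit 0), (nat_lit 1), (nat_lit 2), (nat_lit 3), (nat_lit 6), (nat_lit 6)],
  [(nat_lit 0), (nat_lit 3), (nat_lit 4), (nat_lit 5)],
  [(nat_lit 0), (nat_lit 2), (nat_lit 4), (nat_lit 5)],
  [(nat_lit 0), (nat_lit 1), (nat_lit 2), (nat_lit 3), (nat_lit 6), (nat_lit 5), (nat_lit 6)],
  [(nat_lit 0), (nat_lit 1), (nat_lit 6), (nat_lit 5), (nat_lit 6)],
  [(nat_lit 0), (nat_lit 1), (nat_lit 4), (nat_lit 5)],
  [(nat_lit 0), (nat_lit 1), (nat_lit 2), (nat_lit 3), (nat_lit 4), (nat_lit 5)],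
  [(nat_lit 0), (nat_lit 2), (nat_lit 6), (nat_lit 5), (nat_lit 6)],
  [(nat_lit 0), (nat_lit 3), (nat_lit 6), (nat_lit 5), (nat_lit 6)],
  [(nat_lit 0), (nat_lit 2), (nat_lit 6), (nat_lit 5)],
  [(nat_lit 0), (nat_lit 3), (nat_lit 6), (nat_lit 5)],
  [(nat_lit 0), (nat_lit 1), (nat_lit 2), (nat_lit 3), (nat_lit 6), (nat_lit 5)],
  [(nat_lit 0), (nat_lit 1), (nat_lit 6), (nat_lit 5)],
  [(nat_lit 1), (nat_lit 2), (nat_lit 5), (nat_lit 6), (nat_lit 6)],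
  [(nat_lit 1), (nat_lit 3), (nat_lit 5), (nat_lit 6), (nat_lit 6)],
  [(nat_lit 2), (nat_lit 3), (nat_lit 6)],
  [(nat_lit 6)],
  [(nat_lit 2), (nat_lit 3), (nat_lit 5), (nat_lit 6), (nat_lit 6)],
  [(nat_lit 5), (nat_lit 6), (nat_lit 6)],
  [(nat_lit 1), (nat_lit 2), (nat_lit 6)],
  [(nat_lit 1), (nat_lit 3), (nat_lit 6)],
  [(nat_lit 4)],
  [(nat_lit 2), (nat_lit 3), (nat_lit 4)],
  [(nat_lit 1), (nat_lit 3), (nat_lit 4)],
  [(nat_lit 1), (nat_lit 2), (nat_lit 4)],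
  [(nat_lit 1), (nat_lit 2), (nat_lit 5)],
  [(nat_lit 1), (nat_lit 3), (nat_lit 5)],
  [(nat_lit 2), (nat_lit 3), (nat_lit 5)],
  [(nat_lit 5)],
  [(nat_lit 1), (nat_lit 3), (nat_lit 4), (nat_lit 6)],
  [(nat_lit 1), (nat_lit 2), (nat_lit 4), (nat_lit 6)],
  [(nat_lit 4), (nat_lit 6)],
  [(nat_lit 2), (nat_lit 3), (nat_lit 4), (nat_lit 6)],
  [(nat_lit 6), (nat_lit 6)],
  [(nat_lit 2), (nat_lit 3), (nat_lit 6), (nat_lit 6)],
  [(nat_lit 1), (nat_lit 3), (nat_lit 6), (nat_lit 6)],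
  [(nat_lit 1), (nat_lit 2), (nat_lit 6), (nat_lit 6)],
  [(nat_lit 0), (nat_lit 1), (nat_lit 2), (nat_lit 3), (nat_lit 5), (nat_lit 6), (nat_lit 6)],
  [(nat_lit 0), (nat_lit 1), (nat_lit 5), (nat_lit 6), (nat_lit 6)],
  [(nat_lit 0), (nat_lit 2), (nat_lit 6)],
  [(nat_lit 0), (nat_lit 3), (nat_lit 6)],
  [(nat_lit 0), (nat_lit 2), (nat_lit 5), (nat_lit 6), (nat_lit 6)],
  [(nat_lit 0), (nat_lit 3), (nat_lit 5), (nat_lit 6), (nat_lit 6)],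
  [(nat_lit 0), (nat_lit 1), (nat_lit 2), (nat_lit 3), (nat_lit 6)],
  [(nat_lit 0), (nat_lit 1), (nat_lit 6)],
  [(nat_lit 0), (nat_lit 3), (nat_lit 4)],
  [(nat_lit 0), (nat_lit 2), (nat_lit 4)],
  [(nat_lit 0), (nat_lit 1), (nat_lit 4)],
  [(nat_lit 0), (nat_lit 1), (nat_lit 2), (nat_lit 3), (nat_lit 4)],
  [(nat_lit 0), (nat_lit 1), (nat_lit 5), (nat_lit 6)],
  [(nat_lit 0), (nat_lit 1), (nat_lit 2), (nat_lit 3), (nat_lit 5), (nat_lit 6)],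
  [(nat_lit 0), (nat_lit 3), (nat_lit 4), (nat_lit 6), (nat_lit 6)],
  [(nat_lit 0), (nat_lit 2), (nat_lit 4), (nat_lit 6), (nat_lit 6)],
  [(nat_lit 0), (nat_lit 3), (nat_lit 5), (nat_lit 6)],
  [(nat_lit 0), (nat_lit 2), (nat_lit 5), (nat_lit 6)],
  [(nat_lit 0), (nat_lit 1), (nat_lit 2), (nat_lit 3)],
  [(nat_lit 0), (nat_lit 1)],
  [(nat_lit 0), (nat_lit 1), (nat_lit 4), (nat_lit 6), (nat_lit 6)],
  [(nat_lit 0), (nat_lit 1), (nat_lit 2), (nat_lit 3), (nat_lit 4), (nat_lit 6), (nat_lit 6)],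
  [(nat_lit 0), (nat_lit 2)],
  [(nat_lit 0), (nat_lit 3)],
  [(nat_lit 1), (nat_lit 3), (nat_lit 5), (nat_lit 6)],
  [(nat_lit 1), (nat_lit 2), (nat_lit 5), (nat_lit 6)],
  [(nat_lit 4), (nat_lit 6), (nat_lit 6)],
  [(nat_lit 2), (nat_lit 3), (nat_lit 4), (nat_lit 6), (nat_lit 6)],
  [(nat_lit 5), (nat_lit 6)],
  [(nat_lit 2), (nat_lit 3), (nat_lit 5), (nat_lit 6)],
  [(nat_lit 1), (nat_lit 2)],
  [(nat_lit 1), (nat_lit 3)],
  [(nat_lit 1), (nat_lit 3), (nat_lit 4), (nat_lit 6), (nat_lit 6)],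
  [(nat_lit 1), (nat_lit 2), (nat_lit 4), (nat_lit 6), (nat_lit 6)],
  [(nat_lit 2), (nat_lit 3)],
  []]
noncomputable def AN_lN_h (c : ℕ) : ℕ := Nat.mod c (nat_lit 7883)
noncomputable def AN_lN_T0 : ST := (.node (nat_lit 0xffad8be75cdf54b635cf84653a54c74244321420) (.node (nat_lit 0xf7f57b7319eedaf8a990a4e4e5d4e6490622a020) (.node (nat_lit 0xf7f16be75cdf54b9b5d4846ac7c843224c741420) (.node (nat_lit 0xf7efab731bee5548b58b7ceae848664a0e229020) (.node (nat_lit 0xf7ed8df337ee971941b3729f565086195023a420) (.node (nat_lit 0xf7ed8cf777e6a0e92dac8aa959bc82395061a420) (.node (nat_lit 0xf7ed8bef5ccf5ab62a3483a537d447214c342420) (.leaf (nat_lit 0xf7ed8be75ddf1b09a9cf5c64ca54c32144742420)) (.node (nat_lit 0xf7ed8cf37aede11aad537369263d06394821a420) (.leaf (nat_lit 0xf7ed8bef5ccf5ab62a3483a537d447214c342420)) (.leaf (nat_lit 0xf7ed8cf37aede11aad537369263d06394821a420)))) (.node (nat_lit 0xf7ed8d66fcdf5506362f5bab3a4843414c722420)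 (.leaf (nat_lit 0xf7ed8cf777e6a0e92dac8aa959bc82395061a420)) (.node (nat_lit 0xf7ed8d6efdcf14b9b5d4846ac7c8c74144322420) (.leaf (nat_lit 0xf7ed8d66fcdf5506362f5bab3a4843414c722420)) (.leaf (nat_lit 0xf7ed8d6efdcf14b9b5d4846ac7c8c74144322420))))) (.node (nat_lit 0xf7ed8e6bb9bee2aa3a126ad8facce41146832420) (.node (nat_lit 0xf7ed8df73ae5d6eac14c8b5f29d102194863a420) (.leaf (nat_lit 0xf7ed8df337ee971941b3729f565086195023a420)) (.node (nat_lit 0xf7ed8e5fbbd662d7b9755419494c68114e432420) (.leaf (nat_lit 0xf7ed8df73ae5d6eac14c8b5f29d102194863a420)) (.leaf (nat_lit 0xf7ed8e5fbbd662d7b9755419494c68114e432420)))) (.node (nat_lit 0xf7ed8edf99d6dcda461552e6f930e83146412420) (.leaf (nat_lit 0xf7ed8e6bb9bee2aa3a126ad8facce41146832420)) (.node (nat_lit 0xf7ed8eeb9bbe5ca7c5726c274ab064314e812420) (.leaf (nat_lit 0xf7ed8edf99d6dcda461552e6f930e83146412420)) (.leaf (nat_lit 0xf7ed8eeb9bbe5ca7c5726c274ab064314e812420))))))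 (.node (nat_lit 0xf7efaddb3cc758a84e926be2bab8451a0c939020) (.node (nat_lit 0xf7efac76dbe65af8a990a4e4e5d4622a0e649020) (.node (nat_lit 0xf7efab7719e6d4f73670a32b15c8e24a06629020) (.leaf (nat_lit 0xf7efab731bee5548b58b7ceae848664a0e229020)) (.node (nat_lit 0xf7efac72d9eedb472a6b7b251854e62a06249020) (.leaf (nat_lit 0xf7efab7719e6d4f73670a32b15c8e24a06629020)) (.leaf (nat_lit 0xf7efac72d9eedb472a6b7b251854e62a06249020)))) (.node (nat_lit 0xf7efacdb7dc726a5b1f26d1d0ac4c53a04919020) (.leaf (nat_lit 0xf7efac76dbe65af8a990a4e4e5d4622a0e649020)) (.node (nat_lit 0xf7eface37cb766d8329553dcb944493a0c519020) (.leaf (nat_lit 0xf7efacdb7dc726a5b1f26d1d0ac4c53a04919020)) (.leaf (nat_lit 0xf7eface37cb766d8329553dcb944493a0c519020))))) (.node (nat_lit 0xf7efae6fb6ce28cabd4e9b6128ad27120a331020) (.node (nat_lit 0xf7efade33db718d5cdf555230938c91a04539020) (.leaf (nat_lit 0xf7efaddb3cc758a84e926be2bab8451a0c939020))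 (.node (nat_lit 0xf7efae67b8dda9393db162a1572ca31212731020) (.leaf (nat_lit 0xf7efade33db718d5cdf555230938c91a04539020)) (.leaf (nat_lit 0xf7efae67b8dda9393db162a1572ca31212731020)))) (.node (nat_lit 0xf7efaee796de1f3ad1516357274123320a711020) (.leaf (nat_lit 0xf7efae6fb6ce28cabd4e9b6128ad27120a331020)) (.node (nat_lit 0xf7efaeef98cd9ec951ae9a9758c0a73212311020) (.leaf (nat_lit 0xf7efaee796de1f3ad1516357274123320a711020)) (.leaf (nat_lit 0xf7efaeef98cd9ec951ae9a9758c0a73212311020))))))) (.node (nat_lit 0xf7f3bb5f1dd716c6c24e9d5ea8d0c848c4429c20) (.node (nat_lit 0xf7f16df33aede0e92dac8aa959bd061a48239420) (.node (nat_lit 0xf7f16cf77ae5d71941b3729f5651023a48619420) (.node (nat_lit 0xf7f16bef5dcf1506362f5bab3a48c72244341420) (.leaf (nat_lit 0xf7f16be75cdf54b9b5d4846ac7c843224c741420)) (.node (nat_lit 0xf7f16cf377ee96eac14c8b5f29d0863a50219420) (.leaf (nat_lit 0xf7f16bef5dcf1506362f5bab3a48c72244341420))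 (.leaf (nat_lit 0xf7f16cf377ee96eac14c8b5f29d0863a50219420)))) (.node (nat_lit 0xf7f16d66fddf1ab62a3483a537d4c34244721420) (.leaf (nat_lit 0xf7f16cf77ae5d71941b3729f5651023a48619420)) (.node (nat_lit 0xf7f16d6efccf5b09a9cf5c64ca5447424c321420) (.leaf (nat_lit 0xf7f16d66fddf1ab62a3483a537d4c34244721420)) (.leaf (nat_lit 0xf7f16d6efccf5b09a9cf5c64ca5447424c321420))))) (.node (nat_lit 0xf7f16e6bbbbe5cda461552e6f93064124e831420) (.node (nat_lit 0xf7f16df737e6a11aad537369263c821a50639420) (.leaf (nat_lit 0xf7f16df33aede0e92dac8aa959bd061a48239420)) (.node (nat_lit 0xf7f16e5fb9d6dca7c5726c274ab0e81246431420) (.leaf (nat_lit 0xf7f16df737e6a11aad537369263c821a50639420)) (.leaf (nat_lit 0xf7f16e5fb9d6dca7c5726c274ab0e81246431420)))) (.node (nat_lit 0xf7f16edf9bd662aa3a126ad8facc68324e411420) (.leaf (nat_lit 0xf7f16e6bbbbe5cda461552e6f93064124e831420)) (.node (nat_lit 0xf7f16eeb99bee2d7b9755419494ce43246811420)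 (.leaf (nat_lit 0xf7f16edf9bd662aa3a126ad8facc68324e411420)) (.leaf (nat_lit 0xf7f16eeb99bee2d7b9755419494ce43246811420)))))) (.node (nat_lit 0xf7f3bd72f6ee2757b16d941d45452640ca221c20) (.node (nat_lit 0xf7f3bbf756e61927cd6aac2346b92220ca641c20) (.node (nat_lit 0xf7f3bb6b1cbf573542b1649ed7504448cc829c20) (.leaf (nat_lit 0xf7f3bb5f1dd716c6c24e9d5ea8d0c848c4429c20)) (.node (nat_lit 0xf7f3bbf358ed995a4e0d92e2f538a620d2241c20) (.leaf (nat_lit 0xf7f3bb6b1cbf573542b1649ed7504448cc829c20)) (.leaf (nat_lit 0xf7f3bbf358ed995a4e0d92e2f538a620d2241c20)))) (.node (nat_lit 0xf7f3bc5edcd760c52eae9ca8d8bc4828cc449c20) (.leaf (nat_lit 0xf7f3bbf756e61927cd6aac2346b92220ca641c20)) (.node (nat_lit 0xf7f3bc6addbf2136ae516568a73cc428c4849c20) (.leaf (nat_lit 0xf7f3bc5edcd760c52eae9ca8d8bc4828cc449c20)) (.leaf (nat_lit 0xf7f3bc6addbf2136ae516568a73cc428c4849c20))))) (.node (nat_lit 0xf7f3be63b7b6ab08c98f5cd4ea348910d0531c20)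 (.node (nat_lit 0xf7f3bd76f8e5a72a320aaadcf6c4a240d2621c20) (.leaf (nat_lit 0xf7f3bd72f6ee2757b16d941d45452640ca221c20)) (.node (nat_lit 0xf7f3be5bbac5eab74a74831517b50510c8931c20) (.leaf (nat_lit 0xf7f3bd76f8e5a72a320aaadcf6c4a240d2621c20)) (.leaf (nat_lit 0xf7f3be5bbac5eab74a74831517b50510c8931c20)))) (.node (nat_lit 0xf7f3bedb97c6a4b8d59484dae7a88530d0911c20) (.leaf (nat_lit 0xf7f3be63b7b6ab08c98f5cd4ea348910d0531c20)) (.node (nat_lit 0xf7f3bee39ab5e507566f5b1b1a290930c8511c20) (.leaf (nat_lit 0xf7f3bedb97c6a4b8d59484dae7a88530d0911c20)) (.leaf (nat_lit 0xf7f3bee39ab5e507566f5b1b1a290930c8511c20)))))))) (.node (nat_lit 0xf7f9db671adddd28468aabe6b6b1034988728820) (.node (nat_lit 0xf7f79b5f1cd76136ae516568a73c4849cc428c20) (.node (nat_lit 0xf7f57ddb3dc726d8329553dcb944c5190493a020) (.node (nat_lit 0xf7f57c76d9e6d548b58b7ceae848e2290664a020) (.node (nat_lit 0xf7f57b771be65b472a6b7b25185462490e62a020)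 (.leaf (nat_lit 0xf7f57b7319eedaf8a990a4e4e5d4e6490622a020)) (.node (nat_lit 0xf7f57c72dbee54f73670a32b15c866290e24a020) (.leaf (nat_lit 0xf7f57b771be65b472a6b7b25185462490e62a020)) (.leaf (nat_lit 0xf7f57c72dbee54f73670a32b15c866290e24a020)))) (.node (nat_lit 0xf7f57cdb7cc758d5cdf55523093845390c91a020) (.leaf (nat_lit 0xf7f57c76d9e6d548b58b7ceae848e2290664a020)) (.node (nat_lit 0xf7f57ce37db718a84e926be2bab8c9390451a020) (.leaf (nat_lit 0xf7f57cdb7cc758d5cdf55523093845390c91a020)) (.leaf (nat_lit 0xf7f57ce37db718a84e926be2bab8c9390451a020))))) (.node (nat_lit 0xf7f57e6fb8cd9f3ad15163572740a71112332020) (.node (nat_lit 0xf7f57de33cb766a5b1f26d1d0ac449190c53a020) (.leaf (nat_lit 0xf7f57ddb3dc726d8329553dcb944c5190493a020)) (.node (nat_lit 0xf7f57e67b6de1ec951ae9a9758c123110a732020) (.leaf (nat_lit 0xf7f57de33cb766a5b1f26d1d0ac449190c53a020)) (.leaf (nat_lit 0xf7f57e67b6de1ec951ae9a9758c123110a732020))))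 (.node (nat_lit 0xf7f57ee798dda8cabd4e9b6128aca33112712020) (.leaf (nat_lit 0xf7f57e6fb8cd9f3ad15163572740a71112332020)) (.node (nat_lit 0xf7f57eef96ce29393db162a1572d27310a312020) (.leaf (nat_lit 0xf7f57ee798dda8cabd4e9b6128aca33112712020)) (.leaf (nat_lit 0xf7f57eef96ce29393db162a1572d27310a312020)))))) (.node (nat_lit 0xf7f79d72f8ed9927cd6aac2346b8a641d2220c20) (.node (nat_lit 0xf7f79bf758e5a757b16d941d4544a221d2640c20) (.node (nat_lit 0xf7f79b6b1dbf20c52eae9ca8d8bcc449c4828c20) (.leaf (nat_lit 0xf7f79b5f1cd76136ae516568a73c4849cc428c20)) (.node (nat_lit 0xf7f79bf356ee272a320aaadcf6c52621ca240c20) (.leaf (nat_lit 0xf7f79b6b1dbf20c52eae9ca8d8bcc449c4828c20)) (.leaf (nat_lit 0xf7f79bf356ee272a320aaadcf6c52621ca240c20)))) (.node (nat_lit 0xf7f79c5eddd7173542b1649ed750c829c4448c20) (.leaf (nat_lit 0xf7f79bf758e5a757b16d941d4544a221d2640c20)) (.node (nat_lit 0xf7f79c6adcbf56c6c24e9d5ea8d04429cc848c20)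 (.leaf (nat_lit 0xf7f79c5eddd7173542b1649ed750c829c4448c20)) (.leaf (nat_lit 0xf7f79c6adcbf56c6c24e9d5ea8d04429cc848c20))))) (.node (nat_lit 0xf7f79e63bab5e4b8d59484dae7a90911c8530c20) (.node (nat_lit 0xf7f79d76f6e6195a4e0d92e2f5392241ca620c20) (.leaf (nat_lit 0xf7f79d72f8ed9927cd6aac2346b8a641d2220c20)) (.node (nat_lit 0xf7f79e5bb7c6a507566f5b1b1a288511d0930c20) (.leaf (nat_lit 0xf7f79d76f6e6195a4e0d92e2f5392241ca620c20)) (.leaf (nat_lit 0xf7f79e5bb7c6a507566f5b1b1a288511d0930c20)))) (.node (nat_lit 0xf7f79edb9ac5eb08c98f5cd4ea350531c8910c20) (.leaf (nat_lit 0xf7f79e63bab5e4b8d59484dae7a90911c8530c20)) (.node (nat_lit 0xf7f79ee397b6aab74a74831517b48931d0510c20) (.leaf (nat_lit 0xf7f79edb9ac5eb08c98f5cd4ea350531c8910c20)) (.leaf (nat_lit 0xf7f79ee397b6aab74a74831517b48931d0510c20))))))) (.node (nat_lit 0xf7fbcb6717dea3583a8d93d8b54c834890729820) (.node (nat_lit 0xf7f9dcdf78d5a4f65630a39b35a8a83992418820)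 (.node (nat_lit 0xf7f9dbe359b6df16d2537556a640e92186540820) (.node (nat_lit 0xf7f9db6f17ce9d55c5ed95270530874990328820) (.leaf (nat_lit 0xf7f9db671adddd28468aabe6b6b1034988728820)) (.node (nat_lit 0xf7f9dbdb5bc65ee552ac8c96d9c065218e940820) (.leaf (nat_lit 0xf7f9db6f17ce9d55c5ed95270530874990328820)) (.leaf (nat_lit 0xf7f9dbdb5bc65ee552ac8c96d9c065218e940820)))) (.node (nat_lit 0xf7f9dc66d7dea325b9eaad1906cc832990748820) (.leaf (nat_lit 0xf7f9dbe359b6df16d2537556a640e92186540820)) (.node (nat_lit 0xf7f9dc6edacde3583a8d93d8b54d072988348820) (.leaf (nat_lit 0xf7f9dc66d7dea325b9eaad1906cc832990748820)) (.leaf (nat_lit 0xf7f9dc6edacde3583a8d93d8b54d072988348820))))) (.node (nat_lit 0xf7f9dd62fbb669153eb374a0d62c69418e520820) (.node (nat_lit 0xf7f9dceb76be2549d5cb7c5ac82924398a818820) (.leaf (nat_lit 0xf7f9dcdf78d5a4f65630a39b35a8a83992418820)) (.node (nat_lit 0xf7f9dd5af9c6e8e6be4c8d60a9ace54186920820)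 (.leaf (nat_lit 0xf7f9dceb76be2549d5cb7c5ac82924398a818820)) (.leaf (nat_lit 0xf7f9dd5af9c6e8e6be4c8d60a9ace54186920820)))) (.node (nat_lit 0xf7f9dddf36d62af9c9d0a454c5b528198a438820) (.leaf (nat_lit 0xf7f9dd62fbb669153eb374a0d62c69418e520820)) (.node (nat_lit 0xf7f9ddeb38bdab464a2b7b953834a41992838820) (.leaf (nat_lit 0xf7f9dddf36d62af9c9d0a454c5b528198a438820)) (.leaf (nat_lit 0xf7f9ddeb38bdab464a2b7b953834a41992838820)))))) (.node (nat_lit 0xf7fbccdf76d62b464a2b7b95383528388a419820) (.node (nat_lit 0xf7fbcbe35bb668e6be4c8d60a9ac69208e541820) (.node (nat_lit 0xf7fbcb6f1acde325b9eaad1906cd074888329820) (.leaf (nat_lit 0xf7fbcb6717dea3583a8d93d8b54c834890729820)) (.node (nat_lit 0xf7fbcbdb59c6e9153eb374a0d62ce52086941820) (.leaf (nat_lit 0xf7fbcb6f1acde325b9eaad1906cd074888329820)) (.leaf (nat_lit 0xf7fbcbdb59c6e9153eb374a0d62ce52086941820)))) (.node (nat_lit 0xf7fbcc66dadddd55c5ed95270531032888749820)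 (.leaf (nat_lit 0xf7fbcbe35bb668e6be4c8d60a9ac69208e541820)) (.node (nat_lit 0xf7fbcc6ed7ce9d28468aabe6b6b0872890349820) (.leaf (nat_lit 0xf7fbcc66dadddd55c5ed95270531032888749820)) (.leaf (nat_lit 0xf7fbcc6ed7ce9d28468aabe6b6b0872890349820))))) (.node (nat_lit 0xf7fbcd62f9b6dee552ac8c96d9c0e94086521820) (.node (nat_lit 0xf7fbcceb78bdaaf9c9d0a454c5b4a43892819820) (.leaf (nat_lit 0xf7fbccdf76d62b464a2b7b95383528388a419820)) (.node (nat_lit 0xf7fbcd5afbc65f16d2537556a64065408e921820) (.leaf (nat_lit 0xf7fbcceb78bdaaf9c9d0a454c5b4a43892819820)) (.leaf (nat_lit 0xf7fbcd5afbc65f16d2537556a64065408e921820)))) (.node (nat_lit 0xf7fbcddf38d5a549d5cb7c5ac828a81892439820) (.leaf (nat_lit 0xf7fbcd62f9b6dee552ac8c96d9c0e94086521820)) (.node (nat_lit 0xf7fbcdeb36be24f65630a39b35a924188a839820) (.leaf (nat_lit 0xf7fbcddf38d5a549d5cb7c5ac828a81892439820)) (.leaf (nat_lit 0xf7fbcdeb36be24f65630a39b35a924188a839820)))))))))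 (.node (nat_lit 0xffb57b731bee554735907ce515d4e22a06649020) (.node (nat_lit 0xffb16be75ddf1b0629d45c6b37c847414c322420) (.node (nat_lit 0xffafab7319eedaf7298ba4eb184862290e64a020) (.node (nat_lit 0xffad8df33aede0eaadb38a9f2650823a50619420) (.node (nat_lit 0xffad8cf77ae5d71ac1ac72a929bc861a50239420) (.node (nat_lit 0xffad8bef5dcf1509b6345ba4c7d443424c721420) (.leaf (nat_lit 0xffad8be75cdf54b635cf84653a54c74244321420)) (.node (nat_lit 0xffad8cf377ee96e941538b69563d021a48639420) (.leaf (nat_lit 0xffad8bef5dcf1509b6345ba4c7d443424c721420)) (.leaf (nat_lit 0xffad8cf377ee96e941538b69563d021a48639420)))) (.node (nat_lit 0xffad8d66fddf1ab9aa2f83aaca4847224c341420) (.leaf (nat_lit 0xffad8cf77ae5d71ac1ac72a929bc861a50239420)) (.node (nat_lit 0xffad8d6efccf5b0629d45c6b37c8c32244741420) (.leaf (nat_lit 0xffad8d66fddf1ab9aa2f83aaca4847224c341420)) (.leaf (nat_lit 0xffad8d6efccf5b0629d45c6b37c8c32244741420)))))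 (.node (nat_lit 0xffad8e6bbbbe5cd7c61252d94acce83246411420) (.node (nat_lit 0xffad8df737e6a1192d4c735f59d1063a48219420) (.leaf (nat_lit 0xffad8df33aede0eaadb38a9f2650823a50619420)) (.node (nat_lit 0xffad8e5fb9d6dcaa45756c18f94c64324e811420) (.leaf (nat_lit 0xffad8df737e6a1192d4c735f59d1063a48219420)) (.leaf (nat_lit 0xffad8e5fb9d6dcaa45756c18f94c64324e811420)))) (.node (nat_lit 0xffad8edf9bd662a7ba156ae74930e41246831420) (.leaf (nat_lit 0xffad8e6bbbbe5cd7c61252d94acce83246411420)) (.node (nat_lit 0xffad8eeb99bee2da39725426fab068124e431420) (.leaf (nat_lit 0xffad8edf9bd662a7ba156ae74930e41246831420)) (.leaf (nat_lit 0xffad8eeb99bee2da39725426fab068124e431420)))))) (.node (nat_lit 0xffafaddb3dc726d5b29253e30ab849390c51a020) (.node (nat_lit 0xffafac76d9e6d54735907ce515d466490e22a020) (.node (nat_lit 0xffafab771be65b48aa707b2ae5c8e6290624a020) (.leaf (nat_lit 0xffafab7319eedaf7298ba4eb184862290e64a020))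 (.node (nat_lit 0xffafac72dbee54f8b66ba324e854e2490662a020) (.leaf (nat_lit 0xffafab771be65b48aa707b2ae5c8e6290624a020)) (.leaf (nat_lit 0xffafac72dbee54f8b66ba324e854e2490662a020)))) (.node (nat_lit 0xffafacdb7cc758d84df2551cbac4c9190453a020) (.leaf (nat_lit 0xffafac76d9e6d54735907ce515d466490e22a020)) (.node (nat_lit 0xffaface37db718a5ce956bdd094445190c93a020) (.leaf (nat_lit 0xffafacdb7cc758d84df2551cbac4c9190453a020)) (.leaf (nat_lit 0xffaface37db718a5ce956bdd094445190c93a020))))) (.node (nat_lit 0xffafae6fb8cd9f39514e636158ad23310a712020) (.node (nat_lit 0xffafade33cb766a831f56d22b938c5390491a020) (.leaf (nat_lit 0xffafaddb3dc726d5b29253e30ab849390c51a020)) (.node (nat_lit 0xffafae67b6de1ecad1b19aa1272ca73112312020) (.leaf (nat_lit 0xffafade33cb766a831f56d22b938c5390491a020)) (.leaf (nat_lit 0xffafae67b6de1ecad1b19aa1272ca73112312020)))) (.node (nat_lit 0xffafaee798dda8c93d519b57574127110a332020)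 (.leaf (nat_lit 0xffafae6fb8cd9f39514e636158ad23310a712020)) (.node (nat_lit 0xffafaeef96ce293abdae629728c0a31112732020) (.leaf (nat_lit 0xffafaee798dda8c93d519b57574127110a332020)) (.leaf (nat_lit 0xffafaeef96ce293abdae629728c0a31112732020))))))) (.node (nat_lit 0xffb3bb5f1cd761352e4e655ed8d0c429c4848c20) (.node (nat_lit 0xffb16df337ee971ac1ac72a929bd02394861a420) (.node (nat_lit 0xffb16cf777e6a0eaadb38a9f265106194823a420) (.node (nat_lit 0xffb16bef5ccf5ab9aa2f83aaca48c34144722420) (.leaf (nat_lit 0xffb16be75ddf1b0629d45c6b37c847414c322420)) (.node (nat_lit 0xffb16cf37aede1192d4c735f59d082195063a420) (.leaf (nat_lit 0xffb16bef5ccf5ab9aa2f83aaca48c34144722420)) (.leaf (nat_lit 0xffb16cf37aede1192d4c735f59d082195063a420)))) (.node (nat_lit 0xffb16d66fcdf5509b6345ba4c7d4c72144342420) (.leaf (nat_lit 0xffb16cf777e6a0eaadb38a9f265106194823a420)) (.node (nat_lit 0xffb16d6efdcf14b635cf84653a5443214c742420)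 (.leaf (nat_lit 0xffb16d66fcdf5509b6345ba4c7d4c72144342420)) (.leaf (nat_lit 0xffb16d6efdcf14b635cf84653a5443214c742420))))) (.node (nat_lit 0xffb16e6bb9bee2a7ba156ae7493068314e412420) (.node (nat_lit 0xffb16df73ae5d6e941538b69563c86395021a420) (.leaf (nat_lit 0xffb16df337ee971ac1ac72a929bd02394861a420)) (.node (nat_lit 0xffb16e5fbbd662da39725426fab0e43146812420) (.leaf (nat_lit 0xffb16df73ae5d6e941538b69563c86395021a420)) (.leaf (nat_lit 0xffb16e5fbbd662da39725426fab0e43146812420)))) (.node (nat_lit 0xffb16edf99d6dcd7c61252d94acc64114e832420) (.leaf (nat_lit 0xffb16e6bb9bee2a7ba156ae7493068314e412420)) (.node (nat_lit 0xffb16eeb9bbe5caa45756c18f94ce81146432420) (.leaf (nat_lit 0xffb16edf99d6dcd7c61252d94acc64114e832420)) (.leaf (nat_lit 0xffb16eeb9bbe5caa45756c18f94ce81146432420)))))) (.node (nat_lit 0xffb3bd72f8ed992a4d6dac1cf5452221ca640c20) (.node (nat_lit 0xffb3bbf758e5a75a316a9422f6b92641ca220c20)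 (.node (nat_lit 0xffb3bb6b1dbf20c6aeb19c9ea7504829cc448c20) (.leaf (nat_lit 0xffb3bb5f1cd761352e4e655ed8d0c429c4848c20)) (.node (nat_lit 0xffb3bbf356ee2727b20daae34538a241d2620c20) (.leaf (nat_lit 0xffb3bb6b1dbf20c6aeb19c9ea7504829cc448c20)) (.leaf (nat_lit 0xffb3bbf356ee2727b20daae34538a241d2620c20)))) (.node (nat_lit 0xffb3bc5eddd71736c2ae64a8a8bc4449cc828c20) (.leaf (nat_lit 0xffb3bbf758e5a75a316a9422f6b92641ca220c20)) (.node (nat_lit 0xffb3bc6adcbf56c542519d68d73cc849c4428c20) (.leaf (nat_lit 0xffb3bc5eddd71736c2ae64a8a8bc4449cc828c20)) (.leaf (nat_lit 0xffb3bc6adcbf56c542519d68d73cc849c4428c20))))) (.node (nat_lit 0xffb3be63bab5e4b7558f84d51a348531d0910c20) (.node (nat_lit 0xffb3bd76f6e61957ce0a92dd46c4a621d2240c20) (.leaf (nat_lit 0xffb3bd72f8ed992a4d6dac1cf5452221ca640c20)) (.node (nat_lit 0xffb3be5bb7c6a508d6745b14e7b50931c8510c20) (.leaf (nat_lit 0xffb3bd76f6e61957ce0a92dd46c4a621d2240c20))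 (.leaf (nat_lit 0xffb3be5bb7c6a508d6745b14e7b50931c8510c20)))) (.node (nat_lit 0xffb3bedb9ac5eb0749945cdb17a88911d0530c20) (.leaf (nat_lit 0xffb3be63bab5e4b7558f84d51a348531d0910c20)) (.node (nat_lit 0xffb3bee397b6aab8ca6f831aea290511c8930c20) (.leaf (nat_lit 0xffb3bedb9ac5eb0749945cdb17a88911d0530c20)) (.leaf (nat_lit 0xffb3bee397b6aab8ca6f831aea290511c8930c20)))))))) (.node (nat_lit 0xffb9db6717dea355ba8a93e706b1072888349820) (.node (nat_lit 0xffb79b5f1dd716c542519d68d73c4428cc849c20) (.node (nat_lit 0xffb57ddb3cc758a5ce956bdd0944c93a04519020) (.node (nat_lit 0xffb57c76dbe65af7298ba4eb1848e64a06229020) (.node (nat_lit 0xffb57b7719e6d4f8b66ba324e854662a0e249020) (.leaf (nat_lit 0xffb57b731bee554735907ce515d4e22a06649020)) (.node (nat_lit 0xffb57c72d9eedb48aa707b2ae5c8624a0e629020) (.leaf (nat_lit 0xffb57b7719e6d4f8b66ba324e854662a0e249020)) (.leaf (nat_lit 0xffb57c72d9eedb48aa707b2ae5c8624a0e629020))))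 (.node (nat_lit 0xffb57cdb7dc726a831f56d22b938491a0c539020) (.leaf (nat_lit 0xffb57c76dbe65af7298ba4eb1848e64a06229020)) (.node (nat_lit 0xffb57ce37cb766d5b29253e30ab8c51a04939020) (.leaf (nat_lit 0xffb57cdb7dc726a831f56d22b938491a0c539020)) (.leaf (nat_lit 0xffb57ce37cb766d5b29253e30ab8c51a04939020))))) (.node (nat_lit 0xffb57e6fb6ce28c93d519b575740a33212711020) (.node (nat_lit 0xffb57de33db718d84df2551cbac4453a0c919020) (.leaf (nat_lit 0xffb57ddb3cc758a5ce956bdd0944c93a04519020)) (.node (nat_lit 0xffb57e67b8dda93abdae629728c127320a311020) (.leaf (nat_lit 0xffb57de33db718d84df2551cbac4453a0c919020)) (.leaf (nat_lit 0xffb57e67b8dda93abdae629728c127320a311020)))) (.node (nat_lit 0xffb57ee796de1f39514e636158aca71212331020) (.leaf (nat_lit 0xffb57e6fb6ce28c93d519b575740a33212711020)) (.node (nat_lit 0xffb57eef98cd9ecad1b19aa1272d23120a731020) (.leaf (nat_lit 0xffb57ee796de1f39514e636158aca71212331020))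 (.leaf (nat_lit 0xffb57eef98cd9ecad1b19aa1272d23120a731020)))))) (.node (nat_lit 0xffb79d72f6ee275a316a9422f6b8a220d2641c20) (.node (nat_lit 0xffb79bf756e6192a4d6dac1cf544a640d2221c20) (.node (nat_lit 0xffb79b6b1cbf5736c2ae64a8a8bcc828c4449c20) (.leaf (nat_lit 0xffb79b5f1dd716c542519d68d73c4428cc849c20)) (.node (nat_lit 0xffb79bf358ed9957ce0a92dd46c52240ca621c20) (.leaf (nat_lit 0xffb79b6b1cbf5736c2ae64a8a8bcc828c4449c20)) (.leaf (nat_lit 0xffb79bf358ed9957ce0a92dd46c52240ca621c20)))) (.node (nat_lit 0xffb79c5edcd760c6aeb19c9ea750c448c4829c20) (.leaf (nat_lit 0xffb79bf756e6192a4d6dac1cf544a640d2221c20)) (.node (nat_lit 0xffb79c6addbf21352e4e655ed8d04848cc429c20) (.leaf (nat_lit 0xffb79c5edcd760c6aeb19c9ea750c448c4829c20)) (.leaf (nat_lit 0xffb79c6addbf21352e4e655ed8d04848cc429c20))))) (.node (nat_lit 0xffb79e63b7b6ab0749945cdb17a90530c8911c20) (.node (nat_lit 0xffb79d76f8e5a727b20daae345392620ca241c20)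 (.leaf (nat_lit 0xffb79d72f6ee275a316a9422f6b8a220d2641c20)) (.node (nat_lit 0xffb79e5bbac5eab8ca6f831aea288930d0511c20) (.leaf (nat_lit 0xffb79d76f8e5a727b20daae345392620ca241c20)) (.leaf (nat_lit 0xffb79e5bbac5eab8ca6f831aea288930d0511c20)))) (.node (nat_lit 0xffb79edb97c6a4b7558f84d51a350910c8531c20) (.leaf (nat_lit 0xffb79e63b7b6ab0749945cdb17a90530c8911c20)) (.node (nat_lit 0xffb79ee39ab5e508d6745b14e7b48510d0931c20) (.leaf (nat_lit 0xffb79edb97c6a4b7558f84d51a350910c8531c20)) (.leaf (nat_lit 0xffb79ee39ab5e508d6745b14e7b48510d0931c20))))))) (.node (nat_lit 0xffbbcb671adddd25c68dabd9054c872990348820) (.node (nat_lit 0xffb9dcdf76d62b49ca307b9ac5a8a41892839820) (.node (nat_lit 0xffb9dbe35bb668e53e538d56d640e54086921820) (.node (nat_lit 0xffb9db6f1acde32839edad26b530832890749820) (.leaf (nat_lit 0xffb9db6717dea355ba8a93e706b1072888349820)) (.node (nat_lit 0xffb9dbdb59c6e916beac7496a9c069408e521820)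 (.leaf (nat_lit 0xffb9db6f1acde32839edad26b530832890749820)) (.leaf (nat_lit 0xffb9dbdb59c6e916beac7496a9c069408e521820)))) (.node (nat_lit 0xffb9dc66dadddd5845ea9518b6cc874890329820) (.leaf (nat_lit 0xffb9dbe35bb668e53e538d56d640e54086921820)) (.node (nat_lit 0xffb9dc6ed7ce9d25c68dabd9054d034888729820) (.leaf (nat_lit 0xffb9dc66dadddd5845ea9518b6cc874890329820)) (.leaf (nat_lit 0xffb9dc6ed7ce9d25c68dabd9054d034888729820))))) (.node (nat_lit 0xffb9dd62f9b6dee6d2b38ca0a62c65208e941820) (.node (nat_lit 0xffb9dceb78bdaaf649cba45b382928188a439820) (.leaf (nat_lit 0xffb9dcdf76d62b49ca307b9ac5a8a41892839820)) (.node (nat_lit 0xffb9dd5afbc65f15524c7560d9ace92086541820) (.leaf (nat_lit 0xffb9dceb78bdaaf649cba45b382928188a439820)) (.leaf (nat_lit 0xffb9dd5afbc65f15524c7560d9ace92086541820)))) (.node (nat_lit 0xffb9dddf38d5a54655d07c5535b524388a819820) (.leaf (nat_lit 0xffb9dd62f9b6dee6d2b38ca0a62c65208e941820))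 (.node (nat_lit 0xffb9ddeb36be24f9d62ba394c834a83892419820) (.leaf (nat_lit 0xffb9dddf38d5a54655d07c5535b524388a819820)) (.leaf (nat_lit 0xffb9ddeb36be24f9d62ba394c834a83892419820)))))) (.node (nat_lit 0xffbbccdf78d5a4f9d62ba394c83524198a838820) (.node (nat_lit 0xffbbcbe359b6df15524c7560d9ac65418e920820) (.node (nat_lit 0xffbbcb6f17ce9d5845ea9518b6cd032988748820) (.leaf (nat_lit 0xffbbcb671adddd25c68dabd9054c872990348820)) (.node (nat_lit 0xffbbcbdb5bc65ee6d2b38ca0a62ce94186520820) (.leaf (nat_lit 0xffbbcb6f17ce9d5845ea9518b6cd032988748820)) (.leaf (nat_lit 0xffbbcbdb5bc65ee6d2b38ca0a62ce94186520820)))) (.node (nat_lit 0xffbbcc66d7dea32839edad26b531074988328820) (.leaf (nat_lit 0xffbbcbe359b6df15524c7560d9ac65418e920820)) (.node (nat_lit 0xffbbcc6edacde355ba8a93e706b0834990728820) (.leaf (nat_lit 0xffbbcc66d7dea32839edad26b531074988328820)) (.leaf (nat_lit 0xffbbcc6edacde355ba8a93e706b0834990728820)))))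 (.node (nat_lit 0xffbbcd62fbb66916beac7496a9c0e52186940820) (.node (nat_lit 0xffbbcceb76be254655d07c5535b4a81992438820) (.leaf (nat_lit 0xffbbccdf78d5a4f9d62ba394c83524198a838820)) (.node (nat_lit 0xffbbcd5af9c6e8e53e538d56d64069218e540820) (.leaf (nat_lit 0xffbbcceb76be254655d07c5535b4a81992438820)) (.leaf (nat_lit 0xffbbcd5af9c6e8e53e538d56d64069218e540820)))) (.node (nat_lit 0xffbbcddf36d62af649cba45b3828a43992818820) (.leaf (nat_lit 0xffbbcd62fbb66916beac7496a9c0e52186940820)) (.node (nat_lit 0xffbbcdeb38bdab49ca307b9ac5a928398a418820) (.leaf (nat_lit 0xffbbcddf36d62af649cba45b3828a43992818820)) (.leaf (nat_lit 0xffbbcdeb38bdab49ca307b9ac5a928398a418820))))))))))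
noncomputable def AN_lN_T : ST := AN_lN_T0
theorem AN_lN_E {G : Type*} [Group G] {R : ℕ → G → Prop} {z u v a b i j k l p t c r s : G}
    (M : Md0 AN_o AN_cs R [z, u, v, a, b, i, j, k, l, p, t, c, r, s]) :
    EnumS R AN_lN (sp [i, j, k, l, r, s, c]) :=
  enumS_tree M.μ.1 (M.reps.tms M.μ.1 [(.v (nat_lit 5)), (.v (nat_lit 6)), (.v (nat_lit 7)), (.v (nat_lit 8)), (.v (nat_lit 12)), (.v (nat_lit 13)), (.v (nat_lit 11))] (cs' := [(nat_lit 0xf7f9ddeb38bdab464a2b7b953834a41992838820), (nat_lit 0xf7fbcceb78bdaaf9c9d0a454c5b4a43892819820), (nat_lit 0xf7fbcddf38d5a549d5cb7c5ac828a81892439820), (nat_lit 0xf7fbcdeb36be24f65630a39b35a924188a839820), (nat_lit 0xffb3be5bb7c6a508d6745b14e7b50931c8510c20), (nat_lit 0xffb57c76dbe65af7298ba4eb1848e64a06229020), (nat_lit 0xffb3bbf758e5a75a316a9422f6b92641ca220c20)]) (by decide +kernel))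
    (Ws := AN_lN_W) (T := AN_lN_T) (by decide +kernel) (by decide +kernel)
theorem AN_lN_c {G : Type*} [Group G] {R : ℕ → G → Prop} {z u v a b i j k l p t c r s : G}
    (M : Md0 AN_o AN_cs R [z, u, v, a, b, i, j, k, l, p, t, c, r, s]) :
    #(sp [i, j, k, l, r, s, c]) = 192 :=
  (AN_lN_E M).card M.μ (h := AN_lN_h) (by decide +kernel)
noncomputable def AN_lS1 : List ℕ := [(nat_lit 0xf7ed8be75ddf1b09a9cf5c64ca54c32144742420), (nat_lit 0xf7ed8bef5ccf5ab62a3483a537d447214c342420), (nat_lit 0xf7ed8bf359eedb1a2a1372e4f654e62146242420), (nat_lit 0xf7ed8bf75be65ae7a96c8c2549d462214e642420), (nat_lit 0xf7ed8cdf7cd760d62e3553a9393c48394c41a420), (nat_lit 0xf7ed8ceb7dbf20a9add26c68cabcc4394481a420), (nat_lit 0xf7ed8cf37aede11aad537369263d06394821a420), (nat_lit 0xf7ed8cf777e6a0e92dac8aa959bc82395061a420), (nat_lit 0xf7ed8d66fcdf5506362f5bab3a4843414c722420), (nat_lit 0xf7ed8d6efdcf14b9b5d4846ac7c8c74144322420),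 (nat_lit 0xf7ed8d72fbee5517b573742b464866414e222420), (nat_lit 0xf7ed8d76f9e6d4ea360c8aeaf9c8e24146622420), (nat_lit 0xf7ed8ddf3dd716d9c1d5545ec950c8194443a420), (nat_lit 0xf7ed8deb3cbf56a642326b9f3ad044194c83a420), (nat_lit 0xf7ed8df337ee971941b3729f565086195023a420), (nat_lit 0xf7ed8df73ae5d6eac14c8b5f29d102194863a420), (nat_lit 0xf7ed8e5fbbd662d7b9755419494c68114e432420), (nat_lit 0xf7ed8e67b7dea30939af5a995a4c831150732420), (nat_lit 0xf7ed8e6bb9bee2aa3a126ad8facce41146832420), (nat_lit 0xf7ed8e6fbacde2bab954835927cd071148332420), (nat_lit 0xf7ed8edf99d6dcda461552e6f930e83146412420), (nat_lit 0xf7ed8ee79adddd0ac54f5b672a31033148712420), (nat_lit 0xf7ed8eeb9bbe5ca7c5726c274ab064314e812420), (nat_lit 0xf7ed8eef97ce9cb945b482a757b0873150312420), (nat_lit 0xf7efab671cdf5538369163eab748434a0c729020), (nat_lit 0xf7efab6f1dcf14c5b5ee9d2b08c8c74a04329020), (nat_lit 0xf7efab731bee5548b58b7ceae848664a0e229020),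 (nat_lit 0xf7efab7719e6d4f73670a32b15c8e24a06629020), (nat_lit 0xf7efac66dddf1b35a9f165250754c32a04749020), (nat_lit 0xf7efac6edccf5ac82a8e9be4b8d4472a0c349020), (nat_lit 0xf7efac72d9eedb472a6b7b251854e62a06249020), (nat_lit 0xf7efac76dbe65af8a990a4e4e5d4622a0e649020), (nat_lit 0xf7efacdb7dc726a5b1f26d1d0ac4c53a04919020), (nat_lit 0xf7eface37cb766d8329553dcb944493a0c519020), (nat_lit 0xf7efacf376ee274ab14b7b5d2845263a0a219020), (nat_lit 0xf7efacf778e5a6f931b0a29d55c4a23a12619020), (nat_lit 0xf7efaddb3cc758a84e926be2bab8451a0c939020), (nat_lit 0xf7efade33db718d5cdf555230938c91a04539020), (nat_lit 0xf7efadf338ed99494dab7aa35838a61a12239020), (nat_lit 0xf7efadf736e618facd50a36325b9221a0a639020), (nat_lit 0xf7efae5bb9c6e8a73e726b211aace51206931020), (nat_lit 0xf7efae63bbb668d8bd9554e0e92c69120e531020), (nat_lit 0xf7efae67b8dda9393db162a1572ca31212731020), (nat_lit 0xf7efae6fb6ce28cabd4e9b6128ad27120a331020),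 (nat_lit 0xf7efaedb9bc65ea8d1926cd6eac065320e911020), (nat_lit 0xf7efaee399b6ded7527553171940e93206511020), (nat_lit 0xf7efaee796de1f3ad1516357274123320a711020), (nat_lit 0xf7efaeef98cd9ec951ae9a9758c0a73212311020), (nat_lit 0xf7f16be75cdf54b9b5d4846ac7c843224c741420), (nat_lit 0xf7f16bef5dcf1506362f5bab3a48c72244341420), (nat_lit 0xf7f16bf35bee54ea360c8aeaf9c866224e241420), (nat_lit 0xf7f16bf759e6d517b573742b4648e22246641420), (nat_lit 0xf7f16cdf7dd716a642326b9f3ad0c83a44419420), (nat_lit 0xf7f16ceb7cbf56d9c1d5545ec950443a4c819420), (nat_lit 0xf7f16cf377ee96eac14c8b5f29d0863a50219420), (nat_lit 0xf7f16cf77ae5d71941b3729f5651023a48619420), (nat_lit 0xf7f16d66fddf1ab62a3483a537d4c34244721420), (nat_lit 0xf7f16d6efccf5b09a9cf5c64ca5447424c321420), (nat_lit 0xf7f16d72f9eedae7a96c8c2549d4e64246221420), (nat_lit 0xf7f16d76fbe65b1a2a1372e4f65462424e621420), (nat_lit 0xf7f16ddf3cd760a9add26c68cabc481a4c439420),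 (nat_lit 0xf7f16deb3dbf20d62e3553a9393cc41a44839420), (nat_lit 0xf7f16df33aede0e92dac8aa959bd061a48239420), (nat_lit 0xf7f16df737e6a11aad537369263c821a50639420), (nat_lit 0xf7f16e5fb9d6dca7c5726c274ab0e81246431420), (nat_lit 0xf7f16e67badddcb945b482a757b1031248731420), (nat_lit 0xf7f16e6bbbbe5cda461552e6f93064124e831420), (nat_lit 0xf7f16e6fb7ce9d0ac54f5b672a30871250331420), (nat_lit 0xf7f16edf9bd662aa3a126ad8facc68324e411420), (nat_lit 0xf7f16ee797dea2bab954835927cc833250711420), (nat_lit 0xf7f16eeb99bee2d7b9755419494ce43246811420), (nat_lit 0xf7f16eef9acde30939af5a995a4d073248311420), (nat_lit 0xf7f3bb5f1dd716c6c24e9d5ea8d0c848c4429c20), (nat_lit 0xf7f3bb6b1cbf573542b1649ed7504448cc829c20), (nat_lit 0xf7f3bb7317ee9758c18d94dee5508648d0229c20), (nat_lit 0xf7f3bb771ae5d727426aab1f16d10248c8629c20), (nat_lit 0xf7f3bbdb5cc758b54eb484a2d7b84520cc941c20), (nat_lit 0xf7f3bbe35db71906ce4f5d62aa38c920c4541c20),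 (nat_lit 0xf7f3bbf358ed995a4e0d92e2f538a620d2241c20), (nat_lit 0xf7f3bbf756e61927cd6aac2346b92220ca641c20), (nat_lit 0xf7f3bc5edcd760c52eae9ca8d8bc4828cc449c20), (nat_lit 0xf7f3bc6addbf2136ae516568a73cc428c4849c20), (nat_lit 0xf7f3bc72daede1572e6d9329153d0628c8249c20), (nat_lit 0xf7f3bc76d7e6a128ad8aace8e6bc8228d0649c20), (nat_lit 0xf7f3bd5afdc726b6b254855ca7c4c540c4921c20), (nat_lit 0xf7f3bd62fcb7670532af5c9cda444940cc521c20), (nat_lit 0xf7f3bd72f6ee2757b16d941d45452640ca221c20), (nat_lit 0xf7f3bd76f8e5a72a320aaadcf6c4a240d2621c20), (nat_lit 0xf7f3be5bbac5eab74a74831517b50510c8931c20), (nat_lit 0xf7f3be5fb6d62ac7c96e9c1548b52810ca431c20), (nat_lit 0xf7f3be63b7b6ab08c98f5cd4ea348910d0531c20), (nat_lit 0xf7f3be6bb8bdab3a4a1162d4f734a410d2831c20), (nat_lit 0xf7f3bedb97c6a4b8d59484dae7a88530d0911c20), (nat_lit 0xf7f3bedf98d5a4ca560e9adaf8a8a830d2411c20), (nat_lit 0xf7f3bee39ab5e507566f5b1b1a290930c8511c20),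 (nat_lit 0xf7f3beeb96be2537d571641b47292430ca811c20), (nat_lit 0xf7f57b671ddf1ac82a8e9be4b8d4c3490472a020), (nat_lit 0xf7f57b6f1ccf5b35a9f16525075447490c32a020), (nat_lit 0xf7f57b7319eedaf8a990a4e4e5d4e6490622a020), (nat_lit 0xf7f57b771be65b472a6b7b25185462490e62a020), (nat_lit 0xf7f57c66dcdf54c5b5ee9d2b08c843290c74a020), (nat_lit 0xf7f57c6eddcf1538369163eab748c7290434a020), (nat_lit 0xf7f57c72dbee54f73670a32b15c866290e24a020), (nat_lit 0xf7f57c76d9e6d548b58b7ceae848e2290664a020), (nat_lit 0xf7f57cdb7cc758d5cdf55523093845390c91a020), (nat_lit 0xf7f57ce37db718a84e926be2bab8c9390451a020), (nat_lit 0xf7f57cf378ed98facd50a36325b8a6391221a020), (nat_lit 0xf7f57cf776e619494dab7aa3583922390a61a020), (nat_lit 0xf7f57ddb3dc726d8329553dcb944c5190493a020), (nat_lit 0xf7f57de33cb766a5b1f26d1d0ac449190c53a020), (nat_lit 0xf7f57df336ee26f931b0a29d55c526190a23a020), (nat_lit 0xf7f57df738e5a74ab14b7b5d2844a2191263a020),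 (nat_lit 0xf7f57e5bbbc65ed752755317194065110e932020), (nat_lit 0xf7f57e63b9b6dea8d1926cd6eac0e91106532020), (nat_lit 0xf7f57e67b6de1ec951ae9a9758c123110a732020), (nat_lit 0xf7f57e6fb8cd9f3ad15163572740a71112332020), (nat_lit 0xf7f57edb99c6e8d8bd9554e0e92ce53106912020), (nat_lit 0xf7f57ee39bb668a73e726b211aac69310e512020), (nat_lit 0xf7f57ee798dda8cabd4e9b6128aca33112712020), (nat_lit 0xf7f57eef96ce29393db162a1572d27310a312020), (nat_lit 0xf7f79b5f1cd76136ae516568a73c4849cc428c20), (nat_lit 0xf7f79b6b1dbf20c52eae9ca8d8bcc449c4828c20), (nat_lit 0xf7f79b731aede128ad8aace8e6bd0649c8228c20), (nat_lit 0xf7f79b7717e6a1572e6d9329153c8249d0628c20), (nat_lit 0xf7f79bdb5dc7270532af5c9cda44c521c4940c20), (nat_lit 0xf7f79be35cb766b6b254855ca7c44921cc540c20), (nat_lit 0xf7f79bf356ee272a320aaadcf6c52621ca240c20), (nat_lit 0xf7f79bf758e5a757b16d941d4544a221d2640c20), (nat_lit 0xf7f79c5eddd7173542b1649ed750c829c4448c20),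 (nat_lit 0xf7f79c6adcbf56c6c24e9d5ea8d04429cc848c20), (nat_lit 0xf7f79c72d7ee9727426aab1f16d08629d0248c20), (nat_lit 0xf7f79c76dae5d758c18d94dee5510229c8648c20), (nat_lit 0xf7f79d5afcc75906ce4f5d62aa384541cc920c20), (nat_lit 0xf7f79d62fdb718b54eb484a2d7b8c941c4520c20), (nat_lit 0xf7f79d72f8ed9927cd6aac2346b8a641d2220c20), (nat_lit 0xf7f79d76f6e6195a4e0d92e2f5392241ca620c20), (nat_lit 0xf7f79e5bb7c6a507566f5b1b1a288511d0930c20), (nat_lit 0xf7f79e5fb8d5a537d571641b4728a811d2430c20), (nat_lit 0xf7f79e63bab5e4b8d59484dae7a90911c8530c20), (nat_lit 0xf7f79e6bb6be24ca560e9adaf8a92411ca830c20), (nat_lit 0xf7f79edb9ac5eb08c98f5cd4ea350531c8910c20), (nat_lit 0xf7f79edf96d62b3a4a1162d4f7352831ca410c20), (nat_lit 0xf7f79ee397b6aab74a74831517b48931d0510c20), (nat_lit 0xf7f79eeb98bdaac7c96e9c1548b4a431d2810c20), (nat_lit 0xf7f9db5f19d6dcf6c650a566a5b0e84986428820), (nat_lit 0xf7f9db671adddd28468aabe6b6b1034988728820),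 (nat_lit 0xf7f9db6b1bbe5d4546ab7ca6d83064498e828820), (nat_lit 0xf7f9db6f17ce9d55c5ed95270530874990328820), (nat_lit 0xf7f9dbdb5bc65ee552ac8c96d9c065218e940820), (nat_lit 0xf7f9dbe359b6df16d2537556a640e92186540820), (nat_lit 0xf7f9dbe756de1f29d1caac56c6c123218a740820), (nat_lit 0xf7f9dbef58cd9f56522d93973540a72192340820), (nat_lit 0xf7f9dc5edbd662f53ab0a498d5cc68298e448820), (nat_lit 0xf7f9dc66d7dea325b9eaad1906cc832990748820), (nat_lit 0xf7f9dc6ad9bee346ba4b7d58a84ce42986848820), (nat_lit 0xf7f9dc6edacde3583a8d93d8b54d072988348820), (nat_lit 0xf7f9dcdb77c6a4e5d5ec8d1b09a8853990918820), (nat_lit 0xf7f9dcdf78d5a4f65630a39b35a8a83992418820), (nat_lit 0xf7f9dce37ab5e518569373dab629093988518820), (nat_lit 0xf7f9dceb76be2549d5cb7c5ac82924398a818820), (nat_lit 0xf7f9dd5af9c6e8e6be4c8d60a9ace54186920820), (nat_lit 0xf7f9dd62fbb669153eb374a0d62c69418e520820), (nat_lit 0xf7f9dd66f8dda9263e2aaba136aca34192720820),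 (nat_lit 0xf7f9dd6ef6ce2959bdcd9460c52d27418a320820), (nat_lit 0xf7f9dddb3ac5eae84a8c8bd4b9b5051988938820), (nat_lit 0xf7f9dddf36d62af9c9d0a454c5b528198a438820), (nat_lit 0xf7f9dde337b6ab15c9f375150634891990538820), (nat_lit 0xf7f9ddeb38bdab464a2b7b953834a41992838820), (nat_lit 0xf7fbcb5f1bd66346ba4b7d58a84c68488e429820), (nat_lit 0xf7fbcb6717dea3583a8d93d8b54c834890729820), (nat_lit 0xf7fbcb6b19bee2f53ab0a498d5cce44886829820), (nat_lit 0xf7fbcb6f1acde325b9eaad1906cd074888329820), (nat_lit 0xf7fbcbdb59c6e9153eb374a0d62ce52086941820), (nat_lit 0xf7fbcbe35bb668e6be4c8d60a9ac69208e541820), (nat_lit 0xf7fbcbe758dda959bdcd9460c52ca32092741820), (nat_lit 0xf7fbcbef56ce29263e2aaba136ad27208a341820), (nat_lit 0xf7fbcc5ed9d6dd4546ab7ca6d830e82886449820), (nat_lit 0xf7fbcc66dadddd55c5ed95270531032888749820), (nat_lit 0xf7fbcc6adbbe5cf6c650a566a5b064288e849820), (nat_lit 0xf7fbcc6ed7ce9d28468aabe6b6b0872890349820),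 (nat_lit 0xf7fbccdb7ac5eb15c9f375150635053888919820), (nat_lit 0xf7fbccdf76d62b464a2b7b95383528388a419820), (nat_lit 0xf7fbcce377b6aae84a8c8bd4b9b4893890519820), (nat_lit 0xf7fbcceb78bdaaf9c9d0a454c5b4a43892819820), (nat_lit 0xf7fbcd5afbc65f16d2537556a64065408e921820), (nat_lit 0xf7fbcd62f9b6dee552ac8c96d9c0e94086521820), (nat_lit 0xf7fbcd66f6de1f56522d9397354123408a721820), (nat_lit 0xf7fbcd6ef8cd9f29d1caac56c6c0a74092321820), (nat_lit 0xf7fbcddb37c6a518569373dab628851890939820), (nat_lit 0xf7fbcddf38d5a549d5cb7c5ac828a81892439820), (nat_lit 0xf7fbcde33ab5e4e5d5ec8d1b09a9091888539820), (nat_lit 0xf7fbcdeb36be24f65630a39b35a924188a839820), (nat_lit 0xffad8be75cdf54b635cf84653a54c74244321420), (nat_lit 0xffad8bef5dcf1509b6345ba4c7d443424c721420), (nat_lit 0xffad8bf35bee54e7b6138ae54654e24246621420), (nat_lit 0xffad8bf759e6d51a356c7424f9d466424e221420), (nat_lit 0xffad8cdf7dd716a9c2356ba8c93c441a4c839420),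 (nat_lit 0xffad8ceb7cbf56d641d254693abcc81a44439420), (nat_lit 0xffad8cf377ee96e941538b69563d021a48639420), (nat_lit 0xffad8cf77ae5d71ac1ac72a929bc861a50239420), (nat_lit 0xffad8d66fddf1ab9aa2f83aaca4847224c341420), (nat_lit 0xffad8d6efccf5b0629d45c6b37c8c32244741420), (nat_lit 0xffad8d72f9eedaea29738c2af64862224e641420), (nat_lit 0xffad8d76fbe65b17aa0c72eb49c8e62246241420), (nat_lit 0xffad8ddf3cd760a62dd56c5f3950c43a44819420), (nat_lit 0xffad8deb3dbf20d9ae32539ecad0483a4c419420), (nat_lit 0xffad8df33aede0eaadb38a9f2650823a50619420), (nat_lit 0xffad8df737e6a1192d4c735f59d1063a48219420), (nat_lit 0xffad8e5fb9d6dcaa45756c18f94c64324e811420), (nat_lit 0xffad8e67badddcbac5af82992a4c873250311420), (nat_lit 0xffad8e6bbbbe5cd7c61252d94acce83246411420), (nat_lit 0xffad8e6fb7ce9d0945545b5957cd033248711420), (nat_lit 0xffad8edf9bd662a7ba156ae74930e41246831420), (nat_lit 0xffad8ee797dea2b9394f83675a31071248331420),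 (nat_lit 0xffad8eeb99bee2da39725426fab068124e431420), (nat_lit 0xffad8eef9acde30ab9b45aa727b0831250731420), (nat_lit 0xffafab671ddf1ac5aa919beb074847290c34a020), (nat_lit 0xffafab6f1ccf5b3829ee652ab8c8c3290474a020), (nat_lit 0xffafab7319eedaf7298ba4eb184862290e64a020), (nat_lit 0xffafab771be65b48aa707b2ae5c8e6290624a020), (nat_lit 0xffafac66dcdf54c835f19d24b754c7490432a020), (nat_lit 0xffafac6eddcf1535b68e63e508d443490c72a020), (nat_lit 0xffafac72dbee54f8b66ba324e854e2490662a020), (nat_lit 0xffafac76d9e6d54735907ce515d466490e22a020), (nat_lit 0xffafacdb7cc758d84df2551cbac4c9190453a020), (nat_lit 0xffaface37db718a5ce956bdd094445190c93a020), (nat_lit 0xffafacf378ed98f94d4ba35d584522190a63a020), (nat_lit 0xffafacf776e6194acdb07a9d25c4a6191223a020), (nat_lit 0xffafaddb3dc726d5b29253e30ab849390c51a020), (nat_lit 0xffafade33cb766a831f56d22b938c5390491a020), (nat_lit 0xffafadf336ee26fab1aba2a32838a2391261a020),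 (nat_lit 0xffafadf738e5a74931507b6355b926390a21a020), (nat_lit 0xffafae5bbbc65ed8d2725320eaace93106512020), (nat_lit 0xffafae63b9b6dea751956ce1192c65310e912020), (nat_lit 0xffafae67b6de1ecad1b19aa1272ca73112312020), (nat_lit 0xffafae6fb8cd9f39514e636158ad23310a712020), (nat_lit 0xffafaedb99c6e8d73d9254d71ac069110e532020), (nat_lit 0xffafaee39bb668a8be756b16e940e51106932020), (nat_lit 0xffafaee798dda8c93d519b57574127110a332020), (nat_lit 0xffafaeef96ce293abdae629728c0a31112732020), (nat_lit 0xffb16be75ddf1b0629d45c6b37c847414c322420), (nat_lit 0xffb16bef5ccf5ab9aa2f83aaca48c34144722420), (nat_lit 0xffb16bf359eedb17aa0c72eb49c862414e622420), (nat_lit 0xffb16bf75be65aea29738c2af648e64146222420), (nat_lit 0xffb16cdf7cd760d9ae32539ecad0c4194483a420), (nat_lit 0xffb16ceb7dbf20a62dd56c5f395048194c43a420), (nat_lit 0xffb16cf37aede1192d4c735f59d082195063a420), (nat_lit 0xffb16cf777e6a0eaadb38a9f265106194823a420),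 (nat_lit 0xffb16d66fcdf5509b6345ba4c7d4c72144342420), (nat_lit 0xffb16d6efdcf14b635cf84653a5443214c742420), (nat_lit 0xffb16d72fbee551a356c7424f9d4e22146642420), (nat_lit 0xffb16d76f9e6d4e7b6138ae5465466214e242420), (nat_lit 0xffb16ddf3dd716d641d254693abc44394c81a420), (nat_lit 0xffb16deb3cbf56a9c2356ba8c93cc8394441a420), (nat_lit 0xffb16df337ee971ac1ac72a929bd02394861a420), (nat_lit 0xffb16df73ae5d6e941538b69563c86395021a420), (nat_lit 0xffb16e5fbbd662da39725426fab0e43146812420), (nat_lit 0xffb16e67b7dea30ab9b45aa727b1073148312420), (nat_lit 0xffb16e6bb9bee2a7ba156ae7493068314e412420), (nat_lit 0xffb16e6fbacde2b9394f83675a30833150712420), (nat_lit 0xffb16edf99d6dcd7c61252d94acc64114e832420), (nat_lit 0xffb16ee79adddd0945545b5957cc871150332420), (nat_lit 0xffb16eeb9bbe5caa45756c18f94ce81146432420), (nat_lit 0xffb16eef97ce9cbac5af82992a4d031148732420), (nat_lit 0xffb3bb5f1cd761352e4e655ed8d0c429c4848c20),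 (nat_lit 0xffb3bb6b1dbf20c6aeb19c9ea7504829cc448c20), (nat_lit 0xffb3bb731aede1272d8dacdf15508229d0648c20), (nat_lit 0xffb3bb7717e6a158ae6a931ee6d10629c8248c20), (nat_lit 0xffb3bbdb5dc72706b2b45ca2a7b84941cc520c20), (nat_lit 0xffb3bbe35cb766b5324f8562da38c541c4920c20), (nat_lit 0xffb3bbf356ee2727b20daae34538a241d2620c20), (nat_lit 0xffb3bbf758e5a75a316a9422f6b92641ca220c20), (nat_lit 0xffb3bc5eddd71736c2ae64a8a8bc4449cc828c20), (nat_lit 0xffb3bc6adcbf56c542519d68d73cc849c4428c20), (nat_lit 0xffb3bc72d7ee9728c26dab28e53d0249c8628c20), (nat_lit 0xffb3bc76dae5d757418a94e916bc8649d0228c20), (nat_lit 0xffb3bd5afcc759054e545d5cd7c4c921c4540c20), (nat_lit 0xffb3bd62fdb718b6ceaf849caa444521cc940c20), (nat_lit 0xffb3bd72f8ed992a4d6dac1cf5452221ca640c20), (nat_lit 0xffb3bd76f6e61957ce0a92dd46c4a621d2240c20), (nat_lit 0xffb3be5bb7c6a508d6745b14e7b50931c8510c20), (nat_lit 0xffb3be5fb8d5a53a556e6414f8b52431ca810c20),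 (nat_lit 0xffb3be63bab5e4b7558f84d51a348531d0910c20), (nat_lit 0xffb3be6bb6be24c7d6119ad54734a831d2410c20), (nat_lit 0xffb3bedb9ac5eb0749945cdb17a88911d0530c20), (nat_lit 0xffb3bedf96d62b37ca0e62db48a8a411d2830c20), (nat_lit 0xffb3bee397b6aab8ca6f831aea290511c8930c20), (nat_lit 0xffb3beeb98bdaaca49719c1af7292811ca430c20), (nat_lit 0xffb57b671cdf5535b68e63e508d4c72a04349020), (nat_lit 0xffb57b6f1dcf14c835f19d24b754432a0c749020), (nat_lit 0xffb57b731bee554735907ce515d4e22a06649020), (nat_lit 0xffb57b7719e6d4f8b66ba324e854662a0e249020), (nat_lit 0xffb57c66dddf1b3829ee652ab8c8474a0c329020), (nat_lit 0xffb57c6edccf5ac5aa919beb0748c34a04729020), (nat_lit 0xffb57c72d9eedb48aa707b2ae5c8624a0e629020), (nat_lit 0xffb57c76dbe65af7298ba4eb1848e64a06229020), (nat_lit 0xffb57cdb7dc726a831f56d22b938491a0c539020), (nat_lit 0xffb57ce37cb766d5b29253e30ab8c51a04939020), (nat_lit 0xffb57cf376ee274931507b6355b8a21a12639020),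 (nat_lit 0xffb57cf778e5a6fab1aba2a32839261a0a239020), (nat_lit 0xffb57ddb3cc758a5ce956bdd0944c93a04519020), (nat_lit 0xffb57de33db718d84df2551cbac4453a0c919020), (nat_lit 0xffb57df338ed994acdb07a9d25c5223a0a619020), (nat_lit 0xffb57df736e618f94d4ba35d5844a63a12219020), (nat_lit 0xffb57e5bb9c6e8a8be756b16e94069320e511020), (nat_lit 0xffb57e63bbb668d73d9254d71ac0e53206911020), (nat_lit 0xffb57e67b8dda93abdae629728c127320a311020), (nat_lit 0xffb57e6fb6ce28c93d519b575740a33212711020), (nat_lit 0xffb57edb9bc65ea751956ce1192ce91206531020), (nat_lit 0xffb57ee399b6ded8d2725320eaac65120e931020), (nat_lit 0xffb57ee796de1f39514e636158aca71212331020), (nat_lit 0xffb57eef98cd9ecad1b19aa1272d23120a731020), (nat_lit 0xffb79b5f1dd716c542519d68d73c4428cc849c20), (nat_lit 0xffb79b6b1cbf5736c2ae64a8a8bcc828c4449c20), (nat_lit 0xffb79b7317ee9757418a94e916bd0228c8649c20), (nat_lit 0xffb79b771ae5d728c26dab28e53c8628d0249c20),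 (nat_lit 0xffb79bdb5cc758b6ceaf849caa44c940c4521c20), (nat_lit 0xffb79be35db719054e545d5cd7c44540cc921c20), (nat_lit 0xffb79bf358ed9957ce0a92dd46c52240ca621c20), (nat_lit 0xffb79bf756e6192a4d6dac1cf544a640d2221c20), (nat_lit 0xffb79c5edcd760c6aeb19c9ea750c448c4829c20), (nat_lit 0xffb79c6addbf21352e4e655ed8d04848cc429c20), (nat_lit 0xffb79c72daede158ae6a931ee6d08248d0629c20), (nat_lit 0xffb79c76d7e6a1272d8dacdf15510648c8229c20), (nat_lit 0xffb79d5afdc726b5324f8562da384920cc541c20), (nat_lit 0xffb79d62fcb76706b2b45ca2a7b8c520c4941c20), (nat_lit 0xffb79d72f6ee275a316a9422f6b8a220d2641c20), (nat_lit 0xffb79d76f8e5a727b20daae345392620ca241c20), (nat_lit 0xffb79e5bbac5eab8ca6f831aea288930d0511c20), (nat_lit 0xffb79e5fb6d62aca49719c1af728a430d2811c20), (nat_lit 0xffb79e63b7b6ab0749945cdb17a90530c8911c20), (nat_lit 0xffb79e6bb8bdab37ca0e62db48a92830ca411c20), (nat_lit 0xffb79edb97c6a4b7558f84d51a350910c8531c20),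 (nat_lit 0xffb79edf98d5a4c7d6119ad547352410ca831c20), (nat_lit 0xffb79ee39ab5e508d6745b14e7b48510d0931c20), (nat_lit 0xffb79eeb96be253a556e6414f8b4a810d2431c20), (nat_lit 0xffb9db5f1bd663453a507d66d5b0e42886849820), (nat_lit 0xffb9db6717dea355ba8a93e706b1072888349820), (nat_lit 0xffb9db6b19bee2f6baaba4a6a83068288e449820), (nat_lit 0xffb9db6f1acde32839edad26b530832890749820), (nat_lit 0xffb9dbdb59c6e916beac7496a9c069408e521820), (nat_lit 0xffb9dbe35bb668e53e538d56d640e54086921820), (nat_lit 0xffb9dbe758dda9563dca945736c127408a321820), (nat_lit 0xffb9dbef56ce2929be2dab96c540a34092721820), (nat_lit 0xffb9dc5ed9d6dd46c6b07c98a5cc64488e829820), (nat_lit 0xffb9dc66dadddd5845ea9518b6cc874890329820), (nat_lit 0xffb9dc6adbbe5cf5464ba558d84ce84886429820), (nat_lit 0xffb9dc6ed7ce9d25c68dabd9054d034888729820), (nat_lit 0xffb9dcdb7ac5eb1849ec751ab9a8891890539820), (nat_lit 0xffb9dcdf76d62b49ca307b9ac5a8a41892839820),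 (nat_lit 0xffb9dce377b6aae5ca938bdb0629051888939820), (nat_lit 0xffb9dceb78bdaaf649cba45b382928188a439820), (nat_lit 0xffb9dd5afbc65f15524c7560d9ace92086541820), (nat_lit 0xffb9dd62f9b6dee6d2b38ca0a62c65208e941820), (nat_lit 0xffb9dd66f6de1f59d22a93a0c6aca72092341820), (nat_lit 0xffb9dd6ef8cd9f2651cdac61352d23208a741820), (nat_lit 0xffb9dddb37c6a515d68c73d509b5093888519820), (nat_lit 0xffb9dddf38d5a54655d07c5535b524388a819820), (nat_lit 0xffb9dde33ab5e4e855f38d14b634853890919820), (nat_lit 0xffb9ddeb36be24f9d62ba394c834a83892419820), (nat_lit 0xffbbcb5f19d6dcf5464ba558d84c64298e848820), (nat_lit 0xffbbcb671adddd25c68dabd9054c872990348820), (nat_lit 0xffbbcb6b1bbe5d46c6b07c98a5cce82986448820), (nat_lit 0xffbbcb6f17ce9d5845ea9518b6cd032988748820), (nat_lit 0xffbbcbdb5bc65ee6d2b38ca0a62ce94186520820), (nat_lit 0xffbbcbe359b6df15524c7560d9ac65418e920820), (nat_lit 0xffbbcbe756de1f2651cdac61352ca74192320820),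 (nat_lit 0xffbbcbef58cd9f59d22a93a0c6ad23418a720820), (nat_lit 0xffbbcc5edbd662f6baaba4a6a830e44986828820), (nat_lit 0xffbbcc66d7dea32839edad26b531074988328820), (nat_lit 0xffbbcc6ad9bee3453a507d66d5b068498e428820), (nat_lit 0xffbbcc6edacde355ba8a93e706b0834990728820), (nat_lit 0xffbbccdb77c6a4e855f38d14b635091988538820), (nat_lit 0xffbbccdf78d5a4f9d62ba394c83524198a838820), (nat_lit 0xffbbcce37ab5e515d68c73d509b4851990938820), (nat_lit 0xffbbcceb76be254655d07c5535b4a81992438820), (nat_lit 0xffbbcd5af9c6e8e53e538d56d64069218e540820), (nat_lit 0xffbbcd62fbb66916beac7496a9c0e52186940820), (nat_lit 0xffbbcd66f8dda929be2dab96c54127218a340820), (nat_lit 0xffbbcd6ef6ce29563dca945736c0a32192740820), (nat_lit 0xffbbcddb3ac5eae5ca938bdb0628893990518820), (nat_lit 0xffbbcddf36d62af649cba45b3828a43992818820), (nat_lit 0xffbbcde337b6ab1849ec751ab9a9053988918820), (nat_lit 0xffbbcdeb38bdab49ca307b9ac5a928398a418820)]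
noncomputable def AN_lS1_W : List (List ℕ) := [[(nat_lit 3), (nat_lit 4), (nat_lit 5)],
  [(nat_lit 2), (nat_lit 4), (nat_lit 5)],
  [(nat_lit 0), (nat_lit 1), (nat_lit 7), (nat_lit 5)],
  [(nat_lit 0), (nat_lit 1), (nat_lit 2), (nat_lit 3), (nat_lit 7), (nat_lit 5)],
  [(nat_lit 0), (nat_lit 3), (nat_lit 6), (nat_lit 5), (nat_lit 7)],
  [(nat_lit 0), (nat_lit 2), (nat_lit 6), (nat_lit 5), (nat_lit 7)],
  [(nat_lit 1), (nat_lit 2), (nat_lit 3), (nat_lit 6), (nat_lit 5), (nat_lit 6)],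
  [(nat_lit 1), (nat_lit 6), (nat_lit 5), (nat_lit 6)],
  [(nat_lit 1), (nat_lit 4), (nat_lit 5)],
  [(nat_lit 1), (nat_lit 2), (nat_lit 3), (nat_lit 4), (nat_lit 5)],
  [(nat_lit 0), (nat_lit 3), (nat_lit 7), (nat_lit 5)],
  [(nat_lit 0), (nat_lit 2), (nat_lit 7), (nat_lit 5)],
  [(nat_lit 0), (nat_lit 1), (nat_lit 6), (nat_lit 5), (nat_lit 7)],
  [(nat_lit 0), (nat_lit 1), (nat_lit 2), (nat_lit 3), (nat_lit 6), (nat_lit 5), (nat_lit 7)],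
  [(nat_lit 2), (nat_lit 6), (nat_lit 5), (nat_lit 6)],
  [(nat_lit 3), (nat_lit 6), (nat_lit 5), (nat_lit 6)],
  [(nat_lit 2), (nat_lit 6), (nat_lit 5)],
  [(nat_lit 0), (nat_lit 1), (nat_lit 2), (nat_lit 3), (nat_lit 7), (nat_lit 5), (nat_lit 6)],
  [(nat_lit 3), (nat_lit 6), (nat_lit 5)],
  [(nat_lit 0), (nat_lit 1), (nat_lit 7), (nat_lit 5), (nat_lit 6)],
  [(nat_lit 1), (nat_lit 2), (nat_lit 3), (nat_lit 6), (nat_lit 5)],
  [(nat_lit 0), (nat_lit 2), (nat_lit 7), (nat_lit 5), (nat_lit 6)],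
  [(nat_lit 1), (nat_lit 6), (nat_lit 5)],
  [(nat_lit 0), (nat_lit 3), (nat_lit 7), (nat_lit 5), (nat_lit 6)],
  [(nat_lit 2), (nat_lit 3), (nat_lit 5), (nat_lit 7)],
  [(nat_lit 5), (nat_lit 7)],
  [(nat_lit 0), (nat_lit 1), (nat_lit 2), (nat_lit 5)],
  [(nat_lit 0), (nat_lit 1), (nat_lit 3), (nat_lit 5)],
  [(nat_lit 1), (nat_lit 2), (nat_lit 5), (nat_lit 7)],
  [(nat_lit 1), (nat_lit 3), (nat_lit 5), (nat_lit 7)],
  [(nat_lit 0), (nat_lit 2), (nat_lit 3), (nat_lit 5)],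
  [(nat_lit 0), (nat_lit 5)],
  [(nat_lit 0), (nat_lit 1), (nat_lit 3), (nat_lit 4), (nat_lit 6)],
  [(nat_lit 0), (nat_lit 1), (nat_lit 2), (nat_lit 4), (nat_lit 6)],
  [(nat_lit 7), (nat_lit 6)],
  [(nat_lit 2), (nat_lit 3), (nat_lit 7), (nat_lit 6)],
  [(nat_lit 0), (nat_lit 4), (nat_lit 6)],
  [(nat_lit 0), (nat_lit 2), (nat_lit 3), (nat_lit 4), (nat_lit 6)],
  [(nat_lit 1), (nat_lit 3), (nat_lit 7), (nat_lit 6)],
  [(nat_lit 1), (nat_lit 2), (nat_lit 7), (nat_lit 6)],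
  [(nat_lit 1), (nat_lit 2), (nat_lit 4), (nat_lit 6), (nat_lit 7)],
  [(nat_lit 1), (nat_lit 3), (nat_lit 4), (nat_lit 6), (nat_lit 7)],
  [(nat_lit 0), (nat_lit 6), (nat_lit 6)],
  [(nat_lit 0), (nat_lit 2), (nat_lit 3), (nat_lit 6), (nat_lit 6)],
  [(nat_lit 2), (nat_lit 3), (nat_lit 4), (nat_lit 6), (nat_lit 7)],
  [(nat_lit 4), (nat_lit 6), (nat_lit 7)],
  [(nat_lit 0), (nat_lit 1), (nat_lit 3), (nat_lit 6), (nat_lit 6)],
  [(nat_lit 0), (nat_lit 1), (nat_lit 2), (nat_lit 6), (nat_lit 6)],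
  [(nat_lit 0), (nat_lit 4), (nat_lit 5)],
  [(nat_lit 0), (nat_lit 2), (nat_lit 3), (nat_lit 4), (nat_lit 5)],
  [(nat_lit 1), (nat_lit 3), (nat_lit 7), (nat_lit 5)],
  [(nat_lit 1), (nat_lit 2), (nat_lit 7), (nat_lit 5)],
  [(nat_lit 6), (nat_lit 5), (nat_lit 7)],
  [(nat_lit 2), (nat_lit 3), (nat_lit 6), (nat_lit 5), (nat_lit 7)],
  [(nat_lit 0), (nat_lit 1), (nat_lit 2), (nat_lit 6), (nat_lit 5), (nat_lit 6)],
  [(nat_lit 0), (nat_lit 1), (nat_lit 3), (nat_lit 6), (nat_lit 5), (nat_lit 6)],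
  [(nat_lit 0), (nat_lit 1), (nat_lit 3), (nat_lit 4), (nat_lit 5)],
  [(nat_lit 0), (nat_lit 1), (nat_lit 2), (nat_lit 4), (nat_lit 5)],
  [(nat_lit 7), (nat_lit 5)],
  [(nat_lit 2), (nat_lit 3), (nat_lit 7), (nat_lit 5)],
  [(nat_lit 1), (nat_lit 3), (nat_lit 6), (nat_lit 5), (nat_lit 7)],
  [(nat_lit 1), (nat_lit 2), (nat_lit 6), (nat_lit 5), (nat_lit 7)],
  [(nat_lit 0), (nat_lit 2), (nat_lit 3), (nat_lit 6), (nat_lit 5), (nat_lit 6)],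
  [(nat_lit 0), (nat_lit 6), (nat_lit 5), (nat_lit 6)],
  [(nat_lit 0), (nat_lit 2), (nat_lit 3), (nat_lit 6), (nat_lit 5)],
  [(nat_lit 1), (nat_lit 2), (nat_lit 7), (nat_lit 5), (nat_lit 6)],
  [(nat_lit 0), (nat_lit 6), (nat_lit 5)],
  [(nat_lit 1), (nat_lit 3), (nat_lit 7), (nat_lit 5), (nat_lit 6)],
  [(nat_lit 0), (nat_lit 1), (nat_lit 2), (nat_lit 6), (nat_lit 5)],
  [(nat_lit 2), (nat_lit 3), (nat_lit 7), (nat_lit 5), (nat_lit 6)],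
  [(nat_lit 0), (nat_lit 1), (nat_lit 3), (nat_lit 6), (nat_lit 5)],
  [(nat_lit 7), (nat_lit 5), (nat_lit 6)],
  [(nat_lit 1), (nat_lit 2), (nat_lit 3), (nat_lit 5), (nat_lit 6), (nat_lit 6)],
  [(nat_lit 1), (nat_lit 5), (nat_lit 6), (nat_lit 6)],
  [(nat_lit 0), (nat_lit 3), (nat_lit 5), (nat_lit 6), (nat_lit 7)],
  [(nat_lit 0), (nat_lit 2), (nat_lit 5), (nat_lit 6), (nat_lit 7)],
  [(nat_lit 0), (nat_lit 1), (nat_lit 2), (nat_lit 3), (nat_lit 4), (nat_lit 7), (nat_lit 6)],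
  [(nat_lit 0), (nat_lit 1), (nat_lit 4), (nat_lit 7), (nat_lit 6)],
  [(nat_lit 2), (nat_lit 6)],
  [(nat_lit 3), (nat_lit 6)],
  [(nat_lit 2), (nat_lit 5), (nat_lit 6), (nat_lit 6)],
  [(nat_lit 3), (nat_lit 5), (nat_lit 6), (nat_lit 6)],
  [(nat_lit 0), (nat_lit 1), (nat_lit 5), (nat_lit 6), (nat_lit 7)],
  [(nat_lit 0), (nat_lit 1), (nat_lit 2), (nat_lit 3), (nat_lit 5), (nat_lit 6), (nat_lit 7)],
  [(nat_lit 0), (nat_lit 2), (nat_lit 4), (nat_lit 7), (nat_lit 6)],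
  [(nat_lit 0), (nat_lit 3), (nat_lit 4), (nat_lit 7), (nat_lit 6)],
  [(nat_lit 1), (nat_lit 2), (nat_lit 3), (nat_lit 6)],
  [(nat_lit 1), (nat_lit 6)],
  [(nat_lit 3), (nat_lit 4)],
  [(nat_lit 0), (nat_lit 1), (nat_lit 7)],
  [(nat_lit 2), (nat_lit 4)],
  [(nat_lit 0), (nat_lit 1), (nat_lit 2), (nat_lit 3), (nat_lit 7)],
  [(nat_lit 1), (nat_lit 4)],
  [(nat_lit 0), (nat_lit 3), (nat_lit 7)],
  [(nat_lit 1), (nat_lit 2), (nat_lit 3), (nat_lit 4)],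
  [(nat_lit 0), (nat_lit 2), (nat_lit 7)],
  [(nat_lit 0), (nat_lit 2), (nat_lit 5), (nat_lit 7)],
  [(nat_lit 0), (nat_lit 3), (nat_lit 5), (nat_lit 7)],
  [(nat_lit 1), (nat_lit 2), (nat_lit 3), (nat_lit 5)],
  [(nat_lit 1), (nat_lit 5)],
  [(nat_lit 0), (nat_lit 1), (nat_lit 2), (nat_lit 3), (nat_lit 5), (nat_lit 7)],
  [(nat_lit 0), (nat_lit 1), (nat_lit 5), (nat_lit 7)],
  [(nat_lit 2), (nat_lit 5)],
  [(nat_lit 3), (nat_lit 5)],
  [(nat_lit 1), (nat_lit 4), (nat_lit 6)],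
  [(nat_lit 1), (nat_lit 2), (nat_lit 3), (nat_lit 4), (nat_lit 6)],
  [(nat_lit 0), (nat_lit 3), (nat_lit 7), (nat_lit 6)],
  [(nat_lit 0), (nat_lit 2), (nat_lit 7), (nat_lit 6)],
  [(nat_lit 3), (nat_lit 4), (nat_lit 6)],
  [(nat_lit 2), (nat_lit 4), (nat_lit 6)],
  [(nat_lit 0), (nat_lit 1), (nat_lit 7), (nat_lit 6)],
  [(nat_lit 0), (nat_lit 1), (nat_lit 2), (nat_lit 3), (nat_lit 7), (nat_lit 6)],
  [(nat_lit 0), (nat_lit 1), (nat_lit 2), (nat_lit 3), (nat_lit 4), (nat_lit 6), (nat_lit 7)],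
  [(nat_lit 0), (nat_lit 1), (nat_lit 4), (nat_lit 6), (nat_lit 7)],
  [(nat_lit 3), (nat_lit 6), (nat_lit 6)],
  [(nat_lit 2), (nat_lit 6), (nat_lit 6)],
  [(nat_lit 0), (nat_lit 2), (nat_lit 4), (nat_lit 6), (nat_lit 7)],
  [(nat_lit 0), (nat_lit 3), (nat_lit 4), (nat_lit 6), (nat_lit 7)],
  [(nat_lit 1), (nat_lit 6), (nat_lit 6)],
  [(nat_lit 1), (nat_lit 2), (nat_lit 3), (nat_lit 6), (nat_lit 6)],
  [(nat_lit 0), (nat_lit 1), (nat_lit 2), (nat_lit 5), (nat_lit 6), (nat_lit 6)],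
  [(nat_lit 0), (nat_lit 1), (nat_lit 3), (nat_lit 5), (nat_lit 6), (nat_lit 6)],
  [(nat_lit 5), (nat_lit 6), (nat_lit 7)],
  [(nat_lit 2), (nat_lit 3), (nat_lit 5), (nat_lit 6), (nat_lit 7)],
  [(nat_lit 1), (nat_lit 2), (nat_lit 4), (nat_lit 7), (nat_lit 6)],
  [(nat_lit 1), (nat_lit 3), (nat_lit 4), (nat_lit 7), (nat_lit 6)],
  [(nat_lit 0), (nat_lit 2), (nat_lit 3), (nat_lit 6)],
  [(nat_lit 0), (nat_lit 6)],
  [(nat_lit 0), (nat_lit 2), (nat_lit 3), (nat_lit 5), (nat_lit 6), (nat_lit 6)],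
  [(nat_lit 0), (nat_lit 5), (nat_lit 6), (nat_lit 6)],
  [(nat_lit 1), (nat_lit 3), (nat_lit 5), (nat_lit 6), (nat_lit 7)],
  [(nat_lit 1), (nat_lit 2), (nat_lit 5), (nat_lit 6), (nat_lit 7)],
  [(nat_lit 2), (nat_lit 3), (nat_lit 4), (nat_lit 7), (nat_lit 6)],
  [(nat_lit 4), (nat_lit 7), (nat_lit 6)],
  [(nat_lit 0), (nat_lit 1), (nat_lit 2), (nat_lit 6)],
  [(nat_lit 0), (nat_lit 1), (nat_lit 3), (nat_lit 6)],
  [(nat_lit 0), (nat_lit 4)],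
  [(nat_lit 1), (nat_lit 3), (nat_lit 7)],
  [(nat_lit 0), (nat_lit 2), (nat_lit 3), (nat_lit 4)],
  [(nat_lit 1), (nat_lit 2), (nat_lit 7)],
  [(nat_lit 0), (nat_lit 1), (nat_lit 3), (nat_lit 4)],
  [(nat_lit 7)],
  [(nat_lit 0), (nat_lit 1), (nat_lit 2), (nat_lit 4)],
  [(nat_lit 2), (nat_lit 3), (nat_lit 7)],
  [(nat_lit 5), (nat_lit 7), (nat_lit 6)],
  [(nat_lit 0), (nat_lit 1), (nat_lit 3), (nat_lit 5), (nat_lit 6)],
  [(nat_lit 2), (nat_lit 3), (nat_lit 5), (nat_lit 7), (nat_lit 6)],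
  [(nat_lit 0), (nat_lit 1), (nat_lit 2), (nat_lit 5), (nat_lit 6)],
  [(nat_lit 0), (nat_lit 4), (nat_lit 6), (nat_lit 6)],
  [(nat_lit 0), (nat_lit 2), (nat_lit 3), (nat_lit 4), (nat_lit 6), (nat_lit 6)],
  [(nat_lit 1), (nat_lit 2), (nat_lit 6), (nat_lit 7)],
  [(nat_lit 1), (nat_lit 3), (nat_lit 6), (nat_lit 7)],
  [(nat_lit 1), (nat_lit 3), (nat_lit 5), (nat_lit 7), (nat_lit 6)],
  [(nat_lit 0), (nat_lit 5), (nat_lit 6)],
  [(nat_lit 1), (nat_lit 2), (nat_lit 5), (nat_lit 7), (nat_lit 6)],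
  [(nat_lit 0), (nat_lit 2), (nat_lit 3), (nat_lit 5), (nat_lit 6)],
  [(nat_lit 2), (nat_lit 3), (nat_lit 4), (nat_lit 7)],
  [(nat_lit 0), (nat_lit 1), (nat_lit 2)],
  [(nat_lit 4), (nat_lit 7)],
  [(nat_lit 0), (nat_lit 1), (nat_lit 3)],
  [(nat_lit 0), (nat_lit 1), (nat_lit 3), (nat_lit 4), (nat_lit 6), (nat_lit 6)],
  [(nat_lit 0), (nat_lit 1), (nat_lit 2), (nat_lit 4), (nat_lit 6), (nat_lit 6)],
  [(nat_lit 2), (nat_lit 3), (nat_lit 6), (nat_lit 7)],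
  [(nat_lit 6), (nat_lit 7)],
  [(nat_lit 1), (nat_lit 2), (nat_lit 4), (nat_lit 7)],
  [(nat_lit 0), (nat_lit 2), (nat_lit 3)],
  [(nat_lit 1), (nat_lit 3), (nat_lit 4), (nat_lit 7)],
  [(nat_lit 0)],
  [(nat_lit 0), (nat_lit 3), (nat_lit 5), (nat_lit 7), (nat_lit 6)],
  [(nat_lit 1), (nat_lit 5), (nat_lit 6)],
  [(nat_lit 0), (nat_lit 2), (nat_lit 5), (nat_lit 7), (nat_lit 6)],
  [(nat_lit 1), (nat_lit 2), (nat_lit 3), (nat_lit 5), (nat_lit 6)],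
  [(nat_lit 3), (nat_lit 4), (nat_lit 6), (nat_lit 6)],
  [(nat_lit 2), (nat_lit 4), (nat_lit 6), (nat_lit 6)],
  [(nat_lit 0), (nat_lit 1), (nat_lit 2), (nat_lit 3), (nat_lit 6), (nat_lit 7)],
  [(nat_lit 0), (nat_lit 1), (nat_lit 6), (nat_lit 7)],
  [(nat_lit 0), (nat_lit 1), (nat_lit 5), (nat_lit 7), (nat_lit 6)],
  [(nat_lit 3), (nat_lit 5), (nat_lit 6)],
  [(nat_lit 0), (nat_lit 1), (nat_lit 2), (nat_lit 3), (nat_lit 5), (nat_lit 7), (nat_lit 6)],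
  [(nat_lit 2), (nat_lit 5), (nat_lit 6)],
  [(nat_lit 0), (nat_lit 2), (nat_lit 4), (nat_lit 7)],
  [(nat_lit 1), (nat_lit 2), (nat_lit 3)],
  [(nat_lit 0), (nat_lit 3), (nat_lit 4), (nat_lit 7)],
  [(nat_lit 1)],
  [(nat_lit 1), (nat_lit 4), (nat_lit 6), (nat_lit 6)],
  [(nat_lit 1), (nat_lit 2), (nat_lit 3), (nat_lit 4), (nat_lit 6), (nat_lit 6)],
  [(nat_lit 0), (nat_lit 2), (nat_lit 6), (nat_lit 7)],
  [(nat_lit 0), (nat_lit 3), (nat_lit 6), (nat_lit 7)],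
  [(nat_lit 0), (nat_lit 1), (nat_lit 2), (nat_lit 3), (nat_lit 4), (nat_lit 7)],
  [(nat_lit 2)],
  [(nat_lit 0), (nat_lit 1), (nat_lit 4), (nat_lit 7)],
  [(nat_lit 3)],
  [(nat_lit 4), (nat_lit 5)],
  [(nat_lit 2), (nat_lit 3), (nat_lit 4), (nat_lit 5)],
  [(nat_lit 0), (nat_lit 1), (nat_lit 3), (nat_lit 7), (nat_lit 5)],
  [(nat_lit 0), (nat_lit 1), (nat_lit 2), (nat_lit 7), (nat_lit 5)],
  [(nat_lit 0), (nat_lit 6), (nat_lit 5), (nat_lit 7)],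
  [(nat_lit 0), (nat_lit 2), (nat_lit 3), (nat_lit 6), (nat_lit 5), (nat_lit 7)],
  [(nat_lit 1), (nat_lit 2), (nat_lit 6), (nat_lit 5), (nat_lit 6)],
  [(nat_lit 1), (nat_lit 3), (nat_lit 6), (nat_lit 5), (nat_lit 6)],
  [(nat_lit 1), (nat_lit 3), (nat_lit 4), (nat_lit 5)],
  [(nat_lit 1), (nat_lit 2), (nat_lit 4), (nat_lit 5)],
  [(nat_lit 0), (nat_lit 7), (nat_lit 5)],
  [(nat_lit 0), (nat_lit 2), (nat_lit 3), (nat_lit 7), (nat_lit 5)],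
  [(nat_lit 0), (nat_lit 1), (nat_lit 3), (nat_lit 6), (nat_lit 5), (nat_lit 7)],
  [(nat_lit 0), (nat_lit 1), (nat_lit 2), (nat_lit 6), (nat_lit 5), (nat_lit 7)],
  [(nat_lit 2), (nat_lit 3), (nat_lit 6), (nat_lit 5), (nat_lit 6)],
  [(nat_lit 6), (nat_lit 5), (nat_lit 6)],
  [(nat_lit 2), (nat_lit 3), (nat_lit 6), (nat_lit 5)],
  [(nat_lit 0), (nat_lit 1), (nat_lit 2), (nat_lit 7), (nat_lit 5), (nat_lit 6)],
  [(nat_lit 6), (nat_lit 5)],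
  [(nat_lit 0), (nat_lit 1), (nat_lit 3), (nat_lit 7), (nat_lit 5), (nat_lit 6)],
  [(nat_lit 1), (nat_lit 2), (nat_lit 6), (nat_lit 5)],
  [(nat_lit 0), (nat_lit 2), (nat_lit 3), (nat_lit 7), (nat_lit 5), (nat_lit 6)],
  [(nat_lit 1), (nat_lit 3), (nat_lit 6), (nat_lit 5)],
  [(nat_lit 0), (nat_lit 7), (nat_lit 5), (nat_lit 6)],
  [(nat_lit 2), (nat_lit 5), (nat_lit 7)],
  [(nat_lit 3), (nat_lit 5), (nat_lit 7)],
  [(nat_lit 0), (nat_lit 1), (nat_lit 2), (nat_lit 3), (nat_lit 5)],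
  [(nat_lit 0), (nat_lit 1), (nat_lit 5)],
  [(nat_lit 1), (nat_lit 2), (nat_lit 3), (nat_lit 5), (nat_lit 7)],
  [(nat_lit 1), (nat_lit 5), (nat_lit 7)],
  [(nat_lit 0), (nat_lit 2), (nat_lit 5)],
  [(nat_lit 0), (nat_lit 3), (nat_lit 5)],
  [(nat_lit 0), (nat_lit 1), (nat_lit 4), (nat_lit 6)],
  [(nat_lit 0), (nat_lit 1), (nat_lit 2), (nat_lit 3), (nat_lit 4), (nat_lit 6)],
  [(nat_lit 3), (nat_lit 7), (nat_lit 6)],
  [(nat_lit 2), (nat_lit 7), (nat_lit 6)],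
  [(nat_lit 0), (nat_lit 3), (nat_lit 4), (nat_lit 6)],
  [(nat_lit 0), (nat_lit 2), (nat_lit 4), (nat_lit 6)],
  [(nat_lit 1), (nat_lit 7), (nat_lit 6)],
  [(nat_lit 1), (nat_lit 2), (nat_lit 3), (nat_lit 7), (nat_lit 6)],
  [(nat_lit 1), (nat_lit 2), (nat_lit 3), (nat_lit 4), (nat_lit 6), (nat_lit 7)],
  [(nat_lit 1), (nat_lit 4), (nat_lit 6), (nat_lit 7)],
  [(nat_lit 0), (nat_lit 3), (nat_lit 6), (nat_lit 6)],
  [(nat_lit 0), (nat_lit 2), (nat_lit 6), (nat_lit 6)],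
  [(nat_lit 2), (nat_lit 4), (nat_lit 6), (nat_lit 7)],
  [(nat_lit 3), (nat_lit 4), (nat_lit 6), (nat_lit 7)],
  [(nat_lit 0), (nat_lit 1), (nat_lit 6), (nat_lit 6)],
  [(nat_lit 0), (nat_lit 1), (nat_lit 2), (nat_lit 3), (nat_lit 6), (nat_lit 6)],
  [(nat_lit 0), (nat_lit 3), (nat_lit 4), (nat_lit 5)],
  [(nat_lit 0), (nat_lit 2), (nat_lit 4), (nat_lit 5)],
  [(nat_lit 1), (nat_lit 7), (nat_lit 5)],
  [(nat_lit 1), (nat_lit 2), (nat_lit 3), (nat_lit 7), (nat_lit 5)],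
  [(nat_lit 3), (nat_lit 6), (nat_lit 5), (nat_lit 7)],
  [(nat_lit 2), (nat_lit 6), (nat_lit 5), (nat_lit 7)],
  [(nat_lit 0), (nat_lit 1), (nat_lit 2), (nat_lit 3), (nat_lit 6), (nat_lit 5), (nat_lit 6)],
  [(nat_lit 0), (nat_lit 1), (nat_lit 6), (nat_lit 5), (nat_lit 6)],
  [(nat_lit 0), (nat_lit 1), (nat_lit 4), (nat_lit 5)],
  [(nat_lit 0), (nat_lit 1), (nat_lit 2), (nat_lit 3), (nat_lit 4), (nat_lit 5)],
  [(nat_lit 3), (nat_lit 7), (nat_lit 5)],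
  [(nat_lit 2), (nat_lit 7), (nat_lit 5)],
  [(nat_lit 1), (nat_lit 6), (nat_lit 5), (nat_lit 7)],
  [(nat_lit 1), (nat_lit 2), (nat_lit 3), (nat_lit 6), (nat_lit 5), (nat_lit 7)],
  [(nat_lit 0), (nat_lit 2), (nat_lit 6), (nat_lit 5), (nat_lit 6)],
  [(nat_lit 0), (nat_lit 3), (nat_lit 6), (nat_lit 5), (nat_lit 6)],
  [(nat_lit 0), (nat_lit 2), (nat_lit 6), (nat_lit 5)],
  [(nat_lit 1), (nat_lit 2), (nat_lit 3), (nat_lit 7), (nat_lit 5), (nat_lit 6)],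
  [(nat_lit 0), (nat_lit 3), (nat_lit 6), (nat_lit 5)],
  [(nat_lit 1), (nat_lit 7), (nat_lit 5), (nat_lit 6)],
  [(nat_lit 0), (nat_lit 1), (nat_lit 2), (nat_lit 3), (nat_lit 6), (nat_lit 5)],
  [(nat_lit 2), (nat_lit 7), (nat_lit 5), (nat_lit 6)],
  [(nat_lit 0), (nat_lit 1), (nat_lit 6), (nat_lit 5)],
  [(nat_lit 3), (nat_lit 7), (nat_lit 5), (nat_lit 6)],
  [(nat_lit 1), (nat_lit 2), (nat_lit 5), (nat_lit 6), (nat_lit 6)],
  [(nat_lit 1), (nat_lit 3), (nat_lit 5), (nat_lit 6), (nat_lit 6)],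
  [(nat_lit 0), (nat_lit 5), (nat_lit 6), (nat_lit 7)],
  [(nat_lit 0), (nat_lit 2), (nat_lit 3), (nat_lit 5), (nat_lit 6), (nat_lit 7)],
  [(nat_lit 0), (nat_lit 1), (nat_lit 2), (nat_lit 4), (nat_lit 7), (nat_lit 6)],
  [(nat_lit 0), (nat_lit 1), (nat_lit 3), (nat_lit 4), (nat_lit 7), (nat_lit 6)],
  [(nat_lit 2), (nat_lit 3), (nat_lit 6)],
  [(nat_lit 6)],
  [(nat_lit 2), (nat_lit 3), (nat_lit 5), (nat_lit 6), (nat_lit 6)],
  [(nat_lit 5), (nat_lit 6), (nat_lit 6)],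
  [(nat_lit 0), (nat_lit 1), (nat_lit 3), (nat_lit 5), (nat_lit 6), (nat_lit 7)],
  [(nat_lit 0), (nat_lit 1), (nat_lit 2), (nat_lit 5), (nat_lit 6), (nat_lit 7)],
  [(nat_lit 0), (nat_lit 2), (nat_lit 3), (nat_lit 4), (nat_lit 7), (nat_lit 6)],
  [(nat_lit 0), (nat_lit 4), (nat_lit 7), (nat_lit 6)],
  [(nat_lit 1), (nat_lit 2), (nat_lit 6)],
  [(nat_lit 1), (nat_lit 3), (nat_lit 6)],
  [(nat_lit 4)],
  [(nat_lit 0), (nat_lit 1), (nat_lit 3), (nat_lit 7)],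
  [(nat_lit 2), (nat_lit 3), (nat_lit 4)],
  [(nat_lit 0), (nat_lit 1), (nat_lit 2), (nat_lit 7)],
  [(nat_lit 1), (nat_lit 3), (nat_lit 4)],
  [(nat_lit 0), (nat_lit 7)],
  [(nat_lit 1), (nat_lit 2), (nat_lit 4)],
  [(nat_lit 0), (nat_lit 2), (nat_lit 3), (nat_lit 7)],
  [(nat_lit 0), (nat_lit 2), (nat_lit 3), (nat_lit 5), (nat_lit 7)],
  [(nat_lit 0), (nat_lit 5), (nat_lit 7)],
  [(nat_lit 1), (nat_lit 2), (nat_lit 5)],
  [(nat_lit 1), (nat_lit 3), (nat_lit 5)],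
  [(nat_lit 0), (nat_lit 1), (nat_lit 2), (nat_lit 5), (nat_lit 7)],
  [(nat_lit 0), (nat_lit 1), (nat_lit 3), (nat_lit 5), (nat_lit 7)],
  [(nat_lit 2), (nat_lit 3), (nat_lit 5)],
  [(nat_lit 5)],
  [(nat_lit 1), (nat_lit 3), (nat_lit 4), (nat_lit 6)],
  [(nat_lit 1), (nat_lit 2), (nat_lit 4), (nat_lit 6)],
  [(nat_lit 0), (nat_lit 7), (nat_lit 6)],
  [(nat_lit 0), (nat_lit 2), (nat_lit 3), (nat_lit 7), (nat_lit 6)],
  [(nat_lit 4), (nat_lit 6)],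
  [(nat_lit 2), (nat_lit 3), (nat_lit 4), (nat_lit 6)],
  [(nat_lit 0), (nat_lit 1), (nat_lit 3), (nat_lit 7), (nat_lit 6)],
  [(nat_lit 0), (nat_lit 1), (nat_lit 2), (nat_lit 7), (nat_lit 6)],
  [(nat_lit 0), (nat_lit 1), (nat_lit 2), (nat_lit 4), (nat_lit 6), (nat_lit 7)],
  [(nat_lit 0), (nat_lit 1), (nat_lit 3), (nat_lit 4), (nat_lit 6), (nat_lit 7)],
  [(nat_lit 6), (nat_lit 6)],
  [(nat_lit 2), (nat_lit 3), (nat_lit 6), (nat_lit 6)],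
  [(nat_lit 0), (nat_lit 2), (nat_lit 3), (nat_lit 4), (nat_lit 6), (nat_lit 7)],
  [(nat_lit 0), (nat_lit 4), (nat_lit 6), (nat_lit 7)],
  [(nat_lit 1), (nat_lit 3), (nat_lit 6), (nat_lit 6)],
  [(nat_lit 1), (nat_lit 2), (nat_lit 6), (nat_lit 6)],
  [(nat_lit 0), (nat_lit 1), (nat_lit 2), (nat_lit 3), (nat_lit 5), (nat_lit 6), (nat_lit 6)],
  [(nat_lit 0), (nat_lit 1), (nat_lit 5), (nat_lit 6), (nat_lit 6)],
  [(nat_lit 3), (nat_lit 5), (nat_lit 6), (nat_lit 7)],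
  [(nat_lit 2), (nat_lit 5), (nat_lit 6), (nat_lit 7)],
  [(nat_lit 1), (nat_lit 2), (nat_lit 3), (nat_lit 4), (nat_lit 7), (nat_lit 6)],
  [(nat_lit 1), (nat_lit 4), (nat_lit 7), (nat_lit 6)],
  [(nat_lit 0), (nat_lit 2), (nat_lit 6)],
  [(nat_lit 0), (nat_lit 3), (nat_lit 6)],
  [(nat_lit 0), (nat_lit 2), (nat_lit 5), (nat_lit 6), (nat_lit 6)],
  [(nat_lit 0), (nat_lit 3), (nat_lit 5), (nat_lit 6), (nat_lit 6)],
  [(nat_lit 1), (nat_lit 5), (nat_lit 6), (nat_lit 7)],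
  [(nat_lit 1), (nat_lit 2), (nat_lit 3), (nat_lit 5), (nat_lit 6), (nat_lit 7)],
  [(nat_lit 2), (nat_lit 4), (nat_lit 7), (nat_lit 6)],
  [(nat_lit 3), (nat_lit 4), (nat_lit 7), (nat_lit 6)],
  [(nat_lit 0), (nat_lit 1), (nat_lit 2), (nat_lit 3), (nat_lit 6)],
  [(nat_lit 0), (nat_lit 1), (nat_lit 6)],
  [(nat_lit 0), (nat_lit 3), (nat_lit 4)],
  [(nat_lit 1), (nat_lit 7)],
  [(nat_lit 0), (nat_lit 2), (nat_lit 4)],
  [(nat_lit 1), (nat_lit 2), (nat_lit 3), (nat_lit 7)],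
  [(nat_lit 0), (nat_lit 1), (nat_lit 4)],
  [(nat_lit 3), (nat_lit 7)],
  [(nat_lit 0), (nat_lit 1), (nat_lit 2), (nat_lit 3), (nat_lit 4)],
  [(nat_lit 2), (nat_lit 7)],
  [(nat_lit 3), (nat_lit 5), (nat_lit 7), (nat_lit 6)],
  [(nat_lit 0), (nat_lit 1), (nat_lit 5), (nat_lit 6)],
  [(nat_lit 2), (nat_lit 5), (nat_lit 7), (nat_lit 6)],
  [(nat_lit 0), (nat_lit 1), (nat_lit 2), (nat_lit 3), (nat_lit 5), (nat_lit 6)],
  [(nat_lit 0), (nat_lit 3), (nat_lit 4), (nat_lit 6), (nat_lit 6)],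
  [(nat_lit 0), (nat_lit 2), (nat_lit 4), (nat_lit 6), (nat_lit 6)],
  [(nat_lit 1), (nat_lit 2), (nat_lit 3), (nat_lit 6), (nat_lit 7)],
  [(nat_lit 1), (nat_lit 6), (nat_lit 7)],
  [(nat_lit 1), (nat_lit 5), (nat_lit 7), (nat_lit 6)],
  [(nat_lit 0), (nat_lit 3), (nat_lit 5), (nat_lit 6)],
  [(nat_lit 1), (nat_lit 2), (nat_lit 3), (nat_lit 5), (nat_lit 7), (nat_lit 6)],
  [(nat_lit 0), (nat_lit 2), (nat_lit 5), (nat_lit 6)],
  [(nat_lit 2), (nat_lit 4), (nat_lit 7)],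
  [(nat_lit 0), (nat_lit 1), (nat_lit 2), (nat_lit 3)],
  [(nat_lit 3), (nat_lit 4), (nat_lit 7)],
  [(nat_lit 0), (nat_lit 1)],
  [(nat_lit 0), (nat_lit 1), (nat_lit 4), (nat_lit 6), (nat_lit 6)],
  [(nat_lit 0), (nat_lit 1), (nat_lit 2), (nat_lit 3), (nat_lit 4), (nat_lit 6), (nat_lit 6)],
  [(nat_lit 2), (nat_lit 6), (nat_lit 7)],
  [(nat_lit 3), (nat_lit 6), (nat_lit 7)],
  [(nat_lit 1), (nat_lit 2), (nat_lit 3), (nat_lit 4), (nat_lit 7)],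
  [(nat_lit 0), (nat_lit 2)],
  [(nat_lit 1), (nat_lit 4), (nat_lit 7)],
  [(nat_lit 0), (nat_lit 3)],
  [(nat_lit 0), (nat_lit 5), (nat_lit 7), (nat_lit 6)],
  [(nat_lit 1), (nat_lit 3), (nat_lit 5), (nat_lit 6)],
  [(nat_lit 0), (nat_lit 2), (nat_lit 3), (nat_lit 5), (nat_lit 7), (nat_lit 6)],
  [(nat_lit 1), (nat_lit 2), (nat_lit 5), (nat_lit 6)],
  [(nat_lit 4), (nat_lit 6), (nat_lit 6)],
  [(nat_lit 2), (nat_lit 3), (nat_lit 4), (nat_lit 6), (nat_lit 6)],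
  [(nat_lit 0), (nat_lit 1), (nat_lit 2), (nat_lit 6), (nat_lit 7)],
  [(nat_lit 0), (nat_lit 1), (nat_lit 3), (nat_lit 6), (nat_lit 7)],
  [(nat_lit 0), (nat_lit 1), (nat_lit 3), (nat_lit 5), (nat_lit 7), (nat_lit 6)],
  [(nat_lit 5), (nat_lit 6)],
  [(nat_lit 0), (nat_lit 1), (nat_lit 2), (nat_lit 5), (nat_lit 7), (nat_lit 6)],
  [(nat_lit 2), (nat_lit 3), (nat_lit 5), (nat_lit 6)],
  [(nat_lit 0), (nat_lit 2), (nat_lit 3), (nat_lit 4), (nat_lit 7)],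
  [(nat_lit 1), (nat_lit 2)],
  [(nat_lit 0), (nat_lit 4), (nat_lit 7)],
  [(nat_lit 1), (nat_lit 3)],
  [(nat_lit 1), (nat_lit 3), (nat_lit 4), (nat_lit 6), (nat_lit 6)],
  [(nat_lit 1), (nat_lit 2), (nat_lit 4), (nat_lit 6), (nat_lit 6)],
  [(nat_lit 0), (nat_lit 2), (nat_lit 3), (nat_lit 6), (nat_lit 7)],
  [(nat_lit 0), (nat_lit 6), (nat_lit 7)],
  [(nat_lit 0), (nat_lit 1), (nat_lit 2), (nat_lit 4), (nat_lit 7)],
  [(nat_lit 2), (nat_lit 3)],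
  [(nat_lit 0), (nat_lit 1), (nat_lit 3), (nat_lit 4), (nat_lit 7)],
  []]
noncomputable def AN_lS1_h (c : ℕ) : ℕ := Nat.mod c (nat_lit 44173)
noncomputable def AN_lS1_T0 : ST := (.node (nat_lit 0xf7f57b671ddf1ac82a8e9be4b8d4c3490472a020) (.node (nat_lit 0xf7f16be75cdf54b9b5d4846ac7c843224c741420) (.node (nat_lit 0xf7efab671cdf5538369163eab748434a0c729020) (.node (nat_lit 0xf7ed8ddf3dd716d9c1d5545ec950c8194443a420) (.node (nat_lit 0xf7ed8cf37aede11aad537369263d06394821a420) (.node (nat_lit 0xf7ed8bf75be65ae7a96c8c2549d462214e642420) (.node (nat_lit 0xf7ed8bef5ccf5ab62a3483a537d447214c342420) (.leaf (nat_lit 0xf7ed8be75ddf1b09a9cf5c64ca54c32144742420)) (.node (nat_lit 0xf7ed8bf359eedb1a2a1372e4f654e62146242420) (.leaf (nat_lit 0xf7ed8bef5ccf5ab62a3483a537d447214c342420)) (.leaf (nat_lit 0xf7ed8bf359eedb1a2a1372e4f654e62146242420)))) (.node (nat_lit 0xf7ed8cdf7cd760d62e3553a9393c48394c41a420)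 (.leaf (nat_lit 0xf7ed8bf75be65ae7a96c8c2549d462214e642420)) (.node (nat_lit 0xf7ed8ceb7dbf20a9add26c68cabcc4394481a420) (.leaf (nat_lit 0xf7ed8cdf7cd760d62e3553a9393c48394c41a420)) (.leaf (nat_lit 0xf7ed8ceb7dbf20a9add26c68cabcc4394481a420))))) (.node (nat_lit 0xf7ed8d6efdcf14b9b5d4846ac7c8c74144322420) (.node (nat_lit 0xf7ed8cf777e6a0e92dac8aa959bc82395061a420) (.leaf (nat_lit 0xf7ed8cf37aede11aad537369263d06394821a420)) (.node (nat_lit 0xf7ed8d66fcdf5506362f5bab3a4843414c722420) (.leaf (nat_lit 0xf7ed8cf777e6a0e92dac8aa959bc82395061a420)) (.leaf (nat_lit 0xf7ed8d66fcdf5506362f5bab3a4843414c722420)))) (.node (nat_lit 0xf7ed8d72fbee5517b573742b464866414e222420) (.leaf (nat_lit 0xf7ed8d6efdcf14b9b5d4846ac7c8c74144322420)) (.node (nat_lit 0xf7ed8d76f9e6d4ea360c8aeaf9c8e24146622420) (.leaf (nat_lit 0xf7ed8d72fbee5517b573742b464866414e222420)) (.leaf (nat_lit 0xf7ed8d76f9e6d4ea360c8aeaf9c8e24146622420))))))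 (.node (nat_lit 0xf7ed8e6bb9bee2aa3a126ad8facce41146832420) (.node (nat_lit 0xf7ed8df73ae5d6eac14c8b5f29d102194863a420) (.node (nat_lit 0xf7ed8deb3cbf56a642326b9f3ad044194c83a420) (.leaf (nat_lit 0xf7ed8ddf3dd716d9c1d5545ec950c8194443a420)) (.node (nat_lit 0xf7ed8df337ee971941b3729f565086195023a420) (.leaf (nat_lit 0xf7ed8deb3cbf56a642326b9f3ad044194c83a420)) (.leaf (nat_lit 0xf7ed8df337ee971941b3729f565086195023a420)))) (.node (nat_lit 0xf7ed8e5fbbd662d7b9755419494c68114e432420) (.leaf (nat_lit 0xf7ed8df73ae5d6eac14c8b5f29d102194863a420)) (.node (nat_lit 0xf7ed8e67b7dea30939af5a995a4c831150732420) (.leaf (nat_lit 0xf7ed8e5fbbd662d7b9755419494c68114e432420)) (.leaf (nat_lit 0xf7ed8e67b7dea30939af5a995a4c831150732420))))) (.node (nat_lit 0xf7ed8ee79adddd0ac54f5b672a31033148712420) (.node (nat_lit 0xf7ed8e6fbacde2bab954835927cd071148332420) (.leaf (nat_lit 0xf7ed8e6bb9bee2aa3a126ad8facce41146832420))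 (.node (nat_lit 0xf7ed8edf99d6dcda461552e6f930e83146412420) (.leaf (nat_lit 0xf7ed8e6fbacde2bab954835927cd071148332420)) (.leaf (nat_lit 0xf7ed8edf99d6dcda461552e6f930e83146412420)))) (.node (nat_lit 0xf7ed8eeb9bbe5ca7c5726c274ab064314e812420) (.leaf (nat_lit 0xf7ed8ee79adddd0ac54f5b672a31033148712420)) (.node (nat_lit 0xf7ed8eef97ce9cb945b482a757b0873150312420) (.leaf (nat_lit 0xf7ed8eeb9bbe5ca7c5726c274ab064314e812420)) (.leaf (nat_lit 0xf7ed8eef97ce9cb945b482a757b0873150312420))))))) (.node (nat_lit 0xf7efaddb3cc758a84e926be2bab8451a0c939020) (.node (nat_lit 0xf7efac72d9eedb472a6b7b251854e62a06249020) (.node (nat_lit 0xf7efab7719e6d4f73670a32b15c8e24a06629020) (.node (nat_lit 0xf7efab6f1dcf14c5b5ee9d2b08c8c74a04329020) (.leaf (nat_lit 0xf7efab671cdf5538369163eab748434a0c729020)) (.node (nat_lit 0xf7efab731bee5548b58b7ceae848664a0e229020) (.leaf (nat_lit 0xf7efab6f1dcf14c5b5ee9d2b08c8c74a04329020))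 (.leaf (nat_lit 0xf7efab731bee5548b58b7ceae848664a0e229020)))) (.node (nat_lit 0xf7efac66dddf1b35a9f165250754c32a04749020) (.leaf (nat_lit 0xf7efab7719e6d4f73670a32b15c8e24a06629020)) (.node (nat_lit 0xf7efac6edccf5ac82a8e9be4b8d4472a0c349020) (.leaf (nat_lit 0xf7efac66dddf1b35a9f165250754c32a04749020)) (.leaf (nat_lit 0xf7efac6edccf5ac82a8e9be4b8d4472a0c349020))))) (.node (nat_lit 0xf7eface37cb766d8329553dcb944493a0c519020) (.node (nat_lit 0xf7efac76dbe65af8a990a4e4e5d4622a0e649020) (.leaf (nat_lit 0xf7efac72d9eedb472a6b7b251854e62a06249020)) (.node (nat_lit 0xf7efacdb7dc726a5b1f26d1d0ac4c53a04919020) (.leaf (nat_lit 0xf7efac76dbe65af8a990a4e4e5d4622a0e649020)) (.leaf (nat_lit 0xf7efacdb7dc726a5b1f26d1d0ac4c53a04919020)))) (.node (nat_lit 0xf7efacf376ee274ab14b7b5d2845263a0a219020) (.leaf (nat_lit 0xf7eface37cb766d8329553dcb944493a0c519020)) (.node (nat_lit 0xf7efacf778e5a6f931b0a29d55c4a23a12619020)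 (.leaf (nat_lit 0xf7efacf376ee274ab14b7b5d2845263a0a219020)) (.leaf (nat_lit 0xf7efacf778e5a6f931b0a29d55c4a23a12619020)))))) (.node (nat_lit 0xf7efae67b8dda9393db162a1572ca31212731020) (.node (nat_lit 0xf7efadf736e618facd50a36325b9221a0a639020) (.node (nat_lit 0xf7efade33db718d5cdf555230938c91a04539020) (.leaf (nat_lit 0xf7efaddb3cc758a84e926be2bab8451a0c939020)) (.node (nat_lit 0xf7efadf338ed99494dab7aa35838a61a12239020) (.leaf (nat_lit 0xf7efade33db718d5cdf555230938c91a04539020)) (.leaf (nat_lit 0xf7efadf338ed99494dab7aa35838a61a12239020)))) (.node (nat_lit 0xf7efae5bb9c6e8a73e726b211aace51206931020) (.leaf (nat_lit 0xf7efadf736e618facd50a36325b9221a0a639020)) (.node (nat_lit 0xf7efae63bbb668d8bd9554e0e92c69120e531020) (.leaf (nat_lit 0xf7efae5bb9c6e8a73e726b211aace51206931020)) (.leaf (nat_lit 0xf7efae63bbb668d8bd9554e0e92c69120e531020))))) (.node (nat_lit 0xf7efaee399b6ded7527553171940e93206511020)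 (.node (nat_lit 0xf7efae6fb6ce28cabd4e9b6128ad27120a331020) (.leaf (nat_lit 0xf7efae67b8dda9393db162a1572ca31212731020)) (.node (nat_lit 0xf7efaedb9bc65ea8d1926cd6eac065320e911020) (.leaf (nat_lit 0xf7efae6fb6ce28cabd4e9b6128ad27120a331020)) (.leaf (nat_lit 0xf7efaedb9bc65ea8d1926cd6eac065320e911020)))) (.node (nat_lit 0xf7efaee796de1f3ad1516357274123320a711020) (.leaf (nat_lit 0xf7efaee399b6ded7527553171940e93206511020)) (.node (nat_lit 0xf7efaeef98cd9ec951ae9a9758c0a73212311020) (.leaf (nat_lit 0xf7efaee796de1f3ad1516357274123320a711020)) (.leaf (nat_lit 0xf7efaeef98cd9ec951ae9a9758c0a73212311020)))))))) (.node (nat_lit 0xf7f3bb5f1dd716c6c24e9d5ea8d0c848c4429c20) (.node (nat_lit 0xf7f16ddf3cd760a9add26c68cabc481a4c439420) (.node (nat_lit 0xf7f16cf377ee96eac14c8b5f29d0863a50219420) (.node (nat_lit 0xf7f16bf759e6d517b573742b4648e22246641420) (.node (nat_lit 0xf7f16bef5dcf1506362f5bab3a48c72244341420)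 (.leaf (nat_lit 0xf7f16be75cdf54b9b5d4846ac7c843224c741420)) (.node (nat_lit 0xf7f16bf35bee54ea360c8aeaf9c866224e241420) (.leaf (nat_lit 0xf7f16bef5dcf1506362f5bab3a48c72244341420)) (.leaf (nat_lit 0xf7f16bf35bee54ea360c8aeaf9c866224e241420)))) (.node (nat_lit 0xf7f16cdf7dd716a642326b9f3ad0c83a44419420) (.leaf (nat_lit 0xf7f16bf759e6d517b573742b4648e22246641420)) (.node (nat_lit 0xf7f16ceb7cbf56d9c1d5545ec950443a4c819420) (.leaf (nat_lit 0xf7f16cdf7dd716a642326b9f3ad0c83a44419420)) (.leaf (nat_lit 0xf7f16ceb7cbf56d9c1d5545ec950443a4c819420))))) (.node (nat_lit 0xf7f16d6efccf5b09a9cf5c64ca5447424c321420) (.node (nat_lit 0xf7f16cf77ae5d71941b3729f5651023a48619420) (.leaf (nat_lit 0xf7f16cf377ee96eac14c8b5f29d0863a50219420)) (.node (nat_lit 0xf7f16d66fddf1ab62a3483a537d4c34244721420) (.leaf (nat_lit 0xf7f16cf77ae5d71941b3729f5651023a48619420)) (.leaf (nat_lit 0xf7f16d66fddf1ab62a3483a537d4c34244721420))))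 (.node (nat_lit 0xf7f16d72f9eedae7a96c8c2549d4e64246221420) (.leaf (nat_lit 0xf7f16d6efccf5b09a9cf5c64ca5447424c321420)) (.node (nat_lit 0xf7f16d76fbe65b1a2a1372e4f65462424e621420) (.leaf (nat_lit 0xf7f16d72f9eedae7a96c8c2549d4e64246221420)) (.leaf (nat_lit 0xf7f16d76fbe65b1a2a1372e4f65462424e621420)))))) (.node (nat_lit 0xf7f16e6bbbbe5cda461552e6f93064124e831420) (.node (nat_lit 0xf7f16df737e6a11aad537369263c821a50639420) (.node (nat_lit 0xf7f16deb3dbf20d62e3553a9393cc41a44839420) (.leaf (nat_lit 0xf7f16ddf3cd760a9add26c68cabc481a4c439420)) (.node (nat_lit 0xf7f16df33aede0e92dac8aa959bd061a48239420) (.leaf (nat_lit 0xf7f16deb3dbf20d62e3553a9393cc41a44839420)) (.leaf (nat_lit 0xf7f16df33aede0e92dac8aa959bd061a48239420)))) (.node (nat_lit 0xf7f16e5fb9d6dca7c5726c274ab0e81246431420) (.leaf (nat_lit 0xf7f16df737e6a11aad537369263c821a50639420)) (.node (nat_lit 0xf7f16e67badddcb945b482a757b1031248731420)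 (.leaf (nat_lit 0xf7f16e5fb9d6dca7c5726c274ab0e81246431420)) (.leaf (nat_lit 0xf7f16e67badddcb945b482a757b1031248731420))))) (.node (nat_lit 0xf7f16ee797dea2bab954835927cc833250711420) (.node (nat_lit 0xf7f16e6fb7ce9d0ac54f5b672a30871250331420) (.leaf (nat_lit 0xf7f16e6bbbbe5cda461552e6f93064124e831420)) (.node (nat_lit 0xf7f16edf9bd662aa3a126ad8facc68324e411420) (.leaf (nat_lit 0xf7f16e6fb7ce9d0ac54f5b672a30871250331420)) (.leaf (nat_lit 0xf7f16edf9bd662aa3a126ad8facc68324e411420)))) (.node (nat_lit 0xf7f16eeb99bee2d7b9755419494ce43246811420) (.leaf (nat_lit 0xf7f16ee797dea2bab954835927cc833250711420)) (.node (nat_lit 0xf7f16eef9acde30939af5a995a4d073248311420) (.leaf (nat_lit 0xf7f16eeb99bee2d7b9755419494ce43246811420)) (.leaf (nat_lit 0xf7f16eef9acde30939af5a995a4d073248311420))))))) (.node (nat_lit 0xf7f3bd5afdc726b6b254855ca7c4c540c4921c20) (.node (nat_lit 0xf7f3bbf358ed995a4e0d92e2f538a620d2241c20)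 (.node (nat_lit 0xf7f3bb771ae5d727426aab1f16d10248c8629c20) (.node (nat_lit 0xf7f3bb6b1cbf573542b1649ed7504448cc829c20) (.leaf (nat_lit 0xf7f3bb5f1dd716c6c24e9d5ea8d0c848c4429c20)) (.node (nat_lit 0xf7f3bb7317ee9758c18d94dee5508648d0229c20) (.leaf (nat_lit 0xf7f3bb6b1cbf573542b1649ed7504448cc829c20)) (.leaf (nat_lit 0xf7f3bb7317ee9758c18d94dee5508648d0229c20)))) (.node (nat_lit 0xf7f3bbdb5cc758b54eb484a2d7b84520cc941c20) (.leaf (nat_lit 0xf7f3bb771ae5d727426aab1f16d10248c8629c20)) (.node (nat_lit 0xf7f3bbe35db71906ce4f5d62aa38c920c4541c20) (.leaf (nat_lit 0xf7f3bbdb5cc758b54eb484a2d7b84520cc941c20)) (.leaf (nat_lit 0xf7f3bbe35db71906ce4f5d62aa38c920c4541c20))))) (.node (nat_lit 0xf7f3bc6addbf2136ae516568a73cc428c4849c20) (.node (nat_lit 0xf7f3bbf756e61927cd6aac2346b92220ca641c20) (.leaf (nat_lit 0xf7f3bbf358ed995a4e0d92e2f538a620d2241c20)) (.node (nat_lit 0xf7f3bc5edcd760c52eae9ca8d8bc4828cc449c20)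 (.leaf (nat_lit 0xf7f3bbf756e61927cd6aac2346b92220ca641c20)) (.leaf (nat_lit 0xf7f3bc5edcd760c52eae9ca8d8bc4828cc449c20)))) (.node (nat_lit 0xf7f3bc72daede1572e6d9329153d0628c8249c20) (.leaf (nat_lit 0xf7f3bc6addbf2136ae516568a73cc428c4849c20)) (.node (nat_lit 0xf7f3bc76d7e6a128ad8aace8e6bc8228d0649c20) (.leaf (nat_lit 0xf7f3bc72daede1572e6d9329153d0628c8249c20)) (.leaf (nat_lit 0xf7f3bc76d7e6a128ad8aace8e6bc8228d0649c20)))))) (.node (nat_lit 0xf7f3be63b7b6ab08c98f5cd4ea348910d0531c20) (.node (nat_lit 0xf7f3bd76f8e5a72a320aaadcf6c4a240d2621c20) (.node (nat_lit 0xf7f3bd62fcb7670532af5c9cda444940cc521c20) (.leaf (nat_lit 0xf7f3bd5afdc726b6b254855ca7c4c540c4921c20)) (.node (nat_lit 0xf7f3bd72f6ee2757b16d941d45452640ca221c20) (.leaf (nat_lit 0xf7f3bd62fcb7670532af5c9cda444940cc521c20)) (.leaf (nat_lit 0xf7f3bd72f6ee2757b16d941d45452640ca221c20)))) (.node (nat_lit 0xf7f3be5bbac5eab74a74831517b50510c8931c20)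 (.leaf (nat_lit 0xf7f3bd76f8e5a72a320aaadcf6c4a240d2621c20)) (.node (nat_lit 0xf7f3be5fb6d62ac7c96e9c1548b52810ca431c20) (.leaf (nat_lit 0xf7f3be5bbac5eab74a74831517b50510c8931c20)) (.leaf (nat_lit 0xf7f3be5fb6d62ac7c96e9c1548b52810ca431c20))))) (.node (nat_lit 0xf7f3bedf98d5a4ca560e9adaf8a8a830d2411c20) (.node (nat_lit 0xf7f3be6bb8bdab3a4a1162d4f734a410d2831c20) (.leaf (nat_lit 0xf7f3be63b7b6ab08c98f5cd4ea348910d0531c20)) (.node (nat_lit 0xf7f3bedb97c6a4b8d59484dae7a88530d0911c20) (.leaf (nat_lit 0xf7f3be6bb8bdab3a4a1162d4f734a410d2831c20)) (.leaf (nat_lit 0xf7f3bedb97c6a4b8d59484dae7a88530d0911c20)))) (.node (nat_lit 0xf7f3bee39ab5e507566f5b1b1a290930c8511c20) (.leaf (nat_lit 0xf7f3bedf98d5a4ca560e9adaf8a8a830d2411c20)) (.node (nat_lit 0xf7f3beeb96be2537d571641b47292430ca811c20) (.leaf (nat_lit 0xf7f3bee39ab5e507566f5b1b1a290930c8511c20)) (.leaf (nat_lit 0xf7f3beeb96be2537d571641b47292430ca811c20)))))))))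 (.node (nat_lit 0xf7f9db5f19d6dcf6c650a566a5b0e84986428820) (.node (nat_lit 0xf7f79b5f1cd76136ae516568a73c4849cc428c20) (.node (nat_lit 0xf7f57ddb3dc726d8329553dcb944c5190493a020) (.node (nat_lit 0xf7f57c72dbee54f73670a32b15c866290e24a020) (.node (nat_lit 0xf7f57b771be65b472a6b7b25185462490e62a020) (.node (nat_lit 0xf7f57b6f1ccf5b35a9f16525075447490c32a020) (.leaf (nat_lit 0xf7f57b671ddf1ac82a8e9be4b8d4c3490472a020)) (.node (nat_lit 0xf7f57b7319eedaf8a990a4e4e5d4e6490622a020) (.leaf (nat_lit 0xf7f57b6f1ccf5b35a9f16525075447490c32a020)) (.leaf (nat_lit 0xf7f57b7319eedaf8a990a4e4e5d4e6490622a020)))) (.node (nat_lit 0xf7f57c66dcdf54c5b5ee9d2b08c843290c74a020) (.leaf (nat_lit 0xf7f57b771be65b472a6b7b25185462490e62a020)) (.node (nat_lit 0xf7f57c6eddcf1538369163eab748c7290434a020) (.leaf (nat_lit 0xf7f57c66dcdf54c5b5ee9d2b08c843290c74a020)) (.leaf (nat_lit 0xf7f57c6eddcf1538369163eab748c7290434a020)))))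 (.node (nat_lit 0xf7f57ce37db718a84e926be2bab8c9390451a020) (.node (nat_lit 0xf7f57c76d9e6d548b58b7ceae848e2290664a020) (.leaf (nat_lit 0xf7f57c72dbee54f73670a32b15c866290e24a020)) (.node (nat_lit 0xf7f57cdb7cc758d5cdf55523093845390c91a020) (.leaf (nat_lit 0xf7f57c76d9e6d548b58b7ceae848e2290664a020)) (.leaf (nat_lit 0xf7f57cdb7cc758d5cdf55523093845390c91a020)))) (.node (nat_lit 0xf7f57cf378ed98facd50a36325b8a6391221a020) (.leaf (nat_lit 0xf7f57ce37db718a84e926be2bab8c9390451a020)) (.node (nat_lit 0xf7f57cf776e619494dab7aa3583922390a61a020) (.leaf (nat_lit 0xf7f57cf378ed98facd50a36325b8a6391221a020)) (.leaf (nat_lit 0xf7f57cf776e619494dab7aa3583922390a61a020)))))) (.node (nat_lit 0xf7f57e67b6de1ec951ae9a9758c123110a732020) (.node (nat_lit 0xf7f57df738e5a74ab14b7b5d2844a2191263a020) (.node (nat_lit 0xf7f57de33cb766a5b1f26d1d0ac449190c53a020) (.leaf (nat_lit 0xf7f57ddb3dc726d8329553dcb944c5190493a020))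 (.node (nat_lit 0xf7f57df336ee26f931b0a29d55c526190a23a020) (.leaf (nat_lit 0xf7f57de33cb766a5b1f26d1d0ac449190c53a020)) (.leaf (nat_lit 0xf7f57df336ee26f931b0a29d55c526190a23a020)))) (.node (nat_lit 0xf7f57e5bbbc65ed752755317194065110e932020) (.leaf (nat_lit 0xf7f57df738e5a74ab14b7b5d2844a2191263a020)) (.node (nat_lit 0xf7f57e63b9b6dea8d1926cd6eac0e91106532020) (.leaf (nat_lit 0xf7f57e5bbbc65ed752755317194065110e932020)) (.leaf (nat_lit 0xf7f57e63b9b6dea8d1926cd6eac0e91106532020))))) (.node (nat_lit 0xf7f57ee39bb668a73e726b211aac69310e512020) (.node (nat_lit 0xf7f57e6fb8cd9f3ad15163572740a71112332020) (.leaf (nat_lit 0xf7f57e67b6de1ec951ae9a9758c123110a732020)) (.node (nat_lit 0xf7f57edb99c6e8d8bd9554e0e92ce53106912020) (.leaf (nat_lit 0xf7f57e6fb8cd9f3ad15163572740a71112332020)) (.leaf (nat_lit 0xf7f57edb99c6e8d8bd9554e0e92ce53106912020)))) (.node (nat_lit 0xf7f57ee798dda8cabd4e9b6128aca33112712020)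 (.leaf (nat_lit 0xf7f57ee39bb668a73e726b211aac69310e512020)) (.node (nat_lit 0xf7f57eef96ce29393db162a1572d27310a312020) (.leaf (nat_lit 0xf7f57ee798dda8cabd4e9b6128aca33112712020)) (.leaf (nat_lit 0xf7f57eef96ce29393db162a1572d27310a312020))))))) (.node (nat_lit 0xf7f79d5afcc75906ce4f5d62aa384541cc920c20) (.node (nat_lit 0xf7f79bf356ee272a320aaadcf6c52621ca240c20) (.node (nat_lit 0xf7f79b7717e6a1572e6d9329153c8249d0628c20) (.node (nat_lit 0xf7f79b6b1dbf20c52eae9ca8d8bcc449c4828c20) (.leaf (nat_lit 0xf7f79b5f1cd76136ae516568a73c4849cc428c20)) (.node (nat_lit 0xf7f79b731aede128ad8aace8e6bd0649c8228c20) (.leaf (nat_lit 0xf7f79b6b1dbf20c52eae9ca8d8bcc449c4828c20)) (.leaf (nat_lit 0xf7f79b731aede128ad8aace8e6bd0649c8228c20)))) (.node (nat_lit 0xf7f79bdb5dc7270532af5c9cda44c521c4940c20) (.leaf (nat_lit 0xf7f79b7717e6a1572e6d9329153c8249d0628c20)) (.node (nat_lit 0xf7f79be35cb766b6b254855ca7c44921cc540c20)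 (.leaf (nat_lit 0xf7f79bdb5dc7270532af5c9cda44c521c4940c20)) (.leaf (nat_lit 0xf7f79be35cb766b6b254855ca7c44921cc540c20))))) (.node (nat_lit 0xf7f79c6adcbf56c6c24e9d5ea8d04429cc848c20) (.node (nat_lit 0xf7f79bf758e5a757b16d941d4544a221d2640c20) (.leaf (nat_lit 0xf7f79bf356ee272a320aaadcf6c52621ca240c20)) (.node (nat_lit 0xf7f79c5eddd7173542b1649ed750c829c4448c20) (.leaf (nat_lit 0xf7f79bf758e5a757b16d941d4544a221d2640c20)) (.leaf (nat_lit 0xf7f79c5eddd7173542b1649ed750c829c4448c20)))) (.node (nat_lit 0xf7f79c72d7ee9727426aab1f16d08629d0248c20) (.leaf (nat_lit 0xf7f79c6adcbf56c6c24e9d5ea8d04429cc848c20)) (.node (nat_lit 0xf7f79c76dae5d758c18d94dee5510229c8648c20) (.leaf (nat_lit 0xf7f79c72d7ee9727426aab1f16d08629d0248c20)) (.leaf (nat_lit 0xf7f79c76dae5d758c18d94dee5510229c8648c20)))))) (.node (nat_lit 0xf7f79e63bab5e4b8d59484dae7a90911c8530c20) (.node (nat_lit 0xf7f79d76f6e6195a4e0d92e2f5392241ca620c20)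 (.node (nat_lit 0xf7f79d62fdb718b54eb484a2d7b8c941c4520c20) (.leaf (nat_lit 0xf7f79d5afcc75906ce4f5d62aa384541cc920c20)) (.node (nat_lit 0xf7f79d72f8ed9927cd6aac2346b8a641d2220c20) (.leaf (nat_lit 0xf7f79d62fdb718b54eb484a2d7b8c941c4520c20)) (.leaf (nat_lit 0xf7f79d72f8ed9927cd6aac2346b8a641d2220c20)))) (.node (nat_lit 0xf7f79e5bb7c6a507566f5b1b1a288511d0930c20) (.leaf (nat_lit 0xf7f79d76f6e6195a4e0d92e2f5392241ca620c20)) (.node (nat_lit 0xf7f79e5fb8d5a537d571641b4728a811d2430c20) (.leaf (nat_lit 0xf7f79e5bb7c6a507566f5b1b1a288511d0930c20)) (.leaf (nat_lit 0xf7f79e5fb8d5a537d571641b4728a811d2430c20))))) (.node (nat_lit 0xf7f79edf96d62b3a4a1162d4f7352831ca410c20) (.node (nat_lit 0xf7f79e6bb6be24ca560e9adaf8a92411ca830c20) (.leaf (nat_lit 0xf7f79e63bab5e4b8d59484dae7a90911c8530c20)) (.node (nat_lit 0xf7f79edb9ac5eb08c98f5cd4ea350531c8910c20) (.leaf (nat_lit 0xf7f79e6bb6be24ca560e9adaf8a92411ca830c20))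 (.leaf (nat_lit 0xf7f79edb9ac5eb08c98f5cd4ea350531c8910c20)))) (.node (nat_lit 0xf7f79ee397b6aab74a74831517b48931d0510c20) (.leaf (nat_lit 0xf7f79edf96d62b3a4a1162d4f7352831ca410c20)) (.node (nat_lit 0xf7f79eeb98bdaac7c96e9c1548b4a431d2810c20) (.leaf (nat_lit 0xf7f79ee397b6aab74a74831517b48931d0510c20)) (.leaf (nat_lit 0xf7f79eeb98bdaac7c96e9c1548b4a431d2810c20)))))))) (.node (nat_lit 0xf7fbcb5f1bd66346ba4b7d58a84c68488e429820) (.node (nat_lit 0xf7f9dcdb77c6a4e5d5ec8d1b09a8853990918820) (.node (nat_lit 0xf7f9dbe756de1f29d1caac56c6c123218a740820) (.node (nat_lit 0xf7f9db6f17ce9d55c5ed95270530874990328820) (.node (nat_lit 0xf7f9db671adddd28468aabe6b6b1034988728820) (.leaf (nat_lit 0xf7f9db5f19d6dcf6c650a566a5b0e84986428820)) (.node (nat_lit 0xf7f9db6b1bbe5d4546ab7ca6d83064498e828820) (.leaf (nat_lit 0xf7f9db671adddd28468aabe6b6b1034988728820)) (.leaf (nat_lit 0xf7f9db6b1bbe5d4546ab7ca6d83064498e828820))))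 (.node (nat_lit 0xf7f9dbdb5bc65ee552ac8c96d9c065218e940820) (.leaf (nat_lit 0xf7f9db6f17ce9d55c5ed95270530874990328820)) (.node (nat_lit 0xf7f9dbe359b6df16d2537556a640e92186540820) (.leaf (nat_lit 0xf7f9dbdb5bc65ee552ac8c96d9c065218e940820)) (.leaf (nat_lit 0xf7f9dbe359b6df16d2537556a640e92186540820))))) (.node (nat_lit 0xf7f9dc66d7dea325b9eaad1906cc832990748820) (.node (nat_lit 0xf7f9dbef58cd9f56522d93973540a72192340820) (.leaf (nat_lit 0xf7f9dbe756de1f29d1caac56c6c123218a740820)) (.node (nat_lit 0xf7f9dc5edbd662f53ab0a498d5cc68298e448820) (.leaf (nat_lit 0xf7f9dbef58cd9f56522d93973540a72192340820)) (.leaf (nat_lit 0xf7f9dc5edbd662f53ab0a498d5cc68298e448820)))) (.node (nat_lit 0xf7f9dc6ad9bee346ba4b7d58a84ce42986848820) (.leaf (nat_lit 0xf7f9dc66d7dea325b9eaad1906cc832990748820)) (.node (nat_lit 0xf7f9dc6edacde3583a8d93d8b54d072988348820) (.leaf (nat_lit 0xf7f9dc6ad9bee346ba4b7d58a84ce42986848820))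 (.leaf (nat_lit 0xf7f9dc6edacde3583a8d93d8b54d072988348820)))))) (.node (nat_lit 0xf7f9dd66f8dda9263e2aaba136aca34192720820) (.node (nat_lit 0xf7f9dceb76be2549d5cb7c5ac82924398a818820) (.node (nat_lit 0xf7f9dcdf78d5a4f65630a39b35a8a83992418820) (.leaf (nat_lit 0xf7f9dcdb77c6a4e5d5ec8d1b09a8853990918820)) (.node (nat_lit 0xf7f9dce37ab5e518569373dab629093988518820) (.leaf (nat_lit 0xf7f9dcdf78d5a4f65630a39b35a8a83992418820)) (.leaf (nat_lit 0xf7f9dce37ab5e518569373dab629093988518820)))) (.node (nat_lit 0xf7f9dd5af9c6e8e6be4c8d60a9ace54186920820) (.leaf (nat_lit 0xf7f9dceb76be2549d5cb7c5ac82924398a818820)) (.node (nat_lit 0xf7f9dd62fbb669153eb374a0d62c69418e520820) (.leaf (nat_lit 0xf7f9dd5af9c6e8e6be4c8d60a9ace54186920820)) (.leaf (nat_lit 0xf7f9dd62fbb669153eb374a0d62c69418e520820))))) (.node (nat_lit 0xf7f9dddf36d62af9c9d0a454c5b528198a438820) (.node (nat_lit 0xf7f9dd6ef6ce2959bdcd9460c52d27418a320820)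 (.leaf (nat_lit 0xf7f9dd66f8dda9263e2aaba136aca34192720820)) (.node (nat_lit 0xf7f9dddb3ac5eae84a8c8bd4b9b5051988938820) (.leaf (nat_lit 0xf7f9dd6ef6ce2959bdcd9460c52d27418a320820)) (.leaf (nat_lit 0xf7f9dddb3ac5eae84a8c8bd4b9b5051988938820)))) (.node (nat_lit 0xf7f9dde337b6ab15c9f375150634891990538820) (.leaf (nat_lit 0xf7f9dddf36d62af9c9d0a454c5b528198a438820)) (.node (nat_lit 0xf7f9ddeb38bdab464a2b7b953834a41992838820) (.leaf (nat_lit 0xf7f9dde337b6ab15c9f375150634891990538820)) (.leaf (nat_lit 0xf7f9ddeb38bdab464a2b7b953834a41992838820))))))) (.node (nat_lit 0xf7fbccdb7ac5eb15c9f375150635053888919820) (.node (nat_lit 0xf7fbcbe758dda959bdcd9460c52ca32092741820) (.node (nat_lit 0xf7fbcb6f1acde325b9eaad1906cd074888329820) (.node (nat_lit 0xf7fbcb6717dea3583a8d93d8b54c834890729820) (.leaf (nat_lit 0xf7fbcb5f1bd66346ba4b7d58a84c68488e429820)) (.node (nat_lit 0xf7fbcb6b19bee2f53ab0a498d5cce44886829820)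 (.leaf (nat_lit 0xf7fbcb6717dea3583a8d93d8b54c834890729820)) (.leaf (nat_lit 0xf7fbcb6b19bee2f53ab0a498d5cce44886829820)))) (.node (nat_lit 0xf7fbcbdb59c6e9153eb374a0d62ce52086941820) (.leaf (nat_lit 0xf7fbcb6f1acde325b9eaad1906cd074888329820)) (.node (nat_lit 0xf7fbcbe35bb668e6be4c8d60a9ac69208e541820) (.leaf (nat_lit 0xf7fbcbdb59c6e9153eb374a0d62ce52086941820)) (.leaf (nat_lit 0xf7fbcbe35bb668e6be4c8d60a9ac69208e541820))))) (.node (nat_lit 0xf7fbcc66dadddd55c5ed95270531032888749820) (.node (nat_lit 0xf7fbcbef56ce29263e2aaba136ad27208a341820) (.leaf (nat_lit 0xf7fbcbe758dda959bdcd9460c52ca32092741820)) (.node (nat_lit 0xf7fbcc5ed9d6dd4546ab7ca6d830e82886449820) (.leaf (nat_lit 0xf7fbcbef56ce29263e2aaba136ad27208a341820)) (.leaf (nat_lit 0xf7fbcc5ed9d6dd4546ab7ca6d830e82886449820)))) (.node (nat_lit 0xf7fbcc6adbbe5cf6c650a566a5b064288e849820) (.leaf (nat_lit 0xf7fbcc66dadddd55c5ed95270531032888749820))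 (.node (nat_lit 0xf7fbcc6ed7ce9d28468aabe6b6b0872890349820) (.leaf (nat_lit 0xf7fbcc6adbbe5cf6c650a566a5b064288e849820)) (.leaf (nat_lit 0xf7fbcc6ed7ce9d28468aabe6b6b0872890349820)))))) (.node (nat_lit 0xf7fbcd66f6de1f56522d9397354123408a721820) (.node (nat_lit 0xf7fbcceb78bdaaf9c9d0a454c5b4a43892819820) (.node (nat_lit 0xf7fbccdf76d62b464a2b7b95383528388a419820) (.leaf (nat_lit 0xf7fbccdb7ac5eb15c9f375150635053888919820)) (.node (nat_lit 0xf7fbcce377b6aae84a8c8bd4b9b4893890519820) (.leaf (nat_lit 0xf7fbccdf76d62b464a2b7b95383528388a419820)) (.leaf (nat_lit 0xf7fbcce377b6aae84a8c8bd4b9b4893890519820)))) (.node (nat_lit 0xf7fbcd5afbc65f16d2537556a64065408e921820) (.leaf (nat_lit 0xf7fbcceb78bdaaf9c9d0a454c5b4a43892819820)) (.node (nat_lit 0xf7fbcd62f9b6dee552ac8c96d9c0e94086521820) (.leaf (nat_lit 0xf7fbcd5afbc65f16d2537556a64065408e921820)) (.leaf (nat_lit 0xf7fbcd62f9b6dee552ac8c96d9c0e94086521820)))))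 (.node (nat_lit 0xf7fbcddf38d5a549d5cb7c5ac828a81892439820) (.node (nat_lit 0xf7fbcd6ef8cd9f29d1caac56c6c0a74092321820) (.leaf (nat_lit 0xf7fbcd66f6de1f56522d9397354123408a721820)) (.node (nat_lit 0xf7fbcddb37c6a518569373dab628851890939820) (.leaf (nat_lit 0xf7fbcd6ef8cd9f29d1caac56c6c0a74092321820)) (.leaf (nat_lit 0xf7fbcddb37c6a518569373dab628851890939820)))) (.node (nat_lit 0xf7fbcde33ab5e4e5d5ec8d1b09a9091888539820) (.leaf (nat_lit 0xf7fbcddf38d5a549d5cb7c5ac828a81892439820)) (.node (nat_lit 0xf7fbcdeb36be24f65630a39b35a924188a839820) (.leaf (nat_lit 0xf7fbcde33ab5e4e5d5ec8d1b09a9091888539820)) (.leaf (nat_lit 0xf7fbcdeb36be24f65630a39b35a924188a839820))))))))))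
noncomputable def AN_lS1_T1 : ST := (.node (nat_lit 0xffb57b671cdf5535b68e63e508d4c72a04349020) (.node (nat_lit 0xffb16be75ddf1b0629d45c6b37c847414c322420) (.node (nat_lit 0xffafab671ddf1ac5aa919beb074847290c34a020) (.node (nat_lit 0xffad8ddf3cd760a62dd56c5f3950c43a44819420) (.node (nat_lit 0xffad8cf377ee96e941538b69563d021a48639420) (.node (nat_lit 0xffad8bf759e6d51a356c7424f9d466424e221420) (.node (nat_lit 0xffad8bef5dcf1509b6345ba4c7d443424c721420) (.leaf (nat_lit 0xffad8be75cdf54b635cf84653a54c74244321420)) (.node (nat_lit 0xffad8bf35bee54e7b6138ae54654e24246621420) (.leaf (nat_lit 0xffad8bef5dcf1509b6345ba4c7d443424c721420)) (.leaf (nat_lit 0xffad8bf35bee54e7b6138ae54654e24246621420)))) (.node (nat_lit 0xffad8cdf7dd716a9c2356ba8c93c441a4c839420) (.leaf (nat_lit 0xffad8bf759e6d51a356c7424f9d466424e221420)) (.node (nat_lit 0xffad8ceb7cbf56d641d254693abcc81a44439420) (.leaf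 (nat_lit 0xffad8cdf7dd716a9c2356ba8c93c441a4c839420)) (.leaf (nat_lit 0xffad8ceb7cbf56d641d254693abcc81a44439420))))) (.node (nat_lit 0xffad8d6efccf5b0629d45c6b37c8c32244741420) (.node (nat_lit 0xffad8cf77ae5d71ac1ac72a929bc861a50239420) (.leaf (nat_lit 0xffad8cf377ee96e941538b69563d021a48639420)) (.node (nat_lit 0xffad8d66fddf1ab9aa2f83aaca4847224c341420) (.leaf (nat_lit 0xffad8cf77ae5d71ac1ac72a929bc861a50239420)) (.leaf (nat_lit 0xffad8d66fddf1ab9aa2f83aaca4847224c341420)))) (.node (nat_lit 0xffad8d72f9eedaea29738c2af64862224e641420) (.leaf (nat_lit 0xffad8d6efccf5b0629d45c6b37c8c32244741420)) (.node (nat_lit 0xffad8d76fbe65b17aa0c72eb49c8e62246241420) (.leaf (nat_lit 0xffad8d72f9eedaea29738c2af64862224e641420)) (.leaf (nat_lit 0xffad8d76fbe65b17aa0c72eb49c8e62246241420)))))) (.node (nat_lit 0xffad8e6bbbbe5cd7c61252d94acce83246411420) (.node (nat_lit 0xffad8df737e6a1192d4c735f59d1063a48219420)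 (.node (nat_lit 0xffad8deb3dbf20d9ae32539ecad0483a4c419420) (.leaf (nat_lit 0xffad8ddf3cd760a62dd56c5f3950c43a44819420)) (.node (nat_lit 0xffad8df33aede0eaadb38a9f2650823a50619420) (.leaf (nat_lit 0xffad8deb3dbf20d9ae32539ecad0483a4c419420)) (.leaf (nat_lit 0xffad8df33aede0eaadb38a9f2650823a50619420)))) (.node (nat_lit 0xffad8e5fb9d6dcaa45756c18f94c64324e811420) (.leaf (nat_lit 0xffad8df737e6a1192d4c735f59d1063a48219420)) (.node (nat_lit 0xffad8e67badddcbac5af82992a4c873250311420) (.leaf (nat_lit 0xffad8e5fb9d6dcaa45756c18f94c64324e811420)) (.leaf (nat_lit 0xffad8e67badddcbac5af82992a4c873250311420))))) (.node (nat_lit 0xffad8ee797dea2b9394f83675a31071248331420) (.node (nat_lit 0xffad8e6fb7ce9d0945545b5957cd033248711420) (.leaf (nat_lit 0xffad8e6bbbbe5cd7c61252d94acce83246411420)) (.node (nat_lit 0xffad8edf9bd662a7ba156ae74930e41246831420) (.leaf (nat_lit 0xffad8e6fb7ce9d0945545b5957cd033248711420))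 (.leaf (nat_lit 0xffad8edf9bd662a7ba156ae74930e41246831420)))) (.node (nat_lit 0xffad8eeb99bee2da39725426fab068124e431420) (.leaf (nat_lit 0xffad8ee797dea2b9394f83675a31071248331420)) (.node (nat_lit 0xffad8eef9acde30ab9b45aa727b0831250731420) (.leaf (nat_lit 0xffad8eeb99bee2da39725426fab068124e431420)) (.leaf (nat_lit 0xffad8eef9acde30ab9b45aa727b0831250731420))))))) (.node (nat_lit 0xffafaddb3dc726d5b29253e30ab849390c51a020) (.node (nat_lit 0xffafac72dbee54f8b66ba324e854e2490662a020) (.node (nat_lit 0xffafab771be65b48aa707b2ae5c8e6290624a020) (.node (nat_lit 0xffafab6f1ccf5b3829ee652ab8c8c3290474a020) (.leaf (nat_lit 0xffafab671ddf1ac5aa919beb074847290c34a020)) (.node (nat_lit 0xffafab7319eedaf7298ba4eb184862290e64a020) (.leaf (nat_lit 0xffafab6f1ccf5b3829ee652ab8c8c3290474a020)) (.leaf (nat_lit 0xffafab7319eedaf7298ba4eb184862290e64a020)))) (.node (nat_lit 0xffafac66dcdf54c835f19d24b754c7490432a020)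 (.leaf (nat_lit 0xffafab771be65b48aa707b2ae5c8e6290624a020)) (.node (nat_lit 0xffafac6eddcf1535b68e63e508d443490c72a020) (.leaf (nat_lit 0xffafac66dcdf54c835f19d24b754c7490432a020)) (.leaf (nat_lit 0xffafac6eddcf1535b68e63e508d443490c72a020))))) (.node (nat_lit 0xffaface37db718a5ce956bdd094445190c93a020) (.node (nat_lit 0xffafac76d9e6d54735907ce515d466490e22a020) (.leaf (nat_lit 0xffafac72dbee54f8b66ba324e854e2490662a020)) (.node (nat_lit 0xffafacdb7cc758d84df2551cbac4c9190453a020) (.leaf (nat_lit 0xffafac76d9e6d54735907ce515d466490e22a020)) (.leaf (nat_lit 0xffafacdb7cc758d84df2551cbac4c9190453a020)))) (.node (nat_lit 0xffafacf378ed98f94d4ba35d584522190a63a020) (.leaf (nat_lit 0xffaface37db718a5ce956bdd094445190c93a020)) (.node (nat_lit 0xffafacf776e6194acdb07a9d25c4a6191223a020) (.leaf (nat_lit 0xffafacf378ed98f94d4ba35d584522190a63a020)) (.leaf (nat_lit 0xffafacf776e6194acdb07a9d25c4a6191223a020))))))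 (.node (nat_lit 0xffafae67b6de1ecad1b19aa1272ca73112312020) (.node (nat_lit 0xffafadf738e5a74931507b6355b926390a21a020) (.node (nat_lit 0xffafade33cb766a831f56d22b938c5390491a020) (.leaf (nat_lit 0xffafaddb3dc726d5b29253e30ab849390c51a020)) (.node (nat_lit 0xffafadf336ee26fab1aba2a32838a2391261a020) (.leaf (nat_lit 0xffafade33cb766a831f56d22b938c5390491a020)) (.leaf (nat_lit 0xffafadf336ee26fab1aba2a32838a2391261a020)))) (.node (nat_lit 0xffafae5bbbc65ed8d2725320eaace93106512020) (.leaf (nat_lit 0xffafadf738e5a74931507b6355b926390a21a020)) (.node (nat_lit 0xffafae63b9b6dea751956ce1192c65310e912020) (.leaf (nat_lit 0xffafae5bbbc65ed8d2725320eaace93106512020)) (.leaf (nat_lit 0xffafae63b9b6dea751956ce1192c65310e912020))))) (.node (nat_lit 0xffafaee39bb668a8be756b16e940e51106932020) (.node (nat_lit 0xffafae6fb8cd9f39514e636158ad23310a712020) (.leaf (nat_lit 0xffafae67b6de1ecad1b19aa1272ca73112312020))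 (.node (nat_lit 0xffafaedb99c6e8d73d9254d71ac069110e532020) (.leaf (nat_lit 0xffafae6fb8cd9f39514e636158ad23310a712020)) (.leaf (nat_lit 0xffafaedb99c6e8d73d9254d71ac069110e532020)))) (.node (nat_lit 0xffafaee798dda8c93d519b57574127110a332020) (.leaf (nat_lit 0xffafaee39bb668a8be756b16e940e51106932020)) (.node (nat_lit 0xffafaeef96ce293abdae629728c0a31112732020) (.leaf (nat_lit 0xffafaee798dda8c93d519b57574127110a332020)) (.leaf (nat_lit 0xffafaeef96ce293abdae629728c0a31112732020)))))))) (.node (nat_lit 0xffb3bb5f1cd761352e4e655ed8d0c429c4848c20) (.node (nat_lit 0xffb16ddf3dd716d641d254693abc44394c81a420) (.node (nat_lit 0xffb16cf37aede1192d4c735f59d082195063a420) (.node (nat_lit 0xffb16bf75be65aea29738c2af648e64146222420) (.node (nat_lit 0xffb16bef5ccf5ab9aa2f83aaca48c34144722420) (.leaf (nat_lit 0xffb16be75ddf1b0629d45c6b37c847414c322420)) (.node (nat_lit 0xffb16bf359eedb17aa0c72eb49c862414e622420)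 (.leaf (nat_lit 0xffb16bef5ccf5ab9aa2f83aaca48c34144722420)) (.leaf (nat_lit 0xffb16bf359eedb17aa0c72eb49c862414e622420)))) (.node (nat_lit 0xffb16cdf7cd760d9ae32539ecad0c4194483a420) (.leaf (nat_lit 0xffb16bf75be65aea29738c2af648e64146222420)) (.node (nat_lit 0xffb16ceb7dbf20a62dd56c5f395048194c43a420) (.leaf (nat_lit 0xffb16cdf7cd760d9ae32539ecad0c4194483a420)) (.leaf (nat_lit 0xffb16ceb7dbf20a62dd56c5f395048194c43a420))))) (.node (nat_lit 0xffb16d6efdcf14b635cf84653a5443214c742420) (.node (nat_lit 0xffb16cf777e6a0eaadb38a9f265106194823a420) (.leaf (nat_lit 0xffb16cf37aede1192d4c735f59d082195063a420)) (.node (nat_lit 0xffb16d66fcdf5509b6345ba4c7d4c72144342420) (.leaf (nat_lit 0xffb16cf777e6a0eaadb38a9f265106194823a420)) (.leaf (nat_lit 0xffb16d66fcdf5509b6345ba4c7d4c72144342420)))) (.node (nat_lit 0xffb16d72fbee551a356c7424f9d4e22146642420) (.leaf (nat_lit 0xffb16d6efdcf14b635cf84653a5443214c742420))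 (.node (nat_lit 0xffb16d76f9e6d4e7b6138ae5465466214e242420) (.leaf (nat_lit 0xffb16d72fbee551a356c7424f9d4e22146642420)) (.leaf (nat_lit 0xffb16d76f9e6d4e7b6138ae5465466214e242420)))))) (.node (nat_lit 0xffb16e6bb9bee2a7ba156ae7493068314e412420) (.node (nat_lit 0xffb16df73ae5d6e941538b69563c86395021a420) (.node (nat_lit 0xffb16deb3cbf56a9c2356ba8c93cc8394441a420) (.leaf (nat_lit 0xffb16ddf3dd716d641d254693abc44394c81a420)) (.node (nat_lit 0xffb16df337ee971ac1ac72a929bd02394861a420) (.leaf (nat_lit 0xffb16deb3cbf56a9c2356ba8c93cc8394441a420)) (.leaf (nat_lit 0xffb16df337ee971ac1ac72a929bd02394861a420)))) (.node (nat_lit 0xffb16e5fbbd662da39725426fab0e43146812420) (.leaf (nat_lit 0xffb16df73ae5d6e941538b69563c86395021a420)) (.node (nat_lit 0xffb16e67b7dea30ab9b45aa727b1073148312420) (.leaf (nat_lit 0xffb16e5fbbd662da39725426fab0e43146812420)) (.leaf (nat_lit 0xffb16e67b7dea30ab9b45aa727b1073148312420)))))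 (.node (nat_lit 0xffb16ee79adddd0945545b5957cc871150332420) (.node (nat_lit 0xffb16e6fbacde2b9394f83675a30833150712420) (.leaf (nat_lit 0xffb16e6bb9bee2a7ba156ae7493068314e412420)) (.node (nat_lit 0xffb16edf99d6dcd7c61252d94acc64114e832420) (.leaf (nat_lit 0xffb16e6fbacde2b9394f83675a30833150712420)) (.leaf (nat_lit 0xffb16edf99d6dcd7c61252d94acc64114e832420)))) (.node (nat_lit 0xffb16eeb9bbe5caa45756c18f94ce81146432420) (.leaf (nat_lit 0xffb16ee79adddd0945545b5957cc871150332420)) (.node (nat_lit 0xffb16eef97ce9cbac5af82992a4d031148732420) (.leaf (nat_lit 0xffb16eeb9bbe5caa45756c18f94ce81146432420)) (.leaf (nat_lit 0xffb16eef97ce9cbac5af82992a4d031148732420))))))) (.node (nat_lit 0xffb3bd5afcc759054e545d5cd7c4c921c4540c20) (.node (nat_lit 0xffb3bbf356ee2727b20daae34538a241d2620c20) (.node (nat_lit 0xffb3bb7717e6a158ae6a931ee6d10629c8248c20) (.node (nat_lit 0xffb3bb6b1dbf20c6aeb19c9ea7504829cc448c20)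 (.leaf (nat_lit 0xffb3bb5f1cd761352e4e655ed8d0c429c4848c20)) (.node (nat_lit 0xffb3bb731aede1272d8dacdf15508229d0648c20) (.leaf (nat_lit 0xffb3bb6b1dbf20c6aeb19c9ea7504829cc448c20)) (.leaf (nat_lit 0xffb3bb731aede1272d8dacdf15508229d0648c20)))) (.node (nat_lit 0xffb3bbdb5dc72706b2b45ca2a7b84941cc520c20) (.leaf (nat_lit 0xffb3bb7717e6a158ae6a931ee6d10629c8248c20)) (.node (nat_lit 0xffb3bbe35cb766b5324f8562da38c541c4920c20) (.leaf (nat_lit 0xffb3bbdb5dc72706b2b45ca2a7b84941cc520c20)) (.leaf (nat_lit 0xffb3bbe35cb766b5324f8562da38c541c4920c20))))) (.node (nat_lit 0xffb3bc6adcbf56c542519d68d73cc849c4428c20) (.node (nat_lit 0xffb3bbf758e5a75a316a9422f6b92641ca220c20) (.leaf (nat_lit 0xffb3bbf356ee2727b20daae34538a241d2620c20)) (.node (nat_lit 0xffb3bc5eddd71736c2ae64a8a8bc4449cc828c20) (.leaf (nat_lit 0xffb3bbf758e5a75a316a9422f6b92641ca220c20)) (.leaf (nat_lit 0xffb3bc5eddd71736c2ae64a8a8bc4449cc828c20))))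 (.node (nat_lit 0xffb3bc72d7ee9728c26dab28e53d0249c8628c20) (.leaf (nat_lit 0xffb3bc6adcbf56c542519d68d73cc849c4428c20)) (.node (nat_lit 0xffb3bc76dae5d757418a94e916bc8649d0228c20) (.leaf (nat_lit 0xffb3bc72d7ee9728c26dab28e53d0249c8628c20)) (.leaf (nat_lit 0xffb3bc76dae5d757418a94e916bc8649d0228c20)))))) (.node (nat_lit 0xffb3be63bab5e4b7558f84d51a348531d0910c20) (.node (nat_lit 0xffb3bd76f6e61957ce0a92dd46c4a621d2240c20) (.node (nat_lit 0xffb3bd62fdb718b6ceaf849caa444521cc940c20) (.leaf (nat_lit 0xffb3bd5afcc759054e545d5cd7c4c921c4540c20)) (.node (nat_lit 0xffb3bd72f8ed992a4d6dac1cf5452221ca640c20) (.leaf (nat_lit 0xffb3bd62fdb718b6ceaf849caa444521cc940c20)) (.leaf (nat_lit 0xffb3bd72f8ed992a4d6dac1cf5452221ca640c20)))) (.node (nat_lit 0xffb3be5bb7c6a508d6745b14e7b50931c8510c20) (.leaf (nat_lit 0xffb3bd76f6e61957ce0a92dd46c4a621d2240c20)) (.node (nat_lit 0xffb3be5fb8d5a53a556e6414f8b52431ca810c20)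 (.leaf (nat_lit 0xffb3be5bb7c6a508d6745b14e7b50931c8510c20)) (.leaf (nat_lit 0xffb3be5fb8d5a53a556e6414f8b52431ca810c20))))) (.node (nat_lit 0xffb3bedf96d62b37ca0e62db48a8a411d2830c20) (.node (nat_lit 0xffb3be6bb6be24c7d6119ad54734a831d2410c20) (.leaf (nat_lit 0xffb3be63bab5e4b7558f84d51a348531d0910c20)) (.node (nat_lit 0xffb3bedb9ac5eb0749945cdb17a88911d0530c20) (.leaf (nat_lit 0xffb3be6bb6be24c7d6119ad54734a831d2410c20)) (.leaf (nat_lit 0xffb3bedb9ac5eb0749945cdb17a88911d0530c20)))) (.node (nat_lit 0xffb3bee397b6aab8ca6f831aea290511c8930c20) (.leaf (nat_lit 0xffb3bedf96d62b37ca0e62db48a8a411d2830c20)) (.node (nat_lit 0xffb3beeb98bdaaca49719c1af7292811ca430c20) (.leaf (nat_lit 0xffb3bee397b6aab8ca6f831aea290511c8930c20)) (.leaf (nat_lit 0xffb3beeb98bdaaca49719c1af7292811ca430c20))))))))) (.node (nat_lit 0xffb9db5f1bd663453a507d66d5b0e42886849820) (.node (nat_lit 0xffb79b5f1dd716c542519d68d73c4428cc849c20)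 (.node (nat_lit 0xffb57ddb3cc758a5ce956bdd0944c93a04519020) (.node (nat_lit 0xffb57c72d9eedb48aa707b2ae5c8624a0e629020) (.node (nat_lit 0xffb57b7719e6d4f8b66ba324e854662a0e249020) (.node (nat_lit 0xffb57b6f1dcf14c835f19d24b754432a0c749020) (.leaf (nat_lit 0xffb57b671cdf5535b68e63e508d4c72a04349020)) (.node (nat_lit 0xffb57b731bee554735907ce515d4e22a06649020) (.leaf (nat_lit 0xffb57b6f1dcf14c835f19d24b754432a0c749020)) (.leaf (nat_lit 0xffb57b731bee554735907ce515d4e22a06649020)))) (.node (nat_lit 0xffb57c66dddf1b3829ee652ab8c8474a0c329020) (.leaf (nat_lit 0xffb57b7719e6d4f8b66ba324e854662a0e249020)) (.node (nat_lit 0xffb57c6edccf5ac5aa919beb0748c34a04729020) (.leaf (nat_lit 0xffb57c66dddf1b3829ee652ab8c8474a0c329020)) (.leaf (nat_lit 0xffb57c6edccf5ac5aa919beb0748c34a04729020))))) (.node (nat_lit 0xffb57ce37cb766d5b29253e30ab8c51a04939020) (.node (nat_lit 0xffb57c76dbe65af7298ba4eb1848e64a06229020)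 (.leaf (nat_lit 0xffb57c72d9eedb48aa707b2ae5c8624a0e629020)) (.node (nat_lit 0xffb57cdb7dc726a831f56d22b938491a0c539020) (.leaf (nat_lit 0xffb57c76dbe65af7298ba4eb1848e64a06229020)) (.leaf (nat_lit 0xffb57cdb7dc726a831f56d22b938491a0c539020)))) (.node (nat_lit 0xffb57cf376ee274931507b6355b8a21a12639020) (.leaf (nat_lit 0xffb57ce37cb766d5b29253e30ab8c51a04939020)) (.node (nat_lit 0xffb57cf778e5a6fab1aba2a32839261a0a239020) (.leaf (nat_lit 0xffb57cf376ee274931507b6355b8a21a12639020)) (.leaf (nat_lit 0xffb57cf778e5a6fab1aba2a32839261a0a239020)))))) (.node (nat_lit 0xffb57e67b8dda93abdae629728c127320a311020) (.node (nat_lit 0xffb57df736e618f94d4ba35d5844a63a12219020) (.node (nat_lit 0xffb57de33db718d84df2551cbac4453a0c919020) (.leaf (nat_lit 0xffb57ddb3cc758a5ce956bdd0944c93a04519020)) (.node (nat_lit 0xffb57df338ed994acdb07a9d25c5223a0a619020) (.leaf (nat_lit 0xffb57de33db718d84df2551cbac4453a0c919020))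 (.leaf (nat_lit 0xffb57df338ed994acdb07a9d25c5223a0a619020)))) (.node (nat_lit 0xffb57e5bb9c6e8a8be756b16e94069320e511020) (.leaf (nat_lit 0xffb57df736e618f94d4ba35d5844a63a12219020)) (.node (nat_lit 0xffb57e63bbb668d73d9254d71ac0e53206911020) (.leaf (nat_lit 0xffb57e5bb9c6e8a8be756b16e94069320e511020)) (.leaf (nat_lit 0xffb57e63bbb668d73d9254d71ac0e53206911020))))) (.node (nat_lit 0xffb57ee399b6ded8d2725320eaac65120e931020) (.node (nat_lit 0xffb57e6fb6ce28c93d519b575740a33212711020) (.leaf (nat_lit 0xffb57e67b8dda93abdae629728c127320a311020)) (.node (nat_lit 0xffb57edb9bc65ea751956ce1192ce91206531020) (.leaf (nat_lit 0xffb57e6fb6ce28c93d519b575740a33212711020)) (.leaf (nat_lit 0xffb57edb9bc65ea751956ce1192ce91206531020)))) (.node (nat_lit 0xffb57ee796de1f39514e636158aca71212331020) (.leaf (nat_lit 0xffb57ee399b6ded8d2725320eaac65120e931020)) (.node (nat_lit 0xffb57eef98cd9ecad1b19aa1272d23120a731020)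 (.leaf (nat_lit 0xffb57ee796de1f39514e636158aca71212331020)) (.leaf (nat_lit 0xffb57eef98cd9ecad1b19aa1272d23120a731020))))))) (.node (nat_lit 0xffb79d5afdc726b5324f8562da384920cc541c20) (.node (nat_lit 0xffb79bf358ed9957ce0a92dd46c52240ca621c20) (.node (nat_lit 0xffb79b771ae5d728c26dab28e53c8628d0249c20) (.node (nat_lit 0xffb79b6b1cbf5736c2ae64a8a8bcc828c4449c20) (.leaf (nat_lit 0xffb79b5f1dd716c542519d68d73c4428cc849c20)) (.node (nat_lit 0xffb79b7317ee9757418a94e916bd0228c8649c20) (.leaf (nat_lit 0xffb79b6b1cbf5736c2ae64a8a8bcc828c4449c20)) (.leaf (nat_lit 0xffb79b7317ee9757418a94e916bd0228c8649c20)))) (.node (nat_lit 0xffb79bdb5cc758b6ceaf849caa44c940c4521c20) (.leaf (nat_lit 0xffb79b771ae5d728c26dab28e53c8628d0249c20)) (.node (nat_lit 0xffb79be35db719054e545d5cd7c44540cc921c20) (.leaf (nat_lit 0xffb79bdb5cc758b6ceaf849caa44c940c4521c20)) (.leaf (nat_lit 0xffb79be35db719054e545d5cd7c44540cc921c20)))))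 (.node (nat_lit 0xffb79c6addbf21352e4e655ed8d04848cc429c20) (.node (nat_lit 0xffb79bf756e6192a4d6dac1cf544a640d2221c20) (.leaf (nat_lit 0xffb79bf358ed9957ce0a92dd46c52240ca621c20)) (.node (nat_lit 0xffb79c5edcd760c6aeb19c9ea750c448c4829c20) (.leaf (nat_lit 0xffb79bf756e6192a4d6dac1cf544a640d2221c20)) (.leaf (nat_lit 0xffb79c5edcd760c6aeb19c9ea750c448c4829c20)))) (.node (nat_lit 0xffb79c72daede158ae6a931ee6d08248d0629c20) (.leaf (nat_lit 0xffb79c6addbf21352e4e655ed8d04848cc429c20)) (.node (nat_lit 0xffb79c76d7e6a1272d8dacdf15510648c8229c20) (.leaf (nat_lit 0xffb79c72daede158ae6a931ee6d08248d0629c20)) (.leaf (nat_lit 0xffb79c76d7e6a1272d8dacdf15510648c8229c20)))))) (.node (nat_lit 0xffb79e63b7b6ab0749945cdb17a90530c8911c20) (.node (nat_lit 0xffb79d76f8e5a727b20daae345392620ca241c20) (.node (nat_lit 0xffb79d62fcb76706b2b45ca2a7b8c520c4941c20) (.leaf (nat_lit 0xffb79d5afdc726b5324f8562da384920cc541c20))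 (.node (nat_lit 0xffb79d72f6ee275a316a9422f6b8a220d2641c20) (.leaf (nat_lit 0xffb79d62fcb76706b2b45ca2a7b8c520c4941c20)) (.leaf (nat_lit 0xffb79d72f6ee275a316a9422f6b8a220d2641c20)))) (.node (nat_lit 0xffb79e5bbac5eab8ca6f831aea288930d0511c20) (.leaf (nat_lit 0xffb79d76f8e5a727b20daae345392620ca241c20)) (.node (nat_lit 0xffb79e5fb6d62aca49719c1af728a430d2811c20) (.leaf (nat_lit 0xffb79e5bbac5eab8ca6f831aea288930d0511c20)) (.leaf (nat_lit 0xffb79e5fb6d62aca49719c1af728a430d2811c20))))) (.node (nat_lit 0xffb79edf98d5a4c7d6119ad547352410ca831c20) (.node (nat_lit 0xffb79e6bb8bdab37ca0e62db48a92830ca411c20) (.leaf (nat_lit 0xffb79e63b7b6ab0749945cdb17a90530c8911c20)) (.node (nat_lit 0xffb79edb97c6a4b7558f84d51a350910c8531c20) (.leaf (nat_lit 0xffb79e6bb8bdab37ca0e62db48a92830ca411c20)) (.leaf (nat_lit 0xffb79edb97c6a4b7558f84d51a350910c8531c20)))) (.node (nat_lit 0xffb79ee39ab5e508d6745b14e7b48510d0931c20)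 (.leaf (nat_lit 0xffb79edf98d5a4c7d6119ad547352410ca831c20)) (.node (nat_lit 0xffb79eeb96be253a556e6414f8b4a810d2431c20) (.leaf (nat_lit 0xffb79ee39ab5e508d6745b14e7b48510d0931c20)) (.leaf (nat_lit 0xffb79eeb96be253a556e6414f8b4a810d2431c20)))))))) (.node (nat_lit 0xffbbcb5f19d6dcf5464ba558d84c64298e848820) (.node (nat_lit 0xffb9dcdb7ac5eb1849ec751ab9a8891890539820) (.node (nat_lit 0xffb9dbe758dda9563dca945736c127408a321820) (.node (nat_lit 0xffb9db6f1acde32839edad26b530832890749820) (.node (nat_lit 0xffb9db6717dea355ba8a93e706b1072888349820) (.leaf (nat_lit 0xffb9db5f1bd663453a507d66d5b0e42886849820)) (.node (nat_lit 0xffb9db6b19bee2f6baaba4a6a83068288e449820) (.leaf (nat_lit 0xffb9db6717dea355ba8a93e706b1072888349820)) (.leaf (nat_lit 0xffb9db6b19bee2f6baaba4a6a83068288e449820)))) (.node (nat_lit 0xffb9dbdb59c6e916beac7496a9c069408e521820) (.leaf (nat_lit 0xffb9db6f1acde32839edad26b530832890749820))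 (.node (nat_lit 0xffb9dbe35bb668e53e538d56d640e54086921820) (.leaf (nat_lit 0xffb9dbdb59c6e916beac7496a9c069408e521820)) (.leaf (nat_lit 0xffb9dbe35bb668e53e538d56d640e54086921820))))) (.node (nat_lit 0xffb9dc66dadddd5845ea9518b6cc874890329820) (.node (nat_lit 0xffb9dbef56ce2929be2dab96c540a34092721820) (.leaf (nat_lit 0xffb9dbe758dda9563dca945736c127408a321820)) (.node (nat_lit 0xffb9dc5ed9d6dd46c6b07c98a5cc64488e829820) (.leaf (nat_lit 0xffb9dbef56ce2929be2dab96c540a34092721820)) (.leaf (nat_lit 0xffb9dc5ed9d6dd46c6b07c98a5cc64488e829820)))) (.node (nat_lit 0xffb9dc6adbbe5cf5464ba558d84ce84886429820) (.leaf (nat_lit 0xffb9dc66dadddd5845ea9518b6cc874890329820)) (.node (nat_lit 0xffb9dc6ed7ce9d25c68dabd9054d034888729820) (.leaf (nat_lit 0xffb9dc6adbbe5cf5464ba558d84ce84886429820)) (.leaf (nat_lit 0xffb9dc6ed7ce9d25c68dabd9054d034888729820)))))) (.node (nat_lit 0xffb9dd66f6de1f59d22a93a0c6aca72092341820)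 (.node (nat_lit 0xffb9dceb78bdaaf649cba45b382928188a439820) (.node (nat_lit 0xffb9dcdf76d62b49ca307b9ac5a8a41892839820) (.leaf (nat_lit 0xffb9dcdb7ac5eb1849ec751ab9a8891890539820)) (.node (nat_lit 0xffb9dce377b6aae5ca938bdb0629051888939820) (.leaf (nat_lit 0xffb9dcdf76d62b49ca307b9ac5a8a41892839820)) (.leaf (nat_lit 0xffb9dce377b6aae5ca938bdb0629051888939820)))) (.node (nat_lit 0xffb9dd5afbc65f15524c7560d9ace92086541820) (.leaf (nat_lit 0xffb9dceb78bdaaf649cba45b382928188a439820)) (.node (nat_lit 0xffb9dd62f9b6dee6d2b38ca0a62c65208e941820) (.leaf (nat_lit 0xffb9dd5afbc65f15524c7560d9ace92086541820)) (.leaf (nat_lit 0xffb9dd62f9b6dee6d2b38ca0a62c65208e941820))))) (.node (nat_lit 0xffb9dddf38d5a54655d07c5535b524388a819820) (.node (nat_lit 0xffb9dd6ef8cd9f2651cdac61352d23208a741820) (.leaf (nat_lit 0xffb9dd66f6de1f59d22a93a0c6aca72092341820)) (.node (nat_lit 0xffb9dddb37c6a515d68c73d509b5093888519820)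 (.leaf (nat_lit 0xffb9dd6ef8cd9f2651cdac61352d23208a741820)) (.leaf (nat_lit 0xffb9dddb37c6a515d68c73d509b5093888519820)))) (.node (nat_lit 0xffb9dde33ab5e4e855f38d14b634853890919820) (.leaf (nat_lit 0xffb9dddf38d5a54655d07c5535b524388a819820)) (.node (nat_lit 0xffb9ddeb36be24f9d62ba394c834a83892419820) (.leaf (nat_lit 0xffb9dde33ab5e4e855f38d14b634853890919820)) (.leaf (nat_lit 0xffb9ddeb36be24f9d62ba394c834a83892419820))))))) (.node (nat_lit 0xffbbccdb77c6a4e855f38d14b635091988538820) (.node (nat_lit 0xffbbcbe756de1f2651cdac61352ca74192320820) (.node (nat_lit 0xffbbcb6f17ce9d5845ea9518b6cd032988748820) (.node (nat_lit 0xffbbcb671adddd25c68dabd9054c872990348820) (.leaf (nat_lit 0xffbbcb5f19d6dcf5464ba558d84c64298e848820)) (.node (nat_lit 0xffbbcb6b1bbe5d46c6b07c98a5cce82986448820) (.leaf (nat_lit 0xffbbcb671adddd25c68dabd9054c872990348820)) (.leaf (nat_lit 0xffbbcb6b1bbe5d46c6b07c98a5cce82986448820))))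 (.node (nat_lit 0xffbbcbdb5bc65ee6d2b38ca0a62ce94186520820) (.leaf (nat_lit 0xffbbcb6f17ce9d5845ea9518b6cd032988748820)) (.node (nat_lit 0xffbbcbe359b6df15524c7560d9ac65418e920820) (.leaf (nat_lit 0xffbbcbdb5bc65ee6d2b38ca0a62ce94186520820)) (.leaf (nat_lit 0xffbbcbe359b6df15524c7560d9ac65418e920820))))) (.node (nat_lit 0xffbbcc66d7dea32839edad26b531074988328820) (.node (nat_lit 0xffbbcbef58cd9f59d22a93a0c6ad23418a720820) (.leaf (nat_lit 0xffbbcbe756de1f2651cdac61352ca74192320820)) (.node (nat_lit 0xffbbcc5edbd662f6baaba4a6a830e44986828820) (.leaf (nat_lit 0xffbbcbef58cd9f59d22a93a0c6ad23418a720820)) (.leaf (nat_lit 0xffbbcc5edbd662f6baaba4a6a830e44986828820)))) (.node (nat_lit 0xffbbcc6ad9bee3453a507d66d5b068498e428820) (.leaf (nat_lit 0xffbbcc66d7dea32839edad26b531074988328820)) (.node (nat_lit 0xffbbcc6edacde355ba8a93e706b0834990728820) (.leaf (nat_lit 0xffbbcc6ad9bee3453a507d66d5b068498e428820))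 (.leaf (nat_lit 0xffbbcc6edacde355ba8a93e706b0834990728820)))))) (.node (nat_lit 0xffbbcd66f8dda929be2dab96c54127218a340820) (.node (nat_lit 0xffbbcceb76be254655d07c5535b4a81992438820) (.node (nat_lit 0xffbbccdf78d5a4f9d62ba394c83524198a838820) (.leaf (nat_lit 0xffbbccdb77c6a4e855f38d14b635091988538820)) (.node (nat_lit 0xffbbcce37ab5e515d68c73d509b4851990938820) (.leaf (nat_lit 0xffbbccdf78d5a4f9d62ba394c83524198a838820)) (.leaf (nat_lit 0xffbbcce37ab5e515d68c73d509b4851990938820)))) (.node (nat_lit 0xffbbcd5af9c6e8e53e538d56d64069218e540820) (.leaf (nat_lit 0xffbbcceb76be254655d07c5535b4a81992438820)) (.node (nat_lit 0xffbbcd62fbb66916beac7496a9c0e52186940820) (.leaf (nat_lit 0xffbbcd5af9c6e8e53e538d56d64069218e540820)) (.leaf (nat_lit 0xffbbcd62fbb66916beac7496a9c0e52186940820))))) (.node (nat_lit 0xffbbcddf36d62af649cba45b3828a43992818820) (.node (nat_lit 0xffbbcd6ef6ce29563dca945736c0a32192740820)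 (.leaf (nat_lit 0xffbbcd66f8dda929be2dab96c54127218a340820)) (.node (nat_lit 0xffbbcddb3ac5eae5ca938bdb0628893990518820) (.leaf (nat_lit 0xffbbcd6ef6ce29563dca945736c0a32192740820)) (.leaf (nat_lit 0xffbbcddb3ac5eae5ca938bdb0628893990518820)))) (.node (nat_lit 0xffbbcde337b6ab1849ec751ab9a9053988918820) (.leaf (nat_lit 0xffbbcddf36d62af649cba45b3828a43992818820)) (.node (nat_lit 0xffbbcdeb38bdab49ca307b9ac5a928398a418820) (.leaf (nat_lit 0xffbbcde337b6ab1849ec751ab9a9053988918820)) (.leaf (nat_lit 0xffbbcdeb38bdab49ca307b9ac5a928398a418820))))))))))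
noncomputable def AN_lS1_T : ST := (.node (nat_lit 0xffad8be75cdf54b635cf84653a54c74244321420) AN_lS1_T0 AN_lS1_T1)
theorem AN_lS1_E {G : Type*} [Group G] {R : ℕ → G → Prop} {z u v a b i j k l p t c r s : G}
    (M : Md0 AN_o AN_cs R [z, u, v, a, b, i, j, k, l, p, t, c, r, s]) :
    EnumS R AN_lS1 (sp [i, j, k, l, r, s, c, t]) :=
  enumS_tree M.μ.1 (M.reps.tms M.μ.1 [(.v (nat_lit 5)), (.v (nat_lit 6)), (.v (nat_lit 7)), (.v (nat_lit 8)), (.v (nat_lit 12)), (.v (nat_lit 13)), (.v (nat_lit 11)), (.v (nat_lit 10))] (cs' := [(nat_lit 0xf7f9ddeb38bdab464a2b7b953834a41992838820), (nat_lit 0xf7fbcceb78bdaaf9c9d0a454c5b4a43892819820), (nat_lit 0xf7fbcddf38d5a549d5cb7c5ac828a81892439820), (nat_lit 0xf7fbcdeb36be24f65630a39b35a924188a839820), (nat_lit 0xffb3be5bb7c6a508d6745b14e7b50931c8510c20), (nat_lit 0xffb57c76dbe65af7298ba4eb1848e64a06229020), (nat_lit 0xffb3bbf758e5a75a316a9422f6b92641ca220c20),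 (nat_lit 0xf7f79edf96d62b3a4a1162d4f7352831ca410c20)]) (by decide +kernel))
    (Ws := AN_lS1_W) (T := AN_lS1_T) (by decide +kernel) (by decide +kernel)
theorem AN_lS1_c {G : Type*} [Group G] {R : ℕ → G → Prop} {z u v a b i j k l p t c r s : G}
    (M : Md0 AN_o AN_cs R [z, u, v, a, b, i, j, k, l, p, t, c, r, s]) :
    #(sp [i, j, k, l, r, s, c, t]) = 384 :=
  (AN_lS1_E M).card M.μ (h := AN_lS1_h) (by decide +kernel)
noncomputable def AN_lV : List ℕ := [(nat_lit 0xffbbcdeb38bdab49ca307b9ac5a928398a418820), (nat_lit 0xf7f9ddeb38bdab464a2b7b953834a41992838820), (nat_lit 0xf7fbcceb78bdaaf9c9d0a454c5b4a43892819820), (nat_lit 0xf7fbcddf38d5a549d5cb7c5ac828a81892439820), (nat_lit 0xf7fbcdeb36be24f65630a39b35a924188a839820), (nat_lit 0xf7f79edf96d62b3a4a1162d4f7352831ca410c20), (nat_lit 0xffb9dceb78bdaaf649cba45b382928188a439820), (nat_lit 0xffb9dddf38d5a54655d07c5535b524388a819820),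 (nat_lit 0xffb9ddeb36be24f9d62ba394c834a83892419820), (nat_lit 0xffb3bedf96d62b37ca0e62db48a8a411d2830c20), (nat_lit 0xffbbccdf78d5a4f9d62ba394c83524198a838820), (nat_lit 0xffbbcceb76be254655d07c5535b4a81992438820), (nat_lit 0xffb79e5fb6d62aca49719c1af728a430d2811c20), (nat_lit 0xffbbcddf36d62af649cba45b3828a43992818820), (nat_lit 0xffb79eeb96be253a556e6414f8b4a810d2431c20), (nat_lit 0xffb79edf98d5a4c7d6119ad547352410ca831c20), (nat_lit 0xf7f9dcdf78d5a4f65630a39b35a8a83992418820), (nat_lit 0xf7f9dceb76be2549d5cb7c5ac82924398a818820), (nat_lit 0xf7f3be5fb6d62ac7c96e9c1548b52810ca431c20), (nat_lit 0xf7f9dddf36d62af9c9d0a454c5b528198a438820), (nat_lit 0xf7f3beeb96be2537d571641b47292430ca811c20), (nat_lit 0xf7f3bedf98d5a4ca560e9adaf8a8a830d2411c20), (nat_lit 0xf7fbccdf76d62b464a2b7b95383528388a419820), (nat_lit 0xf7f79e6bb6be24ca560e9adaf8a92411ca830c20), (nat_lit 0xf7f79e5fb8d5a537d571641b4728a811d2430c20),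 (nat_lit 0xf7f79eeb98bdaac7c96e9c1548b4a431d2810c20), (nat_lit 0xffb9dcdf76d62b49ca307b9ac5a8a41892839820), (nat_lit 0xffb3be6bb6be24c7d6119ad54734a831d2410c20), (nat_lit 0xffb3be5fb8d5a53a556e6414f8b52431ca810c20), (nat_lit 0xffb3beeb98bdaaca49719c1af7292811ca430c20), (nat_lit 0xffb79e6bb8bdab37ca0e62db48a92830ca411c20), (nat_lit 0xf7f3be6bb8bdab3a4a1162d4f734a410d2831c20)]
noncomputable def AN_lV_W : List (List ℕ) := [[],
  [(nat_lit 0)],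
  [(nat_lit 1)],
  [(nat_lit 2)],
  [(nat_lit 3)],
  [(nat_lit 4)],
  [(nat_lit 0), (nat_lit 1)],
  [(nat_lit 0), (nat_lit 2)],
  [(nat_lit 0), (nat_lit 3)],
  [(nat_lit 0), (nat_lit 4)],
  [(nat_lit 1), (nat_lit 2)],
  [(nat_lit 1), (nat_lit 3)],
  [(nat_lit 1), (nat_lit 4)],
  [(nat_lit 2), (nat_lit 3)],
  [(nat_lit 2), (nat_lit 4)],
  [(nat_lit 3), (nat_lit 4)],
  [(nat_lit 0), (nat_lit 1), (nat_lit 2)],
  [(nat_lit 0), (nat_lit 1), (nat_lit 3)],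
  [(nat_lit 0), (nat_lit 1), (nat_lit 4)],
  [(nat_lit 0), (nat_lit 2), (nat_lit 3)],
  [(nat_lit 0), (nat_lit 2), (nat_lit 4)],
  [(nat_lit 0), (nat_lit 3), (nat_lit 4)],
  [(nat_lit 1), (nat_lit 2), (nat_lit 3)],
  [(nat_lit 1), (nat_lit 2), (nat_lit 4)],
  [(nat_lit 1), (nat_lit 3), (nat_lit 4)],
  [(nat_lit 2), (nat_lit 3), (nat_lit 4)],
  [(nat_lit 0), (nat_lit 1), (nat_lit 2), (nat_lit 3)],
  [(nat_lit 0), (nat_lit 1), (nat_lit 2), (nat_lit 4)],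
  [(nat_lit 0), (nat_lit 1), (nat_lit 3), (nat_lit 4)],
  [(nat_lit 0), (nat_lit 2), (nat_lit 3), (nat_lit 4)],
  [(nat_lit 1), (nat_lit 2), (nat_lit 3), (nat_lit 4)],
  [(nat_lit 0), (nat_lit 1), (nat_lit 2), (nat_lit 3), (nat_lit 4)]]
noncomputable def AN_lV_h (c : ℕ) : ℕ := Nat.mod c (nat_lit 453)
theorem AN_lV_E {G : Type*} [Group G] {R : ℕ → G → Prop} {z u v a b i j k l p t c r s : G}
    (M : Md0 AN_o AN_cs R [z, u, v, a, b, i, j, k, l, p, t, c, r, s]) :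
    EnumS R AN_lV (sp [i, j, k, l, t]) :=
  enumS_sp M.μ.1 (M.reps.tms M.μ.1 [(.v (nat_lit 5)), (.v (nat_lit 6)), (.v (nat_lit 7)), (.v (nat_lit 8)), (.v (nat_lit 10))] (cs' := [(nat_lit 0xf7f9ddeb38bdab464a2b7b953834a41992838820), (nat_lit 0xf7fbcceb78bdaaf9c9d0a454c5b4a43892819820), (nat_lit 0xf7fbcddf38d5a549d5cb7c5ac828a81892439820), (nat_lit 0xf7fbcdeb36be24f65630a39b35a924188a839820), (nat_lit 0xf7f79edf96d62b3a4a1162d4f7352831ca410c20)]) (by decide +kernel))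
    (Ws := AN_lV_W) (by decide +kernel) (by decide +kernel)
theorem AN_lV_c {G : Type*} [Group G] {R : ℕ → G → Prop} {z u v a b i j k l p t c r s : G}
    (M : Md0 AN_o AN_cs R [z, u, v, a, b, i, j, k, l, p, t, c, r, s]) :
    #(sp [i, j, k, l, t]) = 32 :=
  (AN_lV_E M).card M.μ (h := AN_lV_h) (by decide +kernel)
noncomputable def AN_lS2 : List ℕ := [(nat_lit 0x2217074a3aaded9e628cdbd5d9b7c519be938820), (nat_lit 0x221707563796adbee1f3cd15c637e919bc538820), (nat_lit 0x2217075e32d56cf9e33ca6d4ceb53e198bf38820), (nat_lit 0x2217076a35bcad46637d7e553e34bf1993e38820), (nat_lit 0x221708c9d7aeb19ed9ecdd1bc9abe539bc918820), (nat_lit 0x221708d5da95f1be5a93cbdbd62bc939be518820), (nat_lit 0x221708ddd5d4b0f65b7ca65b3ea8be3993f18820), (nat_lit 0x221708e9d2bd7149db3d7edace293f398be18820), (nat_lit 0x221d15ca17aeb1ccda6feb1bba2be511fc930c20), (nat_lit 0x221d15d61a95f1ddd994e4db97abc911fe530c20),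 (nat_lit 0x221d15de15d4b137dbbb671b4ca8be11d3f30c20), (nat_lit 0x221d15ea12bd70ca5b999f5afda93f11cbe30c20), (nat_lit 0x221d18497aadedcde18fecd59a37c531fe910c20), (nat_lit 0x221d18557796addce274e315b7b7e931fc510c20), (nat_lit 0x221d185d72d56d3a639b6754fcb53e31cbf10c20), (nat_lit 0x221d186975bcacc7e3b99f154db4bf31d3e10c20), (nat_lit 0x2220b74a37aeb1be5a93cbdbd62be518bc939820), (nat_lit 0x2220b7563a95f19ed9ecdd1bc9abc918be539820), (nat_lit 0x2220b75e35d4b149db3d7edace28be1893f39820), (nat_lit 0x2220b76a32bd70f65b7ca65b3ea93f188be39820), (nat_lit 0x2220b8c9daadedbee1f3cd15c637c538be919820), (nat_lit 0x2220b8d5d796ad9e628cdbd5d9b7e938bc519820), (nat_lit 0x2220b8ddd2d56d46637d7e553e353e388bf19820), (nat_lit 0x2220b8e9d5bcacf9e33ca6d4ceb4bf3893e19820), (nat_lit 0x2222e5ca1aadeddce274e315b7b7c510fe931c20), (nat_lit 0x2222e5d61796adcde18fecd59a37e910fc531c20), (nat_lit 0x2222e5de12d56cc7e3b99f154db53e10cbf31c20),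 (nat_lit 0x2222e5ea15bcad3a639b6754fcb4bf10d3e31c20), (nat_lit 0x2222e84977aeb1ddd994e4db97abe530fc911c20), (nat_lit 0x2222e8557a95f1ccda6feb1bba2bc930fe511c20), (nat_lit 0x2222e85d75d4b0ca5b999f5afda8be30d3f11c20), (nat_lit 0x2222e86972bd7137dbbb671b4ca93f30cbe11c20), (nat_lit 0x2a5937ca96ae2f9e69d0dc55d5b7c819be438820), (nat_lit 0x2a5937d69895afbeea2bcb95c837e419bc838820), (nat_lit 0x2a5937da95c4aee86b7d8e54be351f1989e38820), (nat_lit 0x2a5937e292b56f15eb3c76d50eb49e1991f38820), (nat_lit 0x2a593a49f8adb59ede30db9bc5abe839bc418820), (nat_lit 0x2a593a55f69635be5dcbcc5bd82bc439be818820), (nat_lit 0x2a593a59f2c574e5df3d8edb0e289f3991e18820), (nat_lit 0x2a593a61f5b4b5185f7c765abea91e3989f18820), (nat_lit 0x2a5f464a78adb5ccdd71ec1bb72be811fc430c20), (nat_lit 0x2a5f4656769635ddde0ee2db98abc411fe830c20), (nat_lit 0x2a5f465a72c575075f995f5b1da89f11d1e30c20), (nat_lit 0x2a5f466275b4b4b8dfbb871aeca91e11c9f30c20),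 (nat_lit 0x2a5f49c996ae2fcdea11ead59737c831fe410c20), (nat_lit 0x2a5f49d59895afdce96ee415b8b7e431fc810c20), (nat_lit 0x2a5f49d995c4af08ebb95f14edb51f31c9e10c20), (nat_lit 0x2a5f49e192b56eb76b9b87551cb49e31d1f10c20), (nat_lit 0x2a66c7ca98adb5be5dcbcc5bd82be818bc439820), (nat_lit 0x2a66c7d69696359ede30db9bc5abc418be839820), (nat_lit 0x2a66c7da92c575185f7c765abea89f1891e39820), (nat_lit 0x2a66c7e295b4b4e5df3d8edb0e291e1889f39820), (nat_lit 0x2a66ca49f6ae2fbeea2bcb95c837c838be419820), (nat_lit 0x2a66ca55f895af9e69d0dc55d5b7e438bc819820), (nat_lit 0x2a66ca59f5c4af15eb3c76d50eb51f3889e19820), (nat_lit 0x2a66ca61f2b56ee86b7d8e54be349e3891f19820), (nat_lit 0x2a68f64a76ae2fdce96ee415b8b7c810fe431c20), (nat_lit 0x2a68f6567895afcdea11ead59737e410fc831c20), (nat_lit 0x2a68f65a75c4aeb76b9b87551cb51f10c9e31c20), (nat_lit 0x2a68f66272b56f08ebb95f14edb49e10d1f31c20), (nat_lit 0x2a68f9c998adb5ddde0ee2db98abe830fc411c20),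 (nat_lit 0x2a68f9d5969635ccdd71ec1bb72bc430fe811c20), (nat_lit 0x2a68f9d992c574b8dfbb871aeca89f30d1e11c20), (nat_lit 0x2a68f9e195b4b5075f995f5b1da91e30c9f11c20), (nat_lit 0x4117074a37aeb1beda8ccbd5c9b7c938be519820), (nat_lit 0x411707563a95f19e59f3dd15d637e538bc919820), (nat_lit 0x4117075e35d4b1465b3c7ed53eb53f388be19820), (nat_lit 0x4117076a32bd70f9db7da654ce34be3893f19820), (nat_lit 0x411708c9daadedbe61eccd1bd9abe918bc539820), (nat_lit 0x411708d5d796ad9ee293dbdbc62bc518be939820), (nat_lit 0x411708ddd2d56d49e37c7e5acea8bf1893e39820), (nat_lit 0x411708e9d5bcacf6633da6db3e293e188bf39820), (nat_lit 0x411d15ca1aadeddde26fe31b9a2be930fc511c20), (nat_lit 0x411d15d61796adcce194ecdbb7abc530fe911c20), (nat_lit 0x411d15de12d56cca63bb9f1afca8bf30d3e11c20), (nat_lit 0x411d15ea15bcad37e399675b4da93e30cbf11c20), (nat_lit 0x411d184977aeb1dcd98fe4d5ba37c910fe531c20), (nat_lit 0x411d18557a95f1cdda74eb1597b7e510fc931c20),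 (nat_lit 0x411d185d75d4b0c7db9b9f554cb53f10cbe31c20), (nat_lit 0x411d186972bd713a5bb96714fdb4be10d3f31c20), (nat_lit 0x4120b74a3aaded9ee293dbdbc62be939bc518820), (nat_lit 0x4120b7563796adbe61eccd1bd9abc539be918820), (nat_lit 0x4120b75e32d56cf6633da6db3e28bf3993e18820), (nat_lit 0x4120b76a35bcad49e37c7e5acea93e398bf18820), (nat_lit 0x4120b8c9d7aeb19e59f3dd15d637c919be538820), (nat_lit 0x4120b8d5da95f1beda8ccbd5c9b7e519bc938820), (nat_lit 0x4120b8ddd5d4b0f9db7da654ce353f198be38820), (nat_lit 0x4120b8e9d2bd71465b3c7ed53eb4be1993f38820), (nat_lit 0x4122e5ca17aeb1cdda74eb1597b7c931fe510c20), (nat_lit 0x4122e5d61a95f1dcd98fe4d5ba37e531fc910c20), (nat_lit 0x4122e5de15d4b13a5bb96714fdb53f31cbe10c20), (nat_lit 0x4122e5ea12bd70c7db9b9f554cb4be31d3f10c20), (nat_lit 0x4122e8497aadedcce194ecdbb7abe911fc530c20), (nat_lit 0x4122e8557796addde26fe31b9a2bc511fe930c20), (nat_lit 0x4122e85d72d56d37e399675b4da8bf11d3e30c20),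 (nat_lit 0x4122e86975bcacca63bb9f1afca93e11cbf30c20), (nat_lit 0x495937ca98adb5beddd0cc55c5b7c438be819820), (nat_lit 0x495937d69696359e5e2bdb95d837e838bc419820), (nat_lit 0x495937da92c57515df7d76550e351e3889f19820), (nat_lit 0x495937e295b4b4e85f3c8ed4beb49f3891e19820), (nat_lit 0x49593a49f6ae2fbe6a30cb9bd5abe418bc839820), (nat_lit 0x49593a55f895af9ee9cbdc5bc82bc818be439820), (nat_lit 0x49593a59f5c4af186b3d76dabe289e1891f39820), (nat_lit 0x49593a61f2b56ee5eb7c8e5b0ea91f1889e39820), (nat_lit 0x495f464a76ae2fdde971e41b972be430fc811c20), (nat_lit 0x495f46567895afccea0eeadbb8abc830fe411c20), (nat_lit 0x495f465a75c4aeb8eb99875aeda89e30d1f11c20), (nat_lit 0x495f466272b56f076bbb5f1b1ca91f30c9e11c20), (nat_lit 0x495f49c998adb5dcde11e2d5b737c410fe831c20), (nat_lit 0x495f49d5969635cddd6eec1598b7e810fc431c20), (nat_lit 0x495f49d992c574b75fb987151db51e10c9f31c20), (nat_lit 0x495f49e195b4b508df9b5f54ecb49f10d1e31c20),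 (nat_lit 0x4966c7ca96ae2f9ee9cbdc5bc82be439bc818820), (nat_lit 0x4966c7d69895afbe6a30cb9bd5abc839be418820), (nat_lit 0x4966c7da95c4aee5eb7c8e5b0ea89e3991f18820), (nat_lit 0x4966c7e292b56f186b3d76dabe291f3989e18820), (nat_lit 0x4966ca49f8adb59e5e2bdb95d837c419be838820), (nat_lit 0x4966ca55f69635beddd0cc55c5b7e819bc438820), (nat_lit 0x4966ca59f2c574e85f3c8ed4beb51e1989f38820), (nat_lit 0x4966ca61f5b4b515df7d76550e349f1991e38820), (nat_lit 0x4968f64a78adb5cddd6eec1598b7c431fe810c20), (nat_lit 0x4968f656769635dcde11e2d5b737e831fc410c20), (nat_lit 0x4968f65a72c57508df9b5f54ecb51e31c9f10c20), (nat_lit 0x4968f66275b4b4b75fb987151db49f31d1e10c20), (nat_lit 0x4968f9c996ae2fccea0eeadbb8abe411fc830c20), (nat_lit 0x4968f9d59895afdde971e41b972bc811fe430c20), (nat_lit 0x4968f9d995c4af076bbb5f1b1ca89e11d1f30c20), (nat_lit 0x4968f9e192b56eb8eb99875aeda91f11c9e30c20), (nat_lit 0xf7f3be5bbac5eab74a74831517b50510c8931c20),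 (nat_lit 0xf7f3be5fb6d62ac7c96e9c1548b52810ca431c20), (nat_lit 0xf7f3be63b7b6ab08c98f5cd4ea348910d0531c20), (nat_lit 0xf7f3be6bb8bdab3a4a1162d4f734a410d2831c20), (nat_lit 0xf7f3bedb97c6a4b8d59484dae7a88530d0911c20), (nat_lit 0xf7f3bedf98d5a4ca560e9adaf8a8a830d2411c20), (nat_lit 0xf7f3bee39ab5e507566f5b1b1a290930c8511c20), (nat_lit 0xf7f3beeb96be2537d571641b47292430ca811c20), (nat_lit 0xf7f79e5bb7c6a507566f5b1b1a288511d0930c20), (nat_lit 0xf7f79e5fb8d5a537d571641b4728a811d2430c20), (nat_lit 0xf7f79e63bab5e4b8d59484dae7a90911c8530c20), (nat_lit 0xf7f79e6bb6be24ca560e9adaf8a92411ca830c20), (nat_lit 0xf7f79edb9ac5eb08c98f5cd4ea350531c8910c20), (nat_lit 0xf7f79edf96d62b3a4a1162d4f7352831ca410c20), (nat_lit 0xf7f79ee397b6aab74a74831517b48931d0510c20), (nat_lit 0xf7f79eeb98bdaac7c96e9c1548b4a431d2810c20), (nat_lit 0xf7f9dcdb77c6a4e5d5ec8d1b09a8853990918820), (nat_lit 0xf7f9dcdf78d5a4f65630a39b35a8a83992418820),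 (nat_lit 0xf7f9dce37ab5e518569373dab629093988518820), (nat_lit 0xf7f9dceb76be2549d5cb7c5ac82924398a818820), (nat_lit 0xf7f9dddb3ac5eae84a8c8bd4b9b5051988938820), (nat_lit 0xf7f9dddf36d62af9c9d0a454c5b528198a438820), (nat_lit 0xf7f9dde337b6ab15c9f375150634891990538820), (nat_lit 0xf7f9ddeb38bdab464a2b7b953834a41992838820), (nat_lit 0xf7fbccdb7ac5eb15c9f375150635053888919820), (nat_lit 0xf7fbccdf76d62b464a2b7b95383528388a419820), (nat_lit 0xf7fbcce377b6aae84a8c8bd4b9b4893890519820), (nat_lit 0xf7fbcceb78bdaaf9c9d0a454c5b4a43892819820), (nat_lit 0xf7fbcddb37c6a518569373dab628851890939820), (nat_lit 0xf7fbcddf38d5a549d5cb7c5ac828a81892439820), (nat_lit 0xf7fbcde33ab5e4e5d5ec8d1b09a9091888539820), (nat_lit 0xf7fbcdeb36be24f65630a39b35a924188a839820), (nat_lit 0xffb3be5bb7c6a508d6745b14e7b50931c8510c20), (nat_lit 0xffb3be5fb8d5a53a556e6414f8b52431ca810c20), (nat_lit 0xffb3be63bab5e4b7558f84d51a348531d0910c20),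 (nat_lit 0xffb3be6bb6be24c7d6119ad54734a831d2410c20), (nat_lit 0xffb3bedb9ac5eb0749945cdb17a88911d0530c20), (nat_lit 0xffb3bedf96d62b37ca0e62db48a8a411d2830c20), (nat_lit 0xffb3bee397b6aab8ca6f831aea290511c8930c20), (nat_lit 0xffb3beeb98bdaaca49719c1af7292811ca430c20), (nat_lit 0xffb79e5bbac5eab8ca6f831aea288930d0511c20), (nat_lit 0xffb79e5fb6d62aca49719c1af728a430d2811c20), (nat_lit 0xffb79e63b7b6ab0749945cdb17a90530c8911c20), (nat_lit 0xffb79e6bb8bdab37ca0e62db48a92830ca411c20), (nat_lit 0xffb79edb97c6a4b7558f84d51a350910c8531c20), (nat_lit 0xffb79edf98d5a4c7d6119ad547352410ca831c20), (nat_lit 0xffb79ee39ab5e508d6745b14e7b48510d0931c20), (nat_lit 0xffb79eeb96be253a556e6414f8b4a810d2431c20), (nat_lit 0xffb9dcdb7ac5eb1849ec751ab9a8891890539820), (nat_lit 0xffb9dcdf76d62b49ca307b9ac5a8a41892839820), (nat_lit 0xffb9dce377b6aae5ca938bdb0629051888939820), (nat_lit 0xffb9dceb78bdaaf649cba45b382928188a439820),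 (nat_lit 0xffb9dddb37c6a515d68c73d509b5093888519820), (nat_lit 0xffb9dddf38d5a54655d07c5535b524388a819820), (nat_lit 0xffb9dde33ab5e4e855f38d14b634853890919820), (nat_lit 0xffb9ddeb36be24f9d62ba394c834a83892419820), (nat_lit 0xffbbccdb77c6a4e855f38d14b635091988538820), (nat_lit 0xffbbccdf78d5a4f9d62ba394c83524198a838820), (nat_lit 0xffbbcce37ab5e515d68c73d509b4851990938820), (nat_lit 0xffbbcceb76be254655d07c5535b4a81992438820), (nat_lit 0xffbbcddb3ac5eae5ca938bdb0628893990518820), (nat_lit 0xffbbcddf36d62af649cba45b3828a43992818820), (nat_lit 0xffbbcde337b6ab1849ec751ab9a9053988918820), (nat_lit 0xffbbcdeb38bdab49ca307b9ac5a928398a418820)]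
noncomputable def AN_lS2_W : List (List ℕ) := [[(nat_lit 3), (nat_lit 5), (nat_lit 3), (nat_lit 6)],
  [(nat_lit 2), (nat_lit 5), (nat_lit 3), (nat_lit 6)],
  [(nat_lit 5), (nat_lit 6), (nat_lit 5)],
  [(nat_lit 1), (nat_lit 6), (nat_lit 5), (nat_lit 3), (nat_lit 6)],
  [(nat_lit 1), (nat_lit 5), (nat_lit 3), (nat_lit 6)],
  [(nat_lit 0), (nat_lit 5), (nat_lit 6)],
  [(nat_lit 1), (nat_lit 3), (nat_lit 5), (nat_lit 6), (nat_lit 5)],
  [(nat_lit 1), (nat_lit 2), (nat_lit 5), (nat_lit 6), (nat_lit 5)],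
  [(nat_lit 2), (nat_lit 5), (nat_lit 4), (nat_lit 6)],
  [(nat_lit 3), (nat_lit 5), (nat_lit 4), (nat_lit 6)],
  [(nat_lit 5), (nat_lit 6), (nat_lit 4), (nat_lit 5)],
  [(nat_lit 5), (nat_lit 6), (nat_lit 5), (nat_lit 4)],
  [(nat_lit 0), (nat_lit 3), (nat_lit 4), (nat_lit 5), (nat_lit 6)],
  [(nat_lit 0), (nat_lit 5), (nat_lit 6), (nat_lit 4)],
  [(nat_lit 2), (nat_lit 6), (nat_lit 5), (nat_lit 4), (nat_lit 6)],
  [(nat_lit 4), (nat_lit 6), (nat_lit 5), (nat_lit 6)],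
  [(nat_lit 0), (nat_lit 5), (nat_lit 3), (nat_lit 6)],
  [(nat_lit 1), (nat_lit 5), (nat_lit 6)],
  [(nat_lit 3), (nat_lit 6), (nat_lit 5), (nat_lit 6)],
  [(nat_lit 2), (nat_lit 6), (nat_lit 5), (nat_lit 6)],
  [(nat_lit 2), (nat_lit 5), (nat_lit 6)],
  [(nat_lit 3), (nat_lit 5), (nat_lit 6)],
  [(nat_lit 1), (nat_lit 6), (nat_lit 5), (nat_lit 6)],
  [(nat_lit 5), (nat_lit 3), (nat_lit 6), (nat_lit 5)],
  [(nat_lit 0), (nat_lit 5), (nat_lit 3), (nat_lit 6), (nat_lit 4)],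
  [(nat_lit 0), (nat_lit 5), (nat_lit 4), (nat_lit 6)],
  [(nat_lit 2), (nat_lit 6), (nat_lit 5), (nat_lit 6), (nat_lit 4)],
  [(nat_lit 6), (nat_lit 4), (nat_lit 5), (nat_lit 6)],
  [(nat_lit 4), (nat_lit 5), (nat_lit 6)],
  [(nat_lit 3), (nat_lit 5), (nat_lit 6), (nat_lit 4)],
  [(nat_lit 5), (nat_lit 4), (nat_lit 6), (nat_lit 5)],
  [(nat_lit 0), (nat_lit 6), (nat_lit 5), (nat_lit 4), (nat_lit 6)],
  [(nat_lit 0), (nat_lit 5)],
  [(nat_lit 1), (nat_lit 5), (nat_lit 3)],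
  [(nat_lit 3), (nat_lit 6), (nat_lit 5), (nat_lit 3)],
  [(nat_lit 2), (nat_lit 6), (nat_lit 5), (nat_lit 3)],
  [(nat_lit 2), (nat_lit 5), (nat_lit 3)],
  [(nat_lit 3), (nat_lit 5), (nat_lit 3)],
  [(nat_lit 1), (nat_lit 6), (nat_lit 5), (nat_lit 3)],
  [(nat_lit 0), (nat_lit 6), (nat_lit 5)],
  [(nat_lit 0), (nat_lit 5), (nat_lit 4)],
  [(nat_lit 1), (nat_lit 3), (nat_lit 4), (nat_lit 5)],
  [(nat_lit 6), (nat_lit 4), (nat_lit 5)],
  [(nat_lit 4), (nat_lit 6), (nat_lit 5), (nat_lit 3)],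
  [(nat_lit 2), (nat_lit 3), (nat_lit 4), (nat_lit 5)],
  [(nat_lit 4), (nat_lit 5)],
  [(nat_lit 0), (nat_lit 6), (nat_lit 5), (nat_lit 4)],
  [(nat_lit 0), (nat_lit 2), (nat_lit 4), (nat_lit 6), (nat_lit 5)],
  [(nat_lit 3), (nat_lit 5)],
  [(nat_lit 2), (nat_lit 5)],
  [(nat_lit 0), (nat_lit 6), (nat_lit 5), (nat_lit 3)],
  [(nat_lit 1), (nat_lit 6), (nat_lit 5)],
  [(nat_lit 1), (nat_lit 5)],
  [(nat_lit 0), (nat_lit 5), (nat_lit 3)],
  [(nat_lit 2), (nat_lit 6), (nat_lit 5)],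
  [(nat_lit 3), (nat_lit 6), (nat_lit 5)],
  [(nat_lit 3), (nat_lit 5), (nat_lit 4)],
  [(nat_lit 2), (nat_lit 5), (nat_lit 4)],
  [(nat_lit 1), (nat_lit 6), (nat_lit 5), (nat_lit 4)],
  [(nat_lit 0), (nat_lit 2), (nat_lit 6), (nat_lit 4), (nat_lit 5)],
  [(nat_lit 1), (nat_lit 5), (nat_lit 4)],
  [(nat_lit 0), (nat_lit 3), (nat_lit 4), (nat_lit 5)],
  [(nat_lit 4), (nat_lit 6), (nat_lit 5)],
  [(nat_lit 2), (nat_lit 6), (nat_lit 5), (nat_lit 4)],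
  [(nat_lit 5), (nat_lit 3), (nat_lit 6)],
  [(nat_lit 0), (nat_lit 1), (nat_lit 5), (nat_lit 6)],
  [(nat_lit 3), (nat_lit 5), (nat_lit 6), (nat_lit 5)],
  [(nat_lit 2), (nat_lit 5), (nat_lit 6), (nat_lit 5)],
  [(nat_lit 0), (nat_lit 2), (nat_lit 5), (nat_lit 6)],
  [(nat_lit 0), (nat_lit 3), (nat_lit 5), (nat_lit 6)],
  [(nat_lit 1), (nat_lit 5), (nat_lit 6), (nat_lit 5)],
  [(nat_lit 6), (nat_lit 5), (nat_lit 3), (nat_lit 6)],
  [(nat_lit 5), (nat_lit 3), (nat_lit 6), (nat_lit 4)],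
  [(nat_lit 5), (nat_lit 4), (nat_lit 6)],
  [(nat_lit 2), (nat_lit 5), (nat_lit 6), (nat_lit 5), (nat_lit 4)],
  [(nat_lit 4), (nat_lit 5), (nat_lit 6), (nat_lit 5)],
  [(nat_lit 0), (nat_lit 4), (nat_lit 5), (nat_lit 6)],
  [(nat_lit 0), (nat_lit 3), (nat_lit 5), (nat_lit 6), (nat_lit 4)],
  [(nat_lit 0), (nat_lit 5), (nat_lit 4), (nat_lit 6), (nat_lit 5)],
  [(nat_lit 6), (nat_lit 5), (nat_lit 4), (nat_lit 6)],
  [(nat_lit 1), (nat_lit 2), (nat_lit 5), (nat_lit 6)],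
  [(nat_lit 1), (nat_lit 3), (nat_lit 5), (nat_lit 6)],
  [(nat_lit 6), (nat_lit 5), (nat_lit 6)],
  [(nat_lit 1), (nat_lit 5), (nat_lit 3), (nat_lit 6), (nat_lit 5)],
  [(nat_lit 2), (nat_lit 3), (nat_lit 5), (nat_lit 6)],
  [(nat_lit 5), (nat_lit 6)],
  [(nat_lit 1), (nat_lit 3), (nat_lit 6), (nat_lit 5), (nat_lit 6)],
  [(nat_lit 1), (nat_lit 2), (nat_lit 6), (nat_lit 5), (nat_lit 6)],
  [(nat_lit 1), (nat_lit 4), (nat_lit 5), (nat_lit 6)],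
  [(nat_lit 0), (nat_lit 3), (nat_lit 5), (nat_lit 4), (nat_lit 6)],
  [(nat_lit 0), (nat_lit 5), (nat_lit 6), (nat_lit 4), (nat_lit 5)],
  [(nat_lit 6), (nat_lit 5), (nat_lit 6), (nat_lit 4)],
  [(nat_lit 3), (nat_lit 4), (nat_lit 5), (nat_lit 6)],
  [(nat_lit 5), (nat_lit 6), (nat_lit 4)],
  [(nat_lit 3), (nat_lit 5), (nat_lit 4), (nat_lit 6), (nat_lit 5)],
  [(nat_lit 0), (nat_lit 4), (nat_lit 6), (nat_lit 5), (nat_lit 6)],
  [(nat_lit 0), (nat_lit 3), (nat_lit 5)],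
  [(nat_lit 0), (nat_lit 2), (nat_lit 5)],
  [(nat_lit 6), (nat_lit 5), (nat_lit 3)],
  [(nat_lit 0), (nat_lit 1), (nat_lit 6), (nat_lit 5)],
  [(nat_lit 0), (nat_lit 1), (nat_lit 5)],
  [(nat_lit 5), (nat_lit 3)],
  [(nat_lit 0), (nat_lit 2), (nat_lit 6), (nat_lit 5)],
  [(nat_lit 0), (nat_lit 3), (nat_lit 6), (nat_lit 5)],
  [(nat_lit 0), (nat_lit 3), (nat_lit 5), (nat_lit 4)],
  [(nat_lit 1), (nat_lit 4), (nat_lit 5)],
  [(nat_lit 3), (nat_lit 6), (nat_lit 4), (nat_lit 5)],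
  [(nat_lit 2), (nat_lit 6), (nat_lit 4), (nat_lit 5)],
  [(nat_lit 2), (nat_lit 4), (nat_lit 5)],
  [(nat_lit 3), (nat_lit 4), (nat_lit 5)],
  [(nat_lit 0), (nat_lit 4), (nat_lit 6), (nat_lit 5)],
  [(nat_lit 0), (nat_lit 2), (nat_lit 6), (nat_lit 5), (nat_lit 4)],
  [(nat_lit 5)],
  [(nat_lit 2), (nat_lit 3), (nat_lit 5)],
  [(nat_lit 1), (nat_lit 2), (nat_lit 6), (nat_lit 5)],
  [(nat_lit 1), (nat_lit 3), (nat_lit 6), (nat_lit 5)],
  [(nat_lit 1), (nat_lit 3), (nat_lit 5)],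
  [(nat_lit 1), (nat_lit 2), (nat_lit 5)],
  [(nat_lit 2), (nat_lit 3), (nat_lit 6), (nat_lit 5)],
  [(nat_lit 6), (nat_lit 5)],
  [(nat_lit 5), (nat_lit 4)],
  [(nat_lit 2), (nat_lit 3), (nat_lit 5), (nat_lit 4)],
  [(nat_lit 0), (nat_lit 6), (nat_lit 4), (nat_lit 5)],
  [(nat_lit 0), (nat_lit 4), (nat_lit 6), (nat_lit 5), (nat_lit 3)],
  [(nat_lit 1), (nat_lit 3), (nat_lit 5), (nat_lit 4)],
  [(nat_lit 0), (nat_lit 4), (nat_lit 5)],
  [(nat_lit 6), (nat_lit 5), (nat_lit 4)],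
  [(nat_lit 2), (nat_lit 4), (nat_lit 6), (nat_lit 5)],
  [(nat_lit 0), (nat_lit 2), (nat_lit 6), (nat_lit 4)],
  [(nat_lit 0), (nat_lit 1), (nat_lit 4)],
  [(nat_lit 0), (nat_lit 3), (nat_lit 6), (nat_lit 4)],
  [(nat_lit 3), (nat_lit 5), (nat_lit 4), (nat_lit 5)],
  [(nat_lit 2), (nat_lit 3), (nat_lit 4), (nat_lit 6)],
  [(nat_lit 0), (nat_lit 3), (nat_lit 4)],
  [(nat_lit 4), (nat_lit 6)],
  [(nat_lit 0), (nat_lit 2), (nat_lit 4)],
  [(nat_lit 2), (nat_lit 3), (nat_lit 6), (nat_lit 4)],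
  [(nat_lit 1), (nat_lit 3), (nat_lit 4)],
  [(nat_lit 6), (nat_lit 4)],
  [(nat_lit 1), (nat_lit 2), (nat_lit 4)],
  [(nat_lit 0), (nat_lit 2), (nat_lit 4), (nat_lit 6)],
  [(nat_lit 4)],
  [(nat_lit 0), (nat_lit 3), (nat_lit 4), (nat_lit 6)],
  [(nat_lit 2), (nat_lit 3), (nat_lit 4)],
  [(nat_lit 0), (nat_lit 6)],
  [(nat_lit 0), (nat_lit 1), (nat_lit 2)],
  [(nat_lit 0), (nat_lit 2), (nat_lit 3), (nat_lit 6)],
  [(nat_lit 0), (nat_lit 1), (nat_lit 3)],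
  [(nat_lit 0), (nat_lit 1), (nat_lit 3), (nat_lit 6)],
  [(nat_lit 0), (nat_lit 2), (nat_lit 3)],
  [(nat_lit 0), (nat_lit 1), (nat_lit 2), (nat_lit 6)],
  [(nat_lit 0)],
  [(nat_lit 3), (nat_lit 6)],
  [(nat_lit 1), (nat_lit 2), (nat_lit 3)],
  [(nat_lit 2), (nat_lit 6)],
  [(nat_lit 1)],
  [(nat_lit 1), (nat_lit 6)],
  [(nat_lit 2)],
  [(nat_lit 1), (nat_lit 2), (nat_lit 3), (nat_lit 6)],
  [(nat_lit 3)],
  [(nat_lit 0), (nat_lit 2), (nat_lit 3), (nat_lit 6), (nat_lit 4)],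
  [(nat_lit 0), (nat_lit 1), (nat_lit 3), (nat_lit 4)],
  [(nat_lit 0), (nat_lit 6), (nat_lit 4)],
  [(nat_lit 5), (nat_lit 4), (nat_lit 5)],
  [(nat_lit 2), (nat_lit 4), (nat_lit 6)],
  [(nat_lit 0), (nat_lit 4)],
  [(nat_lit 3), (nat_lit 4), (nat_lit 6)],
  [(nat_lit 0), (nat_lit 2), (nat_lit 3), (nat_lit 4)],
  [(nat_lit 2), (nat_lit 6), (nat_lit 4)],
  [(nat_lit 1), (nat_lit 4)],
  [(nat_lit 3), (nat_lit 6), (nat_lit 4)],
  [(nat_lit 1), (nat_lit 2), (nat_lit 3), (nat_lit 4)],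
  [(nat_lit 0), (nat_lit 2), (nat_lit 3), (nat_lit 4), (nat_lit 6)],
  [(nat_lit 3), (nat_lit 4)],
  [(nat_lit 0), (nat_lit 4), (nat_lit 6)],
  [(nat_lit 2), (nat_lit 4)],
  [(nat_lit 0), (nat_lit 3), (nat_lit 6)],
  [(nat_lit 5), (nat_lit 3), (nat_lit 5)],
  [(nat_lit 0), (nat_lit 2), (nat_lit 6)],
  [(nat_lit 0), (nat_lit 1)],
  [(nat_lit 0), (nat_lit 1), (nat_lit 6)],
  [(nat_lit 0), (nat_lit 2)],
  [(nat_lit 5), (nat_lit 3), (nat_lit 5), (nat_lit 6)],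
  [(nat_lit 0), (nat_lit 3)],
  [(nat_lit 6)],
  [(nat_lit 1), (nat_lit 2)],
  [(nat_lit 2), (nat_lit 3), (nat_lit 6)],
  [(nat_lit 1), (nat_lit 3)],
  [(nat_lit 1), (nat_lit 3), (nat_lit 6)],
  [(nat_lit 2), (nat_lit 3)],
  [(nat_lit 1), (nat_lit 2), (nat_lit 6)],
  []]
noncomputable def AN_lS2_h (c : ℕ) : ℕ := Nat.mod c (nat_lit 9593)
noncomputable def AN_lS2_T0 : ST := (.node (nat_lit 0x495937ca98adb5beddd0cc55c5b7c438be819820) (.node (nat_lit 0x2a66c7ca98adb5be5dcbcc5bd82be818bc439820) (.node (nat_lit 0x2222e5ca1aadeddce274e315b7b7c510fe931c20) (.node (nat_lit 0x221d18497aadedcde18fecd59a37c531fe910c20) (.node (nat_lit 0x221708ddd5d4b0f65b7ca65b3ea8be3993f18820) (.node (nat_lit 0x2217076a35bcad46637d7e553e34bf1993e38820) (.node (nat_lit 0x221707563796adbee1f3cd15c637e919bc538820) (.leaf (nat_lit 0x2217074a3aaded9e628cdbd5d9b7c519be938820)) (.node (nat_lit 0x2217075e32d56cf9e33ca6d4ceb53e198bf38820)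 (.leaf (nat_lit 0x221707563796adbee1f3cd15c637e919bc538820)) (.leaf (nat_lit 0x2217075e32d56cf9e33ca6d4ceb53e198bf38820)))) (.node (nat_lit 0x221708c9d7aeb19ed9ecdd1bc9abe539bc918820) (.leaf (nat_lit 0x2217076a35bcad46637d7e553e34bf1993e38820)) (.node (nat_lit 0x221708d5da95f1be5a93cbdbd62bc939be518820) (.leaf (nat_lit 0x221708c9d7aeb19ed9ecdd1bc9abe539bc918820)) (.leaf (nat_lit 0x221708d5da95f1be5a93cbdbd62bc939be518820))))) (.node (nat_lit 0x221d15d61a95f1ddd994e4db97abc911fe530c20) (.node (nat_lit 0x221708e9d2bd7149db3d7edace293f398be18820) (.leaf (nat_lit 0x221708ddd5d4b0f65b7ca65b3ea8be3993f18820)) (.node (nat_lit 0x221d15ca17aeb1ccda6feb1bba2be511fc930c20) (.leaf (nat_lit 0x221708e9d2bd7149db3d7edace293f398be18820)) (.leaf (nat_lit 0x221d15ca17aeb1ccda6feb1bba2be511fc930c20)))) (.node (nat_lit 0x221d15de15d4b137dbbb671b4ca8be11d3f30c20) (.leaf (nat_lit 0x221d15d61a95f1ddd994e4db97abc911fe530c20))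 (.node (nat_lit 0x221d15ea12bd70ca5b999f5afda93f11cbe30c20) (.leaf (nat_lit 0x221d15de15d4b137dbbb671b4ca8be11d3f30c20)) (.leaf (nat_lit 0x221d15ea12bd70ca5b999f5afda93f11cbe30c20)))))) (.node (nat_lit 0x2220b75e35d4b149db3d7edace28be1893f39820) (.node (nat_lit 0x221d186975bcacc7e3b99f154db4bf31d3e10c20) (.node (nat_lit 0x221d18557796addce274e315b7b7e931fc510c20) (.leaf (nat_lit 0x221d18497aadedcde18fecd59a37c531fe910c20)) (.node (nat_lit 0x221d185d72d56d3a639b6754fcb53e31cbf10c20) (.leaf (nat_lit 0x221d18557796addce274e315b7b7e931fc510c20)) (.leaf (nat_lit 0x221d185d72d56d3a639b6754fcb53e31cbf10c20)))) (.node (nat_lit 0x2220b74a37aeb1be5a93cbdbd62be518bc939820) (.leaf (nat_lit 0x221d186975bcacc7e3b99f154db4bf31d3e10c20)) (.node (nat_lit 0x2220b7563a95f19ed9ecdd1bc9abc918be539820) (.leaf (nat_lit 0x2220b74a37aeb1be5a93cbdbd62be518bc939820)) (.leaf (nat_lit 0x2220b7563a95f19ed9ecdd1bc9abc918be539820)))))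 (.node (nat_lit 0x2220b8d5d796ad9e628cdbd5d9b7e938bc519820) (.node (nat_lit 0x2220b76a32bd70f65b7ca65b3ea93f188be39820) (.leaf (nat_lit 0x2220b75e35d4b149db3d7edace28be1893f39820)) (.node (nat_lit 0x2220b8c9daadedbee1f3cd15c637c538be919820) (.leaf (nat_lit 0x2220b76a32bd70f65b7ca65b3ea93f188be39820)) (.leaf (nat_lit 0x2220b8c9daadedbee1f3cd15c637c538be919820)))) (.node (nat_lit 0x2220b8ddd2d56d46637d7e553e353e388bf19820) (.leaf (nat_lit 0x2220b8d5d796ad9e628cdbd5d9b7e938bc519820)) (.node (nat_lit 0x2220b8e9d5bcacf9e33ca6d4ceb4bf3893e19820) (.leaf (nat_lit 0x2220b8ddd2d56d46637d7e553e353e388bf19820)) (.leaf (nat_lit 0x2220b8e9d5bcacf9e33ca6d4ceb4bf3893e19820))))))) (.node (nat_lit 0x2a593a49f8adb59ede30db9bc5abe839bc418820) (.node (nat_lit 0x2222e85d75d4b0ca5b999f5afda8be30d3f11c20) (.node (nat_lit 0x2222e5ea15bcad3a639b6754fcb4bf10d3e31c20) (.node (nat_lit 0x2222e5d61796adcde18fecd59a37e910fc531c20)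 (.leaf (nat_lit 0x2222e5ca1aadeddce274e315b7b7c510fe931c20)) (.node (nat_lit 0x2222e5de12d56cc7e3b99f154db53e10cbf31c20) (.leaf (nat_lit 0x2222e5d61796adcde18fecd59a37e910fc531c20)) (.leaf (nat_lit 0x2222e5de12d56cc7e3b99f154db53e10cbf31c20)))) (.node (nat_lit 0x2222e84977aeb1ddd994e4db97abe530fc911c20) (.leaf (nat_lit 0x2222e5ea15bcad3a639b6754fcb4bf10d3e31c20)) (.node (nat_lit 0x2222e8557a95f1ccda6feb1bba2bc930fe511c20) (.leaf (nat_lit 0x2222e84977aeb1ddd994e4db97abe530fc911c20)) (.leaf (nat_lit 0x2222e8557a95f1ccda6feb1bba2bc930fe511c20))))) (.node (nat_lit 0x2a5937d69895afbeea2bcb95c837e419bc838820) (.node (nat_lit 0x2222e86972bd7137dbbb671b4ca93f30cbe11c20) (.leaf (nat_lit 0x2222e85d75d4b0ca5b999f5afda8be30d3f11c20)) (.node (nat_lit 0x2a5937ca96ae2f9e69d0dc55d5b7c819be438820) (.leaf (nat_lit 0x2222e86972bd7137dbbb671b4ca93f30cbe11c20)) (.leaf (nat_lit 0x2a5937ca96ae2f9e69d0dc55d5b7c819be438820))))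 (.node (nat_lit 0x2a5937da95c4aee86b7d8e54be351f1989e38820) (.leaf (nat_lit 0x2a5937d69895afbeea2bcb95c837e419bc838820)) (.node (nat_lit 0x2a5937e292b56f15eb3c76d50eb49e1991f38820) (.leaf (nat_lit 0x2a5937da95c4aee86b7d8e54be351f1989e38820)) (.leaf (nat_lit 0x2a5937e292b56f15eb3c76d50eb49e1991f38820)))))) (.node (nat_lit 0x2a5f465a72c575075f995f5b1da89f11d1e30c20) (.node (nat_lit 0x2a593a61f5b4b5185f7c765abea91e3989f18820) (.node (nat_lit 0x2a593a55f69635be5dcbcc5bd82bc439be818820) (.leaf (nat_lit 0x2a593a49f8adb59ede30db9bc5abe839bc418820)) (.node (nat_lit 0x2a593a59f2c574e5df3d8edb0e289f3991e18820) (.leaf (nat_lit 0x2a593a55f69635be5dcbcc5bd82bc439be818820)) (.leaf (nat_lit 0x2a593a59f2c574e5df3d8edb0e289f3991e18820)))) (.node (nat_lit 0x2a5f464a78adb5ccdd71ec1bb72be811fc430c20) (.leaf (nat_lit 0x2a593a61f5b4b5185f7c765abea91e3989f18820)) (.node (nat_lit 0x2a5f4656769635ddde0ee2db98abc411fe830c20)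 (.leaf (nat_lit 0x2a5f464a78adb5ccdd71ec1bb72be811fc430c20)) (.leaf (nat_lit 0x2a5f4656769635ddde0ee2db98abc411fe830c20))))) (.node (nat_lit 0x2a5f49d59895afdce96ee415b8b7e431fc810c20) (.node (nat_lit 0x2a5f466275b4b4b8dfbb871aeca91e11c9f30c20) (.leaf (nat_lit 0x2a5f465a72c575075f995f5b1da89f11d1e30c20)) (.node (nat_lit 0x2a5f49c996ae2fcdea11ead59737c831fe410c20) (.leaf (nat_lit 0x2a5f466275b4b4b8dfbb871aeca91e11c9f30c20)) (.leaf (nat_lit 0x2a5f49c996ae2fcdea11ead59737c831fe410c20)))) (.node (nat_lit 0x2a5f49d995c4af08ebb95f14edb51f31c9e10c20) (.leaf (nat_lit 0x2a5f49d59895afdce96ee415b8b7e431fc810c20)) (.node (nat_lit 0x2a5f49e192b56eb76b9b87551cb49e31d1f10c20) (.leaf (nat_lit 0x2a5f49d995c4af08ebb95f14edb51f31c9e10c20)) (.leaf (nat_lit 0x2a5f49e192b56eb76b9b87551cb49e31d1f10c20)))))))) (.node (nat_lit 0x411d15ca1aadeddde26fe31b9a2be930fc511c20) (.node (nat_lit 0x2a68f9c998adb5ddde0ee2db98abe830fc411c20)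 (.node (nat_lit 0x2a66ca59f5c4af15eb3c76d50eb51f3889e19820) (.node (nat_lit 0x2a66c7e295b4b4e5df3d8edb0e291e1889f39820) (.node (nat_lit 0x2a66c7d69696359ede30db9bc5abc418be839820) (.leaf (nat_lit 0x2a66c7ca98adb5be5dcbcc5bd82be818bc439820)) (.node (nat_lit 0x2a66c7da92c575185f7c765abea89f1891e39820) (.leaf (nat_lit 0x2a66c7d69696359ede30db9bc5abc418be839820)) (.leaf (nat_lit 0x2a66c7da92c575185f7c765abea89f1891e39820)))) (.node (nat_lit 0x2a66ca49f6ae2fbeea2bcb95c837c838be419820) (.leaf (nat_lit 0x2a66c7e295b4b4e5df3d8edb0e291e1889f39820)) (.node (nat_lit 0x2a66ca55f895af9e69d0dc55d5b7e438bc819820) (.leaf (nat_lit 0x2a66ca49f6ae2fbeea2bcb95c837c838be419820)) (.leaf (nat_lit 0x2a66ca55f895af9e69d0dc55d5b7e438bc819820))))) (.node (nat_lit 0x2a68f6567895afcdea11ead59737e410fc831c20) (.node (nat_lit 0x2a66ca61f2b56ee86b7d8e54be349e3891f19820) (.leaf (nat_lit 0x2a66ca59f5c4af15eb3c76d50eb51f3889e19820))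 (.node (nat_lit 0x2a68f64a76ae2fdce96ee415b8b7c810fe431c20) (.leaf (nat_lit 0x2a66ca61f2b56ee86b7d8e54be349e3891f19820)) (.leaf (nat_lit 0x2a68f64a76ae2fdce96ee415b8b7c810fe431c20)))) (.node (nat_lit 0x2a68f65a75c4aeb76b9b87551cb51f10c9e31c20) (.leaf (nat_lit 0x2a68f6567895afcdea11ead59737e410fc831c20)) (.node (nat_lit 0x2a68f66272b56f08ebb95f14edb49e10d1f31c20) (.leaf (nat_lit 0x2a68f65a75c4aeb76b9b87551cb51f10c9e31c20)) (.leaf (nat_lit 0x2a68f66272b56f08ebb95f14edb49e10d1f31c20)))))) (.node (nat_lit 0x4117075e35d4b1465b3c7ed53eb53f388be19820) (.node (nat_lit 0x2a68f9e195b4b5075f995f5b1da91e30c9f11c20) (.node (nat_lit 0x2a68f9d5969635ccdd71ec1bb72bc430fe811c20) (.leaf (nat_lit 0x2a68f9c998adb5ddde0ee2db98abe830fc411c20)) (.node (nat_lit 0x2a68f9d992c574b8dfbb871aeca89f30d1e11c20) (.leaf (nat_lit 0x2a68f9d5969635ccdd71ec1bb72bc430fe811c20)) (.leaf (nat_lit 0x2a68f9d992c574b8dfbb871aeca89f30d1e11c20))))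 (.node (nat_lit 0x4117074a37aeb1beda8ccbd5c9b7c938be519820) (.leaf (nat_lit 0x2a68f9e195b4b5075f995f5b1da91e30c9f11c20)) (.node (nat_lit 0x411707563a95f19e59f3dd15d637e538bc919820) (.leaf (nat_lit 0x4117074a37aeb1beda8ccbd5c9b7c938be519820)) (.leaf (nat_lit 0x411707563a95f19e59f3dd15d637e538bc919820))))) (.node (nat_lit 0x411708d5d796ad9ee293dbdbc62bc518be939820) (.node (nat_lit 0x4117076a32bd70f9db7da654ce34be3893f19820) (.leaf (nat_lit 0x4117075e35d4b1465b3c7ed53eb53f388be19820)) (.node (nat_lit 0x411708c9daadedbe61eccd1bd9abe918bc539820) (.leaf (nat_lit 0x4117076a32bd70f9db7da654ce34be3893f19820)) (.leaf (nat_lit 0x411708c9daadedbe61eccd1bd9abe918bc539820)))) (.node (nat_lit 0x411708ddd2d56d49e37c7e5acea8bf1893e39820) (.leaf (nat_lit 0x411708d5d796ad9ee293dbdbc62bc518be939820)) (.node (nat_lit 0x411708e9d5bcacf6633da6db3e293e188bf39820) (.leaf (nat_lit 0x411708ddd2d56d49e37c7e5acea8bf1893e39820))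 (.leaf (nat_lit 0x411708e9d5bcacf6633da6db3e293e188bf39820))))))) (.node (nat_lit 0x4120b8c9d7aeb19e59f3dd15d637c919be538820) (.node (nat_lit 0x411d185d75d4b0c7db9b9f554cb53f10cbe31c20) (.node (nat_lit 0x411d15ea15bcad37e399675b4da93e30cbf11c20) (.node (nat_lit 0x411d15d61796adcce194ecdbb7abc530fe911c20) (.leaf (nat_lit 0x411d15ca1aadeddde26fe31b9a2be930fc511c20)) (.node (nat_lit 0x411d15de12d56cca63bb9f1afca8bf30d3e11c20) (.leaf (nat_lit 0x411d15d61796adcce194ecdbb7abc530fe911c20)) (.leaf (nat_lit 0x411d15de12d56cca63bb9f1afca8bf30d3e11c20)))) (.node (nat_lit 0x411d184977aeb1dcd98fe4d5ba37c910fe531c20) (.leaf (nat_lit 0x411d15ea15bcad37e399675b4da93e30cbf11c20)) (.node (nat_lit 0x411d18557a95f1cdda74eb1597b7e510fc931c20) (.leaf (nat_lit 0x411d184977aeb1dcd98fe4d5ba37c910fe531c20)) (.leaf (nat_lit 0x411d18557a95f1cdda74eb1597b7e510fc931c20))))) (.node (nat_lit 0x4120b7563796adbe61eccd1bd9abc539be918820)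 (.node (nat_lit 0x411d186972bd713a5bb96714fdb4be10d3f31c20) (.leaf (nat_lit 0x411d185d75d4b0c7db9b9f554cb53f10cbe31c20)) (.node (nat_lit 0x4120b74a3aaded9ee293dbdbc62be939bc518820) (.leaf (nat_lit 0x411d186972bd713a5bb96714fdb4be10d3f31c20)) (.leaf (nat_lit 0x4120b74a3aaded9ee293dbdbc62be939bc518820)))) (.node (nat_lit 0x4120b75e32d56cf6633da6db3e28bf3993e18820) (.leaf (nat_lit 0x4120b7563796adbe61eccd1bd9abc539be918820)) (.node (nat_lit 0x4120b76a35bcad49e37c7e5acea93e398bf18820) (.leaf (nat_lit 0x4120b75e32d56cf6633da6db3e28bf3993e18820)) (.leaf (nat_lit 0x4120b76a35bcad49e37c7e5acea93e398bf18820)))))) (.node (nat_lit 0x4122e5de15d4b13a5bb96714fdb53f31cbe10c20) (.node (nat_lit 0x4120b8e9d2bd71465b3c7ed53eb4be1993f38820) (.node (nat_lit 0x4120b8d5da95f1beda8ccbd5c9b7e519bc938820) (.leaf (nat_lit 0x4120b8c9d7aeb19e59f3dd15d637c919be538820)) (.node (nat_lit 0x4120b8ddd5d4b0f9db7da654ce353f198be38820)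 (.leaf (nat_lit 0x4120b8d5da95f1beda8ccbd5c9b7e519bc938820)) (.leaf (nat_lit 0x4120b8ddd5d4b0f9db7da654ce353f198be38820)))) (.node (nat_lit 0x4122e5ca17aeb1cdda74eb1597b7c931fe510c20) (.leaf (nat_lit 0x4120b8e9d2bd71465b3c7ed53eb4be1993f38820)) (.node (nat_lit 0x4122e5d61a95f1dcd98fe4d5ba37e531fc910c20) (.leaf (nat_lit 0x4122e5ca17aeb1cdda74eb1597b7c931fe510c20)) (.leaf (nat_lit 0x4122e5d61a95f1dcd98fe4d5ba37e531fc910c20))))) (.node (nat_lit 0x4122e8557796addde26fe31b9a2bc511fe930c20) (.node (nat_lit 0x4122e5ea12bd70c7db9b9f554cb4be31d3f10c20) (.leaf (nat_lit 0x4122e5de15d4b13a5bb96714fdb53f31cbe10c20)) (.node (nat_lit 0x4122e8497aadedcce194ecdbb7abe911fc530c20) (.leaf (nat_lit 0x4122e5ea12bd70c7db9b9f554cb4be31d3f10c20)) (.leaf (nat_lit 0x4122e8497aadedcce194ecdbb7abe911fc530c20)))) (.node (nat_lit 0x4122e85d72d56d37e399675b4da8bf11d3e30c20) (.leaf (nat_lit 0x4122e8557796addde26fe31b9a2bc511fe930c20))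 (.node (nat_lit 0x4122e86975bcacca63bb9f1afca93e11cbf30c20) (.leaf (nat_lit 0x4122e85d72d56d37e399675b4da8bf11d3e30c20)) (.leaf (nat_lit 0x4122e86975bcacca63bb9f1afca93e11cbf30c20))))))))) (.node (nat_lit 0xf7f9dcdb77c6a4e5d5ec8d1b09a8853990918820) (.node (nat_lit 0x4968f64a78adb5cddd6eec1598b7c431fe810c20) (.node (nat_lit 0x495f49c998adb5dcde11e2d5b737c410fe831c20) (.node (nat_lit 0x49593a59f5c4af186b3d76dabe289e1891f39820) (.node (nat_lit 0x495937e295b4b4e85f3c8ed4beb49f3891e19820) (.node (nat_lit 0x495937d69696359e5e2bdb95d837e838bc419820) (.leaf (nat_lit 0x495937ca98adb5beddd0cc55c5b7c438be819820)) (.node (nat_lit 0x495937da92c57515df7d76550e351e3889f19820) (.leaf (nat_lit 0x495937d69696359e5e2bdb95d837e838bc419820)) (.leaf (nat_lit 0x495937da92c57515df7d76550e351e3889f19820)))) (.node (nat_lit 0x49593a49f6ae2fbe6a30cb9bd5abe418bc839820) (.leaf (nat_lit 0x495937e295b4b4e85f3c8ed4beb49f3891e19820))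 (.node (nat_lit 0x49593a55f895af9ee9cbdc5bc82bc818be439820) (.leaf (nat_lit 0x49593a49f6ae2fbe6a30cb9bd5abe418bc839820)) (.leaf (nat_lit 0x49593a55f895af9ee9cbdc5bc82bc818be439820))))) (.node (nat_lit 0x495f46567895afccea0eeadbb8abc830fe411c20) (.node (nat_lit 0x49593a61f2b56ee5eb7c8e5b0ea91f1889e39820) (.leaf (nat_lit 0x49593a59f5c4af186b3d76dabe289e1891f39820)) (.node (nat_lit 0x495f464a76ae2fdde971e41b972be430fc811c20) (.leaf (nat_lit 0x49593a61f2b56ee5eb7c8e5b0ea91f1889e39820)) (.leaf (nat_lit 0x495f464a76ae2fdde971e41b972be430fc811c20)))) (.node (nat_lit 0x495f465a75c4aeb8eb99875aeda89e30d1f11c20) (.leaf (nat_lit 0x495f46567895afccea0eeadbb8abc830fe411c20)) (.node (nat_lit 0x495f466272b56f076bbb5f1b1ca91f30c9e11c20) (.leaf (nat_lit 0x495f465a75c4aeb8eb99875aeda89e30d1f11c20)) (.leaf (nat_lit 0x495f466272b56f076bbb5f1b1ca91f30c9e11c20)))))) (.node (nat_lit 0x4966c7da95c4aee5eb7c8e5b0ea89e3991f18820)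 (.node (nat_lit 0x495f49e195b4b508df9b5f54ecb49f10d1e31c20) (.node (nat_lit 0x495f49d5969635cddd6eec1598b7e810fc431c20) (.leaf (nat_lit 0x495f49c998adb5dcde11e2d5b737c410fe831c20)) (.node (nat_lit 0x495f49d992c574b75fb987151db51e10c9f31c20) (.leaf (nat_lit 0x495f49d5969635cddd6eec1598b7e810fc431c20)) (.leaf (nat_lit 0x495f49d992c574b75fb987151db51e10c9f31c20)))) (.node (nat_lit 0x4966c7ca96ae2f9ee9cbdc5bc82be439bc818820) (.leaf (nat_lit 0x495f49e195b4b508df9b5f54ecb49f10d1e31c20)) (.node (nat_lit 0x4966c7d69895afbe6a30cb9bd5abc839be418820) (.leaf (nat_lit 0x4966c7ca96ae2f9ee9cbdc5bc82be439bc818820)) (.leaf (nat_lit 0x4966c7d69895afbe6a30cb9bd5abc839be418820))))) (.node (nat_lit 0x4966ca55f69635beddd0cc55c5b7e819bc438820) (.node (nat_lit 0x4966c7e292b56f186b3d76dabe291f3989e18820) (.leaf (nat_lit 0x4966c7da95c4aee5eb7c8e5b0ea89e3991f18820)) (.node (nat_lit 0x4966ca49f8adb59e5e2bdb95d837c419be838820)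 (.leaf (nat_lit 0x4966c7e292b56f186b3d76dabe291f3989e18820)) (.leaf (nat_lit 0x4966ca49f8adb59e5e2bdb95d837c419be838820)))) (.node (nat_lit 0x4966ca59f2c574e85f3c8ed4beb51e1989f38820) (.leaf (nat_lit 0x4966ca55f69635beddd0cc55c5b7e819bc438820)) (.node (nat_lit 0x4966ca61f5b4b515df7d76550e349f1991e38820) (.leaf (nat_lit 0x4966ca59f2c574e85f3c8ed4beb51e1989f38820)) (.leaf (nat_lit 0x4966ca61f5b4b515df7d76550e349f1991e38820))))))) (.node (nat_lit 0xf7f3bedb97c6a4b8d59484dae7a88530d0911c20) (.node (nat_lit 0x4968f9d995c4af076bbb5f1b1ca89e11d1f30c20) (.node (nat_lit 0x4968f66275b4b4b75fb987151db49f31d1e10c20) (.node (nat_lit 0x4968f656769635dcde11e2d5b737e831fc410c20) (.leaf (nat_lit 0x4968f64a78adb5cddd6eec1598b7c431fe810c20)) (.node (nat_lit 0x4968f65a72c57508df9b5f54ecb51e31c9f10c20) (.leaf (nat_lit 0x4968f656769635dcde11e2d5b737e831fc410c20)) (.leaf (nat_lit 0x4968f65a72c57508df9b5f54ecb51e31c9f10c20))))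 (.node (nat_lit 0x4968f9c996ae2fccea0eeadbb8abe411fc830c20) (.leaf (nat_lit 0x4968f66275b4b4b75fb987151db49f31d1e10c20)) (.node (nat_lit 0x4968f9d59895afdde971e41b972bc811fe430c20) (.leaf (nat_lit 0x4968f9c996ae2fccea0eeadbb8abe411fc830c20)) (.leaf (nat_lit 0x4968f9d59895afdde971e41b972bc811fe430c20))))) (.node (nat_lit 0xf7f3be5fb6d62ac7c96e9c1548b52810ca431c20) (.node (nat_lit 0x4968f9e192b56eb8eb99875aeda91f11c9e30c20) (.leaf (nat_lit 0x4968f9d995c4af076bbb5f1b1ca89e11d1f30c20)) (.node (nat_lit 0xf7f3be5bbac5eab74a74831517b50510c8931c20) (.leaf (nat_lit 0x4968f9e192b56eb8eb99875aeda91f11c9e30c20)) (.leaf (nat_lit 0xf7f3be5bbac5eab74a74831517b50510c8931c20)))) (.node (nat_lit 0xf7f3be63b7b6ab08c98f5cd4ea348910d0531c20) (.leaf (nat_lit 0xf7f3be5fb6d62ac7c96e9c1548b52810ca431c20)) (.node (nat_lit 0xf7f3be6bb8bdab3a4a1162d4f734a410d2831c20) (.leaf (nat_lit 0xf7f3be63b7b6ab08c98f5cd4ea348910d0531c20))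 (.leaf (nat_lit 0xf7f3be6bb8bdab3a4a1162d4f734a410d2831c20)))))) (.node (nat_lit 0xf7f79e63bab5e4b8d59484dae7a90911c8530c20) (.node (nat_lit 0xf7f3beeb96be2537d571641b47292430ca811c20) (.node (nat_lit 0xf7f3bedf98d5a4ca560e9adaf8a8a830d2411c20) (.leaf (nat_lit 0xf7f3bedb97c6a4b8d59484dae7a88530d0911c20)) (.node (nat_lit 0xf7f3bee39ab5e507566f5b1b1a290930c8511c20) (.leaf (nat_lit 0xf7f3bedf98d5a4ca560e9adaf8a8a830d2411c20)) (.leaf (nat_lit 0xf7f3bee39ab5e507566f5b1b1a290930c8511c20)))) (.node (nat_lit 0xf7f79e5bb7c6a507566f5b1b1a288511d0930c20) (.leaf (nat_lit 0xf7f3beeb96be2537d571641b47292430ca811c20)) (.node (nat_lit 0xf7f79e5fb8d5a537d571641b4728a811d2430c20) (.leaf (nat_lit 0xf7f79e5bb7c6a507566f5b1b1a288511d0930c20)) (.leaf (nat_lit 0xf7f79e5fb8d5a537d571641b4728a811d2430c20))))) (.node (nat_lit 0xf7f79edf96d62b3a4a1162d4f7352831ca410c20) (.node (nat_lit 0xf7f79e6bb6be24ca560e9adaf8a92411ca830c20)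 (.leaf (nat_lit 0xf7f79e63bab5e4b8d59484dae7a90911c8530c20)) (.node (nat_lit 0xf7f79edb9ac5eb08c98f5cd4ea350531c8910c20) (.leaf (nat_lit 0xf7f79e6bb6be24ca560e9adaf8a92411ca830c20)) (.leaf (nat_lit 0xf7f79edb9ac5eb08c98f5cd4ea350531c8910c20)))) (.node (nat_lit 0xf7f79ee397b6aab74a74831517b48931d0510c20) (.leaf (nat_lit 0xf7f79edf96d62b3a4a1162d4f7352831ca410c20)) (.node (nat_lit 0xf7f79eeb98bdaac7c96e9c1548b4a431d2810c20) (.leaf (nat_lit 0xf7f79ee397b6aab74a74831517b48931d0510c20)) (.leaf (nat_lit 0xf7f79eeb98bdaac7c96e9c1548b4a431d2810c20)))))))) (.node (nat_lit 0xffb79e5bbac5eab8ca6f831aea288930d0511c20) (.node (nat_lit 0xf7fbcddb37c6a518569373dab628851890939820) (.node (nat_lit 0xf7f9dde337b6ab15c9f375150634891990538820) (.node (nat_lit 0xf7f9dceb76be2549d5cb7c5ac82924398a818820) (.node (nat_lit 0xf7f9dcdf78d5a4f65630a39b35a8a83992418820) (.leaf (nat_lit 0xf7f9dcdb77c6a4e5d5ec8d1b09a8853990918820))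 (.node (nat_lit 0xf7f9dce37ab5e518569373dab629093988518820) (.leaf (nat_lit 0xf7f9dcdf78d5a4f65630a39b35a8a83992418820)) (.leaf (nat_lit 0xf7f9dce37ab5e518569373dab629093988518820)))) (.node (nat_lit 0xf7f9dddb3ac5eae84a8c8bd4b9b5051988938820) (.leaf (nat_lit 0xf7f9dceb76be2549d5cb7c5ac82924398a818820)) (.node (nat_lit 0xf7f9dddf36d62af9c9d0a454c5b528198a438820) (.leaf (nat_lit 0xf7f9dddb3ac5eae84a8c8bd4b9b5051988938820)) (.leaf (nat_lit 0xf7f9dddf36d62af9c9d0a454c5b528198a438820))))) (.node (nat_lit 0xf7fbccdf76d62b464a2b7b95383528388a419820) (.node (nat_lit 0xf7f9ddeb38bdab464a2b7b953834a41992838820) (.leaf (nat_lit 0xf7f9dde337b6ab15c9f375150634891990538820)) (.node (nat_lit 0xf7fbccdb7ac5eb15c9f375150635053888919820) (.leaf (nat_lit 0xf7f9ddeb38bdab464a2b7b953834a41992838820)) (.leaf (nat_lit 0xf7fbccdb7ac5eb15c9f375150635053888919820)))) (.node (nat_lit 0xf7fbcce377b6aae84a8c8bd4b9b4893890519820)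 (.leaf (nat_lit 0xf7fbccdf76d62b464a2b7b95383528388a419820)) (.node (nat_lit 0xf7fbcceb78bdaaf9c9d0a454c5b4a43892819820) (.leaf (nat_lit 0xf7fbcce377b6aae84a8c8bd4b9b4893890519820)) (.leaf (nat_lit 0xf7fbcceb78bdaaf9c9d0a454c5b4a43892819820)))))) (.node (nat_lit 0xffb3be63bab5e4b7558f84d51a348531d0910c20) (.node (nat_lit 0xf7fbcdeb36be24f65630a39b35a924188a839820) (.node (nat_lit 0xf7fbcddf38d5a549d5cb7c5ac828a81892439820) (.leaf (nat_lit 0xf7fbcddb37c6a518569373dab628851890939820)) (.node (nat_lit 0xf7fbcde33ab5e4e5d5ec8d1b09a9091888539820) (.leaf (nat_lit 0xf7fbcddf38d5a549d5cb7c5ac828a81892439820)) (.leaf (nat_lit 0xf7fbcde33ab5e4e5d5ec8d1b09a9091888539820)))) (.node (nat_lit 0xffb3be5bb7c6a508d6745b14e7b50931c8510c20) (.leaf (nat_lit 0xf7fbcdeb36be24f65630a39b35a924188a839820)) (.node (nat_lit 0xffb3be5fb8d5a53a556e6414f8b52431ca810c20) (.leaf (nat_lit 0xffb3be5bb7c6a508d6745b14e7b50931c8510c20))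 (.leaf (nat_lit 0xffb3be5fb8d5a53a556e6414f8b52431ca810c20))))) (.node (nat_lit 0xffb3bedf96d62b37ca0e62db48a8a411d2830c20) (.node (nat_lit 0xffb3be6bb6be24c7d6119ad54734a831d2410c20) (.leaf (nat_lit 0xffb3be63bab5e4b7558f84d51a348531d0910c20)) (.node (nat_lit 0xffb3bedb9ac5eb0749945cdb17a88911d0530c20) (.leaf (nat_lit 0xffb3be6bb6be24c7d6119ad54734a831d2410c20)) (.leaf (nat_lit 0xffb3bedb9ac5eb0749945cdb17a88911d0530c20)))) (.node (nat_lit 0xffb3bee397b6aab8ca6f831aea290511c8930c20) (.leaf (nat_lit 0xffb3bedf96d62b37ca0e62db48a8a411d2830c20)) (.node (nat_lit 0xffb3beeb98bdaaca49719c1af7292811ca430c20) (.leaf (nat_lit 0xffb3bee397b6aab8ca6f831aea290511c8930c20)) (.leaf (nat_lit 0xffb3beeb98bdaaca49719c1af7292811ca430c20))))))) (.node (nat_lit 0xffb9dddb37c6a515d68c73d509b5093888519820) (.node (nat_lit 0xffb79ee39ab5e508d6745b14e7b48510d0931c20) (.node (nat_lit 0xffb79e6bb8bdab37ca0e62db48a92830ca411c20)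 (.node (nat_lit 0xffb79e5fb6d62aca49719c1af728a430d2811c20) (.leaf (nat_lit 0xffb79e5bbac5eab8ca6f831aea288930d0511c20)) (.node (nat_lit 0xffb79e63b7b6ab0749945cdb17a90530c8911c20) (.leaf (nat_lit 0xffb79e5fb6d62aca49719c1af728a430d2811c20)) (.leaf (nat_lit 0xffb79e63b7b6ab0749945cdb17a90530c8911c20)))) (.node (nat_lit 0xffb79edb97c6a4b7558f84d51a350910c8531c20) (.leaf (nat_lit 0xffb79e6bb8bdab37ca0e62db48a92830ca411c20)) (.node (nat_lit 0xffb79edf98d5a4c7d6119ad547352410ca831c20) (.leaf (nat_lit 0xffb79edb97c6a4b7558f84d51a350910c8531c20)) (.leaf (nat_lit 0xffb79edf98d5a4c7d6119ad547352410ca831c20))))) (.node (nat_lit 0xffb9dcdf76d62b49ca307b9ac5a8a41892839820) (.node (nat_lit 0xffb79eeb96be253a556e6414f8b4a810d2431c20) (.leaf (nat_lit 0xffb79ee39ab5e508d6745b14e7b48510d0931c20)) (.node (nat_lit 0xffb9dcdb7ac5eb1849ec751ab9a8891890539820) (.leaf (nat_lit 0xffb79eeb96be253a556e6414f8b4a810d2431c20))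 (.leaf (nat_lit 0xffb9dcdb7ac5eb1849ec751ab9a8891890539820)))) (.node (nat_lit 0xffb9dce377b6aae5ca938bdb0629051888939820) (.leaf (nat_lit 0xffb9dcdf76d62b49ca307b9ac5a8a41892839820)) (.node (nat_lit 0xffb9dceb78bdaaf649cba45b382928188a439820) (.leaf (nat_lit 0xffb9dce377b6aae5ca938bdb0629051888939820)) (.leaf (nat_lit 0xffb9dceb78bdaaf649cba45b382928188a439820)))))) (.node (nat_lit 0xffbbcce37ab5e515d68c73d509b4851990938820) (.node (nat_lit 0xffb9ddeb36be24f9d62ba394c834a83892419820) (.node (nat_lit 0xffb9dddf38d5a54655d07c5535b524388a819820) (.leaf (nat_lit 0xffb9dddb37c6a515d68c73d509b5093888519820)) (.node (nat_lit 0xffb9dde33ab5e4e855f38d14b634853890919820) (.leaf (nat_lit 0xffb9dddf38d5a54655d07c5535b524388a819820)) (.leaf (nat_lit 0xffb9dde33ab5e4e855f38d14b634853890919820)))) (.node (nat_lit 0xffbbccdb77c6a4e855f38d14b635091988538820) (.leaf (nat_lit 0xffb9ddeb36be24f9d62ba394c834a83892419820))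 (.node (nat_lit 0xffbbccdf78d5a4f9d62ba394c83524198a838820) (.leaf (nat_lit 0xffbbccdb77c6a4e855f38d14b635091988538820)) (.leaf (nat_lit 0xffbbccdf78d5a4f9d62ba394c83524198a838820))))) (.node (nat_lit 0xffbbcddf36d62af649cba45b3828a43992818820) (.node (nat_lit 0xffbbcceb76be254655d07c5535b4a81992438820) (.leaf (nat_lit 0xffbbcce37ab5e515d68c73d509b4851990938820)) (.node (nat_lit 0xffbbcddb3ac5eae5ca938bdb0628893990518820) (.leaf (nat_lit 0xffbbcceb76be254655d07c5535b4a81992438820)) (.leaf (nat_lit 0xffbbcddb3ac5eae5ca938bdb0628893990518820)))) (.node (nat_lit 0xffbbcde337b6ab1849ec751ab9a9053988918820) (.leaf (nat_lit 0xffbbcddf36d62af649cba45b3828a43992818820)) (.node (nat_lit 0xffbbcdeb38bdab49ca307b9ac5a928398a418820) (.leaf (nat_lit 0xffbbcde337b6ab1849ec751ab9a9053988918820)) (.leaf (nat_lit 0xffbbcdeb38bdab49ca307b9ac5a928398a418820))))))))))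
noncomputable def AN_lS2_T : ST := AN_lS2_T0
theorem AN_lS2_E {G : Type*} [Group G] {R : ℕ → G → Prop} {z u v a b i j k l p t c r s : G}
    (M : Md0 AN_o AN_cs R [z, u, v, a, b, i, j, k, l, p, t, c, r, s]) :
    EnumS R AN_lS2 (sp [i, j, k, l, t, p * p * p * t * p * p, p * p * t * p * p * p]) :=
  enumS_tree M.μ.1 (M.reps.tms M.μ.1 [(.v (nat_lit 5)), (.v (nat_lit 6)), (.v (nat_lit 7)), (.v (nat_lit 8)), (.v (nat_lit 10)), (.mul (.mul (.mul (.mul (.mul (.v (nat_lit 9)) (.v (nat_lit 9))) (.v (nat_lit 9))) (.v (nat_lit 10))) (.v (nat_lit 9))) (.v (nat_lit 9))), (.mul (.mul (.mul (.mul (.mul (.v (nat_lit 9)) (.v (nat_lit 9))) (.v (nat_lit 10))) (.v (nat_lit 9))) (.v (nat_lit 9))) (.v (nat_lit 9)))] (cs' := [(nat_lit 0xf7f9ddeb38bdab464a2b7b953834a41992838820), (nat_lit 0xf7fbcceb78bdaaf9c9d0a454c5b4a43892819820), (nat_lit 0xf7fbcddf38d5a549d5cb7c5ac828a81892439820), (nat_lit 0xf7fbcdeb36be24f65630a39b35a924188a839820),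 (nat_lit 0xf7f79edf96d62b3a4a1162d4f7352831ca410c20), (nat_lit 0x4966c7ca96ae2f9ee9cbdc5bc82be439bc818820), (nat_lit 0xffbbccdb77c6a4e855f38d14b635091988538820)]) (by decide +kernel))
    (Ws := AN_lS2_W) (T := AN_lS2_T) (by decide +kernel) (by decide +kernel)
theorem AN_lS2_c {G : Type*} [Group G] {R : ℕ → G → Prop} {z u v a b i j k l p t c r s : G}
    (M : Md0 AN_o AN_cs R [z, u, v, a, b, i, j, k, l, p, t, c, r, s]) :
    #(sp [i, j, k, l, t, p * p * p * t * p * p, p * p * t * p * p * p]) = 192 :=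
  (AN_lS2_E M).card M.μ (h := AN_lS2_h) (by decide +kernel)
noncomputable def AN_n_F : Fm := (.allS AN_lQ (.qf (.and (.mem (.mul (.mul (.v (nat_lit 6)) (.v (nat_lit 0))) (.inv (.v (nat_lit 6)))) AN_lQ) (.and (.mem (.mul (.mul (.v (nat_lit 10)) (.v (nat_lit 0))) (.inv (.v (nat_lit 10)))) AN_lQ) (.mem (.mul (.mul (.v (nat_lit 11)) (.v (nat_lit 0))) (.inv (.v (nat_lit 11)))) AN_lQ)))))
theorem AN_n_chk : Fm.chk AN_o AN_n_F AN_cs = true := by decide +kernel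
theorem AN_n {G : Type*} [Group G] {R : ℕ → G → Prop} {z u v a b i j k l p t c r s : G}
    (M : Md0 AN_o AN_cs R [z, u, v, a, b, i, j, k, l, p, t, c, r, s]) :
    ∀ e ∈ sp [z, u, v, a, b], i * e * i⁻¹ ∈ sp [z, u, v, a, b] ∧ p * e * p⁻¹ ∈ sp [z, u, v, a, b] ∧ t * e * t⁻¹ ∈ sp [z, u, v, a, b] :=
  have h : ∀ e, InS R AN_lQ e → InS R AN_lQ (i * e * i⁻¹) ∧ InS R AN_lQ (p * e * p⁻¹) ∧ InS R AN_lQ (t * e * t⁻¹) :=
    Fm.sound M.μ AN_n_F AN_n_chk M.reps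
  (fun e h0 => ((and_congr (AN_lQ_E M).iff (and_congr (AN_lQ_E M).iff (AN_lQ_E M).iff)).1 (h e ((AN_lQ_E M).iff.2 h0))))
noncomputable def AN_fa_t0 : ST := (.node (nat_lit 107950) (.node (nat_lit 46219) (.node (nat_lit 21454) (.node (nat_lit 7757) (.node (nat_lit 3332) (.node (nat_lit 1996) (.node (nat_lit 899) (.node (nat_lit 836) (.leaf (nat_lit 2)) (.leaf (nat_lit 3))) (.node (nat_lit 1799) (.leaf (nat_lit 2)) (.node (nat_lit 1836) (.leaf (nat_lit 3)) (.leaf (nat_lit 2))))) (.node (nat_lit 2899) (.node (nat_lit 2032) (.leaf (nat_lit 3)) (.leaf (nat_lit 2))) (.node (nat_lit 2944) (.leaf (nat_lit 4)) (.node (nat_lit 2992) (.leaf (nat_lit 3)) (.leaf (nat_lit 2)))))) (.node (nat_lit 4941) (.node (nat_lit 4027) (.node (nat_lit 3347) (.leaf (nat_lit 3)) (.leaf (nat_lit 2))) (.node (nat_lit 4087) (.leaf (nat_lit 3)) (.node (nat_lit 4940) (.leaf (nat_lit 2)) (.leaf (nat_lit 3)))))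 (.node (nat_lit 7066) (.node (nat_lit 6434) (.leaf (nat_lit 2)) (.node (nat_lit 6643) (.leaf (nat_lit 3)) (.leaf (nat_lit 2)))) (.node (nat_lit 7101) (.leaf (nat_lit 3)) (.node (nat_lit 7411) (.leaf (nat_lit 2)) (.leaf (nat_lit 3))))))) (.node (nat_lit 12435) (.node (nat_lit 9551) (.node (nat_lit 8061) (.node (nat_lit 7920) (.leaf (nat_lit 2)) (.leaf (nat_lit 3))) (.node (nat_lit 8486) (.leaf (nat_lit 2)) (.node (nat_lit 8580) (.leaf (nat_lit 3)) (.leaf (nat_lit 2))))) (.node (nat_lit 11467) (.node (nat_lit 9567) (.leaf (nat_lit 3)) (.node (nat_lit 11234) (.leaf (nat_lit 2)) (.leaf (nat_lit 3)))) (.node (nat_lit 12377) (.leaf (nat_lit 2)) (.node (nat_lit 12425) (.leaf (nat_lit 3)) (.leaf (nat_lit 4)))))) (.node (nat_lit 19763) (.node (nat_lit 15119) (.node (nat_lit 15032) (.leaf (nat_lit 2)) (.leaf (nat_lit 3))) (.node (nat_lit 16323) (.leaf (nat_lit 2)) (.node (nat_lit 16349)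 (.leaf (nat_lit 3)) (.leaf (nat_lit 2))))) (.node (nat_lit 20073) (.node (nat_lit 19879) (.leaf (nat_lit 4)) (.node (nat_lit 19980) (.leaf (nat_lit 2)) (.leaf (nat_lit 3)))) (.node (nat_lit 21228) (.leaf (nat_lit 2)) (.node (nat_lit 21322) (.leaf (nat_lit 3)) (.leaf (nat_lit 4)))))))) (.node (nat_lit 35327) (.node (nat_lit 28447) (.node (nat_lit 26894) (.node (nat_lit 23142) (.node (nat_lit 22979) (.leaf (nat_lit 2)) (.leaf (nat_lit 4))) (.node (nat_lit 23254) (.leaf (nat_lit 2)) (.node (nat_lit 23335) (.leaf (nat_lit 3)) (.leaf (nat_lit 2))))) (.node (nat_lit 27944) (.node (nat_lit 26944) (.leaf (nat_lit 3)) (.node (nat_lit 27141) (.leaf (nat_lit 4)) (.leaf (nat_lit 2)))) (.node (nat_lit 28092) (.leaf (nat_lit 3)) (.node (nat_lit 28375) (.leaf (nat_lit 2)) (.leaf (nat_lit 3)))))) (.node (nat_lit 31817) (.node (nat_lit 28753) (.node (nat_lit 28507) (.leaf (nat_lit 2)) (.leaf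 (nat_lit 3))) (.node (nat_lit 30614) (.leaf (nat_lit 2)) (.node (nat_lit 30625) (.leaf (nat_lit 3)) (.leaf (nat_lit 2))))) (.node (nat_lit 31922) (.node (nat_lit 31831) (.leaf (nat_lit 3)) (.node (nat_lit 31864) (.leaf (nat_lit 2)) (.leaf (nat_lit 3)))) (.node (nat_lit 34627) (.leaf (nat_lit 2)) (.node (nat_lit 34640) (.leaf (nat_lit 3)) (.leaf (nat_lit 2))))))) (.node (nat_lit 40871) (.node (nat_lit 38630) (.node (nat_lit 38209) (.node (nat_lit 35357) (.leaf (nat_lit 5)) (.leaf (nat_lit 2))) (.node (nat_lit 38214) (.leaf (nat_lit 3)) (.node (nat_lit 38502) (.leaf (nat_lit 2)) (.leaf (nat_lit 3))))) (.node (nat_lit 40541) (.node (nat_lit 39175) (.leaf (nat_lit 2)) (.node (nat_lit 39519) (.leaf (nat_lit 3)) (.leaf (nat_lit 2)))) (.node (nat_lit 40549) (.leaf (nat_lit 3)) (.node (nat_lit 40573) (.leaf (nat_lit 2)) (.leaf (nat_lit 3)))))) (.node (nat_lit 43576) (.node (nat_lit 42653)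 (.node (nat_lit 42608) (.leaf (nat_lit 2)) (.leaf (nat_lit 3))) (.node (nat_lit 43040) (.leaf (nat_lit 2)) (.node (nat_lit 43249) (.leaf (nat_lit 3)) (.leaf (nat_lit 2))))) (.node (nat_lit 44300) (.node (nat_lit 43829) (.leaf (nat_lit 3)) (.node (nat_lit 44219) (.leaf (nat_lit 2)) (.leaf (nat_lit 3)))) (.node (nat_lit 45350) (.leaf (nat_lit 2)) (.node (nat_lit 45354) (.leaf (nat_lit 4)) (.leaf (nat_lit 2))))))))) (.node (nat_lit 77883) (.node (nat_lit 61073) (.node (nat_lit 52651) (.node (nat_lit 50432) (.node (nat_lit 49372) (.node (nat_lit 46378) (.leaf (nat_lit 3)) (.leaf (nat_lit 2))) (.node (nat_lit 49403) (.leaf (nat_lit 3)) (.node (nat_lit 50280) (.leaf (nat_lit 2)) (.leaf (nat_lit 3))))) (.node (nat_lit 51150) (.node (nat_lit 50906) (.leaf (nat_lit 2)) (.node (nat_lit 50945) (.leaf (nat_lit 3)) (.leaf (nat_lit 2)))) (.node (nat_lit 51262) (.leaf (nat_lit 3)) (.node (nat_lit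 52489) (.leaf (nat_lit 2)) (.leaf (nat_lit 3)))))) (.node (nat_lit 57008) (.node (nat_lit 54369) (.node (nat_lit 54222) (.leaf (nat_lit 2)) (.leaf (nat_lit 3))) (.node (nat_lit 56264) (.leaf (nat_lit 2)) (.node (nat_lit 56592) (.leaf (nat_lit 3)) (.leaf (nat_lit 2))))) (.node (nat_lit 59466) (.node (nat_lit 57200) (.leaf (nat_lit 3)) (.node (nat_lit 59395) (.leaf (nat_lit 2)) (.leaf (nat_lit 3)))) (.node (nat_lit 60469) (.leaf (nat_lit 2)) (.node (nat_lit 60486) (.leaf (nat_lit 4)) (.leaf (nat_lit 2))))))) (.node (nat_lit 67834) (.node (nat_lit 62354) (.node (nat_lit 61111) (.node (nat_lit 61086) (.leaf (nat_lit 3)) (.leaf (nat_lit 2))) (.node (nat_lit 61194) (.leaf (nat_lit 3)) (.node (nat_lit 61796) (.leaf (nat_lit 2)) (.leaf (nat_lit 3))))) (.node (nat_lit 67693) (.node (nat_lit 67049) (.leaf (nat_lit 2)) (.node (nat_lit 67103) (.leaf (nat_lit 3)) (.leaf (nat_lit 2)))) (.node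 (nat_lit 67777) (.leaf (nat_lit 3)) (.node (nat_lit 67825) (.leaf (nat_lit 2)) (.leaf (nat_lit 3)))))) (.node (nat_lit 68979) (.node (nat_lit 68127) (.node (nat_lit 68011) (.leaf (nat_lit 2)) (.leaf (nat_lit 3))) (.node (nat_lit 68308) (.leaf (nat_lit 2)) (.node (nat_lit 68399) (.leaf (nat_lit 3)) (.leaf (nat_lit 2))))) (.node (nat_lit 70158) (.node (nat_lit 69053) (.leaf (nat_lit 3)) (.node (nat_lit 70090) (.leaf (nat_lit 2)) (.leaf (nat_lit 3)))) (.node (nat_lit 75151) (.leaf (nat_lit 2)) (.node (nat_lit 75169) (.leaf (nat_lit 3)) (.leaf (nat_lit 2)))))))) (.node (nat_lit 95192) (.node (nat_lit 86345) (.node (nat_lit 82534) (.node (nat_lit 79539) (.node (nat_lit 77904) (.leaf (nat_lit 3)) (.leaf (nat_lit 2))) (.node (nat_lit 79570) (.leaf (nat_lit 4)) (.node (nat_lit 82260) (.leaf (nat_lit 2)) (.leaf (nat_lit 3))))) (.node (nat_lit 85385) (.node (nat_lit 84427) (.leaf (nat_lit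 2)) (.node (nat_lit 84538) (.leaf (nat_lit 4)) (.leaf (nat_lit 2)))) (.node (nat_lit 85463) (.leaf (nat_lit 3)) (.node (nat_lit 86143) (.leaf (nat_lit 2)) (.leaf (nat_lit 3)))))) (.node (nat_lit 91223) (.node (nat_lit 86628) (.node (nat_lit 86422) (.leaf (nat_lit 2)) (.leaf (nat_lit 3))) (.node (nat_lit 89333) (.leaf (nat_lit 2)) (.node (nat_lit 89421) (.leaf (nat_lit 3)) (.leaf (nat_lit 2))))) (.node (nat_lit 93990) (.node (nat_lit 91557) (.leaf (nat_lit 3)) (.node (nat_lit 93961) (.leaf (nat_lit 2)) (.leaf (nat_lit 3)))) (.node (nat_lit 94179) (.leaf (nat_lit 2)) (.node (nat_lit 94303) (.leaf (nat_lit 3)) (.leaf (nat_lit 2))))))) (.node (nat_lit 102608) (.node (nat_lit 100731) (.node (nat_lit 99485) (.node (nat_lit 95356) (.leaf (nat_lit 3)) (.leaf (nat_lit 2))) (.node (nat_lit 99488) (.leaf (nat_lit 3)) (.node (nat_lit 100706) (.leaf (nat_lit 2)) (.leaf (nat_lit 3))))) (.node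 (nat_lit 102048) (.node (nat_lit 101565) (.leaf (nat_lit 2)) (.node (nat_lit 101695) (.leaf (nat_lit 3)) (.leaf (nat_lit 2)))) (.node (nat_lit 102101) (.leaf (nat_lit 3)) (.node (nat_lit 102287) (.leaf (nat_lit 2)) (.leaf (nat_lit 3)))))) (.node (nat_lit 104179) (.node (nat_lit 103204) (.node (nat_lit 103165) (.leaf (nat_lit 2)) (.leaf (nat_lit 3))) (.node (nat_lit 103565) (.leaf (nat_lit 2)) (.node (nat_lit 103681) (.leaf (nat_lit 3)) (.leaf (nat_lit 2))))) (.node (nat_lit 105086) (.node (nat_lit 104214) (.leaf (nat_lit 3)) (.node (nat_lit 104858) (.leaf (nat_lit 2)) (.leaf (nat_lit 3)))) (.node (nat_lit 105215) (.leaf (nat_lit 2)) (.node (nat_lit 105345) (.leaf (nat_lit 3)) (.leaf (nat_lit 2)))))))))) (.node (nat_lit 153729) (.node (nat_lit 127046) (.node (nat_lit 116597) (.node (nat_lit 111821) (.node (nat_lit 109065) (.node (nat_lit 108020) (.node (nat_lit 107985) (.leaf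 (nat_lit 4)) (.leaf (nat_lit 3))) (.node (nat_lit 108848) (.leaf (nat_lit 2)) (.node (nat_lit 108962) (.leaf (nat_lit 3)) (.leaf (nat_lit 2))))) (.node (nat_lit 109431) (.node (nat_lit 109178) (.leaf (nat_lit 3)) (.node (nat_lit 109333) (.leaf (nat_lit 2)) (.leaf (nat_lit 3)))) (.node (nat_lit 110560) (.leaf (nat_lit 2)) (.node (nat_lit 110617) (.leaf (nat_lit 3)) (.leaf (nat_lit 2)))))) (.node (nat_lit 114121) (.node (nat_lit 113793) (.node (nat_lit 112034) (.leaf (nat_lit 3)) (.leaf (nat_lit 2))) (.node (nat_lit 113868) (.leaf (nat_lit 3)) (.node (nat_lit 114057) (.leaf (nat_lit 2)) (.leaf (nat_lit 3))))) (.node (nat_lit 115044) (.node (nat_lit 114802) (.leaf (nat_lit 2)) (.node (nat_lit 115028) (.leaf (nat_lit 3)) (.leaf (nat_lit 2)))) (.node (nat_lit 115116) (.leaf (nat_lit 3)) (.node (nat_lit 116541) (.leaf (nat_lit 2)) (.leaf (nat_lit 3))))))) (.node (nat_lit 119439) (.node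 (nat_lit 117850) (.node (nat_lit 116983) (.node (nat_lit 116856) (.leaf (nat_lit 2)) (.leaf (nat_lit 3))) (.node (nat_lit 117521) (.leaf (nat_lit 2)) (.node (nat_lit 117544) (.leaf (nat_lit 3)) (.leaf (nat_lit 2))))) (.node (nat_lit 118717) (.node (nat_lit 117978) (.leaf (nat_lit 3)) (.node (nat_lit 118711) (.leaf (nat_lit 2)) (.leaf (nat_lit 3)))) (.node (nat_lit 119179) (.leaf (nat_lit 2)) (.node (nat_lit 119389) (.leaf (nat_lit 3)) (.leaf (nat_lit 2)))))) (.node (nat_lit 124047) (.node (nat_lit 121629) (.node (nat_lit 119532) (.leaf (nat_lit 3)) (.leaf (nat_lit 2))) (.node (nat_lit 121782) (.leaf (nat_lit 3)) (.node (nat_lit 124039) (.leaf (nat_lit 2)) (.leaf (nat_lit 3))))) (.node (nat_lit 124981) (.node (nat_lit 124880) (.leaf (nat_lit 2)) (.node (nat_lit 124889) (.leaf (nat_lit 3)) (.leaf (nat_lit 2)))) (.node (nat_lit 124987) (.leaf (nat_lit 3)) (.node (nat_lit 126984)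 (.leaf (nat_lit 2)) (.leaf (nat_lit 3)))))))) (.node (nat_lit 139235) (.node (nat_lit 136234) (.node (nat_lit 132806) (.node (nat_lit 129380) (.node (nat_lit 129223) (.leaf (nat_lit 2)) (.leaf (nat_lit 3))) (.node (nat_lit 131129) (.leaf (nat_lit 2)) (.node (nat_lit 131561) (.leaf (nat_lit 3)) (.leaf (nat_lit 2))))) (.node (nat_lit 133002) (.node (nat_lit 132842) (.leaf (nat_lit 3)) (.node (nat_lit 132861) (.leaf (nat_lit 2)) (.leaf (nat_lit 3)))) (.node (nat_lit 136222) (.leaf (nat_lit 2)) (.node (nat_lit 136228) (.leaf (nat_lit 3)) (.leaf (nat_lit 2)))))) (.node (nat_lit 137346) (.node (nat_lit 136383) (.node (nat_lit 136372) (.leaf (nat_lit 3)) (.leaf (nat_lit 2))) (.node (nat_lit 136502) (.leaf (nat_lit 3)) (.node (nat_lit 137343) (.leaf (nat_lit 2)) (.leaf (nat_lit 3))))) (.node (nat_lit 137830) (.node (nat_lit 137438) (.leaf (nat_lit 2)) (.node (nat_lit 137450) (.leaf (nat_lit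 3)) (.leaf (nat_lit 2)))) (.node (nat_lit 137972) (.leaf (nat_lit 4)) (.node (nat_lit 139141) (.leaf (nat_lit 2)) (.leaf (nat_lit 5))))))) (.node (nat_lit 144886) (.node (nat_lit 141358) (.node (nat_lit 139392) (.node (nat_lit 139383) (.leaf (nat_lit 2)) (.leaf (nat_lit 3))) (.node (nat_lit 140160) (.leaf (nat_lit 2)) (.node (nat_lit 140175) (.leaf (nat_lit 3)) (.leaf (nat_lit 2))))) (.node (nat_lit 143312) (.node (nat_lit 141540) (.leaf (nat_lit 3)) (.node (nat_lit 143289) (.leaf (nat_lit 2)) (.leaf (nat_lit 3)))) (.node (nat_lit 143408) (.leaf (nat_lit 2)) (.node (nat_lit 143651) (.leaf (nat_lit 3)) (.leaf (nat_lit 2)))))) (.node (nat_lit 148838) (.node (nat_lit 146658) (.node (nat_lit 144967) (.leaf (nat_lit 3)) (.leaf (nat_lit 2))) (.node (nat_lit 146862) (.leaf (nat_lit 3)) (.node (nat_lit 148809) (.leaf (nat_lit 2)) (.leaf (nat_lit 3))))) (.node (nat_lit 151789) (.node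 (nat_lit 151254) (.leaf (nat_lit 2)) (.node (nat_lit 151296) (.leaf (nat_lit 3)) (.leaf (nat_lit 2)))) (.node (nat_lit 152057) (.leaf (nat_lit 4)) (.node (nat_lit 153616) (.leaf (nat_lit 2)) (.leaf (nat_lit 3))))))))) (.node (nat_lit 171563) (.node (nat_lit 163062) (.node (nat_lit 158915) (.node (nat_lit 155664) (.node (nat_lit 154931) (.node (nat_lit 154877) (.leaf (nat_lit 2)) (.leaf (nat_lit 3))) (.node (nat_lit 155137) (.leaf (nat_lit 2)) (.node (nat_lit 155145) (.leaf (nat_lit 3)) (.leaf (nat_lit 2))))) (.node (nat_lit 156724) (.node (nat_lit 155713) (.leaf (nat_lit 3)) (.node (nat_lit 156440) (.leaf (nat_lit 2)) (.leaf (nat_lit 4)))) (.node (nat_lit 158848) (.leaf (nat_lit 2)) (.node (nat_lit 158901) (.leaf (nat_lit 3)) (.leaf (nat_lit 4)))))) (.node (nat_lit 161080) (.node (nat_lit 159923) (.node (nat_lit 159832) (.leaf (nat_lit 2)) (.leaf (nat_lit 3))) (.node (nat_lit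 160646) (.leaf (nat_lit 2)) (.node (nat_lit 161064) (.leaf (nat_lit 3)) (.leaf (nat_lit 2))))) (.node (nat_lit 161493) (.node (nat_lit 161091) (.leaf (nat_lit 4)) (.node (nat_lit 161382) (.leaf (nat_lit 2)) (.leaf (nat_lit 3)))) (.node (nat_lit 161750) (.leaf (nat_lit 2)) (.node (nat_lit 161918) (.leaf (nat_lit 3)) (.leaf (nat_lit 2))))))) (.node (nat_lit 166033) (.node (nat_lit 164093) (.node (nat_lit 163161) (.node (nat_lit 163068) (.leaf (nat_lit 3)) (.leaf (nat_lit 2))) (.node (nat_lit 163183) (.leaf (nat_lit 3)) (.node (nat_lit 164064) (.leaf (nat_lit 2)) (.leaf (nat_lit 3))))) (.node (nat_lit 165257) (.node (nat_lit 164330) (.leaf (nat_lit 2)) (.node (nat_lit 164432) (.leaf (nat_lit 4)) (.leaf (nat_lit 2)))) (.node (nat_lit 165302) (.leaf (nat_lit 3)) (.node (nat_lit 165794) (.leaf (nat_lit 2)) (.leaf (nat_lit 3)))))) (.node (nat_lit 168267) (.node (nat_lit 166826) (.node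 (nat_lit 166810) (.leaf (nat_lit 2)) (.leaf (nat_lit 3))) (.node (nat_lit 167270) (.leaf (nat_lit 2)) (.node (nat_lit 167291) (.leaf (nat_lit 3)) (.leaf (nat_lit 2))))) (.node (nat_lit 169777) (.node (nat_lit 168270) (.leaf (nat_lit 3)) (.node (nat_lit 169759) (.leaf (nat_lit 2)) (.leaf (nat_lit 3)))) (.node (nat_lit 170309) (.leaf (nat_lit 2)) (.node (nat_lit 170367) (.leaf (nat_lit 3)) (.leaf (nat_lit 2)))))))) (.node (nat_lit 180648) (.node (nat_lit 175669) (.node (nat_lit 173288) (.node (nat_lit 171780) (.node (nat_lit 171576) (.leaf (nat_lit 3)) (.leaf (nat_lit 2))) (.node (nat_lit 171802) (.leaf (nat_lit 3)) (.node (nat_lit 173250) (.leaf (nat_lit 2)) (.leaf (nat_lit 3))))) (.node (nat_lit 174236) (.node (nat_lit 174002) (.leaf (nat_lit 2)) (.node (nat_lit 174071) (.leaf (nat_lit 3)) (.leaf (nat_lit 2)))) (.node (nat_lit 174441) (.leaf (nat_lit 3)) (.node (nat_lit 175241)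 (.leaf (nat_lit 2)) (.leaf (nat_lit 3)))))) (.node (nat_lit 177431) (.node (nat_lit 176640) (.node (nat_lit 176568) (.leaf (nat_lit 2)) (.leaf (nat_lit 4))) (.node (nat_lit 177271) (.leaf (nat_lit 2)) (.node (nat_lit 177302) (.leaf (nat_lit 3)) (.leaf (nat_lit 2))))) (.node (nat_lit 177538) (.node (nat_lit 177509) (.leaf (nat_lit 3)) (.node (nat_lit 177520) (.leaf (nat_lit 2)) (.leaf (nat_lit 3)))) (.node (nat_lit 179384) (.leaf (nat_lit 2)) (.node (nat_lit 179445) (.leaf (nat_lit 3)) (.leaf (nat_lit 2))))))) (.node (nat_lit 183832) (.node (nat_lit 181754) (.node (nat_lit 180743) (.node (nat_lit 180679) (.leaf (nat_lit 4)) (.leaf (nat_lit 2))) (.node (nat_lit 180798) (.leaf (nat_lit 3)) (.node (nat_lit 181610) (.leaf (nat_lit 2)) (.leaf (nat_lit 3))))) (.node (nat_lit 182388) (.node (nat_lit 182147) (.leaf (nat_lit 2)) (.node (nat_lit 182170) (.leaf (nat_lit 3)) (.leaf (nat_lit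 2)))) (.node (nat_lit 182520) (.leaf (nat_lit 3)) (.node (nat_lit 183476) (.leaf (nat_lit 2)) (.leaf (nat_lit 5)))))) (.node (nat_lit 185351) (.node (nat_lit 184677) (.node (nat_lit 184532) (.leaf (nat_lit 2)) (.leaf (nat_lit 3))) (.node (nat_lit 185065) (.leaf (nat_lit 2)) (.node (nat_lit 185070) (.leaf (nat_lit 3)) (.leaf (nat_lit 2))))) (.node (nat_lit 185867) (.node (nat_lit 185528) (.leaf (nat_lit 3)) (.node (nat_lit 185600) (.leaf (nat_lit 2)) (.leaf (nat_lit 3)))) (.node (nat_lit 187860) (.leaf (nat_lit 2)) (.node (nat_lit 187869) (.leaf (nat_lit 4)) (.leaf (nat_lit 2)))))))))))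
noncomputable def AN_fa_F : Fm := (.allS AN_lS (.or (.qf (.eq (.v (nat_lit 0)) .one)) (.exG AN_lQ (fun cs => AN_fa_t0.find (Nat.mod (nth (nat_lit 0) cs (nat_lit 0)) (nat_lit 189011))) (.qf (.not (.eq (.mul (.v (nat_lit 1)) (.v (nat_lit 0))) (.mul (.v (nat_lit 0)) (.v (nat_lit 1)))))))))
theorem AN_fa_chk : Fm.chk AN_o AN_fa_F AN_cs = true := by decide +kernel
theorem AN_fa {G : Type*} [Group G] {R : ℕ → G → Prop} {z u v a b i j k l p t c r s : G}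
    (M : Md0 AN_o AN_cs R [z, u, v, a, b, i, j, k, l, p, t, c, r, s]) :
    ∀ g ∈ sp [i, p, t], g = 1 ∨ (∃ e ∈ sp [z, u, v, a, b], g * e ≠ e * g) :=
  have h : ∀ g, InS R AN_lS g → g = 1 ∨ (GoodS R AN_lQ → AN_lQ ≠ [] → ∃ e, InS R AN_lQ e ∧ g * e ≠ e * g) :=
    Fm.sound M.μ AN_fa_F AN_fa_chk M.reps
  (fun g h0 => (Or.imp (fun h1 => h1) (fun h1 => (Exists.imp (fun e h2 => ⟨(AN_lQ_E M).iff.1 h2.1, h2.2⟩) (h1 (AN_lQ_E M).good (AN_lQ_E M).ne))) (h g ((AN_lS_E M).iff.2 h0))))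
noncomputable def AN_i1_t0 : ST := (.node (nat_lit 40) (.node (nat_lit 15) (.node (nat_lit 5) (.node (nat_lit 3) (.leaf (nat_lit 1)) (.node (nat_lit 4) (.leaf (nat_lit 2)) (.leaf (nat_lit 3)))) (.node (nat_lit 11) (.node (nat_lit 7) (.leaf (nat_lit 4)) (.leaf (nat_lit 2))) (.node (nat_lit 13) (.leaf (nat_lit 6)) (.leaf (nat_lit 5))))) (.node (nat_lit 23) (.node (nat_lit 21) (.leaf (nat_lit 9)) (.node (nat_lit 22) (.leaf (nat_lit 10)) (.leaf (nat_lit 11)))) (.node (nat_lit 32) (.node (nat_lit 30) (.leaf (nat_lit 12)) (.leaf (nat_lit 15))) (.node (nat_lit 38) (.leaf (nat_lit 0)) (.leaf (nat_lit 1)))))) (.node (nat_lit 78) (.node (nat_lit 57) (.node (nat_lit 41) (.leaf (nat_lit 3)) (.node (nat_lit 42) (.leaf (nat_lit 4)) (.leaf (nat_lit 5)))) (.node (nat_lit 65) (.node (nat_lit 63) (.leaf (nat_lit 13)) (.leaf (nat_lit 15))) (.node (nat_lit 76) (.leaf (nat_lit 0)) (.leaf (nat_lit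 7))))) (.node (nat_lit 82) (.node (nat_lit 80) (.leaf (nat_lit 8)) (.node (nat_lit 81) (.leaf (nat_lit 6)) (.leaf (nat_lit 8)))) (.node (nat_lit 88) (.node (nat_lit 83) (.leaf (nat_lit 10)) (.leaf (nat_lit 7))) (.node (nat_lit 92) (.leaf (nat_lit 11)) (.leaf (nat_lit 14)))))))
noncomputable def AN_i1_F : Fm := (.allS AN_lQ (.exG AN_lI (fun cs => AN_i1_t0.find (Nat.mod (nth (nat_lit 0) cs (nat_lit 0)) (nat_lit 96))) (.allS AN_lQ (.qf (.eq (.mul (.mul (.v (nat_lit 1)) (.v (nat_lit 0))) (.inv (.v (nat_lit 1)))) (.mul (.mul (.v (nat_lit 2)) (.v (nat_lit 0))) (.inv (.v (nat_lit 2)))))))))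
theorem AN_i1_chk : Fm.chk AN_o AN_i1_F AN_cs = true := by decide +kernel
theorem AN_i1 {G : Type*} [Group G] {R : ℕ → G → Prop} {z u v a b i j k l p t c r s : G}
    (M : Md0 AN_o AN_cs R [z, u, v, a, b, i, j, k, l, p, t, c, r, s]) :
    ∀ q ∈ sp [z, u, v, a, b], ∃ g ∈ sp [i, j, k, l], ∀ e ∈ sp [z, u, v, a, b], g * e * g⁻¹ = q * e * q⁻¹ :=
  have h : ∀ q, InS R AN_lQ q → (GoodS R AN_lI → AN_lI ≠ [] → ∃ g, InS R AN_lI g ∧ (∀ e, InS R AN_lQ e → g * e * g⁻¹ = q * e * q⁻¹)) :=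
    Fm.sound M.μ AN_i1_F AN_i1_chk M.reps
  (fun q h0 => (Exists.imp (fun g h1 => ⟨(AN_lI_E M).iff.1 h1.1, (fun e h2 => (h1.2 e ((AN_lQ_E M).iff.2 h2)))⟩) ((h q ((AN_lQ_E M).iff.2 h0)) (AN_lI_E M).good (AN_lI_E M).ne)))
noncomputable def AN_i2_t0 : ST := (.node (nat_lit 34) (.node (nat_lit 18) (.node (nat_lit 8) (.node (nat_lit 7) (.leaf (nat_lit 30)) (.leaf (nat_lit 15))) (.node (nat_lit 12) (.leaf (nat_lit 0)) (.leaf (nat_lit 2)))) (.node (nat_lit 22) (.node (nat_lit 20) (.leaf (nat_lit 12)) (.leaf (nat_lit 4))) (.node (nat_lit 28) (.leaf (nat_lit 14)) (.leaf (nat_lit 25))))) (.node (nat_lit 42) (.node (nat_lit 38) (.node (nat_lit 36) (.leaf (nat_lit 22)) (.leaf (nat_lit 18))) (.node (nat_lit 40) (.leaf (nat_lit 10)) (.leaf (nat_lit 23)))) (.node (nat_lit 50) (.node (nat_lit 49) (.leaf (nat_lit 3)) (.leaf (nat_lit 28))) (.node (nat_lit 57) (.leaf (nat_lit 5)) (.leaf (nat_lit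 11))))))
noncomputable def AN_i2_F : Fm := (.allS AN_lI (.exG AN_lQ (fun cs => AN_i2_t0.find (Nat.mod (nth (nat_lit 0) cs (nat_lit 0)) (nat_lit 59))) (.allS AN_lQ (.qf (.eq (.mul (.mul (.v (nat_lit 2)) (.v (nat_lit 0))) (.inv (.v (nat_lit 2)))) (.mul (.mul (.v (nat_lit 1)) (.v (nat_lit 0))) (.inv (.v (nat_lit 1)))))))))
theorem AN_i2_chk : Fm.chk AN_o AN_i2_F AN_cs = true := by decide +kernel
theorem AN_i2 {G : Type*} [Group G] {R : ℕ → G → Prop} {z u v a b i j k l p t c r s : G}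
    (M : Md0 AN_o AN_cs R [z, u, v, a, b, i, j, k, l, p, t, c, r, s]) :
    ∀ g ∈ sp [i, j, k, l], ∃ q ∈ sp [z, u, v, a, b], ∀ e ∈ sp [z, u, v, a, b], g * e * g⁻¹ = q * e * q⁻¹ :=
  have h : ∀ g, InS R AN_lI g → (GoodS R AN_lQ → AN_lQ ≠ [] → ∃ q, InS R AN_lQ q ∧ (∀ e, InS R AN_lQ e → g * e * g⁻¹ = q * e * q⁻¹)) :=
    Fm.sound M.μ AN_i2_F AN_i2_chk M.reps
  (fun g h0 => (Exists.imp (fun q h1 => ⟨(AN_lQ_E M).iff.1 h1.1, (fun e h2 => (h1.2 e ((AN_lQ_E M).iff.2 h2)))⟩) ((h g ((AN_lI_E M).iff.2 h0)) (AN_lQ_E M).good (AN_lQ_E M).ne)))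
noncomputable def AN_IK_F : Fm := (.allS AN_lI (.qf (.mem (.v (nat_lit 0)) AN_lK)))
theorem AN_IK_chk : Fm.chk AN_o AN_IK_F AN_cs = true := by decide +kernel
theorem AN_IK {G : Type*} [Group G] {R : ℕ → G → Prop} {z u v a b i j k l p t c r s : G}
    (M : Md0 AN_o AN_cs R [z, u, v, a, b, i, j, k, l, p, t, c, r, s]) :
    ∀ g ∈ sp [i, j, k, l], g ∈ sp [i, p, c] :=
  have h : ∀ g, InS R AN_lI g → InS R AN_lK (g) :=
    Fm.sound M.μ AN_IK_F AN_IK_chk M.reps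
  (fun g h0 => ((AN_lK_E M).iff.1 (h g ((AN_lI_E M).iff.2 h0))))
noncomputable def AN_ix_F : Fm := (.allS AN_lS (.qf (.or (.mem (.v (nat_lit 0)) AN_lK) (.mem (.mul (.v (nat_lit 11)) (.v (nat_lit 0))) AN_lK))))
theorem AN_ix_chk : Fm.chk AN_o AN_ix_F AN_cs = true := by decide +kernel
theorem AN_ix {G : Type*} [Group G] {R : ℕ → G → Prop} {z u v a b i j k l p t c r s : G}
    (M : Md0 AN_o AN_cs R [z, u, v, a, b, i, j, k, l, p, t, c, r, s]) :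
    ∀ g ∈ sp [i, p, t], g ∈ sp [i, p, c] ∨ t * g ∈ sp [i, p, c] :=
  have h : ∀ g, InS R AN_lS g → InS R AN_lK (g) ∨ InS R AN_lK (t * g) :=
    Fm.sound M.μ AN_ix_F AN_ix_chk M.reps
  (fun g h0 => ((or_congr (AN_lK_E M).iff (AN_lK_E M).iff).1 (h g ((AN_lS_E M).iff.2 h0))))
noncomputable def AN_nb_t0 : ST := (.node (nat_lit 922) (.node (nat_lit 385) (.node (nat_lit 181) (.node (nat_lit 102) (.node (nat_lit 47) (.node (nat_lit 35) (.leaf (nat_lit 1611)) (.leaf (nat_lit 72))) (.node (nat_lit 50) (.leaf (nat_lit 1538)) (.node (nat_lit 99) (.leaf (nat_lit 28)) (.leaf (nat_lit 41))))) (.node (nat_lit 145) (.node (nat_lit 132) (.leaf (nat_lit 1542)) (.leaf (nat_lit 31))) (.node (nat_lit 155) (.leaf (nat_lit 392)) (.node (nat_lit 156) (.leaf (nat_lit 29)) (.leaf (nat_lit 1609)))))) (.node (nat_lit 324) (.node (nat_lit 209) (.node (nat_lit 192) (.leaf (nat_lit 1628)) (.leaf (nat_lit 496)))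 (.node (nat_lit 278) (.leaf (nat_lit 0)) (.node (nat_lit 299) (.leaf (nat_lit 88)) (.leaf (nat_lit 24))))) (.node (nat_lit 357) (.node (nat_lit 350) (.leaf (nat_lit 2)) (.leaf (nat_lit 72))) (.node (nat_lit 368) (.leaf (nat_lit 386)) (.node (nat_lit 376) (.leaf (nat_lit 32)) (.leaf (nat_lit 497))))))) (.node (nat_lit 661) (.node (nat_lit 554) (.node (nat_lit 461) (.node (nat_lit 436) (.leaf (nat_lit 545)) (.leaf (nat_lit 394))) (.node (nat_lit 528) (.leaf (nat_lit 30)) (.node (nat_lit 549) (.leaf (nat_lit 0)) (.leaf (nat_lit 388))))) (.node (nat_lit 574) (.node (nat_lit 556) (.leaf (nat_lit 384)) (.leaf (nat_lit 29))) (.node (nat_lit 652) (.leaf (nat_lit 482)) (.node (nat_lit 657) (.leaf (nat_lit 156)) (.leaf (nat_lit 496)))))) (.node (nat_lit 775) (.node (nat_lit 687) (.node (nat_lit 670) (.leaf (nat_lit 483)) (.leaf (nat_lit 1624))) (.node (nat_lit 711) (.leaf (nat_lit 74))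 (.node (nat_lit 728) (.leaf (nat_lit 40)) (.leaf (nat_lit 483))))) (.node (nat_lit 828) (.node (nat_lit 819) (.leaf (nat_lit 481)) (.leaf (nat_lit 480))) (.node (nat_lit 886) (.leaf (nat_lit 392)) (.node (nat_lit 905) (.leaf (nat_lit 390)) (.leaf (nat_lit 482)))))))) (.node (nat_lit 1627) (.node (nat_lit 1222) (.node (nat_lit 1063) (.node (nat_lit 968) (.node (nat_lit 938) (.leaf (nat_lit 531)) (.leaf (nat_lit 401))) (.node (nat_lit 1032) (.leaf (nat_lit 34)) (.node (nat_lit 1039) (.leaf (nat_lit 395)) (.leaf (nat_lit 393))))) (.node (nat_lit 1079) (.node (nat_lit 1072) (.leaf (nat_lit 544)) (.leaf (nat_lit 402))) (.node (nat_lit 1133) (.leaf (nat_lit 528)) (.node (nat_lit 1138) (.leaf (nat_lit 394)) (.leaf (nat_lit 529)))))) (.node (nat_lit 1541) (.node (nat_lit 1262) (.node (nat_lit 1236) (.leaf (nat_lit 481)) (.leaf (nat_lit 24))) (.node (nat_lit 1332) (.leaf (nat_lit 497))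 (.node (nat_lit 1398) (.leaf (nat_lit 403)) (.leaf (nat_lit 1541))))) (.node (nat_lit 1581) (.node (nat_lit 1570) (.leaf (nat_lit 30)) (.leaf (nat_lit 16))) (.node (nat_lit 1610) (.leaf (nat_lit 1608)) (.node (nat_lit 1623) (.leaf (nat_lit 151)) (.leaf (nat_lit 1610))))))) (.node (nat_lit 1860) (.node (nat_lit 1782) (.node (nat_lit 1656) (.node (nat_lit 1636) (.leaf (nat_lit 480)) (.leaf (nat_lit 26))) (.node (nat_lit 1740) (.leaf (nat_lit 395)) (.node (nat_lit 1766) (.leaf (nat_lit 388)) (.leaf (nat_lit 1536))))) (.node (nat_lit 1817) (.node (nat_lit 1815) (.leaf (nat_lit 28)) (.leaf (nat_lit 1543))) (.node (nat_lit 1824) (.leaf (nat_lit 384)) (.node (nat_lit 1840) (.leaf (nat_lit 32)) (.leaf (nat_lit 149)))))) (.node (nat_lit 2033) (.node (nat_lit 1883) (.node (nat_lit 1882) (.leaf (nat_lit 144)) (.leaf (nat_lit 150))) (.node (nat_lit 1917) (.leaf (nat_lit 1540)) (.node (nat_lit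 1996) (.leaf (nat_lit 400)) (.leaf (nat_lit 42))))) (.node (nat_lit 2091) (.node (nat_lit 2081) (.leaf (nat_lit 148)) (.leaf (nat_lit 393))) (.node (nat_lit 2114) (.leaf (nat_lit 31)) (.node (nat_lit 2126) (.leaf (nat_lit 43)) (.leaf (nat_lit 530)))))))))
noncomputable def AN_nb_F : Fm := (.allS AN_lS (.imp (.eq (.mul (.v (nat_lit 0)) (.v (nat_lit 0))) .one) (.imp (.not (.mem (.v (nat_lit 0)) AN_lK)) (.exG AN_lS (fun cs => AN_nb_t0.find (Nat.mod (nth (nat_lit 0) cs (nat_lit 0)) (nat_lit 2137))) (.qf (.or (.eq (.mul (.mul (.v (nat_lit 0)) (.v (nat_lit 1))) (.inv (.v (nat_lit 0)))) (.v (nat_lit 12))) (.eq (.mul (.mul (.v (nat_lit 0)) (.v (nat_lit 1))) (.inv (.v (nat_lit 0)))) (.mul (.mul (.v (nat_lit 12)) (.v (nat_lit 9))) (.v (nat_lit 10))))))))))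
theorem AN_nb_chk : Fm.chk AN_o AN_nb_F AN_cs = true := by decide +kernel
theorem AN_nb {G : Type*} [Group G] {R : ℕ → G → Prop} {z u v a b i j k l p t c r s : G}
    (M : Md0 AN_o AN_cs R [z, u, v, a, b, i, j, k, l, p, t, c, r, s]) :
    ∀ g ∈ sp [i, p, t], g * g = 1 → g ∉ sp [i, p, c] → (∃ m ∈ sp [i, p, t], m * g * m⁻¹ = t ∨ m * g * m⁻¹ = t * k * l) :=
  have h : ∀ g, InS R AN_lS g → g * g = 1 → ¬ InS R AN_lK (g) → (GoodS R AN_lS → AN_lS ≠ [] → ∃ m, InS R AN_lS m ∧ (m * g * m⁻¹ = t ∨ m * g * m⁻¹ = t * k * l)) :=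
    Fm.sound M.μ AN_nb_F AN_nb_chk M.reps
  (fun g h0 => (fun h1 => (fun h2 => (Exists.imp (fun m h3 => ⟨(AN_lS_E M).iff.1 h3.1, h3.2⟩) ((((h g ((AN_lS_E M).iff.2 h0)) h1) ((not_congr (AN_lK_E M).iff).2 h2)) (AN_lS_E M).good (AN_lS_E M).ne)))))
noncomputable def AN_nb1a_t0 : ST := (.node (nat_lit 9) (.node (nat_lit 8) (.leaf (nat_lit 4)) (.leaf (nat_lit 5))) (.node (nat_lit 17) (.leaf (nat_lit 4)) (.leaf (nat_lit 5))))
noncomputable def AN_nb1a_F : Fm := (.allS AN_lQ (.imp (.eq (.mul (.v (nat_lit 11)) (.v (nat_lit 0))) (.mul (.v (nat_lit 0)) (.v (nat_lit 11)))) (.or (.qf (.eq (.v (nat_lit 0)) .one)) (.or (.qf (.eq (.v (nat_lit 0)) (.v (nat_lit 1)))) (.exG AN_lQ (fun cs => AN_nb1a_t0.find (Nat.mod (nth (nat_lit 0) cs (nat_lit 0)) (nat_lit 29))) (.qf (.and (.eq (.mul (.v (nat_lit 12)) (.v (nat_lit 0))) (.mul (.v (nat_lit 0)) (.v (nat_lit 12)))) (.eq (.mul (.mul (.mul (.v (nat_lit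 1)) (.v (nat_lit 0))) (.inv (.v (nat_lit 1)))) (.inv (.v (nat_lit 0)))) (.v (nat_lit 2))))))))))
theorem AN_nb1a_chk : Fm.chk AN_o AN_nb1a_F AN_cs = true := by decide +kernel
theorem AN_nb1a {G : Type*} [Group G] {R : ℕ → G → Prop} {z u v a b i j k l p t c r s : G}
    (M : Md0 AN_o AN_cs R [z, u, v, a, b, i, j, k, l, p, t, c, r, s]) :
    ∀ e ∈ sp [z, u, v, a, b], t * e = e * t → e = 1 ∨ e = z ∨ (∃ d ∈ sp [z, u, v, a, b], t * d = d * t ∧ ⁅e, d⁆ = z) :=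
  have h : ∀ e, InS R AN_lQ e → t * e = e * t → e = 1 ∨ e = z ∨ (GoodS R AN_lQ → AN_lQ ≠ [] → ∃ d, InS R AN_lQ d ∧ t * d = d * t ∧ ⁅e, d⁆ = z) :=
    Fm.sound M.μ AN_nb1a_F AN_nb1a_chk M.reps
  (fun e h0 => (fun h1 => (Or.imp (fun h2 => h2) (fun h2 => (Or.imp (fun h3 => h3) (fun h3 => (Exists.imp (fun d h4 => ⟨(AN_lQ_E M).iff.1 h4.1, h4.2⟩) (h3 (AN_lQ_E M).good (AN_lQ_E M).ne))) h2)) ((h e ((AN_lQ_E M).iff.2 h0)) h1))))
noncomputable def AN_nb2a_F : Fm := (.allS AN_lS (.imp (.eq (.mul (.v (nat_lit 0)) (.v (nat_lit 11))) (.mul (.v (nat_lit 11)) (.v (nat_lit 0)))) (.or (.qf (.mem (.v (nat_lit 0)) AN_lI)) (.or (.qf (.mem (.mul (.v (nat_lit 0)) (.v (nat_lit 11))) AN_lI)) (.exG AN_lQ (fun _ => (nat_lit 4)) (.qf (.and (.eq (.mul (.v (nat_lit 12)) (.v (nat_lit 0))) (.mul (.v (nat_lit 0)) (.v (nat_lit 12)))) (.not (.eq (.mul (.v (nat_lit 1)) (.v (nat_lit 0))) (.mul (.v (nat_lit 0)) (.v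 (nat_lit 1))))))))))))
theorem AN_nb2a_chk : Fm.chk AN_o AN_nb2a_F AN_cs = true := by decide +kernel
theorem AN_nb2a {G : Type*} [Group G] {R : ℕ → G → Prop} {z u v a b i j k l p t c r s : G}
    (M : Md0 AN_o AN_cs R [z, u, v, a, b, i, j, k, l, p, t, c, r, s]) :
    ∀ m ∈ sp [i, p, t], m * t = t * m → m ∈ sp [i, j, k, l] ∨ m * t ∈ sp [i, j, k, l] ∨ (∃ e ∈ sp [z, u, v, a, b], t * e = e * t ∧ m * e ≠ e * m) :=
  have h : ∀ m, InS R AN_lS m → m * t = t * m → InS R AN_lI (m) ∨ InS R AN_lI (m * t) ∨ (GoodS R AN_lQ → AN_lQ ≠ [] → ∃ e, InS R AN_lQ e ∧ t * e = e * t ∧ m * e ≠ e * m) :=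
    Fm.sound M.μ AN_nb2a_F AN_nb2a_chk M.reps
  (fun m h0 => (fun h1 => (Or.imp (fun h2 => ((AN_lI_E M).iff.1 h2)) (fun h2 => (Or.imp (fun h3 => ((AN_lI_E M).iff.1 h3)) (fun h3 => (Exists.imp (fun e h4 => ⟨(AN_lQ_E M).iff.1 h4.1, h4.2⟩) (h3 (AN_lQ_E M).good (AN_lQ_E M).ne))) h2)) ((h m ((AN_lS_E M).iff.2 h0)) h1))))
noncomputable def AN_nb1b_t0 : ST := (.node (nat_lit 14) (.node (nat_lit 13) (.leaf (nat_lit 18)) (.leaf (nat_lit 22))) (.node (nat_lit 24) (.leaf (nat_lit 18)) (.leaf (nat_lit 22))))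
noncomputable def AN_nb1b_F : Fm := (.allS AN_lQ (.imp (.eq (.mul (.mul (.mul (.v (nat_lit 11)) (.v (nat_lit 8))) (.v (nat_lit 9))) (.v (nat_lit 0))) (.mul (.v (nat_lit 0)) (.mul (.mul (.v (nat_lit 11)) (.v (nat_lit 8))) (.v (nat_lit 9))))) (.or (.qf (.eq (.v (nat_lit 0)) .one)) (.or (.qf (.eq (.v (nat_lit 0)) (.v (nat_lit 1)))) (.exG AN_lQ (fun cs => AN_nb1b_t0.find (Nat.mod (nth (nat_lit 0) cs (nat_lit 0)) (nat_lit 27))) (.qf (.and (.eq (.mul (.mul (.mul (.v (nat_lit 12)) (.v (nat_lit 9))) (.v (nat_lit 10))) (.v (nat_lit 0))) (.mul (.v (nat_lit 0)) (.mul (.mul (.v (nat_lit 12)) (.v (nat_lit 9))) (.v (nat_lit 10))))) (.eq (.mul (.mul (.mul (.v (nat_lit 1)) (.v (nat_lit 0))) (.inv (.v (nat_lit 1)))) (.inv (.v (nat_lit 0)))) (.v (nat_lit 2))))))))))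
theorem AN_nb1b_chk : Fm.chk AN_o AN_nb1b_F AN_cs = true := by decide +kernel
theorem AN_nb1b {G : Type*} [Group G] {R : ℕ → G → Prop} {z u v a b i j k l p t c r s : G}
    (M : Md0 AN_o AN_cs R [z, u, v, a, b, i, j, k, l, p, t, c, r, s]) :
    ∀ e ∈ sp [z, u, v, a, b], t * k * l * e = e * (t * k * l) → e = 1 ∨ e = z ∨ (∃ d ∈ sp [z, u, v, a, b], t * k * l * d = d * (t * k * l) ∧ ⁅e, d⁆ = z) :=
  have h : ∀ e, InS R AN_lQ e → t * k * l * e = e * (t * k * l) → e = 1 ∨ e = z ∨ (GoodS R AN_lQ → AN_lQ ≠ [] → ∃ d, InS R AN_lQ d ∧ t * k * l * d = d * (t * k * l) ∧ ⁅e, d⁆ = z) :=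
    Fm.sound M.μ AN_nb1b_F AN_nb1b_chk M.reps
  (fun e h0 => (fun h1 => (Or.imp (fun h2 => h2) (fun h2 => (Or.imp (fun h3 => h3) (fun h3 => (Exists.imp (fun d h4 => ⟨(AN_lQ_E M).iff.1 h4.1, h4.2⟩) (h3 (AN_lQ_E M).good (AN_lQ_E M).ne))) h2)) ((h e ((AN_lQ_E M).iff.2 h0)) h1))))
noncomputable def AN_nb2b_t0 : ST := (.node (nat_lit 187) (.node (nat_lit 114) (.node (nat_lit 46) (.node (nat_lit 41) (.leaf (nat_lit 18)) (.leaf (nat_lit 22))) (.node (nat_lit 112) (.leaf (nat_lit 18)) (.leaf (nat_lit 22)))) (.node (nat_lit 181) (.node (nat_lit 179) (.leaf (nat_lit 18)) (.leaf (nat_lit 22))) (.node (nat_lit 183) (.leaf (nat_lit 18)) (.leaf (nat_lit 22))))) (.node (nat_lit 264) (.node (nat_lit 233) (.node (nat_lit 222) (.leaf (nat_lit 18)) (.leaf (nat_lit 22))) (.node (nat_lit 256) (.leaf (nat_lit 18)) (.leaf (nat_lit 22)))) (.node (nat_lit 364) (.node (nat_lit 362) (.leaf (nat_lit 18))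 (.leaf (nat_lit 22))) (.node (nat_lit 426) (.leaf (nat_lit 18)) (.node (nat_lit 428) (.leaf (nat_lit 22)) (.leaf (nat_lit 18)))))))
noncomputable def AN_nb2b_F : Fm := (.allS AN_lS (.imp (.eq (.mul (.v (nat_lit 0)) (.mul (.mul (.v (nat_lit 11)) (.v (nat_lit 8))) (.v (nat_lit 9)))) (.mul (.mul (.mul (.v (nat_lit 11)) (.v (nat_lit 8))) (.v (nat_lit 9))) (.v (nat_lit 0)))) (.or (.qf (.mem (.v (nat_lit 0)) AN_lI)) (.or (.qf (.mem (.mul (.v (nat_lit 0)) (.mul (.mul (.v (nat_lit 11)) (.v (nat_lit 8))) (.v (nat_lit 9)))) AN_lI)) (.exG AN_lQ (fun cs => AN_nb2b_t0.find (Nat.mod (nth (nat_lit 0) cs (nat_lit 0)) (nat_lit 431))) (.qf (.and (.eq (.mul (.mul (.mul (.v (nat_lit 12)) (.v (nat_lit 9))) (.v (nat_lit 10))) (.v (nat_lit 0))) (.mul (.v (nat_lit 0)) (.mul (.mul (.v (nat_lit 12)) (.v (nat_lit 9))) (.v (nat_lit 10))))) (.not (.eq (.mul (.v (nat_lit 1)) (.v (nat_lit 0))) (.mul (.v (nat_lit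 0)) (.v (nat_lit 1))))))))))))
theorem AN_nb2b_chk : Fm.chk AN_o AN_nb2b_F AN_cs = true := by decide +kernel
theorem AN_nb2b {G : Type*} [Group G] {R : ℕ → G → Prop} {z u v a b i j k l p t c r s : G}
    (M : Md0 AN_o AN_cs R [z, u, v, a, b, i, j, k, l, p, t, c, r, s]) :
    ∀ m ∈ sp [i, p, t], m * (t * k * l) = t * k * l * m → m ∈ sp [i, j, k, l] ∨ m * (t * k * l) ∈ sp [i, j, k, l] ∨ (∃ e ∈ sp [z, u, v, a, b], t * k * l * e = e * (t * k * l) ∧ m * e ≠ e * m) :=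
  have h : ∀ m, InS R AN_lS m → m * (t * k * l) = t * k * l * m → InS R AN_lI (m) ∨ InS R AN_lI (m * (t * k * l)) ∨ (GoodS R AN_lQ → AN_lQ ≠ [] → ∃ e, InS R AN_lQ e ∧ t * k * l * e = e * (t * k * l) ∧ m * e ≠ e * m) :=
    Fm.sound M.μ AN_nb2b_F AN_nb2b_chk M.reps
  (fun m h0 => (fun h1 => (Or.imp (fun h2 => ((AN_lI_E M).iff.1 h2)) (fun h2 => (Or.imp (fun h3 => ((AN_lI_E M).iff.1 h3)) (fun h3 => (Exists.imp (fun e h4 => ⟨(AN_lQ_E M).iff.1 h4.1, h4.2⟩) (h3 (AN_lQ_E M).good (AN_lQ_E M).ne))) h2)) ((h m ((AN_lS_E M).iff.2 h0)) h1))))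
noncomputable def AN_cq_t0 : ST := (.node (nat_lit 2026) (.node (nat_lit 1208) (.node (nat_lit 781) (.node (nat_lit 377) (.node (nat_lit 230) (.node (nat_lit 135) (.node (nat_lit 78) (.leaf (nat_lit 3)) (.leaf (nat_lit 2))) (.node (nat_lit 182) (.leaf (nat_lit 3)) (.leaf (nat_lit 2)))) (.node (nat_lit 311) (.node (nat_lit 246) (.leaf (nat_lit 15)) (.leaf (nat_lit 2))) (.node (nat_lit 367) (.leaf (nat_lit 3)) (.leaf (nat_lit 2))))) (.node (nat_lit 675) (.node (nat_lit 563) (.node (nat_lit 546) (.leaf (nat_lit 5)) (.leaf (nat_lit 2))) (.node (nat_lit 671) (.leaf (nat_lit 3)) (.leaf (nat_lit 5)))) (.node (nat_lit 697) (.node (nat_lit 694) (.leaf (nat_lit 2)) (.leaf (nat_lit 4))) (.node (nat_lit 724) (.leaf (nat_lit 3)) (.leaf (nat_lit 10)))))) (.node (nat_lit 926) (.node (nat_lit 877) (.node (nat_lit 805) (.node (nat_lit 796) (.leaf (nat_lit 2)) (.leaf (nat_lit 3))) (.node (nat_lit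 832) (.leaf (nat_lit 30)) (.leaf (nat_lit 4)))) (.node (nat_lit 904) (.node (nat_lit 889) (.leaf (nat_lit 30)) (.leaf (nat_lit 5))) (.node (nat_lit 914) (.leaf (nat_lit 4)) (.leaf (nat_lit 2))))) (.node (nat_lit 1103) (.node (nat_lit 1029) (.node (nat_lit 939) (.leaf (nat_lit 14)) (.leaf (nat_lit 2))) (.node (nat_lit 1075) (.leaf (nat_lit 18)) (.leaf (nat_lit 3)))) (.node (nat_lit 1119) (.node (nat_lit 1112) (.leaf (nat_lit 12)) (.leaf (nat_lit 4))) (.node (nat_lit 1145) (.leaf (nat_lit 3)) (.leaf (nat_lit 5))))))) (.node (nat_lit 1526) (.node (nat_lit 1358) (.node (nat_lit 1277) (.node (nat_lit 1243) (.node (nat_lit 1229) (.leaf (nat_lit 30)) (.leaf (nat_lit 2))) (.node (nat_lit 1244) (.leaf (nat_lit 4)) (.leaf (nat_lit 5)))) (.node (nat_lit 1298) (.node (nat_lit 1283) (.leaf (nat_lit 4)) (.leaf (nat_lit 3))) (.node (nat_lit 1315) (.leaf (nat_lit 30)) (.leaf (nat_lit 3)))))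 (.node (nat_lit 1451) (.node (nat_lit 1375) (.node (nat_lit 1374) (.leaf (nat_lit 18)) (.leaf (nat_lit 3))) (.node (nat_lit 1449) (.leaf (nat_lit 2)) (.leaf (nat_lit 4)))) (.node (nat_lit 1485) (.node (nat_lit 1480) (.leaf (nat_lit 12)) (.leaf (nat_lit 5))) (.node (nat_lit 1524) (.leaf (nat_lit 4)) (.leaf (nat_lit 5)))))) (.node (nat_lit 1734) (.node (nat_lit 1689) (.node (nat_lit 1548) (.node (nat_lit 1543) (.leaf (nat_lit 4)) (.leaf (nat_lit 2))) (.node (nat_lit 1583) (.leaf (nat_lit 10)) (.leaf (nat_lit 30)))) (.node (nat_lit 1709) (.node (nat_lit 1694) (.leaf (nat_lit 3)) (.leaf (nat_lit 4))) (.node (nat_lit 1710) (.leaf (nat_lit 2)) (.leaf (nat_lit 10))))) (.node (nat_lit 1885) (.node (nat_lit 1748) (.node (nat_lit 1738) (.leaf (nat_lit 14)) (.leaf (nat_lit 3))) (.node (nat_lit 1827) (.leaf (nat_lit 2)) (.leaf (nat_lit 3)))) (.node (nat_lit 1963) (.node (nat_lit 1926) (.leaf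 (nat_lit 2)) (.leaf (nat_lit 11))) (.node (nat_lit 1972) (.leaf (nat_lit 2)) (.node (nat_lit 1990) (.leaf (nat_lit 30)) (.leaf (nat_lit 3))))))))) (.node (nat_lit 3223) (.node (nat_lit 2486) (.node (nat_lit 2278) (.node (nat_lit 2191) (.node (nat_lit 2076) (.node (nat_lit 2061) (.leaf (nat_lit 4)) (.leaf (nat_lit 2))) (.node (nat_lit 2092) (.leaf (nat_lit 4)) (.leaf (nat_lit 30)))) (.node (nat_lit 2227) (.node (nat_lit 2195) (.leaf (nat_lit 5)) (.leaf (nat_lit 15))) (.node (nat_lit 2258) (.leaf (nat_lit 4)) (.leaf (nat_lit 5))))) (.node (nat_lit 2353) (.node (nat_lit 2333) (.node (nat_lit 2315) (.leaf (nat_lit 2)) (.leaf (nat_lit 3))) (.node (nat_lit 2334) (.leaf (nat_lit 4)) (.leaf (nat_lit 30)))) (.node (nat_lit 2465) (.node (nat_lit 2388) (.leaf (nat_lit 4)) (.leaf (nat_lit 2))) (.node (nat_lit 2479) (.leaf (nat_lit 11)) (.leaf (nat_lit 5)))))) (.node (nat_lit 2806) (.node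 (nat_lit 2650) (.node (nat_lit 2594) (.node (nat_lit 2543) (.leaf (nat_lit 3)) (.leaf (nat_lit 5))) (.node (nat_lit 2603) (.leaf (nat_lit 2)) (.leaf (nat_lit 4)))) (.node (nat_lit 2739) (.node (nat_lit 2723) (.leaf (nat_lit 5)) (.leaf (nat_lit 2))) (.node (nat_lit 2744) (.leaf (nat_lit 30)) (.leaf (nat_lit 2))))) (.node (nat_lit 3100) (.node (nat_lit 2930) (.node (nat_lit 2867) (.leaf (nat_lit 4)) (.leaf (nat_lit 30))) (.node (nat_lit 3013) (.leaf (nat_lit 11)) (.leaf (nat_lit 2)))) (.node (nat_lit 3148) (.node (nat_lit 3120) (.leaf (nat_lit 30)) (.leaf (nat_lit 5))) (.node (nat_lit 3163) (.leaf (nat_lit 4)) (.node (nat_lit 3199) (.leaf (nat_lit 2)) (.leaf (nat_lit 4)))))))) (.node (nat_lit 3805) (.node (nat_lit 3446) (.node (nat_lit 3307) (.node (nat_lit 3259) (.node (nat_lit 3252) (.leaf (nat_lit 2)) (.leaf (nat_lit 4))) (.node (nat_lit 3271) (.leaf (nat_lit 3)) (.leaf (nat_lit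 2)))) (.node (nat_lit 3382) (.node (nat_lit 3350) (.leaf (nat_lit 14)) (.leaf (nat_lit 5))) (.node (nat_lit 3388) (.leaf (nat_lit 4)) (.leaf (nat_lit 11))))) (.node (nat_lit 3532) (.node (nat_lit 3500) (.node (nat_lit 3477) (.leaf (nat_lit 3)) (.leaf (nat_lit 4))) (.node (nat_lit 3506) (.leaf (nat_lit 5)) (.leaf (nat_lit 10)))) (.node (nat_lit 3735) (.node (nat_lit 3611) (.leaf (nat_lit 3)) (.leaf (nat_lit 2))) (.node (nat_lit 3742) (.leaf (nat_lit 5)) (.leaf (nat_lit 30)))))) (.node (nat_lit 4040) (.node (nat_lit 3949) (.node (nat_lit 3839) (.node (nat_lit 3825) (.leaf (nat_lit 4)) (.leaf (nat_lit 30))) (.node (nat_lit 3869) (.leaf (nat_lit 3)) (.leaf (nat_lit 2)))) (.node (nat_lit 3969) (.node (nat_lit 3960) (.leaf (nat_lit 3)) (.leaf (nat_lit 4))) (.node (nat_lit 4028) (.leaf (nat_lit 3)) (.leaf (nat_lit 2))))) (.node (nat_lit 4104) (.node (nat_lit 4094) (.node (nat_lit 4088)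 (.leaf (nat_lit 14)) (.leaf (nat_lit 10))) (.node (nat_lit 4103) (.leaf (nat_lit 4)) (.leaf (nat_lit 2)))) (.node (nat_lit 4202) (.node (nat_lit 4177) (.leaf (nat_lit 10)) (.leaf (nat_lit 3))) (.node (nat_lit 4232) (.leaf (nat_lit 2)) (.node (nat_lit 4240) (.leaf (nat_lit 3)) (.leaf (nat_lit 5))))))))))
noncomputable def AN_cq_F : Fm := (.allS AN_lS (.imp (.eq (.mul (.v (nat_lit 0)) (.v (nat_lit 0))) .one) (.exG AN_lQ (fun cs => AN_cq_t0.find (Nat.mod (nth (nat_lit 0) cs (nat_lit 0)) (nat_lit 4293))) (.qf (.and (.not (.eq (.v (nat_lit 0)) .one)) (.and (.not (.eq (.v (nat_lit 0)) (.v (nat_lit 2)))) (.and (.eq (.mul (.v (nat_lit 1)) (.v (nat_lit 0))) (.mul (.v (nat_lit 0)) (.v (nat_lit 1)))) (.or (.eq (.mul (.v (nat_lit 0)) (.v (nat_lit 0))) .one) (.not (.mem (.v (nat_lit 1)) AN_lK))))))))))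
theorem AN_cq_chk : Fm.chk AN_o AN_cq_F AN_cs = true := by decide +kernel
theorem AN_cq {G : Type*} [Group G] {R : ℕ → G → Prop} {z u v a b i j k l p t c r s : G}
    (M : Md0 AN_o AN_cs R [z, u, v, a, b, i, j, k, l, p, t, c, r, s]) :
    ∀ g ∈ sp [i, p, t], g * g = 1 → (∃ e ∈ sp [z, u, v, a, b], e ≠ 1 ∧ e ≠ z ∧ g * e = e * g ∧ (e * e = 1 ∨ g ∉ sp [i, p, c])) :=
  have h : ∀ g, InS R AN_lS g → g * g = 1 → (GoodS R AN_lQ → AN_lQ ≠ [] → ∃ e, InS R AN_lQ e ∧ e ≠ 1 ∧ e ≠ z ∧ g * e = e * g ∧ (e * e = 1 ∨ ¬ InS R AN_lK (g))) :=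
    Fm.sound M.μ AN_cq_F AN_cq_chk M.reps
  (fun g h0 => (fun h1 => (Exists.imp (fun e h2 => ⟨(AN_lQ_E M).iff.1 h2.1, ((and_congr Iff.rfl (and_congr Iff.rfl (and_congr Iff.rfl (or_congr Iff.rfl (not_congr (AN_lK_E M).iff))))).1 h2.2)⟩) (((h g ((AN_lS_E M).iff.2 h0)) h1) (AN_lQ_E M).good (AN_lQ_E M).ne))))
noncomputable def AN_nw_t0 : ST := (.node (nat_lit 44072) (.node (nat_lit 20473) (.node (nat_lit 9751) (.node (nat_lit 3887) (.node (nat_lit 1963) (.node (nat_lit 899) (.node (nat_lit 380) (.node (nat_lit 151) (.node (nat_lit 95) (.leaf (nat_lit 14)) (.leaf (nat_lit 10))) (.node (nat_lit 172) (.leaf (nat_lit 11)) (.node (nat_lit 242) (.leaf (nat_lit 10)) (.leaf (nat_lit 14))))) (.node (nat_lit 526) (.node (nat_lit 430) (.leaf (nat_lit 10)) (.node (nat_lit 472) (.leaf (nat_lit 15)) (.leaf (nat_lit 10)))) (.node (nat_lit 591) (.leaf (nat_lit 14)) (.node (nat_lit 656) (.leaf (nat_lit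 11)) (.leaf (nat_lit 10)))))) (.node (nat_lit 1344) (.node (nat_lit 1120) (.node (nat_lit 978) (.leaf (nat_lit 11)) (.leaf (nat_lit 14))) (.node (nat_lit 1140) (.leaf (nat_lit 10)) (.node (nat_lit 1321) (.leaf (nat_lit 12)) (.leaf (nat_lit 10))))) (.node (nat_lit 1847) (.node (nat_lit 1552) (.leaf (nat_lit 12)) (.node (nat_lit 1718) (.leaf (nat_lit 10)) (.leaf (nat_lit 11)))) (.node (nat_lit 1880) (.leaf (nat_lit 12)) (.node (nat_lit 1910) (.leaf (nat_lit 10)) (.leaf (nat_lit 11))))))) (.node (nat_lit 3166) (.node (nat_lit 2442) (.node (nat_lit 2201) (.node (nat_lit 2088) (.leaf (nat_lit 12)) (.leaf (nat_lit 10))) (.node (nat_lit 2286) (.leaf (nat_lit 11)) (.node (nat_lit 2322) (.leaf (nat_lit 10)) (.leaf (nat_lit 14))))) (.node (nat_lit 2830) (.node (nat_lit 2473) (.leaf (nat_lit 15)) (.node (nat_lit 2527) (.leaf (nat_lit 10)) (.leaf (nat_lit 11)))) (.node (nat_lit 2848) (.leaf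 (nat_lit 14)) (.node (nat_lit 3039) (.leaf (nat_lit 12)) (.leaf (nat_lit 11)))))) (.node (nat_lit 3454) (.node (nat_lit 3366) (.node (nat_lit 3200) (.leaf (nat_lit 10)) (.leaf (nat_lit 12))) (.node (nat_lit 3418) (.leaf (nat_lit 11)) (.node (nat_lit 3425) (.leaf (nat_lit 15)) (.leaf (nat_lit 10))))) (.node (nat_lit 3767) (.node (nat_lit 3638) (.leaf (nat_lit 11)) (.node (nat_lit 3671) (.leaf (nat_lit 10)) (.leaf (nat_lit 11)))) (.node (nat_lit 3810) (.leaf (nat_lit 12)) (.node (nat_lit 3815) (.leaf (nat_lit 14)) (.leaf (nat_lit 11)))))))) (.node (nat_lit 7392) (.node (nat_lit 5886) (.node (nat_lit 4565) (.node (nat_lit 4341) (.node (nat_lit 4090) (.leaf (nat_lit 10)) (.leaf (nat_lit 14))) (.node (nat_lit 4351) (.leaf (nat_lit 10)) (.node (nat_lit 4373) (.leaf (nat_lit 12)) (.leaf (nat_lit 10))))) (.node (nat_lit 5470) (.node (nat_lit 4952) (.leaf (nat_lit 11)) (.node (nat_lit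 5135) (.leaf (nat_lit 12)) (.leaf (nat_lit 11)))) (.node (nat_lit 5594) (.leaf (nat_lit 10)) (.node (nat_lit 5684) (.leaf (nat_lit 15)) (.leaf (nat_lit 12)))))) (.node (nat_lit 6879) (.node (nat_lit 6354) (.node (nat_lit 6085) (.leaf (nat_lit 11)) (.leaf (nat_lit 10))) (.node (nat_lit 6622) (.leaf (nat_lit 14)) (.node (nat_lit 6823) (.leaf (nat_lit 15)) (.leaf (nat_lit 12))))) (.node (nat_lit 7268) (.node (nat_lit 7162) (.leaf (nat_lit 11)) (.node (nat_lit 7252) (.leaf (nat_lit 14)) (.leaf (nat_lit 10)))) (.node (nat_lit 7310) (.leaf (nat_lit 12)) (.node (nat_lit 7319) (.leaf (nat_lit 14)) (.leaf (nat_lit 11))))))) (.node (nat_lit 7975) (.node (nat_lit 7686) (.node (nat_lit 7595) (.node (nat_lit 7498) (.leaf (nat_lit 12)) (.leaf (nat_lit 15))) (.node (nat_lit 7653) (.leaf (nat_lit 12)) (.node (nat_lit 7684) (.leaf (nat_lit 11)) (.leaf (nat_lit 12))))) (.node (nat_lit 7886) (.node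 (nat_lit 7796) (.leaf (nat_lit 15)) (.node (nat_lit 7859) (.leaf (nat_lit 12)) (.leaf (nat_lit 11)))) (.node (nat_lit 7926) (.leaf (nat_lit 10)) (.node (nat_lit 7945) (.leaf (nat_lit 11)) (.leaf (nat_lit 10)))))) (.node (nat_lit 8960) (.node (nat_lit 8169) (.node (nat_lit 7977) (.leaf (nat_lit 11)) (.leaf (nat_lit 10))) (.node (nat_lit 8735) (.leaf (nat_lit 11)) (.node (nat_lit 8941) (.leaf (nat_lit 12)) (.leaf (nat_lit 11))))) (.node (nat_lit 9504) (.node (nat_lit 8976) (.leaf (nat_lit 10)) (.node (nat_lit 9482) (.leaf (nat_lit 12)) (.leaf (nat_lit 15)))) (.node (nat_lit 9665) (.leaf (nat_lit 12)) (.node (nat_lit 9689) (.leaf (nat_lit 11)) (.leaf (nat_lit 10))))))))) (.node (nat_lit 15253) (.node (nat_lit 12896) (.node (nat_lit 11182) (.node (nat_lit 10165) (.node (nat_lit 9962) (.node (nat_lit 9757) (.leaf (nat_lit 11)) (.leaf (nat_lit 10))) (.node (nat_lit 10022) (.leaf (nat_lit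 14)) (.node (nat_lit 10151) (.leaf (nat_lit 10)) (.leaf (nat_lit 11))))) (.node (nat_lit 10550) (.node (nat_lit 10414) (.leaf (nat_lit 10)) (.node (nat_lit 10547) (.leaf (nat_lit 14)) (.leaf (nat_lit 11)))) (.node (nat_lit 10575) (.leaf (nat_lit 14)) (.node (nat_lit 11170) (.leaf (nat_lit 10)) (.leaf (nat_lit 15)))))) (.node (nat_lit 11658) (.node (nat_lit 11348) (.node (nat_lit 11257) (.leaf (nat_lit 10)) (.leaf (nat_lit 11))) (.node (nat_lit 11638) (.leaf (nat_lit 12)) (.node (nat_lit 11655) (.leaf (nat_lit 14)) (.leaf (nat_lit 10))))) (.node (nat_lit 12545) (.node (nat_lit 11719) (.leaf (nat_lit 14)) (.node (nat_lit 12167) (.leaf (nat_lit 11)) (.leaf (nat_lit 10)))) (.node (nat_lit 12774) (.leaf (nat_lit 11)) (.node (nat_lit 12802) (.leaf (nat_lit 10)) (.leaf (nat_lit 14))))))) (.node (nat_lit 14037) (.node (nat_lit 13361) (.node (nat_lit 13056) (.node (nat_lit 13015) (.leaf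 (nat_lit 10)) (.leaf (nat_lit 11))) (.node (nat_lit 13220) (.leaf (nat_lit 12)) (.node (nat_lit 13247) (.leaf (nat_lit 10)) (.leaf (nat_lit 11))))) (.node (nat_lit 13675) (.node (nat_lit 13403) (.leaf (nat_lit 10)) (.node (nat_lit 13515) (.leaf (nat_lit 11)) (.leaf (nat_lit 12)))) (.node (nat_lit 13769) (.leaf (nat_lit 11)) (.node (nat_lit 13973) (.leaf (nat_lit 10)) (.leaf (nat_lit 11)))))) (.node (nat_lit 14695) (.node (nat_lit 14311) (.node (nat_lit 14055) (.leaf (nat_lit 10)) (.leaf (nat_lit 11))) (.node (nat_lit 14598) (.leaf (nat_lit 12)) (.node (nat_lit 14682) (.leaf (nat_lit 10)) (.leaf (nat_lit 14))))) (.node (nat_lit 14902) (.node (nat_lit 14719) (.leaf (nat_lit 11)) (.node (nat_lit 14815) (.leaf (nat_lit 10)) (.leaf (nat_lit 11)))) (.node (nat_lit 14914) (.leaf (nat_lit 15)) (.node (nat_lit 14928) (.leaf (nat_lit 14)) (.leaf (nat_lit 10)))))))) (.node (nat_lit 18015)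 (.node (nat_lit 17260) (.node (nat_lit 16044) (.node (nat_lit 15811) (.node (nat_lit 15501) (.leaf (nat_lit 11)) (.leaf (nat_lit 10))) (.node (nat_lit 15846) (.leaf (nat_lit 12)) (.node (nat_lit 15855) (.leaf (nat_lit 15)) (.leaf (nat_lit 10))))) (.node (nat_lit 16582) (.node (nat_lit 16350) (.leaf (nat_lit 12)) (.node (nat_lit 16539) (.leaf (nat_lit 10)) (.leaf (nat_lit 11)))) (.node (nat_lit 16869) (.leaf (nat_lit 14)) (.node (nat_lit 17063) (.leaf (nat_lit 10)) (.leaf (nat_lit 11)))))) (.node (nat_lit 17639) (.node (nat_lit 17534) (.node (nat_lit 17447) (.leaf (nat_lit 10)) (.leaf (nat_lit 11))) (.node (nat_lit 17577) (.leaf (nat_lit 14)) (.node (nat_lit 17614) (.leaf (nat_lit 11)) (.leaf (nat_lit 10))))) (.node (nat_lit 17813) (.node (nat_lit 17641) (.leaf (nat_lit 11)) (.node (nat_lit 17752) (.leaf (nat_lit 10)) (.leaf (nat_lit 12)))) (.node (nat_lit 17867) (.leaf (nat_lit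 10)) (.node (nat_lit 17890) (.leaf (nat_lit 12)) (.leaf (nat_lit 14))))))) (.node (nat_lit 19342) (.node (nat_lit 18870) (.node (nat_lit 18490) (.node (nat_lit 18471) (.leaf (nat_lit 10)) (.leaf (nat_lit 12))) (.node (nat_lit 18572) (.leaf (nat_lit 14)) (.node (nat_lit 18857) (.leaf (nat_lit 10)) (.leaf (nat_lit 11))))) (.node (nat_lit 19105) (.node (nat_lit 18877) (.leaf (nat_lit 14)) (.node (nat_lit 19095) (.leaf (nat_lit 10)) (.leaf (nat_lit 11)))) (.node (nat_lit 19183) (.leaf (nat_lit 10)) (.node (nat_lit 19306) (.leaf (nat_lit 11)) (.leaf (nat_lit 14)))))) (.node (nat_lit 19909) (.node (nat_lit 19440) (.node (nat_lit 19375) (.leaf (nat_lit 10)) (.node (nat_lit 19422) (.leaf (nat_lit 12)) (.leaf (nat_lit 14)))) (.node (nat_lit 19494) (.leaf (nat_lit 10)) (.node (nat_lit 19516) (.leaf (nat_lit 14)) (.leaf (nat_lit 12))))) (.node (nat_lit 20006) (.node (nat_lit 19957) (.leaf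 (nat_lit 10)) (.node (nat_lit 19980) (.leaf (nat_lit 11)) (.leaf (nat_lit 12)))) (.node (nat_lit 20280) (.leaf (nat_lit 11)) (.node (nat_lit 20339) (.leaf (nat_lit 10)) (.leaf (nat_lit 11)))))))))) (.node (nat_lit 30758) (.node (nat_lit 25256) (.node (nat_lit 22795) (.node (nat_lit 21374) (.node (nat_lit 20813) (.node (nat_lit 20582) (.node (nat_lit 20499) (.leaf (nat_lit 10)) (.leaf (nat_lit 12))) (.node (nat_lit 20620) (.leaf (nat_lit 14)) (.node (nat_lit 20622) (.leaf (nat_lit 10)) (.leaf (nat_lit 15))))) (.node (nat_lit 20958) (.node (nat_lit 20835) (.leaf (nat_lit 10)) (.node (nat_lit 20866) (.leaf (nat_lit 11)) (.leaf (nat_lit 14)))) (.node (nat_lit 21224) (.leaf (nat_lit 10)) (.node (nat_lit 21239) (.leaf (nat_lit 12)) (.leaf (nat_lit 10)))))) (.node (nat_lit 22078) (.node (nat_lit 21439) (.node (nat_lit 21417) (.leaf (nat_lit 11)) (.leaf (nat_lit 10))) (.node (nat_lit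 21688) (.leaf (nat_lit 11)) (.node (nat_lit 21748) (.leaf (nat_lit 12)) (.leaf (nat_lit 10))))) (.node (nat_lit 22481) (.node (nat_lit 22308) (.leaf (nat_lit 15)) (.node (nat_lit 22382) (.leaf (nat_lit 10)) (.leaf (nat_lit 15)))) (.node (nat_lit 22683) (.leaf (nat_lit 10)) (.node (nat_lit 22684) (.leaf (nat_lit 11)) (.leaf (nat_lit 10))))))) (.node (nat_lit 24392) (.node (nat_lit 23561) (.node (nat_lit 23196) (.node (nat_lit 22975) (.leaf (nat_lit 12)) (.leaf (nat_lit 11))) (.node (nat_lit 23231) (.leaf (nat_lit 12)) (.node (nat_lit 23456) (.leaf (nat_lit 11)) (.leaf (nat_lit 10))))) (.node (nat_lit 23772) (.node (nat_lit 23615) (.leaf (nat_lit 11)) (.node (nat_lit 23655) (.leaf (nat_lit 10)) (.leaf (nat_lit 11)))) (.node (nat_lit 24206) (.leaf (nat_lit 10)) (.node (nat_lit 24275) (.leaf (nat_lit 15)) (.leaf (nat_lit 11)))))) (.node (nat_lit 24783) (.node (nat_lit 24646) (.node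 (nat_lit 24558) (.leaf (nat_lit 10)) (.leaf (nat_lit 11))) (.node (nat_lit 24726) (.leaf (nat_lit 10)) (.node (nat_lit 24734) (.leaf (nat_lit 11)) (.leaf (nat_lit 14))))) (.node (nat_lit 24904) (.node (nat_lit 24802) (.leaf (nat_lit 11)) (.node (nat_lit 24886) (.leaf (nat_lit 14)) (.leaf (nat_lit 10)))) (.node (nat_lit 25118) (.leaf (nat_lit 12)) (.node (nat_lit 25134) (.leaf (nat_lit 10)) (.leaf (nat_lit 11)))))))) (.node (nat_lit 27844) (.node (nat_lit 26470) (.node (nat_lit 25615) (.node (nat_lit 25422) (.node (nat_lit 25367) (.leaf (nat_lit 10)) (.leaf (nat_lit 11))) (.node (nat_lit 25480) (.leaf (nat_lit 14)) (.node (nat_lit 25514) (.leaf (nat_lit 10)) (.leaf (nat_lit 15))))) (.node (nat_lit 25894) (.node (nat_lit 25751) (.leaf (nat_lit 11)) (.node (nat_lit 25855) (.leaf (nat_lit 10)) (.leaf (nat_lit 12)))) (.node (nat_lit 26263) (.leaf (nat_lit 10)) (.node (nat_lit 26319)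 (.leaf (nat_lit 11)) (.leaf (nat_lit 12)))))) (.node (nat_lit 26978) (.node (nat_lit 26653) (.node (nat_lit 26638) (.leaf (nat_lit 10)) (.leaf (nat_lit 15))) (.node (nat_lit 26898) (.leaf (nat_lit 10)) (.node (nat_lit 26911) (.leaf (nat_lit 14)) (.leaf (nat_lit 10))))) (.node (nat_lit 27666) (.node (nat_lit 27445) (.leaf (nat_lit 14)) (.node (nat_lit 27659) (.leaf (nat_lit 10)) (.leaf (nat_lit 11)))) (.node (nat_lit 27752) (.leaf (nat_lit 14)) (.node (nat_lit 27799) (.leaf (nat_lit 10)) (.leaf (nat_lit 11))))))) (.node (nat_lit 29373) (.node (nat_lit 28590) (.node (nat_lit 28174) (.node (nat_lit 28028) (.leaf (nat_lit 10)) (.leaf (nat_lit 12))) (.node (nat_lit 28251) (.leaf (nat_lit 10)) (.node (nat_lit 28503) (.leaf (nat_lit 11)) (.leaf (nat_lit 10))))) (.node (nat_lit 29167) (.node (nat_lit 28692) (.leaf (nat_lit 15)) (.node (nat_lit 28826) (.leaf (nat_lit 10)) (.leaf (nat_lit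 15)))) (.node (nat_lit 29211) (.leaf (nat_lit 12)) (.node (nat_lit 29292) (.leaf (nat_lit 11)) (.leaf (nat_lit 10)))))) (.node (nat_lit 29892) (.node (nat_lit 29552) (.node (nat_lit 29389) (.leaf (nat_lit 11)) (.node (nat_lit 29506) (.leaf (nat_lit 10)) (.leaf (nat_lit 14)))) (.node (nat_lit 29591) (.leaf (nat_lit 10)) (.node (nat_lit 29736) (.leaf (nat_lit 11)) (.leaf (nat_lit 12))))) (.node (nat_lit 30102) (.node (nat_lit 30050) (.leaf (nat_lit 10)) (.node (nat_lit 30087) (.leaf (nat_lit 14)) (.leaf (nat_lit 11)))) (.node (nat_lit 30182) (.leaf (nat_lit 15)) (.node (nat_lit 30257) (.leaf (nat_lit 14)) (.leaf (nat_lit 10))))))))) (.node (nat_lit 36942) (.node (nat_lit 34348) (.node (nat_lit 33086) (.node (nat_lit 31600) (.node (nat_lit 31339) (.node (nat_lit 30940) (.leaf (nat_lit 11)) (.leaf (nat_lit 10))) (.node (nat_lit 31485) (.leaf (nat_lit 11)) (.node (nat_lit 31590) (.leaf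 (nat_lit 10)) (.leaf (nat_lit 14))))) (.node (nat_lit 32648) (.node (nat_lit 32114) (.leaf (nat_lit 10)) (.node (nat_lit 32318) (.leaf (nat_lit 14)) (.leaf (nat_lit 15)))) (.node (nat_lit 32881) (.leaf (nat_lit 10)) (.node (nat_lit 32993) (.leaf (nat_lit 11)) (.leaf (nat_lit 10)))))) (.node (nat_lit 33676) (.node (nat_lit 33195) (.node (nat_lit 33188) (.leaf (nat_lit 15)) (.leaf (nat_lit 10))) (.node (nat_lit 33333) (.leaf (nat_lit 12)) (.node (nat_lit 33559) (.leaf (nat_lit 10)) (.leaf (nat_lit 11))))) (.node (nat_lit 33990) (.node (nat_lit 33847) (.leaf (nat_lit 10)) (.node (nat_lit 33859) (.leaf (nat_lit 11)) (.leaf (nat_lit 12)))) (.node (nat_lit 34254) (.leaf (nat_lit 10)) (.node (nat_lit 34346) (.leaf (nat_lit 15)) (.leaf (nat_lit 14))))))) (.node (nat_lit 35384) (.node (nat_lit 34823) (.node (nat_lit 34565) (.node (nat_lit 34445) (.leaf (nat_lit 10)) (.leaf (nat_lit 11)))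 (.node (nat_lit 34582) (.leaf (nat_lit 10)) (.node (nat_lit 34654) (.leaf (nat_lit 14)) (.leaf (nat_lit 15))))) (.node (nat_lit 35030) (.node (nat_lit 34871) (.leaf (nat_lit 10)) (.node (nat_lit 34896) (.leaf (nat_lit 11)) (.leaf (nat_lit 10)))) (.node (nat_lit 35071) (.leaf (nat_lit 14)) (.node (nat_lit 35362) (.leaf (nat_lit 10)) (.leaf (nat_lit 14)))))) (.node (nat_lit 36056) (.node (nat_lit 35746) (.node (nat_lit 35430) (.leaf (nat_lit 10)) (.leaf (nat_lit 11))) (.node (nat_lit 35807) (.leaf (nat_lit 15)) (.node (nat_lit 35842) (.leaf (nat_lit 11)) (.leaf (nat_lit 14))))) (.node (nat_lit 36270) (.node (nat_lit 36094) (.leaf (nat_lit 10)) (.node (nat_lit 36127) (.leaf (nat_lit 14)) (.leaf (nat_lit 11)))) (.node (nat_lit 36383) (.leaf (nat_lit 15)) (.node (nat_lit 36612) (.leaf (nat_lit 12)) (.leaf (nat_lit 10)))))))) (.node (nat_lit 40788) (.node (nat_lit 38299) (.node (nat_lit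 37655) (.node (nat_lit 37103) (.node (nat_lit 37085) (.leaf (nat_lit 14)) (.leaf (nat_lit 10))) (.node (nat_lit 37324) (.leaf (nat_lit 11)) (.node (nat_lit 37454) (.leaf (nat_lit 10)) (.leaf (nat_lit 14))))) (.node (nat_lit 38146) (.node (nat_lit 38054) (.leaf (nat_lit 11)) (.node (nat_lit 38101) (.leaf (nat_lit 14)) (.leaf (nat_lit 11)))) (.node (nat_lit 38169) (.leaf (nat_lit 14)) (.node (nat_lit 38263) (.leaf (nat_lit 10)) (.leaf (nat_lit 12)))))) (.node (nat_lit 39771) (.node (nat_lit 38606) (.node (nat_lit 38320) (.leaf (nat_lit 11)) (.leaf (nat_lit 10))) (.node (nat_lit 38687) (.leaf (nat_lit 15)) (.node (nat_lit 38729) (.leaf (nat_lit 11)) (.leaf (nat_lit 10))))) (.node (nat_lit 40375) (.node (nat_lit 40270) (.leaf (nat_lit 11)) (.node (nat_lit 40287) (.leaf (nat_lit 10)) (.leaf (nat_lit 11)))) (.node (nat_lit 40455) (.leaf (nat_lit 10)) (.node (nat_lit 40504) (.leaf (nat_lit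 11)) (.leaf (nat_lit 10))))))) (.node (nat_lit 42626) (.node (nat_lit 41623) (.node (nat_lit 40863) (.node (nat_lit 40847) (.leaf (nat_lit 12)) (.leaf (nat_lit 10))) (.node (nat_lit 41254) (.leaf (nat_lit 11)) (.node (nat_lit 41403) (.leaf (nat_lit 14)) (.leaf (nat_lit 11))))) (.node (nat_lit 41938) (.node (nat_lit 41705) (.leaf (nat_lit 10)) (.node (nat_lit 41855) (.leaf (nat_lit 11)) (.leaf (nat_lit 12)))) (.node (nat_lit 42109) (.leaf (nat_lit 15)) (.node (nat_lit 42496) (.leaf (nat_lit 10)) (.leaf (nat_lit 12)))))) (.node (nat_lit 43002) (.node (nat_lit 42831) (.node (nat_lit 42639) (.leaf (nat_lit 14)) (.node (nat_lit 42661) (.leaf (nat_lit 12)) (.leaf (nat_lit 10)))) (.node (nat_lit 42911) (.leaf (nat_lit 12)) (.node (nat_lit 42933) (.leaf (nat_lit 11)) (.leaf (nat_lit 10))))) (.node (nat_lit 43779) (.node (nat_lit 43099) (.leaf (nat_lit 15)) (.node (nat_lit 43326) (.leaf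 (nat_lit 12)) (.leaf (nat_lit 10)))) (.node (nat_lit 43903) (.leaf (nat_lit 11)) (.node (nat_lit 44054) (.leaf (nat_lit 10)) (.leaf (nat_lit 11))))))))))) (.node (nat_lit 67506) (.node (nat_lit 56175) (.node (nat_lit 51271) (.node (nat_lit 46954) (.node (nat_lit 45654) (.node (nat_lit 45116) (.node (nat_lit 44806) (.node (nat_lit 44638) (.leaf (nat_lit 10)) (.leaf (nat_lit 14))) (.node (nat_lit 45019) (.leaf (nat_lit 10)) (.node (nat_lit 45067) (.leaf (nat_lit 12)) (.leaf (nat_lit 11))))) (.node (nat_lit 45486) (.node (nat_lit 45126) (.leaf (nat_lit 12)) (.node (nat_lit 45284) (.leaf (nat_lit 15)) (.leaf (nat_lit 12)))) (.node (nat_lit 45510) (.leaf (nat_lit 14)) (.node (nat_lit 45603) (.leaf (nat_lit 15)) (.leaf (nat_lit 12)))))) (.node (nat_lit 46398) (.node (nat_lit 45730) (.node (nat_lit 45713) (.leaf (nat_lit 15)) (.leaf (nat_lit 10))) (.node (nat_lit 45935) (.leaf (nat_lit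 14)) (.node (nat_lit 46265) (.leaf (nat_lit 12)) (.leaf (nat_lit 10))))) (.node (nat_lit 46614) (.node (nat_lit 46487) (.leaf (nat_lit 14)) (.node (nat_lit 46537) (.leaf (nat_lit 11)) (.leaf (nat_lit 10)))) (.node (nat_lit 46733) (.leaf (nat_lit 15)) (.node (nat_lit 46824) (.leaf (nat_lit 10)) (.leaf (nat_lit 12))))))) (.node (nat_lit 49301) (.node (nat_lit 48075) (.node (nat_lit 47076) (.node (nat_lit 46992) (.leaf (nat_lit 14)) (.leaf (nat_lit 12))) (.node (nat_lit 47894) (.leaf (nat_lit 10)) (.node (nat_lit 47916) (.leaf (nat_lit 11)) (.leaf (nat_lit 10))))) (.node (nat_lit 48784) (.node (nat_lit 48102) (.leaf (nat_lit 12)) (.node (nat_lit 48131) (.leaf (nat_lit 14)) (.leaf (nat_lit 11)))) (.node (nat_lit 48899) (.leaf (nat_lit 10)) (.node (nat_lit 49086) (.leaf (nat_lit 12)) (.leaf (nat_lit 10)))))) (.node (nat_lit 50337) (.node (nat_lit 49987) (.node (nat_lit 49422) (.leaf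 (nat_lit 11)) (.leaf (nat_lit 10))) (.node (nat_lit 50218) (.leaf (nat_lit 12)) (.node (nat_lit 50234) (.leaf (nat_lit 15)) (.leaf (nat_lit 14))))) (.node (nat_lit 50942) (.node (nat_lit 50630) (.leaf (nat_lit 10)) (.node (nat_lit 50721) (.leaf (nat_lit 14)) (.leaf (nat_lit 10)))) (.node (nat_lit 51003) (.leaf (nat_lit 14)) (.node (nat_lit 51162) (.leaf (nat_lit 11)) (.leaf (nat_lit 15)))))))) (.node (nat_lit 54267) (.node (nat_lit 53045) (.node (nat_lit 52335) (.node (nat_lit 51757) (.node (nat_lit 51564) (.leaf (nat_lit 11)) (.leaf (nat_lit 12))) (.node (nat_lit 51898) (.leaf (nat_lit 11)) (.node (nat_lit 52137) (.leaf (nat_lit 14)) (.leaf (nat_lit 11))))) (.node (nat_lit 52480) (.node (nat_lit 52406) (.leaf (nat_lit 12)) (.node (nat_lit 52413) (.leaf (nat_lit 10)) (.leaf (nat_lit 11)))) (.node (nat_lit 52850) (.leaf (nat_lit 10)) (.node (nat_lit 52905) (.leaf (nat_lit 14))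 (.leaf (nat_lit 11)))))) (.node (nat_lit 53774) (.node (nat_lit 53272) (.node (nat_lit 53262) (.leaf (nat_lit 10)) (.leaf (nat_lit 11))) (.node (nat_lit 53471) (.leaf (nat_lit 12)) (.node (nat_lit 53726) (.leaf (nat_lit 11)) (.leaf (nat_lit 10))))) (.node (nat_lit 54064) (.node (nat_lit 53871) (.leaf (nat_lit 15)) (.node (nat_lit 54052) (.leaf (nat_lit 11)) (.leaf (nat_lit 10)))) (.node (nat_lit 54095) (.leaf (nat_lit 12)) (.node (nat_lit 54186) (.leaf (nat_lit 11)) (.leaf (nat_lit 14))))))) (.node (nat_lit 55279) (.node (nat_lit 54806) (.node (nat_lit 54499) (.node (nat_lit 54293) (.leaf (nat_lit 11)) (.leaf (nat_lit 10))) (.node (nat_lit 54694) (.leaf (nat_lit 11)) (.node (nat_lit 54738) (.leaf (nat_lit 10)) (.leaf (nat_lit 14))))) (.node (nat_lit 54965) (.node (nat_lit 54810) (.leaf (nat_lit 10)) (.node (nat_lit 54903) (.leaf (nat_lit 14)) (.leaf (nat_lit 10)))) (.node (nat_lit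 54966) (.leaf (nat_lit 11)) (.node (nat_lit 55004) (.leaf (nat_lit 14)) (.leaf (nat_lit 10)))))) (.node (nat_lit 55938) (.node (nat_lit 55693) (.node (nat_lit 55455) (.leaf (nat_lit 11)) (.node (nat_lit 55563) (.leaf (nat_lit 10)) (.leaf (nat_lit 12)))) (.node (nat_lit 55847) (.leaf (nat_lit 10)) (.node (nat_lit 55898) (.leaf (nat_lit 11)) (.leaf (nat_lit 14))))) (.node (nat_lit 56017) (.node (nat_lit 55947) (.leaf (nat_lit 15)) (.node (nat_lit 55999) (.leaf (nat_lit 11)) (.leaf (nat_lit 10)))) (.node (nat_lit 56106) (.leaf (nat_lit 11)) (.node (nat_lit 56135) (.leaf (nat_lit 15)) (.leaf (nat_lit 10))))))))) (.node (nat_lit 61902) (.node (nat_lit 59566) (.node (nat_lit 57830) (.node (nat_lit 56550) (.node (nat_lit 56382) (.node (nat_lit 56373) (.leaf (nat_lit 12)) (.leaf (nat_lit 10))) (.node (nat_lit 56429) (.leaf (nat_lit 14)) (.node (nat_lit 56492) (.leaf (nat_lit 11)) (.leaf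 (nat_lit 12))))) (.node (nat_lit 57286) (.node (nat_lit 56649) (.leaf (nat_lit 14)) (.node (nat_lit 57223) (.leaf (nat_lit 10)) (.leaf (nat_lit 12)))) (.node (nat_lit 57376) (.leaf (nat_lit 14)) (.node (nat_lit 57394) (.leaf (nat_lit 12)) (.leaf (nat_lit 15)))))) (.node (nat_lit 58630) (.node (nat_lit 58079) (.node (nat_lit 57967) (.leaf (nat_lit 10)) (.leaf (nat_lit 12))) (.node (nat_lit 58200) (.leaf (nat_lit 10)) (.node (nat_lit 58231) (.leaf (nat_lit 12)) (.leaf (nat_lit 11))))) (.node (nat_lit 58869) (.node (nat_lit 58644) (.leaf (nat_lit 14)) (.node (nat_lit 58750) (.leaf (nat_lit 12)) (.leaf (nat_lit 15)))) (.node (nat_lit 59055) (.leaf (nat_lit 11)) (.node (nat_lit 59522) (.leaf (nat_lit 10)) (.leaf (nat_lit 15))))))) (.node (nat_lit 60352) (.node (nat_lit 59845) (.node (nat_lit 59726) (.node (nat_lit 59723) (.leaf (nat_lit 10)) (.leaf (nat_lit 12))) (.node (nat_lit 59783)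 (.leaf (nat_lit 15)) (.node (nat_lit 59791) (.leaf (nat_lit 11)) (.leaf (nat_lit 12))))) (.node (nat_lit 60070) (.node (nat_lit 60033) (.leaf (nat_lit 10)) (.node (nat_lit 60050) (.leaf (nat_lit 11)) (.leaf (nat_lit 14)))) (.node (nat_lit 60118) (.leaf (nat_lit 10)) (.node (nat_lit 60124) (.leaf (nat_lit 14)) (.leaf (nat_lit 10)))))) (.node (nat_lit 60738) (.node (nat_lit 60535) (.node (nat_lit 60398) (.leaf (nat_lit 12)) (.leaf (nat_lit 14))) (.node (nat_lit 60627) (.leaf (nat_lit 10)) (.node (nat_lit 60695) (.leaf (nat_lit 12)) (.leaf (nat_lit 10))))) (.node (nat_lit 60933) (.node (nat_lit 60764) (.leaf (nat_lit 14)) (.node (nat_lit 60919) (.leaf (nat_lit 10)) (.leaf (nat_lit 11)))) (.node (nat_lit 61189) (.leaf (nat_lit 10)) (.node (nat_lit 61832) (.leaf (nat_lit 11)) (.leaf (nat_lit 10)))))))) (.node (nat_lit 64537) (.node (nat_lit 63399) (.node (nat_lit 62691) (.node (nat_lit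 62472) (.node (nat_lit 62399) (.leaf (nat_lit 15)) (.leaf (nat_lit 11))) (.node (nat_lit 62473) (.leaf (nat_lit 10)) (.node (nat_lit 62662) (.leaf (nat_lit 11)) (.leaf (nat_lit 14))))) (.node (nat_lit 62884) (.node (nat_lit 62847) (.leaf (nat_lit 11)) (.node (nat_lit 62854) (.leaf (nat_lit 10)) (.leaf (nat_lit 11)))) (.node (nat_lit 63268) (.leaf (nat_lit 10)) (.node (nat_lit 63388) (.leaf (nat_lit 12)) (.leaf (nat_lit 10)))))) (.node (nat_lit 63775) (.node (nat_lit 63470) (.node (nat_lit 63449) (.leaf (nat_lit 11)) (.leaf (nat_lit 10))) (.node (nat_lit 63623) (.leaf (nat_lit 14)) (.node (nat_lit 63697) (.leaf (nat_lit 11)) (.leaf (nat_lit 10))))) (.node (nat_lit 63887) (.node (nat_lit 63806) (.leaf (nat_lit 11)) (.node (nat_lit 63825) (.leaf (nat_lit 15)) (.leaf (nat_lit 10)))) (.node (nat_lit 63906) (.leaf (nat_lit 12)) (.node (nat_lit 64047) (.leaf (nat_lit 15)) (.leaf (nat_lit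 11))))))) (.node (nat_lit 65790) (.node (nat_lit 64976) (.node (nat_lit 64768) (.node (nat_lit 64709) (.leaf (nat_lit 10)) (.leaf (nat_lit 11))) (.node (nat_lit 64793) (.leaf (nat_lit 10)) (.node (nat_lit 64815) (.leaf (nat_lit 11)) (.leaf (nat_lit 10))))) (.node (nat_lit 65418) (.node (nat_lit 65096) (.leaf (nat_lit 12)) (.node (nat_lit 65246) (.leaf (nat_lit 10)) (.leaf (nat_lit 11)))) (.node (nat_lit 65498) (.leaf (nat_lit 15)) (.node (nat_lit 65733) (.leaf (nat_lit 14)) (.leaf (nat_lit 11)))))) (.node (nat_lit 66477) (.node (nat_lit 66036) (.node (nat_lit 65829) (.leaf (nat_lit 15)) (.node (nat_lit 66035) (.leaf (nat_lit 10)) (.leaf (nat_lit 11)))) (.node (nat_lit 66183) (.leaf (nat_lit 10)) (.node (nat_lit 66270) (.leaf (nat_lit 12)) (.leaf (nat_lit 14))))) (.node (nat_lit 66911) (.node (nat_lit 66619) (.leaf (nat_lit 10)) (.node (nat_lit 66906) (.leaf (nat_lit 11)) (.leaf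 (nat_lit 14)))) (.node (nat_lit 67107) (.leaf (nat_lit 11)) (.node (nat_lit 67478) (.leaf (nat_lit 12)) (.leaf (nat_lit 15)))))))))) (.node (nat_lit 79565) (.node (nat_lit 73055) (.node (nat_lit 69970) (.node (nat_lit 68343) (.node (nat_lit 67744) (.node (nat_lit 67571) (.node (nat_lit 67515) (.leaf (nat_lit 14)) (.leaf (nat_lit 11))) (.node (nat_lit 67612) (.leaf (nat_lit 12)) (.node (nat_lit 67634) (.leaf (nat_lit 10)) (.leaf (nat_lit 15))))) (.node (nat_lit 68135) (.node (nat_lit 67959) (.leaf (nat_lit 10)) (.node (nat_lit 67966) (.leaf (nat_lit 11)) (.leaf (nat_lit 14)))) (.node (nat_lit 68239) (.leaf (nat_lit 10)) (.node (nat_lit 68313) (.leaf (nat_lit 12)) (.leaf (nat_lit 11)))))) (.node (nat_lit 69286) (.node (nat_lit 68860) (.node (nat_lit 68402) (.leaf (nat_lit 10)) (.leaf (nat_lit 15))) (.node (nat_lit 68991) (.leaf (nat_lit 12)) (.node (nat_lit 69110) (.leaf (nat_lit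 11)) (.leaf (nat_lit 14))))) (.node (nat_lit 69570) (.node (nat_lit 69337) (.leaf (nat_lit 10)) (.node (nat_lit 69433) (.leaf (nat_lit 11)) (.leaf (nat_lit 10)))) (.node (nat_lit 69812) (.leaf (nat_lit 15)) (.node (nat_lit 69898) (.leaf (nat_lit 10)) (.leaf (nat_lit 14))))))) (.node (nat_lit 71079) (.node (nat_lit 70423) (.node (nat_lit 70346) (.node (nat_lit 70069) (.leaf (nat_lit 15)) (.leaf (nat_lit 10))) (.node (nat_lit 70397) (.leaf (nat_lit 14)) (.node (nat_lit 70419) (.leaf (nat_lit 11)) (.leaf (nat_lit 12))))) (.node (nat_lit 70711) (.node (nat_lit 70568) (.leaf (nat_lit 10)) (.node (nat_lit 70629) (.leaf (nat_lit 12)) (.leaf (nat_lit 10)))) (.node (nat_lit 70871) (.leaf (nat_lit 11)) (.node (nat_lit 70990) (.leaf (nat_lit 12)) (.leaf (nat_lit 14)))))) (.node (nat_lit 71586) (.node (nat_lit 71309) (.node (nat_lit 71222) (.leaf (nat_lit 11)) (.leaf (nat_lit 14))) (.node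 (nat_lit 71410) (.leaf (nat_lit 11)) (.node (nat_lit 71520) (.leaf (nat_lit 14)) (.leaf (nat_lit 10))))) (.node (nat_lit 72677) (.node (nat_lit 71774) (.leaf (nat_lit 15)) (.node (nat_lit 72258) (.leaf (nat_lit 10)) (.leaf (nat_lit 14)))) (.node (nat_lit 72770) (.leaf (nat_lit 10)) (.node (nat_lit 73049) (.leaf (nat_lit 14)) (.leaf (nat_lit 10)))))))) (.node (nat_lit 75099) (.node (nat_lit 74233) (.node (nat_lit 73559) (.node (nat_lit 73167) (.node (nat_lit 73133) (.leaf (nat_lit 11)) (.leaf (nat_lit 10))) (.node (nat_lit 73370) (.leaf (nat_lit 12)) (.node (nat_lit 73406) (.leaf (nat_lit 14)) (.leaf (nat_lit 11))))) (.node (nat_lit 73922) (.node (nat_lit 73759) (.leaf (nat_lit 10)) (.node (nat_lit 73840) (.leaf (nat_lit 11)) (.leaf (nat_lit 10)))) (.node (nat_lit 74001) (.leaf (nat_lit 15)) (.node (nat_lit 74198) (.leaf (nat_lit 11)) (.leaf (nat_lit 14)))))) (.node (nat_lit 74798)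 (.node (nat_lit 74622) (.node (nat_lit 74341) (.leaf (nat_lit 10)) (.leaf (nat_lit 11))) (.node (nat_lit 74647) (.leaf (nat_lit 10)) (.node (nat_lit 74734) (.leaf (nat_lit 11)) (.leaf (nat_lit 10))))) (.node (nat_lit 74913) (.node (nat_lit 74811) (.leaf (nat_lit 14)) (.node (nat_lit 74888) (.leaf (nat_lit 11)) (.leaf (nat_lit 12)))) (.node (nat_lit 74916) (.leaf (nat_lit 11)) (.node (nat_lit 74991) (.leaf (nat_lit 12)) (.leaf (nat_lit 10))))))) (.node (nat_lit 76624) (.node (nat_lit 75844) (.node (nat_lit 75575) (.node (nat_lit 75295) (.leaf (nat_lit 11)) (.leaf (nat_lit 10))) (.node (nat_lit 75614) (.leaf (nat_lit 11)) (.node (nat_lit 75654) (.leaf (nat_lit 14)) (.leaf (nat_lit 10))))) (.node (nat_lit 76123) (.node (nat_lit 75861) (.leaf (nat_lit 12)) (.node (nat_lit 75990) (.leaf (nat_lit 11)) (.leaf (nat_lit 10)))) (.node (nat_lit 76141) (.leaf (nat_lit 11)) (.node (nat_lit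 76570) (.leaf (nat_lit 10)) (.leaf (nat_lit 14)))))) (.node (nat_lit 77652) (.node (nat_lit 77174) (.node (nat_lit 76737) (.leaf (nat_lit 12)) (.node (nat_lit 77059) (.leaf (nat_lit 10)) (.leaf (nat_lit 11)))) (.node (nat_lit 77379) (.leaf (nat_lit 14)) (.node (nat_lit 77552) (.leaf (nat_lit 11)) (.leaf (nat_lit 12))))) (.node (nat_lit 79360) (.node (nat_lit 77763) (.leaf (nat_lit 10)) (.node (nat_lit 77945) (.leaf (nat_lit 12)) (.leaf (nat_lit 11)))) (.node (nat_lit 79465) (.leaf (nat_lit 10)) (.node (nat_lit 79515) (.leaf (nat_lit 11)) (.leaf (nat_lit 12))))))))) (.node (nat_lit 84721) (.node (nat_lit 82080) (.node (nat_lit 80975) (.node (nat_lit 79954) (.node (nat_lit 79655) (.node (nat_lit 79653) (.leaf (nat_lit 11)) (.leaf (nat_lit 10))) (.node (nat_lit 79745) (.leaf (nat_lit 11)) (.node (nat_lit 79939) (.leaf (nat_lit 10)) (.leaf (nat_lit 11))))) (.node (nat_lit 80442)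 (.node (nat_lit 80108) (.leaf (nat_lit 14)) (.node (nat_lit 80372) (.leaf (nat_lit 12)) (.leaf (nat_lit 10)))) (.node (nat_lit 80802) (.leaf (nat_lit 15)) (.node (nat_lit 80826) (.leaf (nat_lit 14)) (.leaf (nat_lit 15)))))) (.node (nat_lit 81637) (.node (nat_lit 81117) (.node (nat_lit 81110) (.leaf (nat_lit 11)) (.leaf (nat_lit 14))) (.node (nat_lit 81138) (.leaf (nat_lit 10)) (.node (nat_lit 81285) (.leaf (nat_lit 14)) (.leaf (nat_lit 11))))) (.node (nat_lit 81797) (.node (nat_lit 81711) (.leaf (nat_lit 10)) (.node (nat_lit 81714) (.leaf (nat_lit 11)) (.leaf (nat_lit 14)))) (.node (nat_lit 81816) (.leaf (nat_lit 10)) (.node (nat_lit 81822) (.leaf (nat_lit 12)) (.leaf (nat_lit 15))))))) (.node (nat_lit 83567) (.node (nat_lit 83206) (.node (nat_lit 83060) (.node (nat_lit 82699) (.leaf (nat_lit 10)) (.leaf (nat_lit 11))) (.node (nat_lit 83107) (.leaf (nat_lit 10)) (.node (nat_lit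 83169) (.leaf (nat_lit 12)) (.leaf (nat_lit 11))))) (.node (nat_lit 83286) (.node (nat_lit 83214) (.leaf (nat_lit 14)) (.node (nat_lit 83257) (.leaf (nat_lit 11)) (.leaf (nat_lit 10)))) (.node (nat_lit 83380) (.leaf (nat_lit 14)) (.node (nat_lit 83418) (.leaf (nat_lit 10)) (.leaf (nat_lit 14)))))) (.node (nat_lit 83974) (.node (nat_lit 83820) (.node (nat_lit 83678) (.leaf (nat_lit 12)) (.leaf (nat_lit 14))) (.node (nat_lit 83870) (.leaf (nat_lit 10)) (.node (nat_lit 83891) (.leaf (nat_lit 11)) (.leaf (nat_lit 12))))) (.node (nat_lit 84231) (.node (nat_lit 84083) (.leaf (nat_lit 14)) (.node (nat_lit 84163) (.leaf (nat_lit 12)) (.leaf (nat_lit 11)))) (.node (nat_lit 84292) (.leaf (nat_lit 12)) (.node (nat_lit 84633) (.leaf (nat_lit 10)) (.leaf (nat_lit 11)))))))) (.node (nat_lit 88577) (.node (nat_lit 86470) (.node (nat_lit 85814) (.node (nat_lit 84973) (.node (nat_lit 84889) (.leaf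 (nat_lit 10)) (.leaf (nat_lit 11))) (.node (nat_lit 85134) (.leaf (nat_lit 10)) (.node (nat_lit 85180) (.leaf (nat_lit 15)) (.leaf (nat_lit 10))))) (.node (nat_lit 85991) (.node (nat_lit 85961) (.leaf (nat_lit 14)) (.node (nat_lit 85984) (.leaf (nat_lit 10)) (.leaf (nat_lit 12)))) (.node (nat_lit 86046) (.leaf (nat_lit 10)) (.node (nat_lit 86258) (.leaf (nat_lit 11)) (.leaf (nat_lit 14)))))) (.node (nat_lit 87293) (.node (nat_lit 86888) (.node (nat_lit 86823) (.leaf (nat_lit 10)) (.leaf (nat_lit 12))) (.node (nat_lit 87157) (.leaf (nat_lit 10)) (.node (nat_lit 87187) (.leaf (nat_lit 11)) (.leaf (nat_lit 12))))) (.node (nat_lit 87652) (.node (nat_lit 87500) (.leaf (nat_lit 10)) (.node (nat_lit 87503) (.leaf (nat_lit 12)) (.leaf (nat_lit 10)))) (.node (nat_lit 88062) (.leaf (nat_lit 12)) (.node (nat_lit 88422) (.leaf (nat_lit 10)) (.leaf (nat_lit 14))))))) (.node (nat_lit 90351)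 (.node (nat_lit 89208) (.node (nat_lit 88972) (.node (nat_lit 88671) (.leaf (nat_lit 10)) (.leaf (nat_lit 11))) (.node (nat_lit 89090) (.leaf (nat_lit 10)) (.node (nat_lit 89135) (.leaf (nat_lit 15)) (.leaf (nat_lit 11))))) (.node (nat_lit 89900) (.node (nat_lit 89328) (.leaf (nat_lit 12)) (.node (nat_lit 89360) (.leaf (nat_lit 10)) (.leaf (nat_lit 12)))) (.node (nat_lit 89939) (.leaf (nat_lit 10)) (.node (nat_lit 90282) (.leaf (nat_lit 11)) (.leaf (nat_lit 14)))))) (.node (nat_lit 91311) (.node (nat_lit 90761) (.node (nat_lit 90654) (.leaf (nat_lit 10)) (.node (nat_lit 90680) (.leaf (nat_lit 14)) (.leaf (nat_lit 10)))) (.node (nat_lit 90897) (.leaf (nat_lit 11)) (.node (nat_lit 91260) (.leaf (nat_lit 10)) (.leaf (nat_lit 12))))) (.node (nat_lit 91445) (.node (nat_lit 91383) (.leaf (nat_lit 11)) (.node (nat_lit 91407) (.leaf (nat_lit 10)) (.leaf (nat_lit 11)))) (.node (nat_lit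 91495) (.leaf (nat_lit 10)) (.node (nat_lit 91608) (.leaf (nat_lit 11)) (.leaf (nat_lit 10))))))))))))
noncomputable def AN_nw_F : Fm := (.allS AN_lQ (.imp (.eq (.mul (.v (nat_lit 0)) (.v (nat_lit 0))) .one) (.imp (.not (.eq (.v (nat_lit 0)) .one)) (.imp (.not (.eq (.v (nat_lit 0)) (.v (nat_lit 1)))) (.allS AN_lS (.imp (.eq (.mul (.v (nat_lit 0)) (.v (nat_lit 1))) (.mul (.v (nat_lit 1)) (.v (nat_lit 0)))) (.or (.qf (.mem (.v (nat_lit 0)) AN_lK)) (.exG AN_lQ (fun cs => AN_nw_t0.find (Nat.mod (Nat.add (nth (nat_lit 0) cs (nat_lit 1)) (Nat.mul (nat_lit 7919) (nth (nat_lit 0) cs (nat_lit 0)))) (nat_lit 91624))) (.qf (.and (.eq (.mul (.v (nat_lit 0)) (.v (nat_lit 2))) (.mul (.v (nat_lit 2)) (.v (nat_lit 0)))) (.not (.eq (.mul (.mul (.mul (.mul (.v (nat_lit 1)) (.v (nat_lit 0))) (.inv (.v (nat_lit 1)))) (.inv (.v (nat_lit 0)))) (.mul (.mul (.mul (.v (nat_lit 1)) (.v (nat_lit 0))) (.inv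 (.v (nat_lit 1)))) (.inv (.v (nat_lit 0))))) .one))))))))))))
theorem AN_nw_chk : Fm.chk AN_o AN_nw_F AN_cs = true := by decide +kernel
theorem AN_nw {G : Type*} [Group G] {R : ℕ → G → Prop} {z u v a b i j k l p t c r s : G}
    (M : Md0 AN_o AN_cs R [z, u, v, a, b, i, j, k, l, p, t, c, r, s]) :
    ∀ e ∈ sp [z, u, v, a, b], e * e = 1 → e ≠ 1 → e ≠ z → (∀ g ∈ sp [i, p, t], g * e = e * g → g ∈ sp [i, p, c] ∨ (∃ q ∈ sp [z, u, v, a, b], q * e = e * q ∧ g * q * g⁻¹ * q⁻¹ * (g * q * g⁻¹ * q⁻¹) ≠ 1)) :=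
  have h : ∀ e, InS R AN_lQ e → e * e = 1 → e ≠ 1 → e ≠ z → (∀ g, InS R AN_lS g → g * e = e * g → InS R AN_lK (g) ∨ (GoodS R AN_lQ → AN_lQ ≠ [] → ∃ q, InS R AN_lQ q ∧ q * e = e * q ∧ g * q * g⁻¹ * q⁻¹ * (g * q * g⁻¹ * q⁻¹) ≠ 1)) :=
    Fm.sound M.μ AN_nw_F AN_nw_chk M.reps
  (fun e h0 => (fun h1 => (fun h2 => (fun h3 => (fun g h4 => (fun h5 => (Or.imp (fun h6 => ((AN_lK_E M).iff.1 h6)) (fun h6 => (Exists.imp (fun q h7 => ⟨(AN_lQ_E M).iff.1 h7.1, h7.2⟩) (h6 (AN_lQ_E M).good (AN_lQ_E M).ne))) ((((((h e ((AN_lQ_E M).iff.2 h0)) h1) h2) h3) g ((AN_lS_E M).iff.2 h4)) h5))))))))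
noncomputable def AN_c_F : Fm := (.allS AN_lQ (.allS AN_lQ (.qf (.or (.eq (.mul (.mul (.mul (.v (nat_lit 1)) (.v (nat_lit 0))) (.inv (.v (nat_lit 1)))) (.inv (.v (nat_lit 0)))) .one) (.eq (.mul (.mul (.mul (.v (nat_lit 1)) (.v (nat_lit 0))) (.inv (.v (nat_lit 1)))) (.inv (.v (nat_lit 0)))) (.v (nat_lit 2)))))))
theorem AN_c_chk : Fm.chk AN_o AN_c_F AN_cs = true := by decide +kernel
theorem AN_c {G : Type*} [Group G] {R : ℕ → G → Prop} {z u v a b i j k l p t c r s : G}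
    (M : Md0 AN_o AN_cs R [z, u, v, a, b, i, j, k, l, p, t, c, r, s]) :
    ∀ d ∈ sp [z, u, v, a, b], ∀ e ∈ sp [z, u, v, a, b], ⁅d, e⁆ = 1 ∨ ⁅d, e⁆ = z :=
  have h : ∀ d, InS R AN_lQ d → ∀ e, InS R AN_lQ e → ⁅d, e⁆ = 1 ∨ ⁅d, e⁆ = z :=
    Fm.sound M.μ AN_c_F AN_c_chk M.reps
  (fun d h0 => (fun e h1 => ((h d ((AN_lQ_E M).iff.2 h0)) e ((AN_lQ_E M).iff.2 h1))))
noncomputable def AN_s_F : Fm := (.allS AN_lQ (.and (.qf (.or (.eq (.mul (.v (nat_lit 0)) (.v (nat_lit 0))) .one) (.eq (.mul (.v (nat_lit 0)) (.v (nat_lit 0))) (.v (nat_lit 1))))) (.and (.qf (.eq (.mul (.v (nat_lit 0)) (.v (nat_lit 1))) (.mul (.v (nat_lit 1)) (.v (nat_lit 0))))) (.imp (.eq (.mul (.v (nat_lit 0)) (.v (nat_lit 2))) (.mul (.v (nat_lit 2)) (.v (nat_lit 0)))) (.imp (.eq (.mul (.v (nat_lit 0)) (.v (nat_lit 3))) (.mul (.v (nat_lit 3)) (.v (nat_lit 0)))) (.imp (.eq (.mul (.v (nat_lit 0)) (.v (nat_lit 4))) (.mul (.v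 (nat_lit 4)) (.v (nat_lit 0)))) (.imp (.eq (.mul (.v (nat_lit 0)) (.v (nat_lit 5))) (.mul (.v (nat_lit 5)) (.v (nat_lit 0)))) (.qf (.or (.eq (.v (nat_lit 0)) .one) (.eq (.v (nat_lit 0)) (.v (nat_lit 1))))))))))))
theorem AN_s_chk : Fm.chk AN_o AN_s_F AN_cs = true := by decide +kernel
theorem AN_s {G : Type*} [Group G] {R : ℕ → G → Prop} {z u v a b i j k l p t c r s : G}
    (M : Md0 AN_o AN_cs R [z, u, v, a, b, i, j, k, l, p, t, c, r, s]) :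
    ∀ e ∈ sp [z, u, v, a, b], (e * e = 1 ∨ e * e = z) ∧ e * z = z * e ∧ (e * u = u * e → e * v = v * e → e * a = a * e → e * b = b * e → e = 1 ∨ e = z) :=
  have h : ∀ e, InS R AN_lQ e → (e * e = 1 ∨ e * e = z) ∧ e * z = z * e ∧ (e * u = u * e → e * v = v * e → e * a = a * e → e * b = b * e → e = 1 ∨ e = z) :=
    Fm.sound M.μ AN_s_F AN_s_chk M.reps
  (fun e h0 => (h e ((AN_lQ_E M).iff.2 h0)))
noncomputable def AN_e_F : Fm := (.qf (.and (.not (.eq (.v (nat_lit 0)) .one)) (.and (.eq (.mul (.v (nat_lit 0)) (.v (nat_lit 0))) .one) (.and (.not (.eq (.mul (.v (nat_lit 1)) (.v (nat_lit 2))) (.mul (.v (nat_lit 2)) (.v (nat_lit 1))))) (.and (.mem (.v (nat_lit 11)) AN_lS) (.and (.not (.mem (.v (nat_lit 12)) AN_lI)) (.and (.mem (.v (nat_lit 12)) AN_lK) (.mem (.v (nat_lit 13)) AN_lK))))))))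
theorem AN_e_chk : Fm.chk AN_o AN_e_F AN_cs = true := by decide +kernel
theorem AN_e {G : Type*} [Group G] {R : ℕ → G → Prop} {z u v a b i j k l p t c r s : G}
    (M : Md0 AN_o AN_cs R [z, u, v, a, b, i, j, k, l, p, t, c, r, s]) :
    z ≠ 1 ∧ z * z = 1 ∧ u * v ≠ v * u ∧ c ∈ sp [i, p, t] ∧ r ∉ sp [i, j, k, l] ∧ r ∈ sp [i, p, c] ∧ s ∈ sp [i, p, c] :=
  have h : z ≠ 1 ∧ z * z = 1 ∧ u * v ≠ v * u ∧ InS R AN_lS (c) ∧ ¬ InS R AN_lI (r) ∧ InS R AN_lK (r) ∧ InS R AN_lK (s) :=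
    Fm.sound M.μ AN_e_F AN_e_chk M.reps
  ((and_congr Iff.rfl (and_congr Iff.rfl (and_congr Iff.rfl (and_congr (AN_lS_E M).iff (and_congr (not_congr (AN_lI_E M).iff) (and_congr (AN_lK_E M).iff (AN_lK_E M).iff)))))).1 h)
noncomputable def AN_no_F : Fm := (.allS AN_lQ (.imp (.eq (.mul (.v (nat_lit 0)) (.v (nat_lit 0))) .one) (.allS AN_lQ (.imp (.eq (.mul (.v (nat_lit 0)) (.v (nat_lit 0))) .one) (.imp (.eq (.mul (.v (nat_lit 1)) (.v (nat_lit 0))) (.mul (.v (nat_lit 0)) (.v (nat_lit 1)))) (.qf (.or (.eq (.v (nat_lit 1)) .one) (.or (.eq (.v (nat_lit 1)) (.v (nat_lit 2))) (.or (.eq (.v (nat_lit 0)) .one) (.or (.eq (.v (nat_lit 0)) (.v (nat_lit 2))) (.or (.eq (.v (nat_lit 0)) (.v (nat_lit 1))) (.eq (.v (nat_lit 0)) (.mul (.v (nat_lit 2)) (.v (nat_lit 1)))))))))))))))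
theorem AN_no_chk : Fm.chk AN_o AN_no_F AN_cs = true := by decide +kernel
theorem AN_no {G : Type*} [Group G] {R : ℕ → G → Prop} {z u v a b i j k l p t c r s : G}
    (M : Md0 AN_o AN_cs R [z, u, v, a, b, i, j, k, l, p, t, c, r, s]) :
    ∀ d ∈ sp [z, u, v, a, b], d * d = 1 → (∀ e ∈ sp [z, u, v, a, b], e * e = 1 → d * e = e * d → d = 1 ∨ d = z ∨ e = 1 ∨ e = z ∨ e = d ∨ e = z * d) :=
  have h : ∀ d, InS R AN_lQ d → d * d = 1 → (∀ e, InS R AN_lQ e → e * e = 1 → d * e = e * d → d = 1 ∨ d = z ∨ e = 1 ∨ e = z ∨ e = d ∨ e = z * d) :=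
    Fm.sound M.μ AN_no_F AN_no_chk M.reps
  (fun d h0 => (fun h1 => (fun e h2 => (((h d ((AN_lQ_E M).iff.2 h0)) h1) e ((AN_lQ_E M).iff.2 h2)))))
noncomputable def AN_C2_t0 : ST := (.node (nat_lit 15526) (.node (nat_lit 8674) (.node (nat_lit 4895) (.node (nat_lit 2374) (.node (nat_lit 1157) (.node (nat_lit 435) (.node (nat_lit 292) (.node (nat_lit 194) (.leaf (nat_lit 18)) (.node (nat_lit 230) (.leaf (nat_lit 14)) (.leaf (nat_lit 10)))) (.node (nat_lit 359) (.leaf (nat_lit 14)) (.node (nat_lit 426) (.leaf (nat_lit 0)) (.leaf (nat_lit 11))))) (.node (nat_lit 921) (.node (nat_lit 512) (.leaf (nat_lit 5)) (.node (nat_lit 690) (.leaf (nat_lit 10)) (.leaf (nat_lit 5)))) (.node (nat_lit 990) (.node (nat_lit 942) (.leaf (nat_lit 2)) (.leaf (nat_lit 23))) (.node (nat_lit 1082) (.leaf (nat_lit 12)) (.leaf (nat_lit 18)))))) (.node (nat_lit 1498) (.node (nat_lit 1322) (.node (nat_lit 1177)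 (.leaf (nat_lit 10)) (.node (nat_lit 1275) (.leaf (nat_lit 11)) (.leaf (nat_lit 15)))) (.node (nat_lit 1361) (.node (nat_lit 1341) (.leaf (nat_lit 2)) (.leaf (nat_lit 5))) (.node (nat_lit 1405) (.leaf (nat_lit 12)) (.leaf (nat_lit 14))))) (.node (nat_lit 1603) (.node (nat_lit 1532) (.leaf (nat_lit 2)) (.node (nat_lit 1538) (.leaf (nat_lit 3)) (.leaf (nat_lit 4)))) (.node (nat_lit 1951) (.node (nat_lit 1734) (.leaf (nat_lit 0)) (.leaf (nat_lit 12))) (.node (nat_lit 2253) (.leaf (nat_lit 4)) (.leaf (nat_lit 3))))))) (.node (nat_lit 3820) (.node (nat_lit 2638) (.node (nat_lit 2415) (.node (nat_lit 2379) (.leaf (nat_lit 14)) (.node (nat_lit 2391) (.leaf (nat_lit 5)) (.leaf (nat_lit 11)))) (.node (nat_lit 2477) (.node (nat_lit 2441) (.leaf (nat_lit 18)) (.leaf (nat_lit 11))) (.node (nat_lit 2514) (.leaf (nat_lit 23)) (.leaf (nat_lit 2))))) (.node (nat_lit 3079) (.node (nat_lit 2867)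 (.leaf (nat_lit 15)) (.node (nat_lit 2976) (.leaf (nat_lit 18)) (.leaf (nat_lit 0)))) (.node (nat_lit 3474) (.node (nat_lit 3118) (.leaf (nat_lit 4)) (.leaf (nat_lit 3))) (.node (nat_lit 3506) (.leaf (nat_lit 23)) (.leaf (nat_lit 3)))))) (.node (nat_lit 4289) (.node (nat_lit 3946) (.node (nat_lit 3842) (.leaf (nat_lit 0)) (.node (nat_lit 3869) (.leaf (nat_lit 2)) (.leaf (nat_lit 18)))) (.node (nat_lit 4078) (.node (nat_lit 4002) (.leaf (nat_lit 0)) (.leaf (nat_lit 25))) (.node (nat_lit 4186) (.leaf (nat_lit 10)) (.leaf (nat_lit 0))))) (.node (nat_lit 4688) (.node (nat_lit 4299) (.leaf (nat_lit 18)) (.node (nat_lit 4417) (.leaf (nat_lit 2)) (.leaf (nat_lit 10)))) (.node (nat_lit 4801) (.node (nat_lit 4774) (.leaf (nat_lit 11)) (.leaf (nat_lit 2))) (.node (nat_lit 4862) (.leaf (nat_lit 11)) (.leaf (nat_lit 5)))))))) (.node (nat_lit 6744) (.node (nat_lit 5667) (.node (nat_lit 5460)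 (.node (nat_lit 5290) (.node (nat_lit 5003) (.leaf (nat_lit 15)) (.node (nat_lit 5236) (.leaf (nat_lit 3)) (.leaf (nat_lit 2)))) (.node (nat_lit 5313) (.node (nat_lit 5297) (.leaf (nat_lit 0)) (.leaf (nat_lit 14))) (.node (nat_lit 5367) (.leaf (nat_lit 22)) (.leaf (nat_lit 0))))) (.node (nat_lit 5528) (.node (nat_lit 5474) (.leaf (nat_lit 2)) (.node (nat_lit 5515) (.leaf (nat_lit 14)) (.leaf (nat_lit 4)))) (.node (nat_lit 5595) (.node (nat_lit 5548) (.leaf (nat_lit 5)) (.leaf (nat_lit 11))) (.node (nat_lit 5625) (.leaf (nat_lit 0)) (.leaf (nat_lit 2)))))) (.node (nat_lit 6393) (.node (nat_lit 5920) (.node (nat_lit 5817) (.leaf (nat_lit 3)) (.node (nat_lit 5861) (.leaf (nat_lit 5)) (.leaf (nat_lit 4)))) (.node (nat_lit 6264) (.node (nat_lit 6052) (.leaf (nat_lit 0)) (.leaf (nat_lit 14))) (.node (nat_lit 6293) (.leaf (nat_lit 4)) (.leaf (nat_lit 0))))) (.node (nat_lit 6612) (.node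 (nat_lit 6444) (.leaf (nat_lit 5)) (.node (nat_lit 6504) (.leaf (nat_lit 14)) (.leaf (nat_lit 12)))) (.node (nat_lit 6655) (.node (nat_lit 6617) (.leaf (nat_lit 0)) (.leaf (nat_lit 12))) (.node (nat_lit 6669) (.leaf (nat_lit 14)) (.leaf (nat_lit 0))))))) (.node (nat_lit 7690) (.node (nat_lit 7039) (.node (nat_lit 6847) (.node (nat_lit 6785) (.leaf (nat_lit 10)) (.node (nat_lit 6798) (.leaf (nat_lit 18)) (.leaf (nat_lit 5)))) (.node (nat_lit 7014) (.node (nat_lit 6939) (.leaf (nat_lit 11)) (.leaf (nat_lit 5))) (.node (nat_lit 7018) (.leaf (nat_lit 23)) (.leaf (nat_lit 22))))) (.node (nat_lit 7243) (.node (nat_lit 7085) (.leaf (nat_lit 4)) (.node (nat_lit 7090) (.leaf (nat_lit 18)) (.leaf (nat_lit 2)))) (.node (nat_lit 7558) (.node (nat_lit 7487) (.leaf (nat_lit 4)) (.leaf (nat_lit 10))) (.node (nat_lit 7612) (.leaf (nat_lit 0)) (.leaf (nat_lit 5)))))) (.node (nat_lit 8205) (.node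 (nat_lit 7957) (.node (nat_lit 7725) (.leaf (nat_lit 14)) (.node (nat_lit 7809) (.leaf (nat_lit 4)) (.leaf (nat_lit 2)))) (.node (nat_lit 8149) (.node (nat_lit 7971) (.leaf (nat_lit 15)) (.leaf (nat_lit 3))) (.node (nat_lit 8172) (.leaf (nat_lit 18)) (.leaf (nat_lit 0))))) (.node (nat_lit 8344) (.node (nat_lit 8247) (.leaf (nat_lit 10)) (.node (nat_lit 8278) (.leaf (nat_lit 15)) (.leaf (nat_lit 5)))) (.node (nat_lit 8435) (.node (nat_lit 8352) (.leaf (nat_lit 4)) (.leaf (nat_lit 3))) (.node (nat_lit 8448) (.leaf (nat_lit 10)) (.leaf (nat_lit 3))))))))) (.node (nat_lit 12037) (.node (nat_lit 10193) (.node (nat_lit 9432) (.node (nat_lit 9063) (.node (nat_lit 8734) (.node (nat_lit 8681) (.leaf (nat_lit 4)) (.node (nat_lit 8708) (.leaf (nat_lit 0)) (.leaf (nat_lit 28)))) (.node (nat_lit 8950) (.node (nat_lit 8846) (.leaf (nat_lit 3)) (.leaf (nat_lit 15))) (.node (nat_lit 8964) (.leaf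 (nat_lit 3)) (.leaf (nat_lit 25))))) (.node (nat_lit 9363) (.node (nat_lit 9234) (.leaf (nat_lit 4)) (.node (nat_lit 9337) (.leaf (nat_lit 5)) (.leaf (nat_lit 0)))) (.node (nat_lit 9412) (.node (nat_lit 9402) (.leaf (nat_lit 22)) (.leaf (nat_lit 12))) (.node (nat_lit 9427) (.leaf (nat_lit 0)) (.leaf (nat_lit 23)))))) (.node (nat_lit 9890) (.node (nat_lit 9564) (.node (nat_lit 9452) (.leaf (nat_lit 0)) (.node (nat_lit 9530) (.leaf (nat_lit 2)) (.leaf (nat_lit 0)))) (.node (nat_lit 9644) (.node (nat_lit 9616) (.leaf (nat_lit 10)) (.leaf (nat_lit 0))) (.node (nat_lit 9660) (.leaf (nat_lit 4)) (.leaf (nat_lit 0))))) (.node (nat_lit 10083) (.node (nat_lit 10004) (.leaf (nat_lit 2)) (.node (nat_lit 10073) (.leaf (nat_lit 4)) (.leaf (nat_lit 2)))) (.node (nat_lit 10152) (.node (nat_lit 10107) (.leaf (nat_lit 12)) (.leaf (nat_lit 14))) (.node (nat_lit 10169) (.leaf (nat_lit 10)) (.leaf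 (nat_lit 4))))))) (.node (nat_lit 11066) (.node (nat_lit 10630) (.node (nat_lit 10408) (.node (nat_lit 10209) (.leaf (nat_lit 25)) (.node (nat_lit 10348) (.leaf (nat_lit 22)) (.leaf (nat_lit 4)))) (.node (nat_lit 10549) (.node (nat_lit 10460) (.leaf (nat_lit 25)) (.leaf (nat_lit 11))) (.node (nat_lit 10562) (.leaf (nat_lit 28)) (.leaf (nat_lit 11))))) (.node (nat_lit 10755) (.node (nat_lit 10650) (.leaf (nat_lit 12)) (.node (nat_lit 10661) (.leaf (nat_lit 25)) (.leaf (nat_lit 18)))) (.node (nat_lit 10850) (.node (nat_lit 10811) (.leaf (nat_lit 4)) (.leaf (nat_lit 18))) (.node (nat_lit 10893) (.leaf (nat_lit 2)) (.leaf (nat_lit 0)))))) (.node (nat_lit 11666) (.node (nat_lit 11297) (.node (nat_lit 11122) (.leaf (nat_lit 3)) (.node (nat_lit 11168) (.leaf (nat_lit 0)) (.leaf (nat_lit 4)))) (.node (nat_lit 11496) (.node (nat_lit 11421) (.leaf (nat_lit 28)) (.leaf (nat_lit 18))) (.node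 (nat_lit 11618) (.leaf (nat_lit 3)) (.leaf (nat_lit 2))))) (.node (nat_lit 11920) (.node (nat_lit 11813) (.leaf (nat_lit 11)) (.node (nat_lit 11824) (.leaf (nat_lit 12)) (.leaf (nat_lit 15)))) (.node (nat_lit 11977) (.node (nat_lit 11935) (.leaf (nat_lit 3)) (.leaf (nat_lit 2))) (.node (nat_lit 12009) (.leaf (nat_lit 4)) (.leaf (nat_lit 10)))))))) (.node (nat_lit 13423) (.node (nat_lit 12509) (.node (nat_lit 12315) (.node (nat_lit 12117) (.node (nat_lit 12081) (.leaf (nat_lit 5)) (.node (nat_lit 12114) (.leaf (nat_lit 10)) (.leaf (nat_lit 3)))) (.node (nat_lit 12276) (.node (nat_lit 12198) (.leaf (nat_lit 2)) (.leaf (nat_lit 12))) (.node (nat_lit 12278) (.leaf (nat_lit 10)) (.leaf (nat_lit 15))))) (.node (nat_lit 12395) (.node (nat_lit 12345) (.leaf (nat_lit 14)) (.node (nat_lit 12384) (.leaf (nat_lit 11)) (.leaf (nat_lit 3)))) (.node (nat_lit 12453) (.node (nat_lit 12439) (.leaf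 (nat_lit 0)) (.leaf (nat_lit 15))) (.node (nat_lit 12487) (.leaf (nat_lit 18)) (.leaf (nat_lit 15)))))) (.node (nat_lit 12943) (.node (nat_lit 12773) (.node (nat_lit 12527) (.leaf (nat_lit 3)) (.node (nat_lit 12658) (.leaf (nat_lit 11)) (.leaf (nat_lit 25)))) (.node (nat_lit 12934) (.node (nat_lit 12917) (.leaf (nat_lit 11)) (.leaf (nat_lit 10))) (.node (nat_lit 12938) (.leaf (nat_lit 25)) (.leaf (nat_lit 3))))) (.node (nat_lit 13056) (.node (nat_lit 12991) (.leaf (nat_lit 0)) (.node (nat_lit 13055) (.leaf (nat_lit 5)) (.leaf (nat_lit 15)))) (.node (nat_lit 13143) (.node (nat_lit 13067) (.leaf (nat_lit 0)) (.leaf (nat_lit 3))) (.node (nat_lit 13420) (.leaf (nat_lit 11)) (.leaf (nat_lit 3))))))) (.node (nat_lit 14565) (.node (nat_lit 13729) (.node (nat_lit 13629) (.node (nat_lit 13441) (.leaf (nat_lit 5)) (.node (nat_lit 13565) (.leaf (nat_lit 12)) (.leaf (nat_lit 4)))) (.node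 (nat_lit 13719) (.node (nat_lit 13713) (.leaf (nat_lit 11)) (.leaf (nat_lit 12))) (.node (nat_lit 13728) (.leaf (nat_lit 11)) (.leaf (nat_lit 18))))) (.node (nat_lit 14153) (.node (nat_lit 13861) (.leaf (nat_lit 0)) (.node (nat_lit 14135) (.leaf (nat_lit 11)) (.leaf (nat_lit 12)))) (.node (nat_lit 14379) (.node (nat_lit 14266) (.leaf (nat_lit 23)) (.leaf (nat_lit 4))) (.node (nat_lit 14515) (.leaf (nat_lit 2)) (.leaf (nat_lit 11)))))) (.node (nat_lit 14968) (.node (nat_lit 14798) (.node (nat_lit 14699) (.leaf (nat_lit 12)) (.node (nat_lit 14779) (.leaf (nat_lit 0)) (.leaf (nat_lit 3)))) (.node (nat_lit 14882) (.node (nat_lit 14842) (.leaf (nat_lit 0)) (.leaf (nat_lit 2))) (.node (nat_lit 14959) (.leaf (nat_lit 5)) (.leaf (nat_lit 10))))) (.node (nat_lit 15181) (.node (nat_lit 15028) (.leaf (nat_lit 3)) (.node (nat_lit 15130) (.leaf (nat_lit 15)) (.leaf (nat_lit 2)))) (.node (nat_lit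 15447) (.node (nat_lit 15183) (.leaf (nat_lit 10)) (.leaf (nat_lit 11))) (.node (nat_lit 15464) (.leaf (nat_lit 5)) (.leaf (nat_lit 28)))))))))) (.node (nat_lit 22680) (.node (nat_lit 19259) (.node (nat_lit 17336) (.node (nat_lit 16162) (.node (nat_lit 15647) (.node (nat_lit 15586) (.node (nat_lit 15529) (.leaf (nat_lit 5)) (.node (nat_lit 15537) (.leaf (nat_lit 10)) (.leaf (nat_lit 4)))) (.node (nat_lit 15593) (.leaf (nat_lit 28)) (.node (nat_lit 15623) (.leaf (nat_lit 14)) (.leaf (nat_lit 4))))) (.node (nat_lit 15813) (.node (nat_lit 15675) (.leaf (nat_lit 23)) (.node (nat_lit 15742) (.leaf (nat_lit 12)) (.leaf (nat_lit 0)))) (.node (nat_lit 15924) (.node (nat_lit 15874) (.leaf (nat_lit 12)) (.leaf (nat_lit 14))) (.node (nat_lit 15958) (.leaf (nat_lit 3)) (.leaf (nat_lit 14)))))) (.node (nat_lit 16805) (.node (nat_lit 16509) (.node (nat_lit 16264) (.leaf (nat_lit 11)) (.node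 (nat_lit 16303) (.leaf (nat_lit 5)) (.leaf (nat_lit 14)))) (.node (nat_lit 16553) (.node (nat_lit 16531) (.leaf (nat_lit 10)) (.leaf (nat_lit 2))) (.node (nat_lit 16801) (.leaf (nat_lit 5)) (.leaf (nat_lit 14))))) (.node (nat_lit 17133) (.node (nat_lit 17023) (.leaf (nat_lit 3)) (.node (nat_lit 17031) (.leaf (nat_lit 18)) (.leaf (nat_lit 4)))) (.node (nat_lit 17262) (.node (nat_lit 17179) (.leaf (nat_lit 12)) (.leaf (nat_lit 5))) (.node (nat_lit 17326) (.leaf (nat_lit 28)) (.leaf (nat_lit 2))))))) (.node (nat_lit 18338) (.node (nat_lit 18039) (.node (nat_lit 17611) (.node (nat_lit 17458) (.leaf (nat_lit 4)) (.node (nat_lit 17552) (.leaf (nat_lit 18)) (.leaf (nat_lit 5)))) (.node (nat_lit 17811) (.node (nat_lit 17763) (.leaf (nat_lit 10)) (.leaf (nat_lit 5))) (.node (nat_lit 17983) (.leaf (nat_lit 4)) (.leaf (nat_lit 22))))) (.node (nat_lit 18182) (.node (nat_lit 18127) (.leaf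 (nat_lit 5)) (.node (nat_lit 18144) (.leaf (nat_lit 10)) (.leaf (nat_lit 14)))) (.node (nat_lit 18261) (.node (nat_lit 18204) (.leaf (nat_lit 3)) (.leaf (nat_lit 12))) (.node (nat_lit 18325) (.leaf (nat_lit 2)) (.leaf (nat_lit 12)))))) (.node (nat_lit 18715) (.node (nat_lit 18533) (.node (nat_lit 18402) (.leaf (nat_lit 0)) (.node (nat_lit 18440) (.leaf (nat_lit 22)) (.leaf (nat_lit 4)))) (.node (nat_lit 18641) (.node (nat_lit 18556) (.leaf (nat_lit 18)) (.leaf (nat_lit 14))) (.node (nat_lit 18659) (.leaf (nat_lit 2)) (.leaf (nat_lit 3))))) (.node (nat_lit 19066) (.node (nat_lit 18754) (.leaf (nat_lit 0)) (.node (nat_lit 19037) (.leaf (nat_lit 4)) (.leaf (nat_lit 3)))) (.node (nat_lit 19136) (.node (nat_lit 19098) (.leaf (nat_lit 0)) (.leaf (nat_lit 2))) (.node (nat_lit 19196) (.leaf (nat_lit 25)) (.leaf (nat_lit 5)))))))) (.node (nat_lit 21231) (.node (nat_lit 20408) (.node (nat_lit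 19976) (.node (nat_lit 19639) (.node (nat_lit 19275) (.leaf (nat_lit 15)) (.node (nat_lit 19478) (.leaf (nat_lit 12)) (.leaf (nat_lit 25)))) (.node (nat_lit 19753) (.node (nat_lit 19676) (.leaf (nat_lit 18)) (.leaf (nat_lit 0))) (.node (nat_lit 19890) (.leaf (nat_lit 15)) (.leaf (nat_lit 10))))) (.node (nat_lit 20064) (.node (nat_lit 20007) (.leaf (nat_lit 23)) (.node (nat_lit 20038) (.leaf (nat_lit 3)) (.leaf (nat_lit 4)))) (.node (nat_lit 20161) (.node (nat_lit 20068) (.leaf (nat_lit 2)) (.leaf (nat_lit 0))) (.node (nat_lit 20406) (.leaf (nat_lit 2)) (.leaf (nat_lit 23)))))) (.node (nat_lit 20708) (.node (nat_lit 20583) (.node (nat_lit 20454) (.leaf (nat_lit 14)) (.node (nat_lit 20533) (.leaf (nat_lit 3)) (.leaf (nat_lit 0)))) (.node (nat_lit 20638) (.node (nat_lit 20616) (.leaf (nat_lit 2)) (.leaf (nat_lit 5))) (.node (nat_lit 20702) (.leaf (nat_lit 10)) (.leaf (nat_lit 11)))))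 (.node (nat_lit 21013) (.node (nat_lit 20789) (.leaf (nat_lit 22)) (.node (nat_lit 20926) (.leaf (nat_lit 10)) (.leaf (nat_lit 18)))) (.node (nat_lit 21073) (.node (nat_lit 21024) (.leaf (nat_lit 5)) (.leaf (nat_lit 22))) (.node (nat_lit 21114) (.leaf (nat_lit 2)) (.leaf (nat_lit 3))))))) (.node (nat_lit 21869) (.node (nat_lit 21518) (.node (nat_lit 21401) (.node (nat_lit 21391) (.leaf (nat_lit 25)) (.node (nat_lit 21398) (.leaf (nat_lit 12)) (.leaf (nat_lit 0)))) (.node (nat_lit 21422) (.node (nat_lit 21419) (.leaf (nat_lit 10)) (.leaf (nat_lit 5))) (.node (nat_lit 21457) (.leaf (nat_lit 12)) (.leaf (nat_lit 5))))) (.node (nat_lit 21642) (.node (nat_lit 21585) (.leaf (nat_lit 12)) (.node (nat_lit 21621) (.leaf (nat_lit 3)) (.leaf (nat_lit 0)))) (.node (nat_lit 21749) (.node (nat_lit 21683) (.leaf (nat_lit 3)) (.leaf (nat_lit 15))) (.node (nat_lit 21781) (.leaf (nat_lit 22))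 (.leaf (nat_lit 5)))))) (.node (nat_lit 22375) (.node (nat_lit 21968) (.node (nat_lit 21903) (.leaf (nat_lit 15)) (.node (nat_lit 21962) (.leaf (nat_lit 11)) (.leaf (nat_lit 23)))) (.node (nat_lit 22210) (.node (nat_lit 22136) (.leaf (nat_lit 0)) (.leaf (nat_lit 11))) (.node (nat_lit 22273) (.leaf (nat_lit 5)) (.leaf (nat_lit 12))))) (.node (nat_lit 22453) (.node (nat_lit 22390) (.leaf (nat_lit 15)) (.node (nat_lit 22442) (.leaf (nat_lit 0)) (.leaf (nat_lit 3)))) (.node (nat_lit 22648) (.node (nat_lit 22454) (.leaf (nat_lit 18)) (.leaf (nat_lit 11))) (.node (nat_lit 22663) (.leaf (nat_lit 4)) (.leaf (nat_lit 2))))))))) (.node (nat_lit 26631) (.node (nat_lit 24694) (.node (nat_lit 23604) (.node (nat_lit 22944) (.node (nat_lit 22782) (.node (nat_lit 22721) (.leaf (nat_lit 28)) (.node (nat_lit 22766) (.leaf (nat_lit 2)) (.leaf (nat_lit 25)))) (.node (nat_lit 22820) (.node (nat_lit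 22791) (.leaf (nat_lit 5)) (.leaf (nat_lit 22))) (.node (nat_lit 22913) (.leaf (nat_lit 0)) (.leaf (nat_lit 3))))) (.node (nat_lit 23436) (.node (nat_lit 23283) (.leaf (nat_lit 2)) (.node (nat_lit 23317) (.leaf (nat_lit 0)) (.leaf (nat_lit 11)))) (.node (nat_lit 23566) (.node (nat_lit 23517) (.leaf (nat_lit 0)) (.leaf (nat_lit 10))) (.node (nat_lit 23570) (.leaf (nat_lit 5)) (.leaf (nat_lit 14)))))) (.node (nat_lit 24195) (.node (nat_lit 24089) (.node (nat_lit 23913) (.leaf (nat_lit 5)) (.node (nat_lit 24060) (.leaf (nat_lit 15)) (.leaf (nat_lit 3)))) (.node (nat_lit 24167) (.node (nat_lit 24130) (.leaf (nat_lit 11)) (.leaf (nat_lit 23))) (.node (nat_lit 24174) (.leaf (nat_lit 22)) (.leaf (nat_lit 28))))) (.node (nat_lit 24417) (.node (nat_lit 24374) (.leaf (nat_lit 5)) (.node (nat_lit 24413) (.leaf (nat_lit 3)) (.leaf (nat_lit 2)))) (.node (nat_lit 24558) (.node (nat_lit 24423)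 (.leaf (nat_lit 0)) (.leaf (nat_lit 4))) (.node (nat_lit 24629) (.leaf (nat_lit 0)) (.leaf (nat_lit 14))))))) (.node (nat_lit 25572) (.node (nat_lit 24945) (.node (nat_lit 24765) (.node (nat_lit 24761) (.leaf (nat_lit 3)) (.node (nat_lit 24764) (.leaf (nat_lit 2)) (.leaf (nat_lit 0)))) (.node (nat_lit 24841) (.node (nat_lit 24832) (.leaf (nat_lit 22)) (.leaf (nat_lit 3))) (.node (nat_lit 24890) (.leaf (nat_lit 5)) (.leaf (nat_lit 11))))) (.node (nat_lit 25161) (.node (nat_lit 24950) (.leaf (nat_lit 5)) (.node (nat_lit 24989) (.leaf (nat_lit 14)) (.leaf (nat_lit 2)))) (.node (nat_lit 25334) (.node (nat_lit 25218) (.leaf (nat_lit 4)) (.leaf (nat_lit 3))) (.node (nat_lit 25376) (.leaf (nat_lit 5)) (.leaf (nat_lit 4)))))) (.node (nat_lit 26081) (.node (nat_lit 25820) (.node (nat_lit 25734) (.leaf (nat_lit 5)) (.node (nat_lit 25740) (.leaf (nat_lit 10)) (.leaf (nat_lit 4)))) (.node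 (nat_lit 25878) (.node (nat_lit 25860) (.leaf (nat_lit 28)) (.leaf (nat_lit 11))) (.node (nat_lit 26057) (.leaf (nat_lit 4)) (.leaf (nat_lit 3))))) (.node (nat_lit 26514) (.node (nat_lit 26188) (.leaf (nat_lit 12)) (.node (nat_lit 26382) (.leaf (nat_lit 5)) (.leaf (nat_lit 0)))) (.node (nat_lit 26561) (.node (nat_lit 26531) (.leaf (nat_lit 11)) (.leaf (nat_lit 10))) (.node (nat_lit 26571) (.leaf (nat_lit 12)) (.leaf (nat_lit 2)))))))) (.node (nat_lit 28165) (.node (nat_lit 27334) (.node (nat_lit 27204) (.node (nat_lit 27000) (.node (nat_lit 26731) (.leaf (nat_lit 18)) (.node (nat_lit 26788) (.leaf (nat_lit 10)) (.leaf (nat_lit 0)))) (.node (nat_lit 27096) (.node (nat_lit 27017) (.leaf (nat_lit 4)) (.leaf (nat_lit 28))) (.node (nat_lit 27120) (.leaf (nat_lit 4)) (.leaf (nat_lit 2))))) (.node (nat_lit 27276) (.node (nat_lit 27234) (.leaf (nat_lit 15)) (.node (nat_lit 27249) (.leaf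 (nat_lit 5)) (.leaf (nat_lit 28)))) (.node (nat_lit 27287) (.node (nat_lit 27281) (.leaf (nat_lit 3)) (.leaf (nat_lit 18))) (.node (nat_lit 27319) (.leaf (nat_lit 12)) (.leaf (nat_lit 4)))))) (.node (nat_lit 27834) (.node (nat_lit 27514) (.node (nat_lit 27509) (.leaf (nat_lit 2)) (.node (nat_lit 27511) (.leaf (nat_lit 10)) (.leaf (nat_lit 15)))) (.node (nat_lit 27566) (.node (nat_lit 27550) (.leaf (nat_lit 0)) (.leaf (nat_lit 12))) (.node (nat_lit 27656) (.leaf (nat_lit 11)) (.leaf (nat_lit 5))))) (.node (nat_lit 27914) (.node (nat_lit 27870) (.leaf (nat_lit 11)) (.node (nat_lit 27894) (.leaf (nat_lit 5)) (.leaf (nat_lit 0)))) (.node (nat_lit 28086) (.node (nat_lit 28046) (.leaf (nat_lit 10)) (.leaf (nat_lit 23))) (.node (nat_lit 28107) (.leaf (nat_lit 2)) (.leaf (nat_lit 5))))))) (.node (nat_lit 29200) (.node (nat_lit 28721) (.node (nat_lit 28220) (.node (nat_lit 28207) (.leaf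 (nat_lit 4)) (.node (nat_lit 28209) (.leaf (nat_lit 15)) (.leaf (nat_lit 4)))) (.node (nat_lit 28526) (.node (nat_lit 28365) (.leaf (nat_lit 3)) (.leaf (nat_lit 2))) (.node (nat_lit 28583) (.leaf (nat_lit 14)) (.leaf (nat_lit 12))))) (.node (nat_lit 28892) (.node (nat_lit 28869) (.leaf (nat_lit 5)) (.node (nat_lit 28887) (.leaf (nat_lit 18)) (.leaf (nat_lit 25)))) (.node (nat_lit 28999) (.node (nat_lit 28893) (.leaf (nat_lit 4)) (.leaf (nat_lit 0))) (.node (nat_lit 29136) (.leaf (nat_lit 15)) (.leaf (nat_lit 4)))))) (.node (nat_lit 29678) (.node (nat_lit 29325) (.node (nat_lit 29244) (.leaf (nat_lit 15)) (.node (nat_lit 29290) (.leaf (nat_lit 12)) (.leaf (nat_lit 28)))) (.node (nat_lit 29472) (.node (nat_lit 29450) (.leaf (nat_lit 11)) (.leaf (nat_lit 3))) (.node (nat_lit 29656) (.leaf (nat_lit 10)) (.leaf (nat_lit 0))))) (.node (nat_lit 29967) (.node (nat_lit 29814) (.leaf (nat_lit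 12)) (.node (nat_lit 29866) (.leaf (nat_lit 11)) (.leaf (nat_lit 4)))) (.node (nat_lit 30086) (.node (nat_lit 29996) (.leaf (nat_lit 3)) (.leaf (nat_lit 2))) (.node (nat_lit 30115) (.leaf (nat_lit 18)) (.leaf (nat_lit 2)))))))))))
noncomputable def AN_C2_F : Fm := (.allS AN_lK (.imp (.eq (.mul (.v (nat_lit 0)) (.v (nat_lit 0))) .one) (.or (.qf (.mem (.v (nat_lit 0)) AN_lI)) (.allS AN_lQ (.imp (.eq (.mul (.mul (.mul (.v (nat_lit 1)) (.v (nat_lit 0))) (.inv (.v (nat_lit 1)))) (.v (nat_lit 0))) .one) (.exG AN_lQ (fun cs => AN_C2_t0.find (Nat.mod (Nat.add (nth (nat_lit 0) cs (nat_lit 1)) (Nat.mul (nat_lit 7919) (nth (nat_lit 0) cs (nat_lit 0)))) (nat_lit 30169))) (.qf (.eq (.v (nat_lit 1)) (.mul (.mul (.mul (.v (nat_lit 2)) (.v (nat_lit 0))) (.inv (.v (nat_lit 2)))) (.inv (.v (nat_lit 0))))))))))))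
theorem AN_C2_chk : Fm.chk AN_o AN_C2_F AN_cs = true := by decide +kernel
theorem AN_C2 {G : Type*} [Group G] {R : ℕ → G → Prop} {z u v a b i j k l p t c r s : G}
    (M : Md0 AN_o AN_cs R [z, u, v, a, b, i, j, k, l, p, t, c, r, s]) :
    ∀ g ∈ sp [i, p, c], g * g = 1 → g ∈ sp [i, j, k, l] ∨ (∀ q ∈ sp [z, u, v, a, b], g * q * g⁻¹ * q = 1 → (∃ e ∈ sp [z, u, v, a, b], q = g * e * g⁻¹ * e⁻¹)) :=
  have h : ∀ g, InS R AN_lK g → g * g = 1 → InS R AN_lI (g) ∨ (∀ q, InS R AN_lQ q → g * q * g⁻¹ * q = 1 → (GoodS R AN_lQ → AN_lQ ≠ [] → ∃ e, InS R AN_lQ e ∧ q = g * e * g⁻¹ * e⁻¹)) :=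
    Fm.sound M.μ AN_C2_F AN_C2_chk M.reps
  (fun g h0 => (fun h1 => (Or.imp (fun h2 => ((AN_lI_E M).iff.1 h2)) (fun h2 => (fun q h3 => (fun h4 => (Exists.imp (fun e h5 => ⟨(AN_lQ_E M).iff.1 h5.1, h5.2⟩) (((h2 q ((AN_lQ_E M).iff.2 h3)) h4) (AN_lQ_E M).good (AN_lQ_E M).ne))))) ((h g ((AN_lK_E M).iff.2 h0)) h1))))
noncomputable def AN_T_F : Fm := (.allS AN_lT (.qf (.eq (.pw (.v (nat_lit 0)) (nat_lit 8)) .one)))
theorem AN_T_chk : Fm.chk AN_o AN_T_F AN_cs = true := by decide +kernel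
theorem AN_T {G : Type*} [Group G] {R : ℕ → G → Prop} {z u v a b i j k l p t c r s : G}
    (M : Md0 AN_o AN_cs R [z, u, v, a, b, i, j, k, l, p, t, c, r, s]) :
    ∀ g ∈ sp [i, j, k, l, r, s], g ^ 8 = 1 :=
  have h : ∀ g, InS R AN_lT g → g ^ 8 = 1 :=
    Fm.sound M.μ AN_T_F AN_T_chk M.reps
  (fun g h0 => (h g ((AN_lT_E M).iff.2 h0)))
noncomputable def AN_nT_F : Fm := (.allS AN_lT (.qf (.and (.mem (.mul (.mul (.v (nat_lit 12)) (.v (nat_lit 0))) (.inv (.v (nat_lit 12)))) AN_lT) (.mem (.mul (.mul (.v (nat_lit 11)) (.v (nat_lit 0))) (.inv (.v (nat_lit 11)))) AN_lT))))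
theorem AN_nT_chk : Fm.chk AN_o AN_nT_F AN_cs = true := by decide +kernel
theorem AN_nT {G : Type*} [Group G] {R : ℕ → G → Prop} {z u v a b i j k l p t c r s : G}
    (M : Md0 AN_o AN_cs R [z, u, v, a, b, i, j, k, l, p, t, c, r, s]) :
    ∀ g ∈ sp [i, j, k, l, r, s], c * g * c⁻¹ ∈ sp [i, j, k, l, r, s] ∧ t * g * t⁻¹ ∈ sp [i, j, k, l, r, s] :=
  have h : ∀ g, InS R AN_lT g → InS R AN_lT (c * g * c⁻¹) ∧ InS R AN_lT (t * g * t⁻¹) :=
    Fm.sound M.μ AN_nT_F AN_nT_chk M.reps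
  (fun g h0 => ((and_congr (AN_lT_E M).iff (AN_lT_E M).iff).1 (h g ((AN_lT_E M).iff.2 h0))))
noncomputable def AN_nV_F : Fm := (.allS AN_lV (.qf (.and (.eq (.pw (.v (nat_lit 0)) (nat_lit 8)) .one) (.and (.mem (.mul (.mul (.mul (.mul (.mul (.mul (.mul (.v (nat_lit 10)) (.v (nat_lit 10))) (.v (nat_lit 10))) (.v (nat_lit 11))) (.v (nat_lit 10))) (.v (nat_lit 10))) (.v (nat_lit 0))) (.inv (.mul (.mul (.mul (.mul (.mul (.v (nat_lit 10)) (.v (nat_lit 10))) (.v (nat_lit 10))) (.v (nat_lit 11))) (.v (nat_lit 10))) (.v (nat_lit 10))))) AN_lV) (.mem (.mul (.mul (.mul (.mul (.mul (.mul (.mul (.v (nat_lit 10)) (.v (nat_lit 10))) (.v (nat_lit 11))) (.v (nat_lit 10))) (.v (nat_lit 10))) (.v (nat_lit 10))) (.v (nat_lit 0))) (.inv (.mul (.mul (.mul (.mul (.mul (.v (nat_lit 10)) (.v (nat_lit 10))) (.v (nat_lit 11))) (.v (nat_lit 10))) (.v (nat_lit 10))) (.v (nat_lit 10))))) AN_lV)))))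
theorem AN_nV_chk : Fm.chk AN_o AN_nV_F AN_cs = true := by decide +kernel
theorem AN_nV {G : Type*} [Group G] {R : ℕ → G → Prop} {z u v a b i j k l p t c r s : G}
    (M : Md0 AN_o AN_cs R [z, u, v, a, b, i, j, k, l, p, t, c, r, s]) :
    ∀ g ∈ sp [i, j, k, l, t], g ^ 8 = 1 ∧ p * p * p * t * p * p * g * (p * p * p * t * p * p)⁻¹ ∈ sp [i, j, k, l, t] ∧ p * p * t * p * p * p * g * (p * p * t * p * p * p)⁻¹ ∈ sp [i, j, k, l, t] :=
  have h : ∀ g, InS R AN_lV g → g ^ 8 = 1 ∧ InS R AN_lV (p * p * p * t * p * p * g * (p * p * p * t * p * p)⁻¹) ∧ InS R AN_lV (p * p * t * p * p * p * g * (p * p * t * p * p * p)⁻¹) :=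
    Fm.sound M.μ AN_nV_F AN_nV_chk M.reps
  (fun g h0 => ((and_congr Iff.rfl (and_congr (AN_lV_E M).iff (AN_lV_E M).iff)).1 (h g ((AN_lV_E M).iff.2 h0))))
noncomputable def AN_A5_t0 : ST := (.node (nat_lit 184) (.node (nat_lit 128) (.node (nat_lit 66) (.node (nat_lit 30) (.node (nat_lit 12) (.leaf (nat_lit 21)) (.leaf (nat_lit 5))) (.node (nat_lit 36) (.leaf (nat_lit 6)) (.leaf (nat_lit 5)))) (.node (nat_lit 103) (.node (nat_lit 92) (.leaf (nat_lit 6)) (.leaf (nat_lit 21))) (.node (nat_lit 114) (.leaf (nat_lit 5)) (.node (nat_lit 117) (.leaf (nat_lit 6)) (.leaf (nat_lit 5)))))) (.node (nat_lit 156) (.node (nat_lit 142) (.node (nat_lit 133) (.leaf (nat_lit 21)) (.leaf (nat_lit 5))) (.node (nat_lit 152) (.leaf (nat_lit 6)) (.leaf (nat_lit 21)))) (.node (nat_lit 171) (.node (nat_lit 157) (.leaf (nat_lit 6)) (.leaf (nat_lit 5))) (.node (nat_lit 177) (.leaf (nat_lit 21)) (.node (nat_lit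 182) (.leaf (nat_lit 5)) (.leaf (nat_lit 6))))))) (.node (nat_lit 258) (.node (nat_lit 212) (.node (nat_lit 192) (.node (nat_lit 191) (.leaf (nat_lit 5)) (.leaf (nat_lit 21))) (.node (nat_lit 207) (.leaf (nat_lit 6)) (.leaf (nat_lit 5)))) (.node (nat_lit 225) (.node (nat_lit 222) (.leaf (nat_lit 6)) (.leaf (nat_lit 21))) (.node (nat_lit 236) (.leaf (nat_lit 5)) (.node (nat_lit 238) (.leaf (nat_lit 6)) (.leaf (nat_lit 5)))))) (.node (nat_lit 318) (.node (nat_lit 284) (.node (nat_lit 272) (.leaf (nat_lit 21)) (.leaf (nat_lit 6))) (.node (nat_lit 313) (.leaf (nat_lit 21)) (.leaf (nat_lit 5)))) (.node (nat_lit 334) (.node (nat_lit 321) (.leaf (nat_lit 6)) (.leaf (nat_lit 21))) (.node (nat_lit 335) (.leaf (nat_lit 5)) (.node (nat_lit 352) (.leaf (nat_lit 6)) (.leaf (nat_lit 21))))))))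
noncomputable def AN_A5_t1 : ST := (.node (nat_lit 62) (.node (nat_lit 33) (.node (nat_lit 16) (.node (nat_lit 6) (.leaf (nat_lit 5)) (.leaf (nat_lit 6))) (.node (nat_lit 19) (.leaf (nat_lit 5)) (.node (nat_lit 32) (.leaf (nat_lit 6)) (.leaf (nat_lit 5))))) (.node (nat_lit 42) (.node (nat_lit 37) (.leaf (nat_lit 6)) (.leaf (nat_lit 5))) (.node (nat_lit 47) (.leaf (nat_lit 6)) (.node (nat_lit 58) (.leaf (nat_lit 5)) (.leaf (nat_lit 6)))))) (.node (nat_lit 125) (.node (nat_lit 81) (.node (nat_lit 74) (.leaf (nat_lit 5)) (.leaf (nat_lit 6))) (.node (nat_lit 109) (.leaf (nat_lit 5)) (.node (nat_lit 110) (.leaf (nat_lit 6)) (.leaf (nat_lit 5))))) (.node (nat_lit 151) (.node (nat_lit 128) (.leaf (nat_lit 6)) (.node (nat_lit 136) (.leaf (nat_lit 5)) (.leaf (nat_lit 6)))) (.node (nat_lit 163) (.leaf (nat_lit 5)) (.node (nat_lit 165) (.leaf (nat_lit 6)) (.leaf (nat_lit 5)))))))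
noncomputable def AN_A5_F : Fm := (.allS AN_lK (.lt (.mul (.mul (.v (nat_lit 0)) (.v (nat_lit 13))) (.inv (.v (nat_lit 0)))) (.or (.qf (.mem (.v (nat_lit 1)) AN_lN)) (.and (.exG AN_lT (fun cs => AN_A5_t0.find (Nat.mod (nth (nat_lit 0) cs (nat_lit 0)) (nat_lit 365))) (.lt (.pw (.mul (.v (nat_lit 0)) (.v (nat_lit 1))) (nat_lit 4)) (.qf (.and (.eq (.pw (.v (nat_lit 0)) (nat_lit 3)) .one) (.not (.eq (.v (nat_lit 0)) .one)))))) (.exG AN_lT (fun cs => AN_A5_t1.find (Nat.mod (nth (nat_lit 0) cs (nat_lit 0)) (nat_lit 183))) (.lt (.pw (.mul (.v (nat_lit 0)) (.v (nat_lit 1))) (nat_lit 4)) (.qf (.and (.eq (.pw (.v (nat_lit 0)) (nat_lit 5)) .one) (.not (.eq (.v (nat_lit 0)) .one))))))))))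
theorem AN_A5_chk : Fm.chk AN_o AN_A5_F AN_cs = true := by decide +kernel
theorem AN_A5 {G : Type*} [Group G] {R : ℕ → G → Prop} {z u v a b i j k l p t c r s : G}
    (M : Md0 AN_o AN_cs R [z, u, v, a, b, i, j, k, l, p, t, c, r, s]) :
    ∀ g ∈ sp [i, p, c], g ∈ sp [i, j, k, l, r, s, c] ∨ (∃ h ∈ sp [i, j, k, l, r, s], ((h * (g * r * g⁻¹)) ^ 4) ^ 3 = 1 ∧ (h * (g * r * g⁻¹)) ^ 4 ≠ 1) ∧ (∃ h ∈ sp [i, j, k, l, r, s], ((h * (g * r * g⁻¹)) ^ 4) ^ 5 = 1 ∧ (h * (g * r * g⁻¹)) ^ 4 ≠ 1) :=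
  have h : ∀ g, InS R AN_lK g → InS R AN_lN (g) ∨ (GoodS R AN_lT → AN_lT ≠ [] → ∃ h, InS R AN_lT h ∧ ((h * (g * r * g⁻¹)) ^ 4) ^ 3 = 1 ∧ (h * (g * r * g⁻¹)) ^ 4 ≠ 1) ∧ (GoodS R AN_lT → AN_lT ≠ [] → ∃ h, InS R AN_lT h ∧ ((h * (g * r * g⁻¹)) ^ 4) ^ 5 = 1 ∧ (h * (g * r * g⁻¹)) ^ 4 ≠ 1) :=
    Fm.sound M.μ AN_A5_F AN_A5_chk M.reps
  (fun g h0 => (Or.imp (fun h1 => ((AN_lN_E M).iff.1 h1)) (fun h1 => (And.imp (fun h2 => (Exists.imp (fun h h3 => ⟨(AN_lT_E M).iff.1 h3.1, h3.2⟩) (h2 (AN_lT_E M).good (AN_lT_E M).ne))) (fun h2 => (Exists.imp (fun h h3 => ⟨(AN_lT_E M).iff.1 h3.1, h3.2⟩) (h2 (AN_lT_E M).good (AN_lT_E M).ne))) h1)) (h g ((AN_lK_E M).iff.2 h0))))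
noncomputable def AN_w_t0 : ST := (.node (nat_lit 87) (.node (nat_lit 51) (.node (nat_lit 21) (.node (nat_lit 13) (.leaf (nat_lit 29)) (.node (nat_lit 20) (.leaf (nat_lit 0)) (.leaf (nat_lit 483)))) (.node (nat_lit 30) (.node (nat_lit 24) (.leaf (nat_lit 1)) (.leaf (nat_lit 2))) (.node (nat_lit 37) (.leaf (nat_lit 1728)) (.leaf (nat_lit 500))))) (.node (nat_lit 64) (.node (nat_lit 60) (.node (nat_lit 58) (.leaf (nat_lit 16)) (.leaf (nat_lit 28))) (.node (nat_lit 62) (.leaf (nat_lit 72)) (.leaf (nat_lit 481)))) (.node (nat_lit 84) (.node (nat_lit 75) (.leaf (nat_lit 393)) (.leaf (nat_lit 392))) (.node (nat_lit 86) (.leaf (nat_lit 3)) (.leaf (nat_lit 31)))))) (.node (nat_lit 146) (.node (nat_lit 99) (.node (nat_lit 88) (.leaf (nat_lit 20)) (.node (nat_lit 89) (.leaf (nat_lit 30)) (.leaf (nat_lit 0)))) (.node (nat_lit 129) (.node (nat_lit 122) (.leaf (nat_lit 395)) (.leaf (nat_lit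 388))) (.node (nat_lit 134) (.leaf (nat_lit 480)) (.leaf (nat_lit 144))))) (.node (nat_lit 189) (.node (nat_lit 171) (.node (nat_lit 159) (.leaf (nat_lit 496)) (.leaf (nat_lit 1536))) (.node (nat_lit 188) (.leaf (nat_lit 24)) (.leaf (nat_lit 394)))) (.node (nat_lit 194) (.node (nat_lit 191) (.leaf (nat_lit 384)) (.leaf (nat_lit 482))) (.node (nat_lit 201) (.leaf (nat_lit 168)) (.leaf (nat_lit 32)))))))
noncomputable def AN_w_F : Fm := (.allS AN_lQ (.or (.qf (.eq (.v (nat_lit 0)) .one)) (.or (.qf (.eq (.v (nat_lit 0)) (.v (nat_lit 1)))) (.exG AN_lS (fun cs => AN_w_t0.find (Nat.mod (nth (nat_lit 0) cs (nat_lit 0)) (nat_lit 208))) (.qf (.or (.eq (.mul (.mul (.v (nat_lit 0)) (.v (nat_lit 1))) (.inv (.v (nat_lit 0)))) (.mul (.mul (.mul (.v (nat_lit 3)) (.v (nat_lit 4))) (.v (nat_lit 5))) (.v (nat_lit 6)))) (.eq (.mul (.mul (.v (nat_lit 0)) (.v (nat_lit 1))) (.inv (.v (nat_lit 0))))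 (.mul (.v (nat_lit 3)) (.v (nat_lit 4))))))))))
theorem AN_w_chk : Fm.chk AN_o AN_w_F AN_cs = true := by decide +kernel
theorem AN_w {G : Type*} [Group G] {R : ℕ → G → Prop} {z u v a b i j k l p t c r s : G}
    (M : Md0 AN_o AN_cs R [z, u, v, a, b, i, j, k, l, p, t, c, r, s]) :
    ∀ e ∈ sp [z, u, v, a, b], e = 1 ∨ e = z ∨ (∃ h ∈ sp [i, p, t], h * e * h⁻¹ = u * v * a * b ∨ h * e * h⁻¹ = u * v) :=
  have h : ∀ e, InS R AN_lQ e → e = 1 ∨ e = z ∨ (GoodS R AN_lS → AN_lS ≠ [] → ∃ h, InS R AN_lS h ∧ (h * e * h⁻¹ = u * v * a * b ∨ h * e * h⁻¹ = u * v)) :=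
    Fm.sound M.μ AN_w_F AN_w_chk M.reps
  (fun e h0 => (Or.imp (fun h1 => h1) (fun h1 => (Or.imp (fun h2 => h2) (fun h2 => (Exists.imp (fun h h3 => ⟨(AN_lS_E M).iff.1 h3.1, h3.2⟩) (h2 (AN_lS_E M).good (AN_lS_E M).ne))) h1)) (h e ((AN_lQ_E M).iff.2 h0))))
noncomputable def AN_w1_F : Fm := (.lt (.mul (.mul (.mul (.v (nat_lit 1)) (.v (nat_lit 2))) (.v (nat_lit 3))) (.v (nat_lit 4))) (.lt (.mul (.mul (.mul (.mul (.v (nat_lit 2)) (.v (nat_lit 3))) (.v (nat_lit 4))) (.v (nat_lit 5))) (.v (nat_lit 1))) (.allS AN_lS (.lt (.mul (.mul (.v (nat_lit 0)) (.v (nat_lit 2))) (.inv (.v (nat_lit 0)))) (.imp (.or (.eq (.v (nat_lit 0)) (.v (nat_lit 3))) (.eq (.v (nat_lit 0)) (.v (nat_lit 2)))) (.qf (.mem (.v (nat_lit 1)) AN_lS1)))))))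
theorem AN_w1_chk : Fm.chk AN_o AN_w1_F AN_cs = true := by decide +kernel
theorem AN_w1 {G : Type*} [Group G] {R : ℕ → G → Prop} {z u v a b i j k l p t c r s : G}
    (M : Md0 AN_o AN_cs R [z, u, v, a, b, i, j, k, l, p, t, c, r, s]) :
    ∀ g ∈ sp [i, p, t], g * (u * v * a * b) * g⁻¹ = u * v * a * b ∨ g * (u * v * a * b) * g⁻¹ = u * v * a * b * z → g ∈ sp [i, j, k, l, r, s, c, t] :=
  have h : ∀ g, InS R AN_lS g → g * (u * v * a * b) * g⁻¹ = u * v * a * b ∨ g * (u * v * a * b) * g⁻¹ = u * v * a * b * z → InS R AN_lS1 (g) :=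
    Fm.sound M.μ AN_w1_F AN_w1_chk M.reps
  (fun g h0 => (fun h1 => ((AN_lS1_E M).iff.1 ((h g ((AN_lS_E M).iff.2 h0)) h1))))
noncomputable def AN_w2_F : Fm := (.lt (.mul (.v (nat_lit 1)) (.v (nat_lit 2))) (.lt (.mul (.mul (.v (nat_lit 2)) (.v (nat_lit 3))) (.v (nat_lit 1))) (.allS AN_lS (.lt (.mul (.mul (.v (nat_lit 0)) (.v (nat_lit 2))) (.inv (.v (nat_lit 0)))) (.imp (.or (.eq (.v (nat_lit 0)) (.v (nat_lit 3))) (.eq (.v (nat_lit 0)) (.v (nat_lit 2)))) (.qf (.mem (.v (nat_lit 1)) AN_lS2)))))))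
theorem AN_w2_chk : Fm.chk AN_o AN_w2_F AN_cs = true := by decide +kernel
theorem AN_w2 {G : Type*} [Group G] {R : ℕ → G → Prop} {z u v a b i j k l p t c r s : G}
    (M : Md0 AN_o AN_cs R [z, u, v, a, b, i, j, k, l, p, t, c, r, s]) :
    ∀ g ∈ sp [i, p, t], g * (u * v) * g⁻¹ = u * v ∨ g * (u * v) * g⁻¹ = u * v * z → g ∈ sp [i, j, k, l, t, p * p * p * t * p * p, p * p * t * p * p * p] :=
  have h : ∀ g, InS R AN_lS g → g * (u * v) * g⁻¹ = u * v ∨ g * (u * v) * g⁻¹ = u * v * z → InS R AN_lS2 (g) :=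
    Fm.sound M.μ AN_w2_F AN_w2_chk M.reps
  (fun g h0 => (fun h1 => ((AN_lS2_E M).iff.1 ((h g ((AN_lS_E M).iff.2 h0)) h1))))

end H26.Es
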