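import Cfsg.Agent.H26.Es.M1g

/-! Generated: subgroups of the automorphism group, plus type. -/

set_option maxRecDepth 100000
set_option maxHeartbeats 4000000
set_option linter.unusedVariables false
set_option Elab.async false

open Subgroup
open scoped commutatorElement
namespace H26.Es
open H0 H0.PM H16 H19 H10.X

noncomputable def AP_lT : List ℕ := [(nat_lit 0x11b2cbc7badf16a1a3137c9b6393f4817ceaa420), (nat_lit 0x11b2cdc7bcbe9723a2d36a9f8193ce817f4aa420), (nat_lit 0x11b31bb3bcdea723930b7a9b61a3d4827eea9420), (nat_lit 0x11b31db3babf26a192cb6c9f83a3ee827d4a9420), (nat_lit 0x11bacbc73cdea6a192cb6c9f83a3d4a97ee82420), (nat_lit 0x11bacdc73abf2723930b7a9b61a3eea97d482420), (nat_lit 0x11bb1bb33adf1723a2d36a9f8193f4aa7ce81420), (nat_lit 0x11bb1db33cbe96a1a3137c9b6393ceaa7f481420), (nat_lit 0x19dbacf1f6ee1c252634d9aec9167f2417e45420), (nat_lit 0x19dbaef1f8cd9c692594b8b715157e2427f45420),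 (nat_lit 0x19dbcce9f8eda869162ed8aec5257f2567e44020), (nat_lit 0x19dbcee9f6ce2825158eb9b719267e2557f44020), (nat_lit 0x19dfacf1b8eda825158eb9b719257f4427e25420), (nat_lit 0x19dfaef1b6ce2869162ed8aec5267e4417f25420), (nat_lit 0x19dfcce9b6ee1c692594b8b715167f4557e24020), (nat_lit 0x19dfcee9b8cd9c252634d9aec9157e4567f24020), (nat_lit 0x222fa6f3767e0d02ae22ed72c4cd43fd247f3820), (nat_lit 0x222fa7f3786d8d54ad82cc3b12ce47fd143f3820), (nat_lit 0x222fc6eb787d8554ce26ec32c2ae43fb947f5020), (nat_lit 0x222fc7eb766e0502cd86cd7b14ad47fba43f5020), (nat_lit 0x2237a6f2f87d8502cd86cd7b14ae43f5147fb820), (nat_lit 0x2237a7f2f66e0554ce26ec32c2ad47f5243fb820), (nat_lit 0x2237c6eaf67e0d54ad82cc3b12cd43f3a47fd020), (nat_lit 0x2237c7eaf86d8d02ae22ed72c4ce47f3943fd020), (nat_lit 0x2a736be3acdc4e483b837a1baad04a9fcd25f820), (nat_lit 0x2a736de3b1bb0e8abb43691fc850d29fc4a5f820), (nat_lit 0x2a738bdbb1db068ad387791ba838ca9f8525fc20),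 (nat_lit 0x2a738ddbacbc464853476a1fcab8529f8ca5fc20), (nat_lit 0x2a7b6be331db064853476a1fcab8ca5fc529f820), (nat_lit 0x2a7b6de32cbc468ad387791ba838525fcca9f820), (nat_lit 0x2a7b8bdb2cdc4e8abb43691fc8504a5f8d29fc20), (nat_lit 0x2a7b8ddb31bb0e483b837a1baad0d25f84a9fc20), (nat_lit 0x30b2cbc7bcdea721a2cb7a9b8393eeaa7d481420), (nat_lit 0x30b2cdc7babf26a3a30b6c9f6193d4aa7ee81420), (nat_lit 0x30b31bb3badf16a392d37c9b81a3cea97f482420), (nat_lit 0x30b31db3bcbe972193136a9f63a3f4a97ce82420), (nat_lit 0x30bacbc73adf172193136a9f63a3ce827f4a9420), (nat_lit 0x30bacdc73cbe96a392d37c9b81a3f4827cea9420), (nat_lit 0x30bb1bb33cdea6a3a30b6c9f6193ee817d4aa420), (nat_lit 0x30bb1db33abf2721a2cb7a9b8393d4817eeaa420), (nat_lit 0x38dbacf1f8eda865258ed8af19167e4557f24020), (nat_lit 0x38dbaef1f6ce2829262eb9b6c5157f4567e24020), (nat_lit 0x38dbcce9f6ee1c291594d9af15257e4427f25420), (nat_lit 0x38dbcee9f8cd9c651634b8b6c9267f4417e25420),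 (nat_lit 0x38dfacf1b6ee1c651634b8b6c9257e2567f44020), (nat_lit 0x38dfaef1b8cd9c291594d9af15267f2557e44020), (nat_lit 0x38dfcce9b8eda829262eb9b6c5167e2417f45420), (nat_lit 0x38dfcee9b6ce2865258ed8af19157f2427e45420), (nat_lit 0x412fa6f3787d8552ad86ec3314cd47f3a43fd020), (nat_lit 0x412fa7f3766e0504ae26cd7ac2ce43f3947fd020), (nat_lit 0x412fc6eb767e0d04cd82ed7312ae47f5143fb820), (nat_lit 0x412fc7eb786d8d52ce22cc3ac4ad43f5247fb820), (nat_lit 0x4137a6f2f67e0d52ce22cc3ac4ae47fb943f5020), (nat_lit 0x4137a7f2f86d8d04cd82ed7312ad43fba47f5020), (nat_lit 0x4137c6eaf87d8504ae26cd7ac2cd47fd243f3820), (nat_lit 0x4137c7eaf66e0552ad86ec3314ce43fd147f3820), (nat_lit 0x49736be3b1db06883b47791bcad0525f8ca9fc20), (nat_lit 0x49736de3acbc464abb876a1fa850ca5f8529fc20), (nat_lit 0x49738bdbacdc4e4ad3437a1bc838d25fc4a9f820), (nat_lit 0x49738ddbb1bb0e885383691faab84a5fcd29f820), (nat_lit 0x497b6be32cdc4e885383691faab8d29f84a5fc20),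 (nat_lit 0x497b6de331bb0e4ad3437a1bc8384a9f8d25fc20), (nat_lit 0x497b8bdb31db064abb876a1fa850529fcca5f820), (nat_lit 0x497b8ddb2cbc46883b47791bcad0ca9fc525f820), (nat_lit 0x54af66e36c7c7c31579fe9f3a34293291cb4a020), (nat_lit 0x54af67e3716b3c73575fc8fbc141cb292934a020), (nat_lit 0x54af86db717b3e73439ee8f3a155d32a28b49020), (nat_lit 0x54af87db6c6c7e31435ec9fbc3568b2a1d349020), (nat_lit 0x54b766e2f17b3e31435ec9fbc355d34928b2a020), (nat_lit 0x54b767e2ec6c7e73439ee8f3a1568b491d32a020), (nat_lit 0x54b786daec7c7c73575fc8fbc142934a1cb29020), (nat_lit 0x54b787daf16b3c31579fe9f3a341cb4a29329020), (nat_lit 0x5cdb6ce1f1eb09ea1b48dfefc70a0991ea550c20), (nat_lit 0x5cdb6ee1eccc49f71b88bfb7aa0aa591e0950c20), (nat_lit 0x5cdb8cd9ecec51f70b44dfafca1aa990e0551c20), (nat_lit 0x5cdb8ed9f1cb11ea0b84bff7a71a0590ea951c20), (nat_lit 0x5cdf6ce1acec51ea0b84bff7a71aa951e0590c20), (nat_lit 0x5cdf6ee1b1cb11f70b44dfafca1a0551ea990c20),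 (nat_lit 0x5cdf8cd9b1eb09f71b88bfb7aa0a0950ea591c20), (nat_lit 0x5cdf8ed9accc49ea1b48dfefc70aa550e0991c20), (nat_lit 0x752ec6c77c7e8abf9ec9ecf38f0c953491012820), (nat_lit 0x752ec7c77a6f0b3f1f09cafb6f8d103489512820), (nat_lit 0x752f16b37a7f133f0ec5eaf38f9d153289014820), (nat_lit 0x752f17b37c6e92bf8f05ccfb6f1c903291514820), (nat_lit 0x7536c6c6fa7f12bf8f05ccfb6f1d151489032820), (nat_lit 0x7536c7c6fc6e933f0ec5eaf38f9c901491532820), (nat_lit 0x753716b2fc7e8b3f1f09cafb6f8c951291034820), (nat_lit 0x753717b2fa6f0abf9ec9ecf38f0d101289534820), (nat_lit 0x855accc5faef24527b0ada6f647c62a4ce672c20), (nat_lit 0x855acec5fccea4947acab977827ce6a4c6272c20), (nat_lit 0x855b1cb1fcee94947f12d96f6278e2a2c6674c20), (nat_lit 0x855b1eb1facf14527ed2ba77847866a2ce274c20), (nat_lit 0x855eccc5bcee94527ed2ba778478e274c66a2c20), (nat_lit 0x855ecec5bacf14947f12d96f62786674ce2a2c20), (nat_lit 0x855f1cb1baef24947acab977827c6272ce6a4c20),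 (nat_lit 0x855f1eb1bccea4527b0ada6f647ce672c62a4c20), (nat_lit 0x92af66e3717b3e71575ee8f3c3428b4a1d329020), (nat_lit 0x92af67e36c6c7e33579ec9fba141d34a28b29020), (nat_lit 0x92af86db6c7c7c33435fe9f3c155cb492932a020), (nat_lit 0x92af87db716b3c71439fc8fba35693491cb2a020), (nat_lit 0x92b766e2ec7c7c71439fc8fba355cb2a29349020), (nat_lit 0x92b767e2f16b3c33435fe9f3c156932a1cb49020), (nat_lit 0x92b786daf17b3e33579ec9fba1428b291d34a020), (nat_lit 0x92b787daec6c7e71575ee8f3c341d32928b4a020), (nat_lit 0x9adb6ce1ecec51fa1b84dfafa70a0550ea991c20), (nat_lit 0x9adb6ee1f1cb11e71b44bff7ca0aa950e0591c20), (nat_lit 0x9adb8cd9f1eb09e70b88dfefaa1aa551e0990c20), (nat_lit 0x9adb8ed9eccc49fa0b48bfb7c71a0951ea590c20), (nat_lit 0x9adf6ce1b1eb09fa0b48bfb7c71aa590e0951c20), (nat_lit 0x9adf6ee1accc49e70b88dfefaa1a0990ea551c20), (nat_lit 0x9adf8cd9acec51e71b44bff7ca0a0591ea950c20), (nat_lit 0x9adf8ed9b1cb11fa1b84dfafa70aa991e0550c20),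 (nat_lit 0xa3aec6c77a7f133f9f05eaf36f0c901291534820), (nat_lit 0xa3aec7c77c6e92bf1ec5ccfb8f8d151289034820), (nat_lit 0xa3af16b37c7e8abf0f09ecf36f9d101489532820), (nat_lit 0xa3af17b37a6f0b3f8ec9cafb8f1c951491032820), (nat_lit 0xa3b6c6c6fc7e8b3f8ec9cafb8f1d103289514820), (nat_lit 0xa3b6c7c6fa6f0abf0f09ecf36f9c953291014820), (nat_lit 0xa3b716b2fa7f12bf1ec5ccfb8f8c903491512820), (nat_lit 0xa3b717b2fc6e933f9f05eaf36f0d153489012820), (nat_lit 0xac1accc5fcee94927ad2d96f847c6672ce2a4c20), (nat_lit 0xac1acec5facf14547b12ba77627ce272c66a4c20), (nat_lit 0xac1b1cb1faef24547ecada6f8278e674c62a2c20), (nat_lit 0xac1b1eb1fccea4927f0ab97764786274ce6a2c20), (nat_lit 0xac1eccc5baef24927f0ab9776478e6a2c6274c20), (nat_lit 0xac1ecec5bccea4547ecada6f827862a2ce674c20), (nat_lit 0xac1f1cb1bcee94547b12ba77627c66a4ce272c20), (nat_lit 0xac1f1eb1bacf14927ad2d96f847ce2a4c6672c20), (nat_lit 0xf7f3abf3b8dda0e9c9957d1b15a8a83992418820),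 (nat_lit 0xf7f3adf3b6be2145ca356b9ec9a924398a818820), (nat_lit 0xf7f3cbebb6de2b45a9907b9b19c928388a419820), (nat_lit 0xf7f3cdebb8bdaae9aa306d1ec5c8a43892819820), (nat_lit 0xf7fbabf336de2ae9aa306d1ec5c928198a438820), (nat_lit 0xf7fbadf338bdab45a9907b9b19c8a41992838820), (nat_lit 0xf7fbcbeb38dda145ca356b9ec9a8a81892439820), (nat_lit 0xf7fbcdeb36be20e9c9957d1b15a924188a839820), (nat_lit 0xffb3abf3b6de2b49ca307b9ac5a8a41892839820), (nat_lit 0xffb3adf3b8bdaae5c9906d1f19a928188a439820), (nat_lit 0xffb3cbebb8dda0e5aa357d1ac9c924198a838820), (nat_lit 0xffb3cdebb6be2149a9956b9f15c8a81992438820), (nat_lit 0xffbbabf338dda149a9956b9f15c924388a819820), (nat_lit 0xffbbadf336be20e5aa357d1ac9c8a83892419820), (nat_lit 0xffbbcbeb36de2ae5c9906d1f19a8a43992818820), (nat_lit 0xffbbcdeb38bdab49ca307b9ac5a928398a418820)]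
noncomputable def AP_lT_W : List (List ℕ) := [[(nat_lit 1), (nat_lit 1), (nat_lit 0), (nat_lit 2), (nat_lit 0), (nat_lit 1), (nat_lit 1)],
  [(nat_lit 0), (nat_lit 1), (nat_lit 0), (nat_lit 2), (nat_lit 0)],
  [(nat_lit 0), (nat_lit 1), (nat_lit 2)],
  [(nat_lit 0), (nat_lit 2), (nat_lit 0), (nat_lit 1)],
  [(nat_lit 0), (nat_lit 2), (nat_lit 0), (nat_lit 1), (nat_lit 0)],
  [(nat_lit 0), (nat_lit 1), (nat_lit 2), (nat_lit 0)],
  [(nat_lit 0), (nat_lit 1), (nat_lit 0), (nat_lit 2)],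
  [(nat_lit 1), (nat_lit 1), (nat_lit 0), (nat_lit 1), (nat_lit 2), (nat_lit 0), (nat_lit 1)],
  [(nat_lit 0), (nat_lit 1), (nat_lit 0), (nat_lit 2), (nat_lit 2)],
  [(nat_lit 0), (nat_lit 2), (nat_lit 0), (nat_lit 1), (nat_lit 0), (nat_lit 2), (nat_lit 0)],
  [(nat_lit 0), (nat_lit 2), (nat_lit 0), (nat_lit 1), (nat_lit 0), (nat_lit 2)],
  [(nat_lit 0), (nat_lit 1), (nat_lit 2), (nat_lit 0), (nat_lit 2)],
  [(nat_lit 0), (nat_lit 1), (nat_lit 2), (nat_lit 2)],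
  [(nat_lit 2), (nat_lit 2), (nat_lit 0), (nat_lit 1)],
  [(nat_lit 2), (nat_lit 2), (nat_lit 0), (nat_lit 1), (nat_lit 0)],
  [(nat_lit 0), (nat_lit 1), (nat_lit 2), (nat_lit 2), (nat_lit 0)],
  [(nat_lit 0), (nat_lit 2), (nat_lit 0), (nat_lit 1), (nat_lit 1)],
  [(nat_lit 0), (nat_lit 1), (nat_lit 1), (nat_lit 2)],
  [(nat_lit 0), (nat_lit 1), (nat_lit 0), (nat_lit 2), (nat_lit 0), (nat_lit 1)],
  [(nat_lit 1), (nat_lit 1), (nat_lit 0), (nat_lit 2), (nat_lit 0)],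
  [(nat_lit 0), (nat_lit 1), (nat_lit 0), (nat_lit 2), (nat_lit 0), (nat_lit 1), (nat_lit 0)],
  [(nat_lit 1), (nat_lit 1), (nat_lit 0), (nat_lit 2)],
  [(nat_lit 0), (nat_lit 1), (nat_lit 2), (nat_lit 0), (nat_lit 1)],
  [(nat_lit 0), (nat_lit 1), (nat_lit 1), (nat_lit 2), (nat_lit 0)],
  [(nat_lit 0), (nat_lit 1), (nat_lit 1), (nat_lit 2), (nat_lit 2)],
  [(nat_lit 2), (nat_lit 2), (nat_lit 0), (nat_lit 1), (nat_lit 1)],
  [(nat_lit 1), (nat_lit 1), (nat_lit 2), (nat_lit 2), (nat_lit 0)],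
  [(nat_lit 0), (nat_lit 1), (nat_lit 2), (nat_lit 2), (nat_lit 0), (nat_lit 1)],
  [(nat_lit 1), (nat_lit 1), (nat_lit 0), (nat_lit 2), (nat_lit 2)],
  [(nat_lit 1), (nat_lit 2), (nat_lit 0), (nat_lit 1), (nat_lit 2), (nat_lit 0)],
  [(nat_lit 0), (nat_lit 1), (nat_lit 1), (nat_lit 2), (nat_lit 0), (nat_lit 2)],
  [(nat_lit 0), (nat_lit 1), (nat_lit 2), (nat_lit 0), (nat_lit 1), (nat_lit 2)],
  [(nat_lit 1), (nat_lit 0), (nat_lit 1), (nat_lit 1), (nat_lit 2), (nat_lit 0), (nat_lit 1)],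
  [(nat_lit 1), (nat_lit 0), (nat_lit 2)],
  [(nat_lit 1), (nat_lit 2), (nat_lit 0)],
  [(nat_lit 2), (nat_lit 0), (nat_lit 1), (nat_lit 0)],
  [(nat_lit 2), (nat_lit 0), (nat_lit 1)],
  [(nat_lit 1), (nat_lit 2)],
  [(nat_lit 1), (nat_lit 0), (nat_lit 2), (nat_lit 0)],
  [(nat_lit 1), (nat_lit 0), (nat_lit 1), (nat_lit 2), (nat_lit 0), (nat_lit 1), (nat_lit 1)],
  [(nat_lit 1), (nat_lit 2), (nat_lit 2), (nat_lit 0)],
  [(nat_lit 2), (nat_lit 0), (nat_lit 1), (nat_lit 2), (nat_lit 0)],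
  [(nat_lit 2), (nat_lit 0), (nat_lit 1), (nat_lit 2)],
  [(nat_lit 1), (nat_lit 2), (nat_lit 2)],
  [(nat_lit 1), (nat_lit 2), (nat_lit 0), (nat_lit 2)],
  [(nat_lit 2), (nat_lit 0), (nat_lit 1), (nat_lit 0), (nat_lit 2)],
  [(nat_lit 2), (nat_lit 0), (nat_lit 1), (nat_lit 0), (nat_lit 2), (nat_lit 0)],
  [(nat_lit 1), (nat_lit 0), (nat_lit 2), (nat_lit 2)],
  [(nat_lit 1), (nat_lit 1), (nat_lit 2), (nat_lit 0)],
  [(nat_lit 1), (nat_lit 2), (nat_lit 0), (nat_lit 1)],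
  [(nat_lit 1), (nat_lit 0), (nat_lit 1), (nat_lit 2)],
  [(nat_lit 1), (nat_lit 0), (nat_lit 2), (nat_lit 0), (nat_lit 1), (nat_lit 0)],
  [(nat_lit 1), (nat_lit 0), (nat_lit 1), (nat_lit 2), (nat_lit 0)],
  [(nat_lit 1), (nat_lit 0), (nat_lit 2), (nat_lit 0), (nat_lit 1)],
  [(nat_lit 1), (nat_lit 1), (nat_lit 2)],
  [(nat_lit 2), (nat_lit 0), (nat_lit 1), (nat_lit 1)],
  [(nat_lit 1), (nat_lit 2), (nat_lit 0), (nat_lit 1), (nat_lit 2)],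
  [(nat_lit 1), (nat_lit 1), (nat_lit 2), (nat_lit 0), (nat_lit 2)],
  [(nat_lit 0), (nat_lit 1), (nat_lit 2), (nat_lit 0), (nat_lit 1), (nat_lit 2), (nat_lit 0)],
  [(nat_lit 1), (nat_lit 0), (nat_lit 1), (nat_lit 2), (nat_lit 2)],
  [(nat_lit 1), (nat_lit 2), (nat_lit 2), (nat_lit 0), (nat_lit 1)],
  [(nat_lit 0), (nat_lit 1), (nat_lit 1), (nat_lit 2), (nat_lit 2), (nat_lit 0)],
  [(nat_lit 2), (nat_lit 0), (nat_lit 1), (nat_lit 1), (nat_lit 2)],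
  [(nat_lit 1), (nat_lit 1), (nat_lit 2), (nat_lit 2)],
  [(nat_lit 2), (nat_lit 0), (nat_lit 1), (nat_lit 0), (nat_lit 2), (nat_lit 2)],
  [(nat_lit 1), (nat_lit 2), (nat_lit 0), (nat_lit 2), (nat_lit 2)],
  [(nat_lit 1), (nat_lit 0)],
  [(nat_lit 2), (nat_lit 0), (nat_lit 1), (nat_lit 2), (nat_lit 2), (nat_lit 0)],
  [(nat_lit 2), (nat_lit 0), (nat_lit 1), (nat_lit 2), (nat_lit 0), (nat_lit 2)],
  [(nat_lit 1), (nat_lit 2), (nat_lit 2), (nat_lit 0), (nat_lit 2)],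
  [(nat_lit 1)],
  [(nat_lit 2), (nat_lit 0), (nat_lit 1), (nat_lit 2), (nat_lit 2)],
  [(nat_lit 1), (nat_lit 1), (nat_lit 0), (nat_lit 1), (nat_lit 2)],
  [(nat_lit 1), (nat_lit 1), (nat_lit 0), (nat_lit 1), (nat_lit 2), (nat_lit 0)],
  [(nat_lit 0), (nat_lit 1), (nat_lit 1), (nat_lit 2), (nat_lit 0), (nat_lit 1)],
  [(nat_lit 0), (nat_lit 1), (nat_lit 2), (nat_lit 0), (nat_lit 1), (nat_lit 1)],
  [(nat_lit 0), (nat_lit 2)],
  [(nat_lit 0), (nat_lit 2), (nat_lit 0)],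
  [(nat_lit 1), (nat_lit 1), (nat_lit 0), (nat_lit 2), (nat_lit 0), (nat_lit 1)],
  [(nat_lit 0), (nat_lit 1), (nat_lit 0), (nat_lit 2), (nat_lit 0), (nat_lit 1), (nat_lit 1)],
  [(nat_lit 0), (nat_lit 1), (nat_lit 2), (nat_lit 2), (nat_lit 0), (nat_lit 1), (nat_lit 1)],
  [(nat_lit 1), (nat_lit 1), (nat_lit 2), (nat_lit 2), (nat_lit 0), (nat_lit 1)],
  [(nat_lit 2), (nat_lit 2), (nat_lit 0)],
  [(nat_lit 0), (nat_lit 2), (nat_lit 2)],
  [(nat_lit 0), (nat_lit 1), (nat_lit 2), (nat_lit 0), (nat_lit 1), (nat_lit 1), (nat_lit 2)],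
  [(nat_lit 0), (nat_lit 1), (nat_lit 1), (nat_lit 2), (nat_lit 0), (nat_lit 1), (nat_lit 2)],
  [(nat_lit 1), (nat_lit 0), (nat_lit 1), (nat_lit 1), (nat_lit 2), (nat_lit 2), (nat_lit 0)],
  [(nat_lit 1), (nat_lit 1), (nat_lit 0), (nat_lit 1), (nat_lit 2), (nat_lit 2)],
  [(nat_lit 2), (nat_lit 0), (nat_lit 1), (nat_lit 1), (nat_lit 2), (nat_lit 2)],
  [(nat_lit 1), (nat_lit 1)],
  [(nat_lit 1), (nat_lit 2), (nat_lit 2), (nat_lit 0), (nat_lit 1), (nat_lit 2)],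
  [(nat_lit 0), (nat_lit 1), (nat_lit 1), (nat_lit 2), (nat_lit 2), (nat_lit 0), (nat_lit 2)],
  [(nat_lit 2), (nat_lit 0), (nat_lit 1), (nat_lit 2), (nat_lit 2), (nat_lit 0), (nat_lit 1)],
  [(nat_lit 1), (nat_lit 0), (nat_lit 1)],
  [(nat_lit 1), (nat_lit 2), (nat_lit 0), (nat_lit 1), (nat_lit 2), (nat_lit 2)],
  [(nat_lit 1), (nat_lit 1), (nat_lit 2), (nat_lit 0), (nat_lit 2), (nat_lit 2)],
  [(nat_lit 2), (nat_lit 2), (nat_lit 0), (nat_lit 1), (nat_lit 2)],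
  [(nat_lit 0), (nat_lit 1)],
  [(nat_lit 0), (nat_lit 1), (nat_lit 2), (nat_lit 2), (nat_lit 0), (nat_lit 2)],
  [(nat_lit 2), (nat_lit 2), (nat_lit 0), (nat_lit 1), (nat_lit 0), (nat_lit 2)],
  [(nat_lit 2), (nat_lit 2), (nat_lit 0), (nat_lit 1), (nat_lit 2), (nat_lit 0)],
  [(nat_lit 0), (nat_lit 1), (nat_lit 0)],
  [(nat_lit 0), (nat_lit 1), (nat_lit 2), (nat_lit 0), (nat_lit 2), (nat_lit 2)],
  [(nat_lit 0), (nat_lit 2), (nat_lit 0), (nat_lit 1), (nat_lit 0), (nat_lit 2), (nat_lit 2)],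
  [(nat_lit 1), (nat_lit 0), (nat_lit 2), (nat_lit 0), (nat_lit 1), (nat_lit 1)],
  [(nat_lit 1), (nat_lit 0), (nat_lit 1), (nat_lit 2), (nat_lit 0), (nat_lit 1)],
  [(nat_lit 2), (nat_lit 0)],
  [(nat_lit 2)],
  [(nat_lit 1), (nat_lit 2), (nat_lit 0), (nat_lit 1), (nat_lit 1)],
  [(nat_lit 1), (nat_lit 1), (nat_lit 2), (nat_lit 0), (nat_lit 1)],
  [(nat_lit 1), (nat_lit 0), (nat_lit 1), (nat_lit 1), (nat_lit 2), (nat_lit 0)],
  [(nat_lit 1), (nat_lit 0), (nat_lit 1), (nat_lit 1), (nat_lit 2)],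
  [(nat_lit 1), (nat_lit 0), (nat_lit 1), (nat_lit 1), (nat_lit 2), (nat_lit 2)],
  [(nat_lit 1), (nat_lit 0), (nat_lit 1), (nat_lit 1), (nat_lit 2), (nat_lit 0), (nat_lit 2)],
  [(nat_lit 1), (nat_lit 1), (nat_lit 2), (nat_lit 0), (nat_lit 1), (nat_lit 2)],
  [(nat_lit 1), (nat_lit 2), (nat_lit 0), (nat_lit 1), (nat_lit 1), (nat_lit 2)],
  [(nat_lit 2), (nat_lit 2)],
  [(nat_lit 2), (nat_lit 0), (nat_lit 2)],
  [(nat_lit 0), (nat_lit 1), (nat_lit 1), (nat_lit 2), (nat_lit 2), (nat_lit 0), (nat_lit 1)],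
  [(nat_lit 1), (nat_lit 2), (nat_lit 2), (nat_lit 0), (nat_lit 1), (nat_lit 1)],
  [(nat_lit 0), (nat_lit 1), (nat_lit 1), (nat_lit 2), (nat_lit 0), (nat_lit 2), (nat_lit 2)],
  [(nat_lit 0), (nat_lit 1), (nat_lit 2), (nat_lit 0), (nat_lit 1), (nat_lit 2), (nat_lit 2)],
  [(nat_lit 1), (nat_lit 1), (nat_lit 0)],
  [(nat_lit 1), (nat_lit 2), (nat_lit 0), (nat_lit 1), (nat_lit 2), (nat_lit 0), (nat_lit 2)],
  [(nat_lit 1), (nat_lit 1), (nat_lit 2), (nat_lit 2), (nat_lit 0), (nat_lit 2)],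
  [(nat_lit 0), (nat_lit 1), (nat_lit 2), (nat_lit 2), (nat_lit 0), (nat_lit 1), (nat_lit 2)],
  [(nat_lit 0), (nat_lit 1), (nat_lit 1)],
  [(nat_lit 2), (nat_lit 2), (nat_lit 0), (nat_lit 1), (nat_lit 1), (nat_lit 2)],
  [(nat_lit 0)],
  [(nat_lit 2), (nat_lit 2), (nat_lit 0), (nat_lit 2)],
  [(nat_lit 1), (nat_lit 1), (nat_lit 2), (nat_lit 2), (nat_lit 0), (nat_lit 1), (nat_lit 2)],
  [(nat_lit 0), (nat_lit 1), (nat_lit 2), (nat_lit 2), (nat_lit 0), (nat_lit 1), (nat_lit 1), (nat_lit 2)],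
  [(nat_lit 1), (nat_lit 1), (nat_lit 0), (nat_lit 1)],
  [(nat_lit 1), (nat_lit 0), (nat_lit 1), (nat_lit 1), (nat_lit 2), (nat_lit 2), (nat_lit 0), (nat_lit 2)],
  [(nat_lit 0), (nat_lit 1), (nat_lit 1), (nat_lit 2), (nat_lit 0), (nat_lit 1), (nat_lit 2), (nat_lit 2)],
  [(nat_lit 0), (nat_lit 1), (nat_lit 2), (nat_lit 0), (nat_lit 1), (nat_lit 1), (nat_lit 2), (nat_lit 2)],
  [(nat_lit 1), (nat_lit 2), (nat_lit 0), (nat_lit 1), (nat_lit 1), (nat_lit 2), (nat_lit 2)],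
  [(nat_lit 1), (nat_lit 1), (nat_lit 2), (nat_lit 0), (nat_lit 1), (nat_lit 2), (nat_lit 2)],
  [(nat_lit 1), (nat_lit 0), (nat_lit 1), (nat_lit 1), (nat_lit 2), (nat_lit 0), (nat_lit 2), (nat_lit 2)],
  [(nat_lit 1), (nat_lit 0), (nat_lit 1), (nat_lit 1)],
  [(nat_lit 1), (nat_lit 2), (nat_lit 2), (nat_lit 0), (nat_lit 1), (nat_lit 1), (nat_lit 2)],
  [(nat_lit 0), (nat_lit 1), (nat_lit 1), (nat_lit 2), (nat_lit 2), (nat_lit 0), (nat_lit 1), (nat_lit 2)],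
  [(nat_lit 2), (nat_lit 0), (nat_lit 2), (nat_lit 2)],
  []]
noncomputable def AP_lT_h (c : ℕ) : ℕ := Nat.mod c (nat_lit 7222)
noncomputable def AP_lT_T : ST := (.node (nat_lit 0x5cdb6ce1f1eb09ea1b48dfefc70a0991ea550c20) (.node (nat_lit 0x30bacbc73adf172193136a9f63a3ce827f4a9420) (.node (nat_lit 0x222fc6eb787d8554ce26ec32c2ae43fb947f5020) (.node (nat_lit 0x19dbaef1f8cd9c692594b8b715157e2427f45420) (.node (nat_lit 0x11bacbc73cdea6a192cb6c9f83a3d4a97ee82420) (.node (nat_lit 0x11b31bb3bcdea723930b7a9b61a3d4827eea9420) (.node (nat_lit 0x11b2cdc7bcbe9723a2d36a9f8193ce817f4aa420) (.leaf (nat_lit 0x11b2cbc7badf16a1a3137c9b6393f4817ceaa420)) (.leaf (nat_lit 0x11b2cdc7bcbe9723a2d36a9f8193ce817f4aa420))) (.node (nat_lit 0x11b31db3babf26a192cb6c9f83a3ee827d4a9420) (.leaf (nat_lit 0x11b31bb3bcdea723930b7a9b61a3d4827eea9420)) (.leaf (nat_lit 0x11b31db3babf26a192cb6c9f83a3ee827d4a9420))))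 (.node (nat_lit 0x11bb1bb33adf1723a2d36a9f8193f4aa7ce81420) (.node (nat_lit 0x11bacdc73abf2723930b7a9b61a3eea97d482420) (.leaf (nat_lit 0x11bacbc73cdea6a192cb6c9f83a3d4a97ee82420)) (.leaf (nat_lit 0x11bacdc73abf2723930b7a9b61a3eea97d482420))) (.node (nat_lit 0x11bb1db33cbe96a1a3137c9b6393ceaa7f481420) (.leaf (nat_lit 0x11bb1bb33adf1723a2d36a9f8193f4aa7ce81420)) (.node (nat_lit 0x19dbacf1f6ee1c252634d9aec9167f2417e45420) (.leaf (nat_lit 0x11bb1db33cbe96a1a3137c9b6393ceaa7f481420)) (.leaf (nat_lit 0x19dbacf1f6ee1c252634d9aec9167f2417e45420)))))) (.node (nat_lit 0x19dfaef1b6ce2869162ed8aec5267e4417f25420) (.node (nat_lit 0x19dbcee9f6ce2825158eb9b719267e2557f44020) (.node (nat_lit 0x19dbcce9f8eda869162ed8aec5257f2567e44020) (.leaf (nat_lit 0x19dbaef1f8cd9c692594b8b715157e2427f45420)) (.leaf (nat_lit 0x19dbcce9f8eda869162ed8aec5257f2567e44020))) (.node (nat_lit 0x19dfacf1b8eda825158eb9b719257f4427e25420)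 (.leaf (nat_lit 0x19dbcee9f6ce2825158eb9b719267e2557f44020)) (.leaf (nat_lit 0x19dfacf1b8eda825158eb9b719257f4427e25420)))) (.node (nat_lit 0x19dfcee9b8cd9c252634d9aec9157e4567f24020) (.node (nat_lit 0x19dfcce9b6ee1c692594b8b715167f4557e24020) (.leaf (nat_lit 0x19dfaef1b6ce2869162ed8aec5267e4417f25420)) (.leaf (nat_lit 0x19dfcce9b6ee1c692594b8b715167f4557e24020))) (.node (nat_lit 0x222fa6f3767e0d02ae22ed72c4cd43fd247f3820) (.leaf (nat_lit 0x19dfcee9b8cd9c252634d9aec9157e4567f24020)) (.node (nat_lit 0x222fa7f3786d8d54ad82cc3b12ce47fd143f3820) (.leaf (nat_lit 0x222fa6f3767e0d02ae22ed72c4cd43fd247f3820)) (.leaf (nat_lit 0x222fa7f3786d8d54ad82cc3b12ce47fd143f3820))))))) (.node (nat_lit 0x2a738ddbacbc464853476a1fcab8529f8ca5fc20) (.node (nat_lit 0x2237c6eaf67e0d54ad82cc3b12cd43f3a47fd020) (.node (nat_lit 0x2237a6f2f87d8502cd86cd7b14ae43f5147fb820) (.node (nat_lit 0x222fc7eb766e0502cd86cd7b14ad47fba43f5020)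 (.leaf (nat_lit 0x222fc6eb787d8554ce26ec32c2ae43fb947f5020)) (.leaf (nat_lit 0x222fc7eb766e0502cd86cd7b14ad47fba43f5020))) (.node (nat_lit 0x2237a7f2f66e0554ce26ec32c2ad47f5243fb820) (.leaf (nat_lit 0x2237a6f2f87d8502cd86cd7b14ae43f5147fb820)) (.leaf (nat_lit 0x2237a7f2f66e0554ce26ec32c2ad47f5243fb820)))) (.node (nat_lit 0x2a736be3acdc4e483b837a1baad04a9fcd25f820) (.node (nat_lit 0x2237c7eaf86d8d02ae22ed72c4ce47f3943fd020) (.leaf (nat_lit 0x2237c6eaf67e0d54ad82cc3b12cd43f3a47fd020)) (.leaf (nat_lit 0x2237c7eaf86d8d02ae22ed72c4ce47f3943fd020))) (.node (nat_lit 0x2a736de3b1bb0e8abb43691fc850d29fc4a5f820) (.leaf (nat_lit 0x2a736be3acdc4e483b837a1baad04a9fcd25f820)) (.node (nat_lit 0x2a738bdbb1db068ad387791ba838ca9f8525fc20) (.leaf (nat_lit 0x2a736de3b1bb0e8abb43691fc850d29fc4a5f820)) (.leaf (nat_lit 0x2a738bdbb1db068ad387791ba838ca9f8525fc20)))))) (.node (nat_lit 0x2a7b8ddb31bb0e483b837a1baad0d25f84a9fc20)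 (.node (nat_lit 0x2a7b6de32cbc468ad387791ba838525fcca9f820) (.node (nat_lit 0x2a7b6be331db064853476a1fcab8ca5fc529f820) (.leaf (nat_lit 0x2a738ddbacbc464853476a1fcab8529f8ca5fc20)) (.leaf (nat_lit 0x2a7b6be331db064853476a1fcab8ca5fc529f820))) (.node (nat_lit 0x2a7b8bdb2cdc4e8abb43691fc8504a5f8d29fc20) (.leaf (nat_lit 0x2a7b6de32cbc468ad387791ba838525fcca9f820)) (.leaf (nat_lit 0x2a7b8bdb2cdc4e8abb43691fc8504a5f8d29fc20)))) (.node (nat_lit 0x30b2cdc7babf26a3a30b6c9f6193d4aa7ee81420) (.node (nat_lit 0x30b2cbc7bcdea721a2cb7a9b8393eeaa7d481420) (.leaf (nat_lit 0x2a7b8ddb31bb0e483b837a1baad0d25f84a9fc20)) (.leaf (nat_lit 0x30b2cbc7bcdea721a2cb7a9b8393eeaa7d481420))) (.node (nat_lit 0x30b31bb3badf16a392d37c9b81a3cea97f482420) (.leaf (nat_lit 0x30b2cdc7babf26a3a30b6c9f6193d4aa7ee81420)) (.node (nat_lit 0x30b31db3bcbe972193136a9f63a3f4a97ce82420) (.leaf (nat_lit 0x30b31bb3badf16a392d37c9b81a3cea97f482420))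 (.leaf (nat_lit 0x30b31db3bcbe972193136a9f63a3f4a97ce82420)))))))) (.node (nat_lit 0x4137c6eaf87d8504ae26cd7ac2cd47fd243f3820) (.node (nat_lit 0x38dfaef1b8cd9c291594d9af15267f2557e44020) (.node (nat_lit 0x38dbacf1f8eda865258ed8af19167e4557f24020) (.node (nat_lit 0x30bb1bb33cdea6a3a30b6c9f6193ee817d4aa420) (.node (nat_lit 0x30bacdc73cbe96a392d37c9b81a3f4827cea9420) (.leaf (nat_lit 0x30bacbc73adf172193136a9f63a3ce827f4a9420)) (.leaf (nat_lit 0x30bacdc73cbe96a392d37c9b81a3f4827cea9420))) (.node (nat_lit 0x30bb1db33abf2721a2cb7a9b8393d4817eeaa420) (.leaf (nat_lit 0x30bb1bb33cdea6a3a30b6c9f6193ee817d4aa420)) (.leaf (nat_lit 0x30bb1db33abf2721a2cb7a9b8393d4817eeaa420)))) (.node (nat_lit 0x38dbcce9f6ee1c291594d9af15257e4427f25420) (.node (nat_lit 0x38dbaef1f6ce2829262eb9b6c5157f4567e24020) (.leaf (nat_lit 0x38dbacf1f8eda865258ed8af19167e4557f24020)) (.leaf (nat_lit 0x38dbaef1f6ce2829262eb9b6c5157f4567e24020)))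 (.node (nat_lit 0x38dbcee9f8cd9c651634b8b6c9267f4417e25420) (.leaf (nat_lit 0x38dbcce9f6ee1c291594d9af15257e4427f25420)) (.node (nat_lit 0x38dfacf1b6ee1c651634b8b6c9257e2567f44020) (.leaf (nat_lit 0x38dbcee9f8cd9c651634b8b6c9267f4417e25420)) (.leaf (nat_lit 0x38dfacf1b6ee1c651634b8b6c9257e2567f44020)))))) (.node (nat_lit 0x412fa7f3766e0504ae26cd7ac2ce43f3947fd020) (.node (nat_lit 0x38dfcee9b6ce2865258ed8af19157f2427e45420) (.node (nat_lit 0x38dfcce9b8eda829262eb9b6c5167e2417f45420) (.leaf (nat_lit 0x38dfaef1b8cd9c291594d9af15267f2557e44020)) (.leaf (nat_lit 0x38dfcce9b8eda829262eb9b6c5167e2417f45420))) (.node (nat_lit 0x412fa6f3787d8552ad86ec3314cd47f3a43fd020) (.leaf (nat_lit 0x38dfcee9b6ce2865258ed8af19157f2427e45420)) (.leaf (nat_lit 0x412fa6f3787d8552ad86ec3314cd47f3a43fd020)))) (.node (nat_lit 0x412fc7eb786d8d52ce22cc3ac4ad43f5247fb820) (.node (nat_lit 0x412fc6eb767e0d04cd82ed7312ae47f5143fb820)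 (.leaf (nat_lit 0x412fa7f3766e0504ae26cd7ac2ce43f3947fd020)) (.leaf (nat_lit 0x412fc6eb767e0d04cd82ed7312ae47f5143fb820))) (.node (nat_lit 0x4137a6f2f67e0d52ce22cc3ac4ae47fb943f5020) (.leaf (nat_lit 0x412fc7eb786d8d52ce22cc3ac4ad43f5247fb820)) (.node (nat_lit 0x4137a7f2f86d8d04cd82ed7312ad43fba47f5020) (.leaf (nat_lit 0x4137a6f2f67e0d52ce22cc3ac4ae47fb943f5020)) (.leaf (nat_lit 0x4137a7f2f86d8d04cd82ed7312ad43fba47f5020))))))) (.node (nat_lit 0x497b8ddb2cbc46883b47791bcad0ca9fc525f820) (.node (nat_lit 0x49738bdbacdc4e4ad3437a1bc838d25fc4a9f820) (.node (nat_lit 0x49736be3b1db06883b47791bcad0525f8ca9fc20) (.node (nat_lit 0x4137c7eaf66e0552ad86ec3314ce43fd147f3820) (.leaf (nat_lit 0x4137c6eaf87d8504ae26cd7ac2cd47fd243f3820)) (.leaf (nat_lit 0x4137c7eaf66e0552ad86ec3314ce43fd147f3820))) (.node (nat_lit 0x49736de3acbc464abb876a1fa850ca5f8529fc20) (.leaf (nat_lit 0x49736be3b1db06883b47791bcad0525f8ca9fc20))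 (.leaf (nat_lit 0x49736de3acbc464abb876a1fa850ca5f8529fc20)))) (.node (nat_lit 0x497b6be32cdc4e885383691faab8d29f84a5fc20) (.node (nat_lit 0x49738ddbb1bb0e885383691faab84a5fcd29f820) (.leaf (nat_lit 0x49738bdbacdc4e4ad3437a1bc838d25fc4a9f820)) (.leaf (nat_lit 0x49738ddbb1bb0e885383691faab84a5fcd29f820))) (.node (nat_lit 0x497b6de331bb0e4ad3437a1bc8384a9f8d25fc20) (.leaf (nat_lit 0x497b6be32cdc4e885383691faab8d29f84a5fc20)) (.node (nat_lit 0x497b8bdb31db064abb876a1fa850529fcca5f820) (.leaf (nat_lit 0x497b6de331bb0e4ad3437a1bc8384a9f8d25fc20)) (.leaf (nat_lit 0x497b8bdb31db064abb876a1fa850529fcca5f820)))))) (.node (nat_lit 0x54af87db6c6c7e31435ec9fbc3568b2a1d349020) (.node (nat_lit 0x54af67e3716b3c73575fc8fbc141cb292934a020) (.node (nat_lit 0x54af66e36c7c7c31579fe9f3a34293291cb4a020) (.leaf (nat_lit 0x497b8ddb2cbc46883b47791bcad0ca9fc525f820)) (.leaf (nat_lit 0x54af66e36c7c7c31579fe9f3a34293291cb4a020)))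 (.node (nat_lit 0x54af86db717b3e73439ee8f3a155d32a28b49020) (.leaf (nat_lit 0x54af67e3716b3c73575fc8fbc141cb292934a020)) (.leaf (nat_lit 0x54af86db717b3e73439ee8f3a155d32a28b49020)))) (.node (nat_lit 0x54b767e2ec6c7e73439ee8f3a1568b491d32a020) (.node (nat_lit 0x54b766e2f17b3e31435ec9fbc355d34928b2a020) (.leaf (nat_lit 0x54af87db6c6c7e31435ec9fbc3568b2a1d349020)) (.leaf (nat_lit 0x54b766e2f17b3e31435ec9fbc355d34928b2a020))) (.node (nat_lit 0x54b786daec7c7c73575fc8fbc142934a1cb29020) (.leaf (nat_lit 0x54b767e2ec6c7e73439ee8f3a1568b491d32a020)) (.node (nat_lit 0x54b787daf16b3c31579fe9f3a341cb4a29329020) (.leaf (nat_lit 0x54b786daec7c7c73575fc8fbc142934a1cb29020)) (.leaf (nat_lit 0x54b787daf16b3c31579fe9f3a341cb4a29329020))))))))) (.node (nat_lit 0x9adf6ce1b1eb09fa0b48bfb7c71aa590e0951c20) (.node (nat_lit 0x855b1cb1fcee94947f12d96f6278e2a2c6674c20) (.node (nat_lit 0x752ec7c77a6f0b3f1f09cafb6f8d103489512820)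 (.node (nat_lit 0x5cdf6ce1acec51ea0b84bff7a71aa951e0590c20) (.node (nat_lit 0x5cdb8cd9ecec51f70b44dfafca1aa990e0551c20) (.node (nat_lit 0x5cdb6ee1eccc49f71b88bfb7aa0aa591e0950c20) (.leaf (nat_lit 0x5cdb6ce1f1eb09ea1b48dfefc70a0991ea550c20)) (.leaf (nat_lit 0x5cdb6ee1eccc49f71b88bfb7aa0aa591e0950c20))) (.node (nat_lit 0x5cdb8ed9f1cb11ea0b84bff7a71a0590ea951c20) (.leaf (nat_lit 0x5cdb8cd9ecec51f70b44dfafca1aa990e0551c20)) (.leaf (nat_lit 0x5cdb8ed9f1cb11ea0b84bff7a71a0590ea951c20)))) (.node (nat_lit 0x5cdf8cd9b1eb09f71b88bfb7aa0a0950ea591c20) (.node (nat_lit 0x5cdf6ee1b1cb11f70b44dfafca1a0551ea990c20) (.leaf (nat_lit 0x5cdf6ce1acec51ea0b84bff7a71aa951e0590c20)) (.leaf (nat_lit 0x5cdf6ee1b1cb11f70b44dfafca1a0551ea990c20))) (.node (nat_lit 0x5cdf8ed9accc49ea1b48dfefc70aa550e0991c20) (.leaf (nat_lit 0x5cdf8cd9b1eb09f71b88bfb7aa0a0950ea591c20)) (.node (nat_lit 0x752ec6c77c7e8abf9ec9ecf38f0c953491012820)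 (.leaf (nat_lit 0x5cdf8ed9accc49ea1b48dfefc70aa550e0991c20)) (.leaf (nat_lit 0x752ec6c77c7e8abf9ec9ecf38f0c953491012820)))))) (.node (nat_lit 0x7536c7c6fc6e933f0ec5eaf38f9c901491532820) (.node (nat_lit 0x752f17b37c6e92bf8f05ccfb6f1c903291514820) (.node (nat_lit 0x752f16b37a7f133f0ec5eaf38f9d153289014820) (.leaf (nat_lit 0x752ec7c77a6f0b3f1f09cafb6f8d103489512820)) (.leaf (nat_lit 0x752f16b37a7f133f0ec5eaf38f9d153289014820))) (.node (nat_lit 0x7536c6c6fa7f12bf8f05ccfb6f1d151489032820) (.leaf (nat_lit 0x752f17b37c6e92bf8f05ccfb6f1c903291514820)) (.leaf (nat_lit 0x7536c6c6fa7f12bf8f05ccfb6f1d151489032820)))) (.node (nat_lit 0x753717b2fa6f0abf9ec9ecf38f0d101289534820) (.node (nat_lit 0x753716b2fc7e8b3f1f09cafb6f8c951291034820) (.leaf (nat_lit 0x7536c7c6fc6e933f0ec5eaf38f9c901491532820)) (.leaf (nat_lit 0x753716b2fc7e8b3f1f09cafb6f8c951291034820))) (.node (nat_lit 0x855accc5faef24527b0ada6f647c62a4ce672c20)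 (.leaf (nat_lit 0x753717b2fa6f0abf9ec9ecf38f0d101289534820)) (.node (nat_lit 0x855acec5fccea4947acab977827ce6a4c6272c20) (.leaf (nat_lit 0x855accc5faef24527b0ada6f647c62a4ce672c20)) (.leaf (nat_lit 0x855acec5fccea4947acab977827ce6a4c6272c20))))))) (.node (nat_lit 0x92af87db716b3c71439fc8fba35693491cb2a020) (.node (nat_lit 0x855f1cb1baef24947acab977827c6272ce6a4c20) (.node (nat_lit 0x855eccc5bcee94527ed2ba778478e274c66a2c20) (.node (nat_lit 0x855b1eb1facf14527ed2ba77847866a2ce274c20) (.leaf (nat_lit 0x855b1cb1fcee94947f12d96f6278e2a2c6674c20)) (.leaf (nat_lit 0x855b1eb1facf14527ed2ba77847866a2ce274c20))) (.node (nat_lit 0x855ecec5bacf14947f12d96f62786674ce2a2c20) (.leaf (nat_lit 0x855eccc5bcee94527ed2ba778478e274c66a2c20)) (.leaf (nat_lit 0x855ecec5bacf14947f12d96f62786674ce2a2c20)))) (.node (nat_lit 0x92af66e3717b3e71575ee8f3c3428b4a1d329020) (.node (nat_lit 0x855f1eb1bccea4527b0ada6f647ce672c62a4c20)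 (.leaf (nat_lit 0x855f1cb1baef24947acab977827c6272ce6a4c20)) (.leaf (nat_lit 0x855f1eb1bccea4527b0ada6f647ce672c62a4c20))) (.node (nat_lit 0x92af67e36c6c7e33579ec9fba141d34a28b29020) (.leaf (nat_lit 0x92af66e3717b3e71575ee8f3c3428b4a1d329020)) (.node (nat_lit 0x92af86db6c7c7c33435fe9f3c155cb492932a020) (.leaf (nat_lit 0x92af67e36c6c7e33579ec9fba141d34a28b29020)) (.leaf (nat_lit 0x92af86db6c7c7c33435fe9f3c155cb492932a020)))))) (.node (nat_lit 0x92b787daec6c7e71575ee8f3c341d32928b4a020) (.node (nat_lit 0x92b767e2f16b3c33435fe9f3c156932a1cb49020) (.node (nat_lit 0x92b766e2ec7c7c71439fc8fba355cb2a29349020) (.leaf (nat_lit 0x92af87db716b3c71439fc8fba35693491cb2a020)) (.leaf (nat_lit 0x92b766e2ec7c7c71439fc8fba355cb2a29349020))) (.node (nat_lit 0x92b786daf17b3e33579ec9fba1428b291d34a020) (.leaf (nat_lit 0x92b767e2f16b3c33435fe9f3c156932a1cb49020)) (.leaf (nat_lit 0x92b786daf17b3e33579ec9fba1428b291d34a020))))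 (.node (nat_lit 0x9adb6ee1f1cb11e71b44bff7ca0aa950e0591c20) (.node (nat_lit 0x9adb6ce1ecec51fa1b84dfafa70a0550ea991c20) (.leaf (nat_lit 0x92b787daec6c7e71575ee8f3c341d32928b4a020)) (.leaf (nat_lit 0x9adb6ce1ecec51fa1b84dfafa70a0550ea991c20))) (.node (nat_lit 0x9adb8cd9f1eb09e70b88dfefaa1aa551e0990c20) (.leaf (nat_lit 0x9adb6ee1f1cb11e71b44bff7ca0aa950e0591c20)) (.node (nat_lit 0x9adb8ed9eccc49fa0b48bfb7c71a0951ea590c20) (.leaf (nat_lit 0x9adb8cd9f1eb09e70b88dfefaa1aa551e0990c20)) (.leaf (nat_lit 0x9adb8ed9eccc49fa0b48bfb7c71a0951ea590c20)))))))) (.node (nat_lit 0xac1f1cb1bcee94547b12ba77627c66a4ce272c20) (.node (nat_lit 0xa3b6c7c6fa6f0abf0f09ecf36f9c953291014820) (.node (nat_lit 0xa3aec6c77a7f133f9f05eaf36f0c901291534820) (.node (nat_lit 0x9adf8cd9acec51e71b44bff7ca0a0591ea950c20) (.node (nat_lit 0x9adf6ee1accc49e70b88dfefaa1a0990ea551c20) (.leaf (nat_lit 0x9adf6ce1b1eb09fa0b48bfb7c71aa590e0951c20))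 (.leaf (nat_lit 0x9adf6ee1accc49e70b88dfefaa1a0990ea551c20))) (.node (nat_lit 0x9adf8ed9b1cb11fa1b84dfafa70aa991e0550c20) (.leaf (nat_lit 0x9adf8cd9acec51e71b44bff7ca0a0591ea950c20)) (.leaf (nat_lit 0x9adf8ed9b1cb11fa1b84dfafa70aa991e0550c20)))) (.node (nat_lit 0xa3af16b37c7e8abf0f09ecf36f9d101489532820) (.node (nat_lit 0xa3aec7c77c6e92bf1ec5ccfb8f8d151289034820) (.leaf (nat_lit 0xa3aec6c77a7f133f9f05eaf36f0c901291534820)) (.leaf (nat_lit 0xa3aec7c77c6e92bf1ec5ccfb8f8d151289034820))) (.node (nat_lit 0xa3af17b37a6f0b3f8ec9cafb8f1c951491032820) (.leaf (nat_lit 0xa3af16b37c7e8abf0f09ecf36f9d101489532820)) (.node (nat_lit 0xa3b6c6c6fc7e8b3f8ec9cafb8f1d103289514820) (.leaf (nat_lit 0xa3af17b37a6f0b3f8ec9cafb8f1c951491032820)) (.leaf (nat_lit 0xa3b6c6c6fc7e8b3f8ec9cafb8f1d103289514820)))))) (.node (nat_lit 0xac1acec5facf14547b12ba77627ce272c66a4c20) (.node (nat_lit 0xa3b717b2fc6e933f9f05eaf36f0d153489012820)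 (.node (nat_lit 0xa3b716b2fa7f12bf1ec5ccfb8f8c903491512820) (.leaf (nat_lit 0xa3b6c7c6fa6f0abf0f09ecf36f9c953291014820)) (.leaf (nat_lit 0xa3b716b2fa7f12bf1ec5ccfb8f8c903491512820))) (.node (nat_lit 0xac1accc5fcee94927ad2d96f847c6672ce2a4c20) (.leaf (nat_lit 0xa3b717b2fc6e933f9f05eaf36f0d153489012820)) (.leaf (nat_lit 0xac1accc5fcee94927ad2d96f847c6672ce2a4c20)))) (.node (nat_lit 0xac1b1eb1fccea4927f0ab97764786274ce6a2c20) (.node (nat_lit 0xac1b1cb1faef24547ecada6f8278e674c62a2c20) (.leaf (nat_lit 0xac1acec5facf14547b12ba77627ce272c66a4c20)) (.leaf (nat_lit 0xac1b1cb1faef24547ecada6f8278e674c62a2c20))) (.node (nat_lit 0xac1eccc5baef24927f0ab9776478e6a2c6274c20) (.leaf (nat_lit 0xac1b1eb1fccea4927f0ab97764786274ce6a2c20)) (.node (nat_lit 0xac1ecec5bccea4547ecada6f827862a2ce674c20) (.leaf (nat_lit 0xac1eccc5baef24927f0ab9776478e6a2c6274c20)) (.leaf (nat_lit 0xac1ecec5bccea4547ecada6f827862a2ce674c20)))))))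 (.node (nat_lit 0xf7fbcdeb36be20e9c9957d1b15a924188a839820) (.node (nat_lit 0xf7f3cbebb6de2b45a9907b9b19c928388a419820) (.node (nat_lit 0xf7f3abf3b8dda0e9c9957d1b15a8a83992418820) (.node (nat_lit 0xac1f1eb1bacf14927ad2d96f847ce2a4c6672c20) (.leaf (nat_lit 0xac1f1cb1bcee94547b12ba77627c66a4ce272c20)) (.leaf (nat_lit 0xac1f1eb1bacf14927ad2d96f847ce2a4c6672c20))) (.node (nat_lit 0xf7f3adf3b6be2145ca356b9ec9a924398a818820) (.leaf (nat_lit 0xf7f3abf3b8dda0e9c9957d1b15a8a83992418820)) (.leaf (nat_lit 0xf7f3adf3b6be2145ca356b9ec9a924398a818820)))) (.node (nat_lit 0xf7fbabf336de2ae9aa306d1ec5c928198a438820) (.node (nat_lit 0xf7f3cdebb8bdaae9aa306d1ec5c8a43892819820) (.leaf (nat_lit 0xf7f3cbebb6de2b45a9907b9b19c928388a419820)) (.leaf (nat_lit 0xf7f3cdebb8bdaae9aa306d1ec5c8a43892819820))) (.node (nat_lit 0xf7fbadf338bdab45a9907b9b19c8a41992838820) (.leaf (nat_lit 0xf7fbabf336de2ae9aa306d1ec5c928198a438820))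 (.node (nat_lit 0xf7fbcbeb38dda145ca356b9ec9a8a81892439820) (.leaf (nat_lit 0xf7fbadf338bdab45a9907b9b19c8a41992838820)) (.leaf (nat_lit 0xf7fbcbeb38dda145ca356b9ec9a8a81892439820)))))) (.node (nat_lit 0xffb3cdebb6be2149a9956b9f15c8a81992438820) (.node (nat_lit 0xffb3adf3b8bdaae5c9906d1f19a928188a439820) (.node (nat_lit 0xffb3abf3b6de2b49ca307b9ac5a8a41892839820) (.leaf (nat_lit 0xf7fbcdeb36be20e9c9957d1b15a924188a839820)) (.leaf (nat_lit 0xffb3abf3b6de2b49ca307b9ac5a8a41892839820))) (.node (nat_lit 0xffb3cbebb8dda0e5aa357d1ac9c924198a838820) (.leaf (nat_lit 0xffb3adf3b8bdaae5c9906d1f19a928188a439820)) (.leaf (nat_lit 0xffb3cbebb8dda0e5aa357d1ac9c924198a838820)))) (.node (nat_lit 0xffbbadf336be20e5aa357d1ac9c8a83892419820) (.node (nat_lit 0xffbbabf338dda149a9956b9f15c924388a819820) (.leaf (nat_lit 0xffb3cdebb6be2149a9956b9f15c8a81992438820)) (.leaf (nat_lit 0xffbbabf338dda149a9956b9f15c924388a819820)))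 (.node (nat_lit 0xffbbcbeb36de2ae5c9906d1f19a8a43992818820) (.leaf (nat_lit 0xffbbadf336be20e5aa357d1ac9c8a83892419820)) (.node (nat_lit 0xffbbcdeb38bdab49ca307b9ac5a928398a418820) (.leaf (nat_lit 0xffbbcbeb36de2ae5c9906d1f19a8a43992818820)) (.leaf (nat_lit 0xffbbcdeb38bdab49ca307b9ac5a928398a418820))))))))))
theorem AP_lT_E {G : Type*} [Group G] {R : ℕ → G → Prop} {z u v a b i j k l x y r s t : G}
    (M : Md0 AP_o AP_cs R [z, u, v, a, b, i, j, k, l, x, y, r, s, t]) :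
    EnumS R AP_lT (sp [i, x, y]) :=
  enumS_tree M.μ.1 (M.reps.tms M.μ.1 [(.v (nat_lit 5)), (.v (nat_lit 9)), (.v (nat_lit 10))] (cs' := [(nat_lit 0xf7f3abf3b8dda0e9c9957d1b15a8a83992418820), (nat_lit 0x54b786daec7c7c73575fc8fbc142934a1cb29020), (nat_lit 0x9adb8ed9eccc49fa0b48bfb7c71a0951ea590c20)]) (by decide +kernel))
    (Ws := AP_lT_W) (T := AP_lT_T) (by decide +kernel) (by decide +kernel)
theorem AP_lT_c {G : Type*} [Group G] {R : ℕ → G → Prop} {z u v a b i j k l x y r s t : G}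
    (M : Md0 AP_o AP_cs R [z, u, v, a, b, i, j, k, l, x, y, r, s, t]) :
    #(sp [i, x, y]) = 144 :=
  (AP_lT_E M).card M.μ (h := AP_lT_h) (by decide +kernel)
noncomputable def AP_lKL : List ℕ := [(nat_lit 0x11b2cbc7badf16a1a3137c9b6393f4817ceaa420), (nat_lit 0x11b2cdc7bcbe9723a2d36a9f8193ce817f4aa420), (nat_lit 0x11b31bb3bcdea723930b7a9b61a3d4827eea9420), (nat_lit 0x11b31db3babf26a192cb6c9f83a3ee827d4a9420), (nat_lit 0x11b5766f998f50a1ada4b4b0f3cea9f3a05fd020), (nat_lit 0x11b578ef9d665123ade4c2acd1ce05f3aa9fd020), (nat_lit 0x11b5b65f9d8e4923cda8b2b0f1ae09f52a5fb820), (nat_lit 0x11b5b8df996748a1cde8c4acd3aea5f5209fb820), (nat_lit 0x11b9766f5d8e48a1cde8c4acd3ae09fbaa5f5020), (nat_lit 0x11b978ef59674923cda8b2b0f1aea5fba09f5020), (nat_lit 0x11b9b65f598f5123ade4c2acd1cea9fd205f3820), (nat_lit 0x11b9b8df5d6650a1ada4b4b0f3ce05fd2a9f3820), (nat_lit 0x11bacbc73cdea6a192cb6c9f83a3d4a97ee82420),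 (nat_lit 0x11bacdc73abf2723930b7a9b61a3eea97d482420), (nat_lit 0x11bb1bb33adf1723a2d36a9f8193f4aa7ce81420), (nat_lit 0x11bb1db33cbe96a1a3137c9b6393ceaa7f481420), (nat_lit 0x19dbacf1f6ee1c252634d9aec9167f2417e45420), (nat_lit 0x19dbaef1f8cd9c692594b8b715157e2427f45420), (nat_lit 0x19dbcce9f8eda869162ed8aec5257f2567e44020), (nat_lit 0x19dbcee9f6ce2825158eb9b719267e2557f44020), (nat_lit 0x19dfacf1b8eda825158eb9b719257f4427e25420), (nat_lit 0x19dfaef1b6ce2869162ed8aec5267e4417f25420), (nat_lit 0x19dfcce9b6ee1c692594b8b715167f4557e24020), (nat_lit 0x19dfcee9b8cd9c252634d9aec9157e4567f24020), (nat_lit 0x19ed9d770de3d2253ae561a3b951155f8909fc20), (nat_lit 0x19ed9e770fd352693b6588997550905f9159fc20), (nat_lit 0x19eddd670fe34a6952e960a3b538955fd109f820), (nat_lit 0x19edde670dd3ca25536989997939105fc959f820), (nat_lit 0x19f19d76cfe34a25536989997938959f9105fc20), (nat_lit 0x19f19e76cdd3ca6952e960a3b539109f8955fc20),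 (nat_lit 0x19f1dd66cde3d2693b6588997551159fc905f820), (nat_lit 0x19f1de66cfd352253ae561a3b950909fd155f820), (nat_lit 0x222cdd3f17e6d7029b336563d48bce91ff450c20), (nat_lit 0x222cde3f1bd5d7549bb38c19928bf491fce50c20), (nat_lit 0x222cfd371be5e7548b2b6423d29bee90fd451c20), (nat_lit 0x222cfe3717d6e7028bab8d59949bd490fee51c20), (nat_lit 0x222fa6f3767e0d02ae22ed72c4cd43fd247f3820), (nat_lit 0x222fa7f3786d8d54ad82cc3b12ce47fd143f3820), (nat_lit 0x222fc6eb787d8554ce26ec32c2ae43fb947f5020), (nat_lit 0x222fc7eb766e0502cd86cd7b14ad47fba43f5020), (nat_lit 0x2230dd3edbe5e7028bab8d59949bee51fd490c20), (nat_lit 0x2230de3ed7d6e7548b2b6423d29bd451fee90c20), (nat_lit 0x2230fd36d7e6d7549bb38c19928bce50ff491c20), (nat_lit 0x2230fe36dbd5d7029b336563d48bf450fce91c20), (nat_lit 0x2237a6f2f87d8502cd86cd7b14ae43f5147fb820), (nat_lit 0x2237a7f2f66e0554ce26ec32c2ad47f5243fb820), (nat_lit 0x2237c6eaf67e0d54ad82cc3b12cd43f3a47fd020),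 (nat_lit 0x2237c7eaf86d8d02ae22ed72c4ce47f3943fd020), (nat_lit 0x2a597b6e39c75c481db4d238fa8d7e34a7f12820), (nat_lit 0x2a597c6e3db65c8a9df4e134d80e7f3497e12820), (nat_lit 0x2a59bb5e3dc6688a8daed138f81e7e3297f14820), (nat_lit 0x2a59bc5e39b768480deee234da9d7f32a7e14820), (nat_lit 0x2a637b6d9dc668480deee234da9e7e1497f32820), (nat_lit 0x2a637c6d99b7688a8daed138f81d7f14a7e32820), (nat_lit 0x2a63bb5d99c75c8a9df4e134d80d7e12a7f34820), (nat_lit 0x2a63bc5d9db65c481db4d238fa8e7f1297e34820), (nat_lit 0x2a736be3acdc4e483b837a1baad04a9fcd25f820), (nat_lit 0x2a736de3b1bb0e8abb43691fc850d29fc4a5f820), (nat_lit 0x2a738bdbb1db068ad387791ba838ca9f8525fc20), (nat_lit 0x2a738ddbacbc464853476a1fcab8529f8ca5fc20), (nat_lit 0x2a7b6be331db064853476a1fcab8ca5fc529f820), (nat_lit 0x2a7b6de32cbc468ad387791ba838525fcca9f820), (nat_lit 0x2a7b8bdb2cdc4e8abb43691fc8504a5f8d29fc20), (nat_lit 0x2a7b8ddb31bb0e483b837a1baad0d25f84a9fc20),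 (nat_lit 0x30b2cbc7bcdea721a2cb7a9b8393eeaa7d481420), (nat_lit 0x30b2cdc7babf26a3a30b6c9f6193d4aa7ee81420), (nat_lit 0x30b31bb3badf16a392d37c9b81a3cea97f482420), (nat_lit 0x30b31db3bcbe972193136a9f63a3f4a97ce82420), (nat_lit 0x30b5766f9d8e4921ade8b2b0d3cea5fd209f3820), (nat_lit 0x30b578ef996748a3ada8c4acf1ce09fd2a5f3820), (nat_lit 0x30b5b65f998f50a3cde4b4b0d1ae05fbaa9f5020), (nat_lit 0x30b5b8df9d665121cda4c2acf3aea9fba05f5020), (nat_lit 0x30b9766f598f5121cda4c2acf3ae05f52a9fb820), (nat_lit 0x30b978ef5d6650a3cde4b4b0d1aea9f5205fb820), (nat_lit 0x30b9b65f5d8e48a3ada8c4acf1cea5f3a09fd020), (nat_lit 0x30b9b8df59674921ade8b2b0d3ce09f3aa5fd020), (nat_lit 0x30bacbc73adf172193136a9f63a3ce827f4a9420), (nat_lit 0x30bacdc73cbe96a392d37c9b81a3f4827cea9420), (nat_lit 0x30bb1bb33cdea6a3a30b6c9f6193ee817d4aa420), (nat_lit 0x30bb1db33abf2721a2cb7a9b8393d4817eeaa420), (nat_lit 0x38dbacf1f8eda865258ed8af19167e4557f24020),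 (nat_lit 0x38dbaef1f6ce2829262eb9b6c5157f4567e24020), (nat_lit 0x38dbcce9f6ee1c291594d9af15257e4427f25420), (nat_lit 0x38dbcee9f8cd9c651634b8b6c9267f4417e25420), (nat_lit 0x38dfacf1b6ee1c651634b8b6c9257e2567f44020), (nat_lit 0x38dfaef1b8cd9c291594d9af15267f2557e44020), (nat_lit 0x38dfcce9b8eda829262eb9b6c5167e2417f45420), (nat_lit 0x38dfcee9b6ce2865258ed8af19157f2427e45420), (nat_lit 0x38ed9d770fe34a653b6960a37951109fc955f820), (nat_lit 0x38ed9e770dd3ca293ae98999b550959fd105f820), (nat_lit 0x38eddd670de3d229536561a37538909f9155fc20), (nat_lit 0x38edde670fd3526552e58899b939159f8905fc20), (nat_lit 0x38f19d76cde3d26552e58899b938905fd159f820), (nat_lit 0x38f19e76cfd35229536561a37539155fc909f820), (nat_lit 0x38f1dd66cfe34a293ae98999b551105f8959fc20), (nat_lit 0x38f1de66cdd3ca653b6960a37950955f9109fc20), (nat_lit 0x412cdd3f1be5e7529bab6423948bd450fee91c20), (nat_lit 0x412cde3f17d6e7049b2b8d59d28bee50fd491c20),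 (nat_lit 0x412cfd3717e6d7048bb36563929bf451fce90c20), (nat_lit 0x412cfe371bd5d7528b338c19d49bce51ff490c20), (nat_lit 0x412fa6f3787d8552ad86ec3314cd47f3a43fd020), (nat_lit 0x412fa7f3766e0504ae26cd7ac2ce43f3947fd020), (nat_lit 0x412fc6eb767e0d04cd82ed7312ae47f5143fb820), (nat_lit 0x412fc7eb786d8d52ce22cc3ac4ad43f5247fb820), (nat_lit 0x4130dd3ed7e6d7528b338c19d49bf490fce51c20), (nat_lit 0x4130de3edbd5d7048bb36563929bce90ff451c20), (nat_lit 0x4130fd36dbe5e7049b2b8d59d28bd491fee50c20), (nat_lit 0x4130fe36d7d6e7529bab6423948bee91fd450c20), (nat_lit 0x4137a6f2f67e0d52ce22cc3ac4ae47fb943f5020), (nat_lit 0x4137a7f2f86d8d04cd82ed7312ad43fba47f5020), (nat_lit 0x4137c6eaf87d8504ae26cd7ac2cd47fd243f3820), (nat_lit 0x4137c7eaf66e0552ad86ec3314ce43fd147f3820), (nat_lit 0x49597b6e3dc668881deed138da8d7f12a7e34820), (nat_lit 0x49597c6e39b7684a9daee234f80e7e1297f34820), (nat_lit 0x4959bb5e39c75c4a8df4d238d81e7f1497e32820),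 (nat_lit 0x4959bc5e3db65c880db4e134fa9d7e14a7f32820), (nat_lit 0x49637b6d99c75c880db4e134fa9e7f3297e14820), (nat_lit 0x49637c6d9db65c4a8df4d238d81d7e32a7f14820), (nat_lit 0x4963bb5d9dc6684a9daee234f80d7f34a7e12820), (nat_lit 0x4963bc5d99b768881deed138da8e7e3497f12820), (nat_lit 0x49736be3b1db06883b47791bcad0525f8ca9fc20), (nat_lit 0x49736de3acbc464abb876a1fa850ca5f8529fc20), (nat_lit 0x49738bdbacdc4e4ad3437a1bc838d25fc4a9f820), (nat_lit 0x49738ddbb1bb0e885383691faab84a5fcd29f820), (nat_lit 0x497b6be32cdc4e885383691faab8d29f84a5fc20), (nat_lit 0x497b6de331bb0e4ad3437a1bc8384a9f8d25fc20), (nat_lit 0x497b8bdb31db064abb876a1fa850529fcca5f820), (nat_lit 0x497b8ddb2cbc46883b47791bcad0ca9fc525f820), (nat_lit 0x5498db3e37c6ea317b30d1f9d37d2872ca4a4c20), (nat_lit 0x5498dc3e3bb5ea737bb0e0f5917ca472d28a4c20), (nat_lit 0x5498fb363bc5e0737f35d0f9d178a874d24a2c20), (nat_lit 0x5498fc3637b6e0317fb5e1f593792474ca8a2c20),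 (nat_lit 0x54a2db3d9bc5e0317fb5e1f59378a8a2d2474c20), (nat_lit 0x54a2dc3d97b6e0737f35d0f9d17924a2ca874c20), (nat_lit 0x54a2fb3597c6ea737bb0e0f5917d28a4ca472c20), (nat_lit 0x54a2fc359bb5ea317b30d1f9d37ca4a4d2872c20), (nat_lit 0x54af66e36c7c7c31579fe9f3a34293291cb4a020), (nat_lit 0x54af67e3716b3c73575fc8fbc141cb292934a020), (nat_lit 0x54af86db717b3e73439ee8f3a155d32a28b49020), (nat_lit 0x54af87db6c6c7e31435ec9fbc3568b2a1d349020), (nat_lit 0x54b766e2f17b3e31435ec9fbc355d34928b2a020), (nat_lit 0x54b767e2ec6c7e73439ee8f3a1568b491d32a020), (nat_lit 0x54b786daec7c7c73575fc8fbc142934a1cb29020), (nat_lit 0x54b787daf16b3c31579fe9f3a341cb4a29329020), (nat_lit 0x5cd99b762fc345ea2366d7f977124381547aa420), (nat_lit 0x5cd99c762db3c5f722e6e7b5ba114781643aa420), (nat_lit 0x5cd9db662dc3cdf71362d7b97a214382647a9420), (nat_lit 0x5cd9dc662fb34dea12e2e7f5b7224782543a9420), (nat_lit 0x5cdb6ce1f1eb09ea1b48dfefc70a0991ea550c20),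 (nat_lit 0x5cdb6ee1eccc49f71b88bfb7aa0aa591e0950c20), (nat_lit 0x5cdb8cd9ecec51f70b44dfafca1aa990e0551c20), (nat_lit 0x5cdb8ed9f1cb11ea0b84bff7a71a0590ea951c20), (nat_lit 0x5cdf6ce1acec51ea0b84bff7a71aa951e0590c20), (nat_lit 0x5cdf6ee1b1cb11f70b44dfafca1a0551ea990c20), (nat_lit 0x5cdf8cd9b1eb09f71b88bfb7aa0a0950ea591c20), (nat_lit 0x5cdf8ed9accc49ea1b48dfefc70aa550e0991c20), (nat_lit 0x5ce39b758dc3cdea12e2e7f5b72143a964782420), (nat_lit 0x5ce39c758fb34df71362d7b97a2247a954382420), (nat_lit 0x5ce3db658fc345f722e6e7b5ba1243aa54781420), (nat_lit 0x5ce3dc658db3c5ea2366d7f9771147aa64381420), (nat_lit 0x752ec6c77c7e8abf9ec9ecf38f0c953491012820), (nat_lit 0x752ec7c77a6f0b3f1f09cafb6f8d103489512820), (nat_lit 0x752f16b37a7f133f0ec5eaf38f9d153289014820), (nat_lit 0x752f17b37c6e92bf8f05ccfb6f1c903291514820), (nat_lit 0x7534d63f9b8dc6bfa7a7b4f19f14ca2405245420), (nat_lit 0x7534d8bf9766c73f2727c2eddf9452240ca45420),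 (nat_lit 0x7534f637978ecf3f17a3b2f19fa44a254d244020), (nat_lit 0x7534f8b79b65cebf9723c4eddf24d22544a44020), (nat_lit 0x7536c6c6fa7f12bf8f05ccfb6f1d151489032820), (nat_lit 0x7536c7c6fc6e933f0ec5eaf38f9c901491532820), (nat_lit 0x753716b2fc7e8b3f1f09cafb6f8c951291034820), (nat_lit 0x753717b2fa6f0abf9ec9ecf38f0d101289534820), (nat_lit 0x7538d63f578ecebf9723c4eddf244a440d225420), (nat_lit 0x7538d8bf5b65cf3f17a3b2f19fa4d24404a25420), (nat_lit 0x7538f6375b8dc73f2727c2eddf94ca4545224020), (nat_lit 0x7538f8b75766c6bfa7a7b4f19f1452454ca24020), (nat_lit 0x855accc5faef24527b0ada6f647c62a4ce672c20), (nat_lit 0x855acec5fccea4947acab977827ce6a4c6272c20), (nat_lit 0x855b1cb1fcee94947f12d96f6278e2a2c6674c20), (nat_lit 0x855b1eb1facf14527ed2ba77847866a2ce274c20), (nat_lit 0x855eccc5bcee94527ed2ba778478e274c66a2c20), (nat_lit 0x855ecec5bacf14947f12d96f62786674ce2a2c20), (nat_lit 0x855f1cb1baef24947acab977827c6272ce6a4c20),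 (nat_lit 0x855f1eb1bccea4527b0ada6f647ce672c62a4c20), (nat_lit 0x857596778d8bfc524affb271b429cb39a9318820), (nat_lit 0x857598f78f637c944b7fc16d722a93399cb18820), (nat_lit 0x8575d6678f8b7e942afeb171b24a8b389d319820), (nat_lit 0x8575d8e78d63fe522b7ec26d7449d338a8b19820), (nat_lit 0x857996774f8b7e522b7ec26d744a8b199d338820), (nat_lit 0x857998f74d63fe942afeb171b249d319a8b38820), (nat_lit 0x8579d6674d8bfc944b7fc16d7229cb18a9339820), (nat_lit 0x8579d8e74f637c524affb271b42a93189cb39820), (nat_lit 0x9298db3e3bc5e0717bb5d0f9937d24a4ca872c20), (nat_lit 0x9298dc3e37b6e0337b35e1f5d17ca8a4d2472c20), (nat_lit 0x9298fb3637c6ea337fb0d1f99178a4a2d2874c20), (nat_lit 0x9298fc363bb5ea717f30e0f5d37928a2ca474c20), (nat_lit 0x92a2db3d97c6ea717f30e0f5d378a474d28a2c20), (nat_lit 0x92a2dc3d9bb5ea337fb0d1f991792874ca4a2c20), (nat_lit 0x92a2fb359bc5e0337b35e1f5d17d2472ca8a4c20), (nat_lit 0x92a2fc3597b6e0717bb5d0f9937ca872d24a4c20),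 (nat_lit 0x92af66e3717b3e71575ee8f3c3428b4a1d329020), (nat_lit 0x92af67e36c6c7e33579ec9fba141d34a28b29020), (nat_lit 0x92af86db6c7c7c33435fe9f3c155cb492932a020), (nat_lit 0x92af87db716b3c71439fc8fba35693491cb2a020), (nat_lit 0x92b766e2ec7c7c71439fc8fba355cb2a29349020), (nat_lit 0x92b767e2f16b3c33435fe9f3c156932a1cb49020), (nat_lit 0x92b786daf17b3e33579ec9fba1428b291d34a020), (nat_lit 0x92b787daec6c7e71575ee8f3c341d32928b4a020), (nat_lit 0x9ad99b762dc3cdfa22e2d7b9b71247aa54381420), (nat_lit 0x9ad99c762fb34de72362e7f57a1143aa64781420), (nat_lit 0x9ad9db662fc345e712e6d7f9ba2147a964382420), (nat_lit 0x9ad9dc662db3c5fa1366e7b5772243a954782420), (nat_lit 0x9adb6ce1ecec51fa1b84dfafa70a0550ea991c20), (nat_lit 0x9adb6ee1f1cb11e71b44bff7ca0aa950e0591c20), (nat_lit 0x9adb8cd9f1eb09e70b88dfefaa1aa551e0990c20), (nat_lit 0x9adb8ed9eccc49fa0b48bfb7c71a0951ea590c20), (nat_lit 0x9adf6ce1b1eb09fa0b48bfb7c71aa590e0951c20),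 (nat_lit 0x9adf6ee1accc49e70b88dfefaa1a0990ea551c20), (nat_lit 0x9adf8cd9acec51e71b44bff7ca0a0591ea950c20), (nat_lit 0x9adf8ed9b1cb11fa1b84dfafa70aa991e0550c20), (nat_lit 0x9ae39b758fc345fa1366e7b577214782643a9420), (nat_lit 0x9ae39c758db3c5e712e6d7f9ba224382547a9420), (nat_lit 0x9ae3db658dc3cde72362e7f57a124781543aa420), (nat_lit 0x9ae3dc658fb34dfa22e2d7b9b7114381647aa420), (nat_lit 0xa3aec6c77a7f133f9f05eaf36f0c901291534820), (nat_lit 0xa3aec7c77c6e92bf1ec5ccfb8f8d151289034820), (nat_lit 0xa3af16b37c7e8abf0f09ecf36f9d101489532820), (nat_lit 0xa3af17b37a6f0b3f8ec9cafb8f1c951491032820), (nat_lit 0xa3b4d63f978ecf3fa723b2f1df14d24544a24020), (nat_lit 0xa3b4d8bf9b65cebf27a3c4ed9f944a454d224020), (nat_lit 0xa3b4f6379b8dc6bf1727b4f1dfa452440ca25420), (nat_lit 0xa3b4f8b79766c73f97a7c2ed9f24ca4405225420), (nat_lit 0xa3b6c6c6fc7e8b3f8ec9cafb8f1d103289514820), (nat_lit 0xa3b6c7c6fa6f0abf0f09ecf36f9c953291014820),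 (nat_lit 0xa3b716b2fa7f12bf1ec5ccfb8f8c903491512820), (nat_lit 0xa3b717b2fc6e933f9f05eaf36f0d153489012820), (nat_lit 0xa3b8d63f5b8dc73f97a7c2ed9f2452254ca44020), (nat_lit 0xa3b8d8bf5766c6bf1727b4f1dfa4ca2545244020), (nat_lit 0xa3b8f637578ecebf27a3c4ed9f94d22404a45420), (nat_lit 0xa3b8f8b75b65cf3fa723b2f1df144a240d245420), (nat_lit 0xac1accc5fcee94927ad2d96f847c6672ce2a4c20), (nat_lit 0xac1acec5facf14547b12ba77627ce272c66a4c20), (nat_lit 0xac1b1cb1faef24547ecada6f8278e674c62a2c20), (nat_lit 0xac1b1eb1fccea4927f0ab97764786274ce6a2c20), (nat_lit 0xac1eccc5baef24927f0ab9776478e6a2c6274c20), (nat_lit 0xac1ecec5bccea4547ecada6f827862a2ce674c20), (nat_lit 0xac1f1cb1bcee94547b12ba77627c66a4ce272c20), (nat_lit 0xac1f1eb1bacf14927ad2d96f847ce2a4c6672c20), (nat_lit 0xac3596778f8b7e924b7eb1717429d318a8b39820), (nat_lit 0xac3598f78d63fe544afec26db22a8b189d339820), (nat_lit 0xac35d6678d8bfc542b7fb271724a93199cb38820),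 (nat_lit 0xac35d8e78f637c922affc16db449cb19a9338820), (nat_lit 0xac3996774d8bfc922affc16db44a93389cb19820), (nat_lit 0xac3998f74f637c542b7fb2717249cb38a9319820), (nat_lit 0xac39d6674f8b7e544afec26db229d339a8b18820), (nat_lit 0xac39d8e74d63fe924b7eb171742a8b399d318820), (nat_lit 0xf7ed7d6f1de654e9d5f26522d5c0e2290664a020), (nat_lit 0xf7ed7e6f19d75545d5b28b98f9c066290e24a020), (nat_lit 0xf7edbd5f19e76545c1ea63a2d9d4622a0e649020), (nat_lit 0xf7edbe5f1dd664e9c1aa8d18f5d4e62a06249020), (nat_lit 0xf7f17d6ed9e764e9c1aa8d18f5d462490e62a020), (nat_lit 0xf7f17e6eddd66545c1ea63a2d9d4e6490622a020), (nat_lit 0xf7f1bd5edde65545d5b28b98f9c0e24a06629020), (nat_lit 0xf7f1be5ed9d754e9d5f26522d5c0664a0e229020), (nat_lit 0xf7f3abf3b8dda0e9c9957d1b15a8a83992418820), (nat_lit 0xf7f3adf3b6be2145ca356b9ec9a924398a818820), (nat_lit 0xf7f3cbebb6de2b45a9907b9b19c928388a419820), (nat_lit 0xf7f3cdebb8bdaae9aa306d1ec5c8a43892819820),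 (nat_lit 0xf7fbabf336de2ae9aa306d1ec5c928198a438820), (nat_lit 0xf7fbadf338bdab45a9907b9b19c8a41992838820), (nat_lit 0xf7fbcbeb38dda145ca356b9ec9a8a81892439820), (nat_lit 0xf7fbcdeb36be20e9c9957d1b15a924188a839820), (nat_lit 0xffad7d6f19e76549d5aa63a2f5c0e64a06229020), (nat_lit 0xffad7e6f1dd664e5d5ea8d18d9c0624a0e629020), (nat_lit 0xffadbd5f1de654e5c1b26522f9d466490e22a020), (nat_lit 0xffadbe5f19d75549c1f28b98d5d4e2490662a020), (nat_lit 0xffb17d6edde65549c1f28b98d5d4662a0e249020), (nat_lit 0xffb17e6ed9d754e5c1b26522f9d4e22a06649020), (nat_lit 0xffb1bd5ed9e764e5d5ea8d18d9c0e6290624a020), (nat_lit 0xffb1be5eddd66549d5aa63a2f5c062290e64a020), (nat_lit 0xffb3abf3b6de2b49ca307b9ac5a8a41892839820), (nat_lit 0xffb3adf3b8bdaae5c9906d1f19a928188a439820), (nat_lit 0xffb3cbebb8dda0e5aa357d1ac9c924198a838820), (nat_lit 0xffb3cdebb6be2149a9956b9f15c8a81992438820), (nat_lit 0xffbbabf338dda149a9956b9f15c924388a819820),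 (nat_lit 0xffbbadf336be20e5aa357d1ac9c8a83892419820), (nat_lit 0xffbbcbeb36de2ae5c9906d1f19a8a43992818820), (nat_lit 0xffbbcdeb38bdab49ca307b9ac5a928398a418820)]
noncomputable def AP_lKL_W : List (List ℕ) := [[(nat_lit 1), (nat_lit 1), (nat_lit 0), (nat_lit 2), (nat_lit 0), (nat_lit 1), (nat_lit 1)],
  [(nat_lit 0), (nat_lit 1), (nat_lit 0), (nat_lit 2), (nat_lit 0)],
  [(nat_lit 0), (nat_lit 1), (nat_lit 2)],
  [(nat_lit 0), (nat_lit 2), (nat_lit 0), (nat_lit 1)],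
  [(nat_lit 0), (nat_lit 2), (nat_lit 0), (nat_lit 1), (nat_lit 0), (nat_lit 3)],
  [(nat_lit 0), (nat_lit 1), (nat_lit 2), (nat_lit 0), (nat_lit 3)],
  [(nat_lit 0), (nat_lit 1), (nat_lit 0), (nat_lit 2), (nat_lit 3)],
  [(nat_lit 3), (nat_lit 1), (nat_lit 0), (nat_lit 2), (nat_lit 0), (nat_lit 1), (nat_lit 0)],
  [(nat_lit 3), (nat_lit 1), (nat_lit 0), (nat_lit 2), (nat_lit 0), (nat_lit 1)],
  [(nat_lit 0), (nat_lit 1), (nat_lit 0), (nat_lit 2), (nat_lit 0), (nat_lit 3)],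
  [(nat_lit 0), (nat_lit 1), (nat_lit 2), (nat_lit 3)],
  [(nat_lit 0), (nat_lit 2), (nat_lit 0), (nat_lit 1), (nat_lit 3)],
  [(nat_lit 0), (nat_lit 2), (nat_lit 0), (nat_lit 1), (nat_lit 0)],
  [(nat_lit 0), (nat_lit 1), (nat_lit 2), (nat_lit 0)],
  [(nat_lit 0), (nat_lit 1), (nat_lit 0), (nat_lit 2)],
  [(nat_lit 1), (nat_lit 1), (nat_lit 0), (nat_lit 1), (nat_lit 2), (nat_lit 0), (nat_lit 1)],
  [(nat_lit 0), (nat_lit 1), (nat_lit 0), (nat_lit 2), (nat_lit 2)],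
  [(nat_lit 0), (nat_lit 2), (nat_lit 0), (nat_lit 1), (nat_lit 0), (nat_lit 2), (nat_lit 0)],
  [(nat_lit 0), (nat_lit 2), (nat_lit 0), (nat_lit 1), (nat_lit 0), (nat_lit 2)],
  [(nat_lit 0), (nat_lit 1), (nat_lit 2), (nat_lit 0), (nat_lit 2)],
  [(nat_lit 0), (nat_lit 1), (nat_lit 2), (nat_lit 2)],
  [(nat_lit 2), (nat_lit 2), (nat_lit 0), (nat_lit 1)],
  [(nat_lit 2), (nat_lit 2), (nat_lit 0), (nat_lit 1), (nat_lit 0)],
  [(nat_lit 0), (nat_lit 1), (nat_lit 2), (nat_lit 2), (nat_lit 0)],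
  [(nat_lit 0), (nat_lit 1), (nat_lit 2), (nat_lit 0), (nat_lit 2), (nat_lit 3)],
  [(nat_lit 0), (nat_lit 2), (nat_lit 0), (nat_lit 1), (nat_lit 0), (nat_lit 2), (nat_lit 3)],
  [(nat_lit 0), (nat_lit 2), (nat_lit 0), (nat_lit 1), (nat_lit 0), (nat_lit 2), (nat_lit 0), (nat_lit 3)],
  [(nat_lit 0), (nat_lit 1), (nat_lit 0), (nat_lit 2), (nat_lit 2), (nat_lit 3)],
  [(nat_lit 0), (nat_lit 1), (nat_lit 2), (nat_lit 2), (nat_lit 0), (nat_lit 3)],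
  [(nat_lit 2), (nat_lit 2), (nat_lit 0), (nat_lit 1), (nat_lit 0), (nat_lit 3)],
  [(nat_lit 2), (nat_lit 2), (nat_lit 0), (nat_lit 1), (nat_lit 3)],
  [(nat_lit 0), (nat_lit 1), (nat_lit 2), (nat_lit 2), (nat_lit 3)],
  [(nat_lit 0), (nat_lit 1), (nat_lit 0), (nat_lit 2), (nat_lit 3), (nat_lit 1), (nat_lit 0)],
  [(nat_lit 0), (nat_lit 1), (nat_lit 0), (nat_lit 2), (nat_lit 3), (nat_lit 1)],
  [(nat_lit 0), (nat_lit 1), (nat_lit 2), (nat_lit 0), (nat_lit 3), (nat_lit 1)],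
  [(nat_lit 0), (nat_lit 1), (nat_lit 1), (nat_lit 2), (nat_lit 0), (nat_lit 1), (nat_lit 3)],
  [(nat_lit 0), (nat_lit 2), (nat_lit 0), (nat_lit 1), (nat_lit 1)],
  [(nat_lit 0), (nat_lit 1), (nat_lit 1), (nat_lit 2)],
  [(nat_lit 0), (nat_lit 1), (nat_lit 0), (nat_lit 2), (nat_lit 0), (nat_lit 1)],
  [(nat_lit 1), (nat_lit 1), (nat_lit 0), (nat_lit 2), (nat_lit 0)],
  [(nat_lit 0), (nat_lit 2), (nat_lit 0), (nat_lit 3)],
  [(nat_lit 0), (nat_lit 2), (nat_lit 3)],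
  [(nat_lit 0), (nat_lit 1), (nat_lit 0), (nat_lit 2), (nat_lit 0), (nat_lit 3), (nat_lit 1)],
  [(nat_lit 1), (nat_lit 1), (nat_lit 0), (nat_lit 2), (nat_lit 0), (nat_lit 1), (nat_lit 3)],
  [(nat_lit 0), (nat_lit 1), (nat_lit 0), (nat_lit 2), (nat_lit 0), (nat_lit 1), (nat_lit 0)],
  [(nat_lit 1), (nat_lit 1), (nat_lit 0), (nat_lit 2)],
  [(nat_lit 0), (nat_lit 1), (nat_lit 2), (nat_lit 0), (nat_lit 1)],
  [(nat_lit 0), (nat_lit 1), (nat_lit 1), (nat_lit 2), (nat_lit 0)],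
  [(nat_lit 0), (nat_lit 1), (nat_lit 2), (nat_lit 2), (nat_lit 0), (nat_lit 3), (nat_lit 1)],
  [(nat_lit 1), (nat_lit 1), (nat_lit 2), (nat_lit 2), (nat_lit 0), (nat_lit 1), (nat_lit 3)],
  [(nat_lit 2), (nat_lit 2), (nat_lit 0), (nat_lit 3)],
  [(nat_lit 0), (nat_lit 2), (nat_lit 2), (nat_lit 3)],
  [(nat_lit 0), (nat_lit 1), (nat_lit 2), (nat_lit 0), (nat_lit 2), (nat_lit 3), (nat_lit 1)],
  [(nat_lit 1), (nat_lit 2), (nat_lit 0), (nat_lit 2), (nat_lit 3), (nat_lit 1), (nat_lit 0)],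
  [(nat_lit 1), (nat_lit 0), (nat_lit 2), (nat_lit 2), (nat_lit 3), (nat_lit 1), (nat_lit 0)],
  [(nat_lit 0), (nat_lit 1), (nat_lit 0), (nat_lit 2), (nat_lit 2), (nat_lit 3), (nat_lit 1)],
  [(nat_lit 0), (nat_lit 1), (nat_lit 1), (nat_lit 2), (nat_lit 2)],
  [(nat_lit 2), (nat_lit 2), (nat_lit 0), (nat_lit 1), (nat_lit 1)],
  [(nat_lit 1), (nat_lit 1), (nat_lit 2), (nat_lit 2), (nat_lit 0)],
  [(nat_lit 0), (nat_lit 1), (nat_lit 2), (nat_lit 2), (nat_lit 0), (nat_lit 1)],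
  [(nat_lit 1), (nat_lit 1), (nat_lit 0), (nat_lit 2), (nat_lit 2)],
  [(nat_lit 1), (nat_lit 2), (nat_lit 0), (nat_lit 1), (nat_lit 2), (nat_lit 0)],
  [(nat_lit 0), (nat_lit 1), (nat_lit 1), (nat_lit 2), (nat_lit 0), (nat_lit 2)],
  [(nat_lit 0), (nat_lit 1), (nat_lit 2), (nat_lit 0), (nat_lit 1), (nat_lit 2)],
  [(nat_lit 1), (nat_lit 0), (nat_lit 1), (nat_lit 1), (nat_lit 2), (nat_lit 0), (nat_lit 1)],
  [(nat_lit 1), (nat_lit 0), (nat_lit 2)],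
  [(nat_lit 1), (nat_lit 2), (nat_lit 0)],
  [(nat_lit 2), (nat_lit 0), (nat_lit 1), (nat_lit 0)],
  [(nat_lit 2), (nat_lit 0), (nat_lit 1), (nat_lit 3)],
  [(nat_lit 1), (nat_lit 2), (nat_lit 3)],
  [(nat_lit 1), (nat_lit 0), (nat_lit 2), (nat_lit 0), (nat_lit 3)],
  [(nat_lit 0), (nat_lit 3), (nat_lit 1), (nat_lit 0), (nat_lit 2), (nat_lit 0), (nat_lit 1)],
  [(nat_lit 0), (nat_lit 3), (nat_lit 1), (nat_lit 0), (nat_lit 2), (nat_lit 0), (nat_lit 1), (nat_lit 0)],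
  [(nat_lit 1), (nat_lit 0), (nat_lit 2), (nat_lit 3)],
  [(nat_lit 1), (nat_lit 2), (nat_lit 0), (nat_lit 3)],
  [(nat_lit 2), (nat_lit 0), (nat_lit 1), (nat_lit 0), (nat_lit 3)],
  [(nat_lit 2), (nat_lit 0), (nat_lit 1)],
  [(nat_lit 1), (nat_lit 2)],
  [(nat_lit 1), (nat_lit 0), (nat_lit 2), (nat_lit 0)],
  [(nat_lit 1), (nat_lit 0), (nat_lit 1), (nat_lit 2), (nat_lit 0), (nat_lit 1), (nat_lit 1)],
  [(nat_lit 1), (nat_lit 2), (nat_lit 2), (nat_lit 0)],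
  [(nat_lit 2), (nat_lit 0), (nat_lit 1), (nat_lit 2), (nat_lit 0)],
  [(nat_lit 2), (nat_lit 0), (nat_lit 1), (nat_lit 2)],
  [(nat_lit 1), (nat_lit 2), (nat_lit 2)],
  [(nat_lit 1), (nat_lit 2), (nat_lit 0), (nat_lit 2)],
  [(nat_lit 2), (nat_lit 0), (nat_lit 1), (nat_lit 0), (nat_lit 2)],
  [(nat_lit 2), (nat_lit 0), (nat_lit 1), (nat_lit 0), (nat_lit 2), (nat_lit 0)],
  [(nat_lit 1), (nat_lit 0), (nat_lit 2), (nat_lit 2)],
  [(nat_lit 1), (nat_lit 2), (nat_lit 2), (nat_lit 3)],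
  [(nat_lit 2), (nat_lit 0), (nat_lit 1), (nat_lit 2), (nat_lit 3)],
  [(nat_lit 2), (nat_lit 0), (nat_lit 1), (nat_lit 2), (nat_lit 0), (nat_lit 3)],
  [(nat_lit 1), (nat_lit 2), (nat_lit 2), (nat_lit 0), (nat_lit 3)],
  [(nat_lit 1), (nat_lit 0), (nat_lit 2), (nat_lit 2), (nat_lit 3)],
  [(nat_lit 2), (nat_lit 0), (nat_lit 1), (nat_lit 0), (nat_lit 2), (nat_lit 0), (nat_lit 3)],
  [(nat_lit 2), (nat_lit 0), (nat_lit 1), (nat_lit 0), (nat_lit 2), (nat_lit 3)],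
  [(nat_lit 1), (nat_lit 2), (nat_lit 0), (nat_lit 2), (nat_lit 3)],
  [(nat_lit 1), (nat_lit 0), (nat_lit 1), (nat_lit 2), (nat_lit 0), (nat_lit 1), (nat_lit 3)],
  [(nat_lit 1), (nat_lit 0), (nat_lit 2), (nat_lit 0), (nat_lit 3), (nat_lit 1)],
  [(nat_lit 2), (nat_lit 3)],
  [(nat_lit 2), (nat_lit 0), (nat_lit 3)],
  [(nat_lit 1), (nat_lit 1), (nat_lit 2), (nat_lit 0)],
  [(nat_lit 1), (nat_lit 2), (nat_lit 0), (nat_lit 1)],
  [(nat_lit 1), (nat_lit 0), (nat_lit 1), (nat_lit 2)],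
  [(nat_lit 1), (nat_lit 0), (nat_lit 2), (nat_lit 0), (nat_lit 1), (nat_lit 0)],
  [(nat_lit 1), (nat_lit 1), (nat_lit 2), (nat_lit 0), (nat_lit 1), (nat_lit 3)],
  [(nat_lit 1), (nat_lit 2), (nat_lit 0), (nat_lit 3), (nat_lit 1)],
  [(nat_lit 1), (nat_lit 0), (nat_lit 2), (nat_lit 3), (nat_lit 1)],
  [(nat_lit 1), (nat_lit 0), (nat_lit 2), (nat_lit 3), (nat_lit 1), (nat_lit 0)],
  [(nat_lit 1), (nat_lit 0), (nat_lit 1), (nat_lit 2), (nat_lit 0)],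
  [(nat_lit 1), (nat_lit 0), (nat_lit 2), (nat_lit 0), (nat_lit 1)],
  [(nat_lit 1), (nat_lit 1), (nat_lit 2)],
  [(nat_lit 2), (nat_lit 0), (nat_lit 1), (nat_lit 1)],
  [(nat_lit 1), (nat_lit 0), (nat_lit 2), (nat_lit 2), (nat_lit 3), (nat_lit 1)],
  [(nat_lit 1), (nat_lit 0), (nat_lit 2), (nat_lit 3), (nat_lit 1), (nat_lit 0), (nat_lit 2)],
  [(nat_lit 1), (nat_lit 1), (nat_lit 2), (nat_lit 0), (nat_lit 1), (nat_lit 2), (nat_lit 3)],
  [(nat_lit 1), (nat_lit 2), (nat_lit 0), (nat_lit 2), (nat_lit 3), (nat_lit 1)],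
  [(nat_lit 2), (nat_lit 2), (nat_lit 3)],
  [(nat_lit 2), (nat_lit 0), (nat_lit 2), (nat_lit 3)],
  [(nat_lit 2), (nat_lit 0), (nat_lit 1), (nat_lit 2), (nat_lit 0), (nat_lit 3), (nat_lit 1)],
  [(nat_lit 1), (nat_lit 2), (nat_lit 2), (nat_lit 0), (nat_lit 3), (nat_lit 1)],
  [(nat_lit 1), (nat_lit 2), (nat_lit 0), (nat_lit 1), (nat_lit 2)],
  [(nat_lit 1), (nat_lit 1), (nat_lit 2), (nat_lit 0), (nat_lit 2)],
  [(nat_lit 0), (nat_lit 1), (nat_lit 2), (nat_lit 0), (nat_lit 1), (nat_lit 2), (nat_lit 0)],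
  [(nat_lit 1), (nat_lit 0), (nat_lit 1), (nat_lit 2), (nat_lit 2)],
  [(nat_lit 1), (nat_lit 2), (nat_lit 2), (nat_lit 0), (nat_lit 1)],
  [(nat_lit 0), (nat_lit 1), (nat_lit 1), (nat_lit 2), (nat_lit 2), (nat_lit 0)],
  [(nat_lit 2), (nat_lit 0), (nat_lit 1), (nat_lit 1), (nat_lit 2)],
  [(nat_lit 1), (nat_lit 1), (nat_lit 2), (nat_lit 2)],
  [(nat_lit 2), (nat_lit 0), (nat_lit 1), (nat_lit 0), (nat_lit 2), (nat_lit 2), (nat_lit 3)],
  [(nat_lit 1), (nat_lit 2), (nat_lit 0), (nat_lit 2), (nat_lit 2), (nat_lit 3)],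
  [(nat_lit 1), (nat_lit 0), (nat_lit 3)],
  [(nat_lit 2), (nat_lit 0), (nat_lit 1), (nat_lit 2), (nat_lit 2), (nat_lit 0), (nat_lit 3)],
  [(nat_lit 2), (nat_lit 0), (nat_lit 1), (nat_lit 2), (nat_lit 0), (nat_lit 2), (nat_lit 3)],
  [(nat_lit 1), (nat_lit 2), (nat_lit 2), (nat_lit 0), (nat_lit 2), (nat_lit 3)],
  [(nat_lit 1), (nat_lit 3)],
  [(nat_lit 2), (nat_lit 0), (nat_lit 1), (nat_lit 2), (nat_lit 2), (nat_lit 3)],
  [(nat_lit 2), (nat_lit 0), (nat_lit 1), (nat_lit 0), (nat_lit 2), (nat_lit 2)],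
  [(nat_lit 1), (nat_lit 2), (nat_lit 0), (nat_lit 2), (nat_lit 2)],
  [(nat_lit 1), (nat_lit 0)],
  [(nat_lit 2), (nat_lit 0), (nat_lit 1), (nat_lit 2), (nat_lit 2), (nat_lit 0)],
  [(nat_lit 2), (nat_lit 0), (nat_lit 1), (nat_lit 2), (nat_lit 0), (nat_lit 2)],
  [(nat_lit 1), (nat_lit 2), (nat_lit 2), (nat_lit 0), (nat_lit 2)],
  [(nat_lit 1)],
  [(nat_lit 2), (nat_lit 0), (nat_lit 1), (nat_lit 2), (nat_lit 2)],
  [(nat_lit 0), (nat_lit 1), (nat_lit 0), (nat_lit 2), (nat_lit 0), (nat_lit 1), (nat_lit 3)],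
  [(nat_lit 3), (nat_lit 1), (nat_lit 0), (nat_lit 2), (nat_lit 0)],
  [(nat_lit 0), (nat_lit 2), (nat_lit 0), (nat_lit 3), (nat_lit 1)],
  [(nat_lit 0), (nat_lit 2), (nat_lit 3), (nat_lit 1)],
  [(nat_lit 1), (nat_lit 1), (nat_lit 0), (nat_lit 1), (nat_lit 2)],
  [(nat_lit 1), (nat_lit 1), (nat_lit 0), (nat_lit 1), (nat_lit 2), (nat_lit 0)],
  [(nat_lit 0), (nat_lit 1), (nat_lit 1), (nat_lit 2), (nat_lit 0), (nat_lit 1)],
  [(nat_lit 0), (nat_lit 1), (nat_lit 2), (nat_lit 0), (nat_lit 1), (nat_lit 1)],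
  [(nat_lit 0), (nat_lit 2)],
  [(nat_lit 0), (nat_lit 2), (nat_lit 0)],
  [(nat_lit 1), (nat_lit 1), (nat_lit 0), (nat_lit 2), (nat_lit 0), (nat_lit 1)],
  [(nat_lit 0), (nat_lit 1), (nat_lit 0), (nat_lit 2), (nat_lit 0), (nat_lit 1), (nat_lit 1)],
  [(nat_lit 0), (nat_lit 1), (nat_lit 2), (nat_lit 0), (nat_lit 1), (nat_lit 3)],
  [(nat_lit 0), (nat_lit 2), (nat_lit 3), (nat_lit 1), (nat_lit 0)],
  [(nat_lit 0), (nat_lit 1), (nat_lit 0), (nat_lit 2), (nat_lit 0), (nat_lit 1), (nat_lit 0), (nat_lit 3)],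
  [(nat_lit 3), (nat_lit 1), (nat_lit 0), (nat_lit 2)],
  [(nat_lit 0), (nat_lit 1), (nat_lit 2), (nat_lit 2), (nat_lit 0), (nat_lit 1), (nat_lit 1)],
  [(nat_lit 1), (nat_lit 1), (nat_lit 2), (nat_lit 2), (nat_lit 0), (nat_lit 1)],
  [(nat_lit 2), (nat_lit 2), (nat_lit 0)],
  [(nat_lit 0), (nat_lit 2), (nat_lit 2)],
  [(nat_lit 3), (nat_lit 1), (nat_lit 0), (nat_lit 2), (nat_lit 2)],
  [(nat_lit 1), (nat_lit 2), (nat_lit 0), (nat_lit 1), (nat_lit 2), (nat_lit 0), (nat_lit 3)],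
  [(nat_lit 0), (nat_lit 2), (nat_lit 3), (nat_lit 1), (nat_lit 0), (nat_lit 2)],
  [(nat_lit 0), (nat_lit 1), (nat_lit 2), (nat_lit 0), (nat_lit 1), (nat_lit 2), (nat_lit 3)],
  [(nat_lit 0), (nat_lit 1), (nat_lit 2), (nat_lit 0), (nat_lit 1), (nat_lit 1), (nat_lit 2)],
  [(nat_lit 0), (nat_lit 1), (nat_lit 1), (nat_lit 2), (nat_lit 0), (nat_lit 1), (nat_lit 2)],
  [(nat_lit 1), (nat_lit 0), (nat_lit 1), (nat_lit 1), (nat_lit 2), (nat_lit 2), (nat_lit 0)],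
  [(nat_lit 1), (nat_lit 1), (nat_lit 0), (nat_lit 1), (nat_lit 2), (nat_lit 2)],
  [(nat_lit 0), (nat_lit 2), (nat_lit 2), (nat_lit 3), (nat_lit 1)],
  [(nat_lit 2), (nat_lit 2), (nat_lit 0), (nat_lit 3), (nat_lit 1)],
  [(nat_lit 2), (nat_lit 2), (nat_lit 3), (nat_lit 1), (nat_lit 0)],
  [(nat_lit 2), (nat_lit 0), (nat_lit 2), (nat_lit 3), (nat_lit 1), (nat_lit 0)],
  [(nat_lit 2), (nat_lit 0), (nat_lit 1), (nat_lit 1), (nat_lit 2), (nat_lit 2)],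
  [(nat_lit 1), (nat_lit 1)],
  [(nat_lit 1), (nat_lit 2), (nat_lit 2), (nat_lit 0), (nat_lit 1), (nat_lit 2)],
  [(nat_lit 0), (nat_lit 1), (nat_lit 1), (nat_lit 2), (nat_lit 2), (nat_lit 0), (nat_lit 2)],
  [(nat_lit 2), (nat_lit 0), (nat_lit 1), (nat_lit 2), (nat_lit 2), (nat_lit 0), (nat_lit 1)],
  [(nat_lit 1), (nat_lit 0), (nat_lit 1)],
  [(nat_lit 1), (nat_lit 2), (nat_lit 0), (nat_lit 1), (nat_lit 2), (nat_lit 2)],
  [(nat_lit 1), (nat_lit 1), (nat_lit 2), (nat_lit 0), (nat_lit 2), (nat_lit 2)],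
  [(nat_lit 2), (nat_lit 0), (nat_lit 2), (nat_lit 2), (nat_lit 3)],
  [(nat_lit 3)],
  [(nat_lit 1), (nat_lit 2), (nat_lit 2), (nat_lit 0), (nat_lit 2), (nat_lit 3), (nat_lit 1)],
  [(nat_lit 2), (nat_lit 0), (nat_lit 1), (nat_lit 2), (nat_lit 0), (nat_lit 2), (nat_lit 3), (nat_lit 1)],
  [(nat_lit 1), (nat_lit 0), (nat_lit 2), (nat_lit 3), (nat_lit 1), (nat_lit 0), (nat_lit 2), (nat_lit 2)],
  [(nat_lit 1), (nat_lit 0), (nat_lit 3), (nat_lit 1)],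
  [(nat_lit 1), (nat_lit 2), (nat_lit 0), (nat_lit 2), (nat_lit 2), (nat_lit 3), (nat_lit 1)],
  [(nat_lit 1), (nat_lit 1), (nat_lit 2), (nat_lit 0), (nat_lit 1), (nat_lit 2), (nat_lit 2), (nat_lit 3)],
  [(nat_lit 2), (nat_lit 2), (nat_lit 0), (nat_lit 1), (nat_lit 2), (nat_lit 3)],
  [(nat_lit 0), (nat_lit 1), (nat_lit 3)],
  [(nat_lit 0), (nat_lit 1), (nat_lit 2), (nat_lit 2), (nat_lit 0), (nat_lit 2), (nat_lit 3)],
  [(nat_lit 2), (nat_lit 2), (nat_lit 0), (nat_lit 1), (nat_lit 0), (nat_lit 2), (nat_lit 3)],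
  [(nat_lit 2), (nat_lit 2), (nat_lit 0), (nat_lit 1), (nat_lit 2), (nat_lit 0), (nat_lit 3)],
  [(nat_lit 0), (nat_lit 1), (nat_lit 0), (nat_lit 3)],
  [(nat_lit 0), (nat_lit 1), (nat_lit 2), (nat_lit 0), (nat_lit 2), (nat_lit 2), (nat_lit 3)],
  [(nat_lit 0), (nat_lit 2), (nat_lit 0), (nat_lit 1), (nat_lit 0), (nat_lit 2), (nat_lit 2), (nat_lit 3)],
  [(nat_lit 2), (nat_lit 2), (nat_lit 0), (nat_lit 1), (nat_lit 2)],
  [(nat_lit 0), (nat_lit 1)],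
  [(nat_lit 0), (nat_lit 1), (nat_lit 2), (nat_lit 2), (nat_lit 0), (nat_lit 2)],
  [(nat_lit 2), (nat_lit 2), (nat_lit 0), (nat_lit 1), (nat_lit 0), (nat_lit 2)],
  [(nat_lit 2), (nat_lit 2), (nat_lit 0), (nat_lit 1), (nat_lit 2), (nat_lit 0)],
  [(nat_lit 0), (nat_lit 1), (nat_lit 0)],
  [(nat_lit 0), (nat_lit 1), (nat_lit 2), (nat_lit 0), (nat_lit 2), (nat_lit 2)],
  [(nat_lit 0), (nat_lit 2), (nat_lit 0), (nat_lit 1), (nat_lit 0), (nat_lit 2), (nat_lit 2)],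
  [(nat_lit 0), (nat_lit 3), (nat_lit 1), (nat_lit 0), (nat_lit 2)],
  [(nat_lit 1), (nat_lit 0), (nat_lit 2), (nat_lit 0), (nat_lit 1), (nat_lit 0), (nat_lit 3)],
  [(nat_lit 2), (nat_lit 3), (nat_lit 1), (nat_lit 0)],
  [(nat_lit 1), (nat_lit 2), (nat_lit 0), (nat_lit 1), (nat_lit 3)],
  [(nat_lit 1), (nat_lit 0), (nat_lit 2), (nat_lit 0), (nat_lit 1), (nat_lit 1)],
  [(nat_lit 1), (nat_lit 0), (nat_lit 1), (nat_lit 2), (nat_lit 0), (nat_lit 1)],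
  [(nat_lit 2), (nat_lit 0)],
  [(nat_lit 2)],
  [(nat_lit 1), (nat_lit 2), (nat_lit 0), (nat_lit 1), (nat_lit 1)],
  [(nat_lit 1), (nat_lit 1), (nat_lit 2), (nat_lit 0), (nat_lit 1)],
  [(nat_lit 1), (nat_lit 0), (nat_lit 1), (nat_lit 1), (nat_lit 2), (nat_lit 0)],
  [(nat_lit 1), (nat_lit 0), (nat_lit 1), (nat_lit 1), (nat_lit 2)],
  [(nat_lit 2), (nat_lit 3), (nat_lit 1)],
  [(nat_lit 2), (nat_lit 0), (nat_lit 3), (nat_lit 1)],
  [(nat_lit 0), (nat_lit 3), (nat_lit 1), (nat_lit 0), (nat_lit 2), (nat_lit 0)],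
  [(nat_lit 1), (nat_lit 0), (nat_lit 2), (nat_lit 0), (nat_lit 1), (nat_lit 3)],
  [(nat_lit 1), (nat_lit 0), (nat_lit 1), (nat_lit 1), (nat_lit 2), (nat_lit 2)],
  [(nat_lit 1), (nat_lit 0), (nat_lit 1), (nat_lit 1), (nat_lit 2), (nat_lit 0), (nat_lit 2)],
  [(nat_lit 1), (nat_lit 1), (nat_lit 2), (nat_lit 0), (nat_lit 1), (nat_lit 2)],
  [(nat_lit 1), (nat_lit 2), (nat_lit 0), (nat_lit 1), (nat_lit 1), (nat_lit 2)],
  [(nat_lit 1), (nat_lit 2), (nat_lit 2), (nat_lit 0), (nat_lit 1), (nat_lit 3)],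
  [(nat_lit 0), (nat_lit 2), (nat_lit 2), (nat_lit 3), (nat_lit 1), (nat_lit 0)],
  [(nat_lit 2), (nat_lit 0), (nat_lit 2), (nat_lit 3), (nat_lit 1)],
  [(nat_lit 2), (nat_lit 2), (nat_lit 3), (nat_lit 1)],
  [(nat_lit 2), (nat_lit 2)],
  [(nat_lit 2), (nat_lit 0), (nat_lit 2)],
  [(nat_lit 0), (nat_lit 1), (nat_lit 1), (nat_lit 2), (nat_lit 2), (nat_lit 0), (nat_lit 1)],
  [(nat_lit 1), (nat_lit 2), (nat_lit 2), (nat_lit 0), (nat_lit 1), (nat_lit 1)],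
  [(nat_lit 1), (nat_lit 2), (nat_lit 0), (nat_lit 1), (nat_lit 2), (nat_lit 3)],
  [(nat_lit 2), (nat_lit 3), (nat_lit 1), (nat_lit 0), (nat_lit 2)],
  [(nat_lit 0), (nat_lit 1), (nat_lit 2), (nat_lit 0), (nat_lit 1), (nat_lit 2), (nat_lit 0), (nat_lit 3)],
  [(nat_lit 0), (nat_lit 3), (nat_lit 1), (nat_lit 0), (nat_lit 2), (nat_lit 2)],
  [(nat_lit 0), (nat_lit 1), (nat_lit 1), (nat_lit 2), (nat_lit 0), (nat_lit 2), (nat_lit 2)],
  [(nat_lit 0), (nat_lit 1), (nat_lit 2), (nat_lit 0), (nat_lit 1), (nat_lit 2), (nat_lit 2)],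
  [(nat_lit 1), (nat_lit 1), (nat_lit 0)],
  [(nat_lit 1), (nat_lit 2), (nat_lit 0), (nat_lit 1), (nat_lit 2), (nat_lit 0), (nat_lit 2)],
  [(nat_lit 1), (nat_lit 1), (nat_lit 2), (nat_lit 2), (nat_lit 0), (nat_lit 2)],
  [(nat_lit 0), (nat_lit 1), (nat_lit 2), (nat_lit 2), (nat_lit 0), (nat_lit 1), (nat_lit 2)],
  [(nat_lit 0), (nat_lit 1), (nat_lit 1)],
  [(nat_lit 2), (nat_lit 2), (nat_lit 0), (nat_lit 1), (nat_lit 1), (nat_lit 2)],
  [(nat_lit 1), (nat_lit 2), (nat_lit 0), (nat_lit 2), (nat_lit 3), (nat_lit 1), (nat_lit 0), (nat_lit 2)],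
  [(nat_lit 0), (nat_lit 1), (nat_lit 2), (nat_lit 0), (nat_lit 2), (nat_lit 2), (nat_lit 3), (nat_lit 1)],
  [(nat_lit 0), (nat_lit 1), (nat_lit 0), (nat_lit 3), (nat_lit 1)],
  [(nat_lit 1), (nat_lit 0), (nat_lit 2), (nat_lit 2), (nat_lit 3), (nat_lit 1), (nat_lit 0), (nat_lit 2)],
  [(nat_lit 1), (nat_lit 1), (nat_lit 2), (nat_lit 2), (nat_lit 0), (nat_lit 1), (nat_lit 2), (nat_lit 3)],
  [(nat_lit 0), (nat_lit 1), (nat_lit 2), (nat_lit 2), (nat_lit 0), (nat_lit 2), (nat_lit 3), (nat_lit 1)],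
  [(nat_lit 0), (nat_lit 3)],
  [(nat_lit 2), (nat_lit 2), (nat_lit 0), (nat_lit 2), (nat_lit 3)],
  [(nat_lit 0), (nat_lit 1), (nat_lit 2), (nat_lit 0), (nat_lit 1), (nat_lit 2), (nat_lit 2), (nat_lit 3)],
  [(nat_lit 0), (nat_lit 2), (nat_lit 3), (nat_lit 1), (nat_lit 0), (nat_lit 2), (nat_lit 2)],
  [(nat_lit 2), (nat_lit 0), (nat_lit 2), (nat_lit 2), (nat_lit 3), (nat_lit 1), (nat_lit 0)],
  [(nat_lit 3), (nat_lit 1), (nat_lit 0)],
  [(nat_lit 2), (nat_lit 0), (nat_lit 2), (nat_lit 3), (nat_lit 1), (nat_lit 0), (nat_lit 2)],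
  [(nat_lit 2), (nat_lit 2), (nat_lit 3), (nat_lit 1), (nat_lit 0), (nat_lit 2)],
  [(nat_lit 2), (nat_lit 2), (nat_lit 0), (nat_lit 2), (nat_lit 3), (nat_lit 1)],
  [(nat_lit 0), (nat_lit 3), (nat_lit 1)],
  [(nat_lit 0)],
  [(nat_lit 2), (nat_lit 2), (nat_lit 0), (nat_lit 2)],
  [(nat_lit 1), (nat_lit 1), (nat_lit 2), (nat_lit 2), (nat_lit 0), (nat_lit 1), (nat_lit 2)],
  [(nat_lit 0), (nat_lit 1), (nat_lit 2), (nat_lit 2), (nat_lit 0), (nat_lit 1), (nat_lit 1), (nat_lit 2)],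
  [(nat_lit 1), (nat_lit 1), (nat_lit 0), (nat_lit 1)],
  [(nat_lit 1), (nat_lit 0), (nat_lit 1), (nat_lit 1), (nat_lit 2), (nat_lit 2), (nat_lit 0), (nat_lit 2)],
  [(nat_lit 0), (nat_lit 1), (nat_lit 1), (nat_lit 2), (nat_lit 0), (nat_lit 1), (nat_lit 2), (nat_lit 2)],
  [(nat_lit 0), (nat_lit 1), (nat_lit 2), (nat_lit 0), (nat_lit 1), (nat_lit 1), (nat_lit 2), (nat_lit 2)],
  [(nat_lit 3), (nat_lit 1)],
  [(nat_lit 2), (nat_lit 0), (nat_lit 2), (nat_lit 2), (nat_lit 3), (nat_lit 1)],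
  [(nat_lit 0), (nat_lit 2), (nat_lit 2), (nat_lit 3), (nat_lit 1), (nat_lit 0), (nat_lit 2)],
  [(nat_lit 1), (nat_lit 2), (nat_lit 2), (nat_lit 0), (nat_lit 1), (nat_lit 2), (nat_lit 3)],
  [(nat_lit 0), (nat_lit 3), (nat_lit 1), (nat_lit 0)],
  [(nat_lit 2), (nat_lit 2), (nat_lit 0), (nat_lit 2), (nat_lit 3), (nat_lit 1), (nat_lit 0)],
  [(nat_lit 2), (nat_lit 3), (nat_lit 1), (nat_lit 0), (nat_lit 2), (nat_lit 2)],
  [(nat_lit 1), (nat_lit 2), (nat_lit 0), (nat_lit 1), (nat_lit 2), (nat_lit 2), (nat_lit 3)],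
  [(nat_lit 1), (nat_lit 2), (nat_lit 0), (nat_lit 1), (nat_lit 1), (nat_lit 2), (nat_lit 2)],
  [(nat_lit 1), (nat_lit 1), (nat_lit 2), (nat_lit 0), (nat_lit 1), (nat_lit 2), (nat_lit 2)],
  [(nat_lit 1), (nat_lit 0), (nat_lit 1), (nat_lit 1), (nat_lit 2), (nat_lit 0), (nat_lit 2), (nat_lit 2)],
  [(nat_lit 1), (nat_lit 0), (nat_lit 1), (nat_lit 1)],
  [(nat_lit 1), (nat_lit 2), (nat_lit 2), (nat_lit 0), (nat_lit 1), (nat_lit 1), (nat_lit 2)],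
  [(nat_lit 0), (nat_lit 1), (nat_lit 1), (nat_lit 2), (nat_lit 2), (nat_lit 0), (nat_lit 1), (nat_lit 2)],
  [(nat_lit 2), (nat_lit 0), (nat_lit 2), (nat_lit 2)],
  []]
noncomputable def AP_lKL_h (c : ℕ) : ℕ := Nat.mod c (nat_lit 18047)
noncomputable def AP_lKL_T0 : ST := (.node (nat_lit 0x5cd99b762fc345ea2366d7f977124381547aa420) (.node (nat_lit 0x30b9766f598f5121cda4c2acf3ae05f52a9fb820) (.node (nat_lit 0x222fa6f3767e0d02ae22ed72c4cd43fd247f3820) (.node (nat_lit 0x19dbcce9f8eda869162ed8aec5257f2567e44020) (.node (nat_lit 0x11b978ef59674923cda8b2b0f1aea5fba09f5020) (.node (nat_lit 0x11b5766f998f50a1ada4b4b0f3cea9f3a05fd020) (.node (nat_lit 0x11b31bb3bcdea723930b7a9b61a3d4827eea9420) (.node (nat_lit 0x11b2cdc7bcbe9723a2d36a9f8193ce817f4aa420) (.leaf (nat_lit 0x11b2cbc7badf16a1a3137c9b6393f4817ceaa420)) (.leaf (nat_lit 0x11b2cdc7bcbe9723a2d36a9f8193ce817f4aa420))) (.node (nat_lit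 0x11b31db3babf26a192cb6c9f83a3ee827d4a9420) (.leaf (nat_lit 0x11b31bb3bcdea723930b7a9b61a3d4827eea9420)) (.leaf (nat_lit 0x11b31db3babf26a192cb6c9f83a3ee827d4a9420)))) (.node (nat_lit 0x11b5b65f9d8e4923cda8b2b0f1ae09f52a5fb820) (.node (nat_lit 0x11b578ef9d665123ade4c2acd1ce05f3aa9fd020) (.leaf (nat_lit 0x11b5766f998f50a1ada4b4b0f3cea9f3a05fd020)) (.leaf (nat_lit 0x11b578ef9d665123ade4c2acd1ce05f3aa9fd020))) (.node (nat_lit 0x11b5b8df996748a1cde8c4acd3aea5f5209fb820) (.leaf (nat_lit 0x11b5b65f9d8e4923cda8b2b0f1ae09f52a5fb820)) (.node (nat_lit 0x11b9766f5d8e48a1cde8c4acd3ae09fbaa5f5020) (.leaf (nat_lit 0x11b5b8df996748a1cde8c4acd3aea5f5209fb820)) (.leaf (nat_lit 0x11b9766f5d8e48a1cde8c4acd3ae09fbaa5f5020)))))) (.node (nat_lit 0x11bacdc73abf2723930b7a9b61a3eea97d482420) (.node (nat_lit 0x11b9b8df5d6650a1ada4b4b0f3ce05fd2a9f3820) (.node (nat_lit 0x11b9b65f598f5123ade4c2acd1cea9fd205f3820)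 (.leaf (nat_lit 0x11b978ef59674923cda8b2b0f1aea5fba09f5020)) (.leaf (nat_lit 0x11b9b65f598f5123ade4c2acd1cea9fd205f3820))) (.node (nat_lit 0x11bacbc73cdea6a192cb6c9f83a3d4a97ee82420) (.leaf (nat_lit 0x11b9b8df5d6650a1ada4b4b0f3ce05fd2a9f3820)) (.leaf (nat_lit 0x11bacbc73cdea6a192cb6c9f83a3d4a97ee82420)))) (.node (nat_lit 0x11bb1db33cbe96a1a3137c9b6393ceaa7f481420) (.node (nat_lit 0x11bb1bb33adf1723a2d36a9f8193f4aa7ce81420) (.leaf (nat_lit 0x11bacdc73abf2723930b7a9b61a3eea97d482420)) (.leaf (nat_lit 0x11bb1bb33adf1723a2d36a9f8193f4aa7ce81420))) (.node (nat_lit 0x19dbacf1f6ee1c252634d9aec9167f2417e45420) (.leaf (nat_lit 0x11bb1db33cbe96a1a3137c9b6393ceaa7f481420)) (.node (nat_lit 0x19dbaef1f8cd9c692594b8b715157e2427f45420) (.leaf (nat_lit 0x19dbacf1f6ee1c252634d9aec9167f2417e45420)) (.leaf (nat_lit 0x19dbaef1f8cd9c692594b8b715157e2427f45420))))))) (.node (nat_lit 0x19edde670dd3ca25536989997939105fc959f820)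 (.node (nat_lit 0x19dfcce9b6ee1c692594b8b715167f4557e24020) (.node (nat_lit 0x19dfacf1b8eda825158eb9b719257f4427e25420) (.node (nat_lit 0x19dbcee9f6ce2825158eb9b719267e2557f44020) (.leaf (nat_lit 0x19dbcce9f8eda869162ed8aec5257f2567e44020)) (.leaf (nat_lit 0x19dbcee9f6ce2825158eb9b719267e2557f44020))) (.node (nat_lit 0x19dfaef1b6ce2869162ed8aec5267e4417f25420) (.leaf (nat_lit 0x19dfacf1b8eda825158eb9b719257f4427e25420)) (.leaf (nat_lit 0x19dfaef1b6ce2869162ed8aec5267e4417f25420)))) (.node (nat_lit 0x19ed9d770de3d2253ae561a3b951155f8909fc20) (.node (nat_lit 0x19dfcee9b8cd9c252634d9aec9157e4567f24020) (.leaf (nat_lit 0x19dfcce9b6ee1c692594b8b715167f4557e24020)) (.leaf (nat_lit 0x19dfcee9b8cd9c252634d9aec9157e4567f24020))) (.node (nat_lit 0x19ed9e770fd352693b6588997550905f9159fc20) (.leaf (nat_lit 0x19ed9d770de3d2253ae561a3b951155f8909fc20)) (.node (nat_lit 0x19eddd670fe34a6952e960a3b538955fd109f820)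 (.leaf (nat_lit 0x19ed9e770fd352693b6588997550905f9159fc20)) (.leaf (nat_lit 0x19eddd670fe34a6952e960a3b538955fd109f820)))))) (.node (nat_lit 0x19f1de66cfd352253ae561a3b950909fd155f820) (.node (nat_lit 0x19f19e76cdd3ca6952e960a3b539109f8955fc20) (.node (nat_lit 0x19f19d76cfe34a25536989997938959f9105fc20) (.leaf (nat_lit 0x19edde670dd3ca25536989997939105fc959f820)) (.leaf (nat_lit 0x19f19d76cfe34a25536989997938959f9105fc20))) (.node (nat_lit 0x19f1dd66cde3d2693b6588997551159fc905f820) (.leaf (nat_lit 0x19f19e76cdd3ca6952e960a3b539109f8955fc20)) (.leaf (nat_lit 0x19f1dd66cde3d2693b6588997551159fc905f820)))) (.node (nat_lit 0x222cde3f1bd5d7549bb38c19928bf491fce50c20) (.node (nat_lit 0x222cdd3f17e6d7029b336563d48bce91ff450c20) (.leaf (nat_lit 0x19f1de66cfd352253ae561a3b950909fd155f820)) (.leaf (nat_lit 0x222cdd3f17e6d7029b336563d48bce91ff450c20))) (.node (nat_lit 0x222cfd371be5e7548b2b6423d29bee90fd451c20)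 (.leaf (nat_lit 0x222cde3f1bd5d7549bb38c19928bf491fce50c20)) (.node (nat_lit 0x222cfe3717d6e7028bab8d59949bd490fee51c20) (.leaf (nat_lit 0x222cfd371be5e7548b2b6423d29bee90fd451c20)) (.leaf (nat_lit 0x222cfe3717d6e7028bab8d59949bd490fee51c20)))))))) (.node (nat_lit 0x2a63bb5d99c75c8a9df4e134d80d7e12a7f34820) (.node (nat_lit 0x2237a7f2f66e0554ce26ec32c2ad47f5243fb820) (.node (nat_lit 0x2230dd3edbe5e7028bab8d59949bee51fd490c20) (.node (nat_lit 0x222fc6eb787d8554ce26ec32c2ae43fb947f5020) (.node (nat_lit 0x222fa7f3786d8d54ad82cc3b12ce47fd143f3820) (.leaf (nat_lit 0x222fa6f3767e0d02ae22ed72c4cd43fd247f3820)) (.leaf (nat_lit 0x222fa7f3786d8d54ad82cc3b12ce47fd143f3820))) (.node (nat_lit 0x222fc7eb766e0502cd86cd7b14ad47fba43f5020) (.leaf (nat_lit 0x222fc6eb787d8554ce26ec32c2ae43fb947f5020)) (.leaf (nat_lit 0x222fc7eb766e0502cd86cd7b14ad47fba43f5020)))) (.node (nat_lit 0x2230fd36d7e6d7549bb38c19928bce50ff491c20)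 (.node (nat_lit 0x2230de3ed7d6e7548b2b6423d29bd451fee90c20) (.leaf (nat_lit 0x2230dd3edbe5e7028bab8d59949bee51fd490c20)) (.leaf (nat_lit 0x2230de3ed7d6e7548b2b6423d29bd451fee90c20))) (.node (nat_lit 0x2230fe36dbd5d7029b336563d48bf450fce91c20) (.leaf (nat_lit 0x2230fd36d7e6d7549bb38c19928bce50ff491c20)) (.node (nat_lit 0x2237a6f2f87d8502cd86cd7b14ae43f5147fb820) (.leaf (nat_lit 0x2230fe36dbd5d7029b336563d48bf450fce91c20)) (.leaf (nat_lit 0x2237a6f2f87d8502cd86cd7b14ae43f5147fb820)))))) (.node (nat_lit 0x2a597c6e3db65c8a9df4e134d80e7f3497e12820) (.node (nat_lit 0x2237c7eaf86d8d02ae22ed72c4ce47f3943fd020) (.node (nat_lit 0x2237c6eaf67e0d54ad82cc3b12cd43f3a47fd020) (.leaf (nat_lit 0x2237a7f2f66e0554ce26ec32c2ad47f5243fb820)) (.leaf (nat_lit 0x2237c6eaf67e0d54ad82cc3b12cd43f3a47fd020))) (.node (nat_lit 0x2a597b6e39c75c481db4d238fa8d7e34a7f12820) (.leaf (nat_lit 0x2237c7eaf86d8d02ae22ed72c4ce47f3943fd020))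 (.leaf (nat_lit 0x2a597b6e39c75c481db4d238fa8d7e34a7f12820)))) (.node (nat_lit 0x2a59bc5e39b768480deee234da9d7f32a7e14820) (.node (nat_lit 0x2a59bb5e3dc6688a8daed138f81e7e3297f14820) (.leaf (nat_lit 0x2a597c6e3db65c8a9df4e134d80e7f3497e12820)) (.leaf (nat_lit 0x2a59bb5e3dc6688a8daed138f81e7e3297f14820))) (.node (nat_lit 0x2a637b6d9dc668480deee234da9e7e1497f32820) (.leaf (nat_lit 0x2a59bc5e39b768480deee234da9d7f32a7e14820)) (.node (nat_lit 0x2a637c6d99b7688a8daed138f81d7f14a7e32820) (.leaf (nat_lit 0x2a637b6d9dc668480deee234da9e7e1497f32820)) (.leaf (nat_lit 0x2a637c6d99b7688a8daed138f81d7f14a7e32820))))))) (.node (nat_lit 0x2a7b8ddb31bb0e483b837a1baad0d25f84a9fc20) (.node (nat_lit 0x2a738bdbb1db068ad387791ba838ca9f8525fc20) (.node (nat_lit 0x2a736be3acdc4e483b837a1baad04a9fcd25f820) (.node (nat_lit 0x2a63bc5d9db65c481db4d238fa8e7f1297e34820) (.leaf (nat_lit 0x2a63bb5d99c75c8a9df4e134d80d7e12a7f34820))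 (.leaf (nat_lit 0x2a63bc5d9db65c481db4d238fa8e7f1297e34820))) (.node (nat_lit 0x2a736de3b1bb0e8abb43691fc850d29fc4a5f820) (.leaf (nat_lit 0x2a736be3acdc4e483b837a1baad04a9fcd25f820)) (.leaf (nat_lit 0x2a736de3b1bb0e8abb43691fc850d29fc4a5f820)))) (.node (nat_lit 0x2a7b6be331db064853476a1fcab8ca5fc529f820) (.node (nat_lit 0x2a738ddbacbc464853476a1fcab8529f8ca5fc20) (.leaf (nat_lit 0x2a738bdbb1db068ad387791ba838ca9f8525fc20)) (.leaf (nat_lit 0x2a738ddbacbc464853476a1fcab8529f8ca5fc20))) (.node (nat_lit 0x2a7b6de32cbc468ad387791ba838525fcca9f820) (.leaf (nat_lit 0x2a7b6be331db064853476a1fcab8ca5fc529f820)) (.node (nat_lit 0x2a7b8bdb2cdc4e8abb43691fc8504a5f8d29fc20) (.leaf (nat_lit 0x2a7b6de32cbc468ad387791ba838525fcca9f820)) (.leaf (nat_lit 0x2a7b8bdb2cdc4e8abb43691fc8504a5f8d29fc20)))))) (.node (nat_lit 0x30b31db3bcbe972193136a9f63a3f4a97ce82420) (.node (nat_lit 0x30b2cdc7babf26a3a30b6c9f6193d4aa7ee81420)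 (.node (nat_lit 0x30b2cbc7bcdea721a2cb7a9b8393eeaa7d481420) (.leaf (nat_lit 0x2a7b8ddb31bb0e483b837a1baad0d25f84a9fc20)) (.leaf (nat_lit 0x30b2cbc7bcdea721a2cb7a9b8393eeaa7d481420))) (.node (nat_lit 0x30b31bb3badf16a392d37c9b81a3cea97f482420) (.leaf (nat_lit 0x30b2cdc7babf26a3a30b6c9f6193d4aa7ee81420)) (.leaf (nat_lit 0x30b31bb3badf16a392d37c9b81a3cea97f482420)))) (.node (nat_lit 0x30b578ef996748a3ada8c4acf1ce09fd2a5f3820) (.node (nat_lit 0x30b5766f9d8e4921ade8b2b0d3cea5fd209f3820) (.leaf (nat_lit 0x30b31db3bcbe972193136a9f63a3f4a97ce82420)) (.leaf (nat_lit 0x30b5766f9d8e4921ade8b2b0d3cea5fd209f3820))) (.node (nat_lit 0x30b5b65f998f50a3cde4b4b0d1ae05fbaa9f5020) (.leaf (nat_lit 0x30b578ef996748a3ada8c4acf1ce09fd2a5f3820)) (.node (nat_lit 0x30b5b8df9d665121cda4c2acf3aea9fba05f5020) (.leaf (nat_lit 0x30b5b65f998f50a3cde4b4b0d1ae05fbaa9f5020)) (.leaf (nat_lit 0x30b5b8df9d665121cda4c2acf3aea9fba05f5020)))))))))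 (.node (nat_lit 0x4137a6f2f67e0d52ce22cc3ac4ae47fb943f5020) (.node (nat_lit 0x38eddd670de3d229536561a37538909f9155fc20) (.node (nat_lit 0x38dbaef1f6ce2829262eb9b6c5157f4567e24020) (.node (nat_lit 0x30bacbc73adf172193136a9f63a3ce827f4a9420) (.node (nat_lit 0x30b9b65f5d8e48a3ada8c4acf1cea5f3a09fd020) (.node (nat_lit 0x30b978ef5d6650a3cde4b4b0d1aea9f5205fb820) (.leaf (nat_lit 0x30b9766f598f5121cda4c2acf3ae05f52a9fb820)) (.leaf (nat_lit 0x30b978ef5d6650a3cde4b4b0d1aea9f5205fb820))) (.node (nat_lit 0x30b9b8df59674921ade8b2b0d3ce09f3aa5fd020) (.leaf (nat_lit 0x30b9b65f5d8e48a3ada8c4acf1cea5f3a09fd020)) (.leaf (nat_lit 0x30b9b8df59674921ade8b2b0d3ce09f3aa5fd020)))) (.node (nat_lit 0x30bb1bb33cdea6a3a30b6c9f6193ee817d4aa420) (.node (nat_lit 0x30bacdc73cbe96a392d37c9b81a3f4827cea9420) (.leaf (nat_lit 0x30bacbc73adf172193136a9f63a3ce827f4a9420)) (.leaf (nat_lit 0x30bacdc73cbe96a392d37c9b81a3f4827cea9420)))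 (.node (nat_lit 0x30bb1db33abf2721a2cb7a9b8393d4817eeaa420) (.leaf (nat_lit 0x30bb1bb33cdea6a3a30b6c9f6193ee817d4aa420)) (.node (nat_lit 0x38dbacf1f8eda865258ed8af19167e4557f24020) (.leaf (nat_lit 0x30bb1db33abf2721a2cb7a9b8393d4817eeaa420)) (.leaf (nat_lit 0x38dbacf1f8eda865258ed8af19167e4557f24020)))))) (.node (nat_lit 0x38dfaef1b8cd9c291594d9af15267f2557e44020) (.node (nat_lit 0x38dbcee9f8cd9c651634b8b6c9267f4417e25420) (.node (nat_lit 0x38dbcce9f6ee1c291594d9af15257e4427f25420) (.leaf (nat_lit 0x38dbaef1f6ce2829262eb9b6c5157f4567e24020)) (.leaf (nat_lit 0x38dbcce9f6ee1c291594d9af15257e4427f25420))) (.node (nat_lit 0x38dfacf1b6ee1c651634b8b6c9257e2567f44020) (.leaf (nat_lit 0x38dbcee9f8cd9c651634b8b6c9267f4417e25420)) (.leaf (nat_lit 0x38dfacf1b6ee1c651634b8b6c9257e2567f44020)))) (.node (nat_lit 0x38dfcee9b6ce2865258ed8af19157f2427e45420) (.node (nat_lit 0x38dfcce9b8eda829262eb9b6c5167e2417f45420)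 (.leaf (nat_lit 0x38dfaef1b8cd9c291594d9af15267f2557e44020)) (.leaf (nat_lit 0x38dfcce9b8eda829262eb9b6c5167e2417f45420))) (.node (nat_lit 0x38ed9d770fe34a653b6960a37951109fc955f820) (.leaf (nat_lit 0x38dfcee9b6ce2865258ed8af19157f2427e45420)) (.node (nat_lit 0x38ed9e770dd3ca293ae98999b550959fd105f820) (.leaf (nat_lit 0x38ed9d770fe34a653b6960a37951109fc955f820)) (.leaf (nat_lit 0x38ed9e770dd3ca293ae98999b550959fd105f820))))))) (.node (nat_lit 0x412cfe371bd5d7528b338c19d49bce51ff490c20) (.node (nat_lit 0x38f1dd66cfe34a293ae98999b551105f8959fc20) (.node (nat_lit 0x38f19d76cde3d26552e58899b938905fd159f820) (.node (nat_lit 0x38edde670fd3526552e58899b939159f8905fc20) (.leaf (nat_lit 0x38eddd670de3d229536561a37538909f9155fc20)) (.leaf (nat_lit 0x38edde670fd3526552e58899b939159f8905fc20))) (.node (nat_lit 0x38f19e76cfd35229536561a37539155fc909f820) (.leaf (nat_lit 0x38f19d76cde3d26552e58899b938905fd159f820))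 (.leaf (nat_lit 0x38f19e76cfd35229536561a37539155fc909f820)))) (.node (nat_lit 0x412cdd3f1be5e7529bab6423948bd450fee91c20) (.node (nat_lit 0x38f1de66cdd3ca653b6960a37950955f9109fc20) (.leaf (nat_lit 0x38f1dd66cfe34a293ae98999b551105f8959fc20)) (.leaf (nat_lit 0x38f1de66cdd3ca653b6960a37950955f9109fc20))) (.node (nat_lit 0x412cde3f17d6e7049b2b8d59d28bee50fd491c20) (.leaf (nat_lit 0x412cdd3f1be5e7529bab6423948bd450fee91c20)) (.node (nat_lit 0x412cfd3717e6d7048bb36563929bf451fce90c20) (.leaf (nat_lit 0x412cde3f17d6e7049b2b8d59d28bee50fd491c20)) (.leaf (nat_lit 0x412cfd3717e6d7048bb36563929bf451fce90c20)))))) (.node (nat_lit 0x412fc7eb786d8d52ce22cc3ac4ad43f5247fb820) (.node (nat_lit 0x412fa7f3766e0504ae26cd7ac2ce43f3947fd020) (.node (nat_lit 0x412fa6f3787d8552ad86ec3314cd47f3a43fd020) (.leaf (nat_lit 0x412cfe371bd5d7528b338c19d49bce51ff490c20)) (.leaf (nat_lit 0x412fa6f3787d8552ad86ec3314cd47f3a43fd020)))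 (.node (nat_lit 0x412fc6eb767e0d04cd82ed7312ae47f5143fb820) (.leaf (nat_lit 0x412fa7f3766e0504ae26cd7ac2ce43f3947fd020)) (.leaf (nat_lit 0x412fc6eb767e0d04cd82ed7312ae47f5143fb820)))) (.node (nat_lit 0x4130de3edbd5d7048bb36563929bce90ff451c20) (.node (nat_lit 0x4130dd3ed7e6d7528b338c19d49bf490fce51c20) (.leaf (nat_lit 0x412fc7eb786d8d52ce22cc3ac4ad43f5247fb820)) (.leaf (nat_lit 0x4130dd3ed7e6d7528b338c19d49bf490fce51c20))) (.node (nat_lit 0x4130fd36dbe5e7049b2b8d59d28bd491fee50c20) (.leaf (nat_lit 0x4130de3edbd5d7048bb36563929bce90ff451c20)) (.node (nat_lit 0x4130fe36d7d6e7529bab6423948bee91fd450c20) (.leaf (nat_lit 0x4130fd36dbe5e7049b2b8d59d28bd491fee50c20)) (.leaf (nat_lit 0x4130fe36d7d6e7529bab6423948bee91fd450c20)))))))) (.node (nat_lit 0x497b8bdb31db064abb876a1fa850529fcca5f820) (.node (nat_lit 0x49637c6d9db65c4a8df4d238d81d7e32a7f14820) (.node (nat_lit 0x49597b6e3dc668881deed138da8d7f12a7e34820)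 (.node (nat_lit 0x4137c6eaf87d8504ae26cd7ac2cd47fd243f3820) (.node (nat_lit 0x4137a7f2f86d8d04cd82ed7312ad43fba47f5020) (.leaf (nat_lit 0x4137a6f2f67e0d52ce22cc3ac4ae47fb943f5020)) (.leaf (nat_lit 0x4137a7f2f86d8d04cd82ed7312ad43fba47f5020))) (.node (nat_lit 0x4137c7eaf66e0552ad86ec3314ce43fd147f3820) (.leaf (nat_lit 0x4137c6eaf87d8504ae26cd7ac2cd47fd243f3820)) (.leaf (nat_lit 0x4137c7eaf66e0552ad86ec3314ce43fd147f3820)))) (.node (nat_lit 0x4959bb5e39c75c4a8df4d238d81e7f1497e32820) (.node (nat_lit 0x49597c6e39b7684a9daee234f80e7e1297f34820) (.leaf (nat_lit 0x49597b6e3dc668881deed138da8d7f12a7e34820)) (.leaf (nat_lit 0x49597c6e39b7684a9daee234f80e7e1297f34820))) (.node (nat_lit 0x4959bc5e3db65c880db4e134fa9d7e14a7f32820) (.leaf (nat_lit 0x4959bb5e39c75c4a8df4d238d81e7f1497e32820)) (.node (nat_lit 0x49637b6d99c75c880db4e134fa9e7f3297e14820) (.leaf (nat_lit 0x4959bc5e3db65c880db4e134fa9d7e14a7f32820))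 (.leaf (nat_lit 0x49637b6d99c75c880db4e134fa9e7f3297e14820)))))) (.node (nat_lit 0x49736de3acbc464abb876a1fa850ca5f8529fc20) (.node (nat_lit 0x4963bc5d99b768881deed138da8e7e3497f12820) (.node (nat_lit 0x4963bb5d9dc6684a9daee234f80d7f34a7e12820) (.leaf (nat_lit 0x49637c6d9db65c4a8df4d238d81d7e32a7f14820)) (.leaf (nat_lit 0x4963bb5d9dc6684a9daee234f80d7f34a7e12820))) (.node (nat_lit 0x49736be3b1db06883b47791bcad0525f8ca9fc20) (.leaf (nat_lit 0x4963bc5d99b768881deed138da8e7e3497f12820)) (.leaf (nat_lit 0x49736be3b1db06883b47791bcad0525f8ca9fc20)))) (.node (nat_lit 0x49738ddbb1bb0e885383691faab84a5fcd29f820) (.node (nat_lit 0x49738bdbacdc4e4ad3437a1bc838d25fc4a9f820) (.leaf (nat_lit 0x49736de3acbc464abb876a1fa850ca5f8529fc20)) (.leaf (nat_lit 0x49738bdbacdc4e4ad3437a1bc838d25fc4a9f820))) (.node (nat_lit 0x497b6be32cdc4e885383691faab8d29f84a5fc20) (.leaf (nat_lit 0x49738ddbb1bb0e885383691faab84a5fcd29f820))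 (.node (nat_lit 0x497b6de331bb0e4ad3437a1bc8384a9f8d25fc20) (.leaf (nat_lit 0x497b6be32cdc4e885383691faab8d29f84a5fc20)) (.leaf (nat_lit 0x497b6de331bb0e4ad3437a1bc8384a9f8d25fc20))))))) (.node (nat_lit 0x54a2fc359bb5ea317b30d1f9d37ca4a4d2872c20) (.node (nat_lit 0x5498fb363bc5e0737f35d0f9d178a874d24a2c20) (.node (nat_lit 0x5498db3e37c6ea317b30d1f9d37d2872ca4a4c20) (.node (nat_lit 0x497b8ddb2cbc46883b47791bcad0ca9fc525f820) (.leaf (nat_lit 0x497b8bdb31db064abb876a1fa850529fcca5f820)) (.leaf (nat_lit 0x497b8ddb2cbc46883b47791bcad0ca9fc525f820))) (.node (nat_lit 0x5498dc3e3bb5ea737bb0e0f5917ca472d28a4c20) (.leaf (nat_lit 0x5498db3e37c6ea317b30d1f9d37d2872ca4a4c20)) (.leaf (nat_lit 0x5498dc3e3bb5ea737bb0e0f5917ca472d28a4c20)))) (.node (nat_lit 0x54a2db3d9bc5e0317fb5e1f59378a8a2d2474c20) (.node (nat_lit 0x5498fc3637b6e0317fb5e1f593792474ca8a2c20) (.leaf (nat_lit 0x5498fb363bc5e0737f35d0f9d178a874d24a2c20))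 (.leaf (nat_lit 0x5498fc3637b6e0317fb5e1f593792474ca8a2c20))) (.node (nat_lit 0x54a2dc3d97b6e0737f35d0f9d17924a2ca874c20) (.leaf (nat_lit 0x54a2db3d9bc5e0317fb5e1f59378a8a2d2474c20)) (.node (nat_lit 0x54a2fb3597c6ea737bb0e0f5917d28a4ca472c20) (.leaf (nat_lit 0x54a2dc3d97b6e0737f35d0f9d17924a2ca874c20)) (.leaf (nat_lit 0x54a2fb3597c6ea737bb0e0f5917d28a4ca472c20)))))) (.node (nat_lit 0x54af87db6c6c7e31435ec9fbc3568b2a1d349020) (.node (nat_lit 0x54af67e3716b3c73575fc8fbc141cb292934a020) (.node (nat_lit 0x54af66e36c7c7c31579fe9f3a34293291cb4a020) (.leaf (nat_lit 0x54a2fc359bb5ea317b30d1f9d37ca4a4d2872c20)) (.leaf (nat_lit 0x54af66e36c7c7c31579fe9f3a34293291cb4a020))) (.node (nat_lit 0x54af86db717b3e73439ee8f3a155d32a28b49020) (.leaf (nat_lit 0x54af67e3716b3c73575fc8fbc141cb292934a020)) (.leaf (nat_lit 0x54af86db717b3e73439ee8f3a155d32a28b49020)))) (.node (nat_lit 0x54b767e2ec6c7e73439ee8f3a1568b491d32a020)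 (.node (nat_lit 0x54b766e2f17b3e31435ec9fbc355d34928b2a020) (.leaf (nat_lit 0x54af87db6c6c7e31435ec9fbc3568b2a1d349020)) (.leaf (nat_lit 0x54b766e2f17b3e31435ec9fbc355d34928b2a020))) (.node (nat_lit 0x54b786daec7c7c73575fc8fbc142934a1cb29020) (.leaf (nat_lit 0x54b767e2ec6c7e73439ee8f3a1568b491d32a020)) (.node (nat_lit 0x54b787daf16b3c31579fe9f3a341cb4a29329020) (.leaf (nat_lit 0x54b786daec7c7c73575fc8fbc142934a1cb29020)) (.leaf (nat_lit 0x54b787daf16b3c31579fe9f3a341cb4a29329020)))))))))) (.node (nat_lit 0x9adf6ce1b1eb09fa0b48bfb7c71aa590e0951c20) (.node (nat_lit 0x855eccc5bcee94527ed2ba778478e274c66a2c20) (.node (nat_lit 0x752f16b37a7f133f0ec5eaf38f9d153289014820) (.node (nat_lit 0x5cdf6ee1b1cb11f70b44dfafca1a0551ea990c20) (.node (nat_lit 0x5cdb6ce1f1eb09ea1b48dfefc70a0991ea550c20) (.node (nat_lit 0x5cd9db662dc3cdf71362d7b97a214382647a9420) (.node (nat_lit 0x5cd99c762db3c5f722e6e7b5ba114781643aa420)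 (.leaf (nat_lit 0x5cd99b762fc345ea2366d7f977124381547aa420)) (.leaf (nat_lit 0x5cd99c762db3c5f722e6e7b5ba114781643aa420))) (.node (nat_lit 0x5cd9dc662fb34dea12e2e7f5b7224782543a9420) (.leaf (nat_lit 0x5cd9db662dc3cdf71362d7b97a214382647a9420)) (.leaf (nat_lit 0x5cd9dc662fb34dea12e2e7f5b7224782543a9420)))) (.node (nat_lit 0x5cdb8cd9ecec51f70b44dfafca1aa990e0551c20) (.node (nat_lit 0x5cdb6ee1eccc49f71b88bfb7aa0aa591e0950c20) (.leaf (nat_lit 0x5cdb6ce1f1eb09ea1b48dfefc70a0991ea550c20)) (.leaf (nat_lit 0x5cdb6ee1eccc49f71b88bfb7aa0aa591e0950c20))) (.node (nat_lit 0x5cdb8ed9f1cb11ea0b84bff7a71a0590ea951c20) (.leaf (nat_lit 0x5cdb8cd9ecec51f70b44dfafca1aa990e0551c20)) (.node (nat_lit 0x5cdf6ce1acec51ea0b84bff7a71aa951e0590c20) (.leaf (nat_lit 0x5cdb8ed9f1cb11ea0b84bff7a71a0590ea951c20)) (.leaf (nat_lit 0x5cdf6ce1acec51ea0b84bff7a71aa951e0590c20)))))) (.node (nat_lit 0x5ce39c758fb34df71362d7b97a2247a954382420)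 (.node (nat_lit 0x5cdf8ed9accc49ea1b48dfefc70aa550e0991c20) (.node (nat_lit 0x5cdf8cd9b1eb09f71b88bfb7aa0a0950ea591c20) (.leaf (nat_lit 0x5cdf6ee1b1cb11f70b44dfafca1a0551ea990c20)) (.leaf (nat_lit 0x5cdf8cd9b1eb09f71b88bfb7aa0a0950ea591c20))) (.node (nat_lit 0x5ce39b758dc3cdea12e2e7f5b72143a964782420) (.leaf (nat_lit 0x5cdf8ed9accc49ea1b48dfefc70aa550e0991c20)) (.leaf (nat_lit 0x5ce39b758dc3cdea12e2e7f5b72143a964782420)))) (.node (nat_lit 0x5ce3dc658db3c5ea2366d7f9771147aa64381420) (.node (nat_lit 0x5ce3db658fc345f722e6e7b5ba1243aa54781420) (.leaf (nat_lit 0x5ce39c758fb34df71362d7b97a2247a954382420)) (.leaf (nat_lit 0x5ce3db658fc345f722e6e7b5ba1243aa54781420))) (.node (nat_lit 0x752ec6c77c7e8abf9ec9ecf38f0c953491012820) (.leaf (nat_lit 0x5ce3dc658db3c5ea2366d7f9771147aa64381420)) (.node (nat_lit 0x752ec7c77a6f0b3f1f09cafb6f8d103489512820) (.leaf (nat_lit 0x752ec6c77c7e8abf9ec9ecf38f0c953491012820))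 (.leaf (nat_lit 0x752ec7c77a6f0b3f1f09cafb6f8d103489512820))))))) (.node (nat_lit 0x753717b2fa6f0abf9ec9ecf38f0d101289534820) (.node (nat_lit 0x7534f637978ecf3f17a3b2f19fa44a254d244020) (.node (nat_lit 0x7534d63f9b8dc6bfa7a7b4f19f14ca2405245420) (.node (nat_lit 0x752f17b37c6e92bf8f05ccfb6f1c903291514820) (.leaf (nat_lit 0x752f16b37a7f133f0ec5eaf38f9d153289014820)) (.leaf (nat_lit 0x752f17b37c6e92bf8f05ccfb6f1c903291514820))) (.node (nat_lit 0x7534d8bf9766c73f2727c2eddf9452240ca45420) (.leaf (nat_lit 0x7534d63f9b8dc6bfa7a7b4f19f14ca2405245420)) (.leaf (nat_lit 0x7534d8bf9766c73f2727c2eddf9452240ca45420)))) (.node (nat_lit 0x7536c6c6fa7f12bf8f05ccfb6f1d151489032820) (.node (nat_lit 0x7534f8b79b65cebf9723c4eddf24d22544a44020) (.leaf (nat_lit 0x7534f637978ecf3f17a3b2f19fa44a254d244020)) (.leaf (nat_lit 0x7534f8b79b65cebf9723c4eddf24d22544a44020))) (.node (nat_lit 0x7536c7c6fc6e933f0ec5eaf38f9c901491532820)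 (.leaf (nat_lit 0x7536c6c6fa7f12bf8f05ccfb6f1d151489032820)) (.node (nat_lit 0x753716b2fc7e8b3f1f09cafb6f8c951291034820) (.leaf (nat_lit 0x7536c7c6fc6e933f0ec5eaf38f9c901491532820)) (.leaf (nat_lit 0x753716b2fc7e8b3f1f09cafb6f8c951291034820)))))) (.node (nat_lit 0x7538f8b75766c6bfa7a7b4f19f1452454ca24020) (.node (nat_lit 0x7538d8bf5b65cf3f17a3b2f19fa4d24404a25420) (.node (nat_lit 0x7538d63f578ecebf9723c4eddf244a440d225420) (.leaf (nat_lit 0x753717b2fa6f0abf9ec9ecf38f0d101289534820)) (.leaf (nat_lit 0x7538d63f578ecebf9723c4eddf244a440d225420))) (.node (nat_lit 0x7538f6375b8dc73f2727c2eddf94ca4545224020) (.leaf (nat_lit 0x7538d8bf5b65cf3f17a3b2f19fa4d24404a25420)) (.leaf (nat_lit 0x7538f6375b8dc73f2727c2eddf94ca4545224020)))) (.node (nat_lit 0x855acec5fccea4947acab977827ce6a4c6272c20) (.node (nat_lit 0x855accc5faef24527b0ada6f647c62a4ce672c20) (.leaf (nat_lit 0x7538f8b75766c6bfa7a7b4f19f1452454ca24020))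 (.leaf (nat_lit 0x855accc5faef24527b0ada6f647c62a4ce672c20))) (.node (nat_lit 0x855b1cb1fcee94947f12d96f6278e2a2c6674c20) (.leaf (nat_lit 0x855acec5fccea4947acab977827ce6a4c6272c20)) (.node (nat_lit 0x855b1eb1facf14527ed2ba77847866a2ce274c20) (.leaf (nat_lit 0x855b1cb1fcee94947f12d96f6278e2a2c6674c20)) (.leaf (nat_lit 0x855b1eb1facf14527ed2ba77847866a2ce274c20)))))))) (.node (nat_lit 0x92a2fb359bc5e0337b35e1f5d17d2472ca8a4c20) (.node (nat_lit 0x857998f74d63fe942afeb171b249d319a8b38820) (.node (nat_lit 0x857596778d8bfc524affb271b429cb39a9318820) (.node (nat_lit 0x855f1cb1baef24947acab977827c6272ce6a4c20) (.node (nat_lit 0x855ecec5bacf14947f12d96f62786674ce2a2c20) (.leaf (nat_lit 0x855eccc5bcee94527ed2ba778478e274c66a2c20)) (.leaf (nat_lit 0x855ecec5bacf14947f12d96f62786674ce2a2c20))) (.node (nat_lit 0x855f1eb1bccea4527b0ada6f647ce672c62a4c20) (.leaf (nat_lit 0x855f1cb1baef24947acab977827c6272ce6a4c20))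 (.leaf (nat_lit 0x855f1eb1bccea4527b0ada6f647ce672c62a4c20)))) (.node (nat_lit 0x8575d6678f8b7e942afeb171b24a8b389d319820) (.node (nat_lit 0x857598f78f637c944b7fc16d722a93399cb18820) (.leaf (nat_lit 0x857596778d8bfc524affb271b429cb39a9318820)) (.leaf (nat_lit 0x857598f78f637c944b7fc16d722a93399cb18820))) (.node (nat_lit 0x8575d8e78d63fe522b7ec26d7449d338a8b19820) (.leaf (nat_lit 0x8575d6678f8b7e942afeb171b24a8b389d319820)) (.node (nat_lit 0x857996774f8b7e522b7ec26d744a8b199d338820) (.leaf (nat_lit 0x8575d8e78d63fe522b7ec26d7449d338a8b19820)) (.leaf (nat_lit 0x857996774f8b7e522b7ec26d744a8b199d338820)))))) (.node (nat_lit 0x9298dc3e37b6e0337b35e1f5d17ca8a4d2472c20) (.node (nat_lit 0x8579d8e74f637c524affb271b42a93189cb39820) (.node (nat_lit 0x8579d6674d8bfc944b7fc16d7229cb18a9339820) (.leaf (nat_lit 0x857998f74d63fe942afeb171b249d319a8b38820)) (.leaf (nat_lit 0x8579d6674d8bfc944b7fc16d7229cb18a9339820)))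 (.node (nat_lit 0x9298db3e3bc5e0717bb5d0f9937d24a4ca872c20) (.leaf (nat_lit 0x8579d8e74f637c524affb271b42a93189cb39820)) (.leaf (nat_lit 0x9298db3e3bc5e0717bb5d0f9937d24a4ca872c20)))) (.node (nat_lit 0x9298fc363bb5ea717f30e0f5d37928a2ca474c20) (.node (nat_lit 0x9298fb3637c6ea337fb0d1f99178a4a2d2874c20) (.leaf (nat_lit 0x9298dc3e37b6e0337b35e1f5d17ca8a4d2472c20)) (.leaf (nat_lit 0x9298fb3637c6ea337fb0d1f99178a4a2d2874c20))) (.node (nat_lit 0x92a2db3d97c6ea717f30e0f5d378a474d28a2c20) (.leaf (nat_lit 0x9298fc363bb5ea717f30e0f5d37928a2ca474c20)) (.node (nat_lit 0x92a2dc3d9bb5ea337fb0d1f991792874ca4a2c20) (.leaf (nat_lit 0x92a2db3d97c6ea717f30e0f5d378a474d28a2c20)) (.leaf (nat_lit 0x92a2dc3d9bb5ea337fb0d1f991792874ca4a2c20))))))) (.node (nat_lit 0x92b787daec6c7e71575ee8f3c341d32928b4a020) (.node (nat_lit 0x92af86db6c7c7c33435fe9f3c155cb492932a020) (.node (nat_lit 0x92af66e3717b3e71575ee8f3c3428b4a1d329020)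 (.node (nat_lit 0x92a2fc3597b6e0717bb5d0f9937ca872d24a4c20) (.leaf (nat_lit 0x92a2fb359bc5e0337b35e1f5d17d2472ca8a4c20)) (.leaf (nat_lit 0x92a2fc3597b6e0717bb5d0f9937ca872d24a4c20))) (.node (nat_lit 0x92af67e36c6c7e33579ec9fba141d34a28b29020) (.leaf (nat_lit 0x92af66e3717b3e71575ee8f3c3428b4a1d329020)) (.leaf (nat_lit 0x92af67e36c6c7e33579ec9fba141d34a28b29020)))) (.node (nat_lit 0x92b766e2ec7c7c71439fc8fba355cb2a29349020) (.node (nat_lit 0x92af87db716b3c71439fc8fba35693491cb2a020) (.leaf (nat_lit 0x92af86db6c7c7c33435fe9f3c155cb492932a020)) (.leaf (nat_lit 0x92af87db716b3c71439fc8fba35693491cb2a020))) (.node (nat_lit 0x92b767e2f16b3c33435fe9f3c156932a1cb49020) (.leaf (nat_lit 0x92b766e2ec7c7c71439fc8fba355cb2a29349020)) (.node (nat_lit 0x92b786daf17b3e33579ec9fba1428b291d34a020) (.leaf (nat_lit 0x92b767e2f16b3c33435fe9f3c156932a1cb49020)) (.leaf (nat_lit 0x92b786daf17b3e33579ec9fba1428b291d34a020))))))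 (.node (nat_lit 0x9ad9dc662db3c5fa1366e7b5772243a954782420) (.node (nat_lit 0x9ad99c762fb34de72362e7f57a1143aa64781420) (.node (nat_lit 0x9ad99b762dc3cdfa22e2d7b9b71247aa54381420) (.leaf (nat_lit 0x92b787daec6c7e71575ee8f3c341d32928b4a020)) (.leaf (nat_lit 0x9ad99b762dc3cdfa22e2d7b9b71247aa54381420))) (.node (nat_lit 0x9ad9db662fc345e712e6d7f9ba2147a964382420) (.leaf (nat_lit 0x9ad99c762fb34de72362e7f57a1143aa64781420)) (.leaf (nat_lit 0x9ad9db662fc345e712e6d7f9ba2147a964382420)))) (.node (nat_lit 0x9adb6ee1f1cb11e71b44bff7ca0aa950e0591c20) (.node (nat_lit 0x9adb6ce1ecec51fa1b84dfafa70a0550ea991c20) (.leaf (nat_lit 0x9ad9dc662db3c5fa1366e7b5772243a954782420)) (.leaf (nat_lit 0x9adb6ce1ecec51fa1b84dfafa70a0550ea991c20))) (.node (nat_lit 0x9adb8cd9f1eb09e70b88dfefaa1aa551e0990c20) (.leaf (nat_lit 0x9adb6ee1f1cb11e71b44bff7ca0aa950e0591c20)) (.node (nat_lit 0x9adb8ed9eccc49fa0b48bfb7c71a0951ea590c20)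 (.leaf (nat_lit 0x9adb8cd9f1eb09e70b88dfefaa1aa551e0990c20)) (.leaf (nat_lit 0x9adb8ed9eccc49fa0b48bfb7c71a0951ea590c20))))))))) (.node (nat_lit 0xac3996774d8bfc922affc16db44a93389cb19820) (.node (nat_lit 0xa3b716b2fa7f12bf1ec5ccfb8f8c903491512820) (.node (nat_lit 0xa3aec7c77c6e92bf1ec5ccfb8f8d151289034820) (.node (nat_lit 0x9ae39b758fc345fa1366e7b577214782643a9420) (.node (nat_lit 0x9adf8cd9acec51e71b44bff7ca0a0591ea950c20) (.node (nat_lit 0x9adf6ee1accc49e70b88dfefaa1a0990ea551c20) (.leaf (nat_lit 0x9adf6ce1b1eb09fa0b48bfb7c71aa590e0951c20)) (.leaf (nat_lit 0x9adf6ee1accc49e70b88dfefaa1a0990ea551c20))) (.node (nat_lit 0x9adf8ed9b1cb11fa1b84dfafa70aa991e0550c20) (.leaf (nat_lit 0x9adf8cd9acec51e71b44bff7ca0a0591ea950c20)) (.leaf (nat_lit 0x9adf8ed9b1cb11fa1b84dfafa70aa991e0550c20)))) (.node (nat_lit 0x9ae3db658dc3cde72362e7f57a124781543aa420) (.node (nat_lit 0x9ae39c758db3c5e712e6d7f9ba224382547a9420)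 (.leaf (nat_lit 0x9ae39b758fc345fa1366e7b577214782643a9420)) (.leaf (nat_lit 0x9ae39c758db3c5e712e6d7f9ba224382547a9420))) (.node (nat_lit 0x9ae3dc658fb34dfa22e2d7b9b7114381647aa420) (.leaf (nat_lit 0x9ae3db658dc3cde72362e7f57a124781543aa420)) (.node (nat_lit 0xa3aec6c77a7f133f9f05eaf36f0c901291534820) (.leaf (nat_lit 0x9ae3dc658fb34dfa22e2d7b9b7114381647aa420)) (.leaf (nat_lit 0xa3aec6c77a7f133f9f05eaf36f0c901291534820)))))) (.node (nat_lit 0xa3b4d8bf9b65cebf27a3c4ed9f944a454d224020) (.node (nat_lit 0xa3af17b37a6f0b3f8ec9cafb8f1c951491032820) (.node (nat_lit 0xa3af16b37c7e8abf0f09ecf36f9d101489532820) (.leaf (nat_lit 0xa3aec7c77c6e92bf1ec5ccfb8f8d151289034820)) (.leaf (nat_lit 0xa3af16b37c7e8abf0f09ecf36f9d101489532820))) (.node (nat_lit 0xa3b4d63f978ecf3fa723b2f1df14d24544a24020) (.leaf (nat_lit 0xa3af17b37a6f0b3f8ec9cafb8f1c951491032820)) (.leaf (nat_lit 0xa3b4d63f978ecf3fa723b2f1df14d24544a24020))))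 (.node (nat_lit 0xa3b4f8b79766c73f97a7c2ed9f24ca4405225420) (.node (nat_lit 0xa3b4f6379b8dc6bf1727b4f1dfa452440ca25420) (.leaf (nat_lit 0xa3b4d8bf9b65cebf27a3c4ed9f944a454d224020)) (.leaf (nat_lit 0xa3b4f6379b8dc6bf1727b4f1dfa452440ca25420))) (.node (nat_lit 0xa3b6c6c6fc7e8b3f8ec9cafb8f1d103289514820) (.leaf (nat_lit 0xa3b4f8b79766c73f97a7c2ed9f24ca4405225420)) (.node (nat_lit 0xa3b6c7c6fa6f0abf0f09ecf36f9c953291014820) (.leaf (nat_lit 0xa3b6c6c6fc7e8b3f8ec9cafb8f1d103289514820)) (.leaf (nat_lit 0xa3b6c7c6fa6f0abf0f09ecf36f9c953291014820))))))) (.node (nat_lit 0xac1b1eb1fccea4927f0ab97764786274ce6a2c20) (.node (nat_lit 0xa3b8f637578ecebf27a3c4ed9f94d22404a45420) (.node (nat_lit 0xa3b8d63f5b8dc73f97a7c2ed9f2452254ca44020) (.node (nat_lit 0xa3b717b2fc6e933f9f05eaf36f0d153489012820) (.leaf (nat_lit 0xa3b716b2fa7f12bf1ec5ccfb8f8c903491512820)) (.leaf (nat_lit 0xa3b717b2fc6e933f9f05eaf36f0d153489012820)))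 (.node (nat_lit 0xa3b8d8bf5766c6bf1727b4f1dfa4ca2545244020) (.leaf (nat_lit 0xa3b8d63f5b8dc73f97a7c2ed9f2452254ca44020)) (.leaf (nat_lit 0xa3b8d8bf5766c6bf1727b4f1dfa4ca2545244020)))) (.node (nat_lit 0xac1accc5fcee94927ad2d96f847c6672ce2a4c20) (.node (nat_lit 0xa3b8f8b75b65cf3fa723b2f1df144a240d245420) (.leaf (nat_lit 0xa3b8f637578ecebf27a3c4ed9f94d22404a45420)) (.leaf (nat_lit 0xa3b8f8b75b65cf3fa723b2f1df144a240d245420))) (.node (nat_lit 0xac1acec5facf14547b12ba77627ce272c66a4c20) (.leaf (nat_lit 0xac1accc5fcee94927ad2d96f847c6672ce2a4c20)) (.node (nat_lit 0xac1b1cb1faef24547ecada6f8278e674c62a2c20) (.leaf (nat_lit 0xac1acec5facf14547b12ba77627ce272c66a4c20)) (.leaf (nat_lit 0xac1b1cb1faef24547ecada6f8278e674c62a2c20)))))) (.node (nat_lit 0xac1f1eb1bacf14927ad2d96f847ce2a4c6672c20) (.node (nat_lit 0xac1ecec5bccea4547ecada6f827862a2ce674c20) (.node (nat_lit 0xac1eccc5baef24927f0ab9776478e6a2c6274c20)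 (.leaf (nat_lit 0xac1b1eb1fccea4927f0ab97764786274ce6a2c20)) (.leaf (nat_lit 0xac1eccc5baef24927f0ab9776478e6a2c6274c20))) (.node (nat_lit 0xac1f1cb1bcee94547b12ba77627c66a4ce272c20) (.leaf (nat_lit 0xac1ecec5bccea4547ecada6f827862a2ce674c20)) (.leaf (nat_lit 0xac1f1cb1bcee94547b12ba77627c66a4ce272c20)))) (.node (nat_lit 0xac3598f78d63fe544afec26db22a8b189d339820) (.node (nat_lit 0xac3596778f8b7e924b7eb1717429d318a8b39820) (.leaf (nat_lit 0xac1f1eb1bacf14927ad2d96f847ce2a4c6672c20)) (.leaf (nat_lit 0xac3596778f8b7e924b7eb1717429d318a8b39820))) (.node (nat_lit 0xac35d6678d8bfc542b7fb271724a93199cb38820) (.leaf (nat_lit 0xac3598f78d63fe544afec26db22a8b189d339820)) (.node (nat_lit 0xac35d8e78f637c922affc16db449cb19a9338820) (.leaf (nat_lit 0xac35d6678d8bfc542b7fb271724a93199cb38820)) (.leaf (nat_lit 0xac35d8e78f637c922affc16db449cb19a9338820)))))))) (.node (nat_lit 0xf7fbcbeb38dda145ca356b9ec9a8a81892439820)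 (.node (nat_lit 0xf7f17e6eddd66545c1ea63a2d9d4e6490622a020) (.node (nat_lit 0xf7ed7d6f1de654e9d5f26522d5c0e2290664a020) (.node (nat_lit 0xac39d6674f8b7e544afec26db229d339a8b18820) (.node (nat_lit 0xac3998f74f637c542b7fb2717249cb38a9319820) (.leaf (nat_lit 0xac3996774d8bfc922affc16db44a93389cb19820)) (.leaf (nat_lit 0xac3998f74f637c542b7fb2717249cb38a9319820))) (.node (nat_lit 0xac39d8e74d63fe924b7eb171742a8b399d318820) (.leaf (nat_lit 0xac39d6674f8b7e544afec26db229d339a8b18820)) (.leaf (nat_lit 0xac39d8e74d63fe924b7eb171742a8b399d318820)))) (.node (nat_lit 0xf7edbd5f19e76545c1ea63a2d9d4622a0e649020) (.node (nat_lit 0xf7ed7e6f19d75545d5b28b98f9c066290e24a020) (.leaf (nat_lit 0xf7ed7d6f1de654e9d5f26522d5c0e2290664a020)) (.leaf (nat_lit 0xf7ed7e6f19d75545d5b28b98f9c066290e24a020))) (.node (nat_lit 0xf7edbe5f1dd664e9c1aa8d18f5d4e62a06249020) (.leaf (nat_lit 0xf7edbd5f19e76545c1ea63a2d9d4622a0e649020))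 (.node (nat_lit 0xf7f17d6ed9e764e9c1aa8d18f5d462490e62a020) (.leaf (nat_lit 0xf7edbe5f1dd664e9c1aa8d18f5d4e62a06249020)) (.leaf (nat_lit 0xf7f17d6ed9e764e9c1aa8d18f5d462490e62a020)))))) (.node (nat_lit 0xf7f3adf3b6be2145ca356b9ec9a924398a818820) (.node (nat_lit 0xf7f1be5ed9d754e9d5f26522d5c0664a0e229020) (.node (nat_lit 0xf7f1bd5edde65545d5b28b98f9c0e24a06629020) (.leaf (nat_lit 0xf7f17e6eddd66545c1ea63a2d9d4e6490622a020)) (.leaf (nat_lit 0xf7f1bd5edde65545d5b28b98f9c0e24a06629020))) (.node (nat_lit 0xf7f3abf3b8dda0e9c9957d1b15a8a83992418820) (.leaf (nat_lit 0xf7f1be5ed9d754e9d5f26522d5c0664a0e229020)) (.leaf (nat_lit 0xf7f3abf3b8dda0e9c9957d1b15a8a83992418820)))) (.node (nat_lit 0xf7f3cdebb8bdaae9aa306d1ec5c8a43892819820) (.node (nat_lit 0xf7f3cbebb6de2b45a9907b9b19c928388a419820) (.leaf (nat_lit 0xf7f3adf3b6be2145ca356b9ec9a924398a818820)) (.leaf (nat_lit 0xf7f3cbebb6de2b45a9907b9b19c928388a419820)))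 (.node (nat_lit 0xf7fbabf336de2ae9aa306d1ec5c928198a438820) (.leaf (nat_lit 0xf7f3cdebb8bdaae9aa306d1ec5c8a43892819820)) (.node (nat_lit 0xf7fbadf338bdab45a9907b9b19c8a41992838820) (.leaf (nat_lit 0xf7fbabf336de2ae9aa306d1ec5c928198a438820)) (.leaf (nat_lit 0xf7fbadf338bdab45a9907b9b19c8a41992838820))))))) (.node (nat_lit 0xffb1be5eddd66549d5aa63a2f5c062290e64a020) (.node (nat_lit 0xffadbd5f1de654e5c1b26522f9d466490e22a020) (.node (nat_lit 0xffad7d6f19e76549d5aa63a2f5c0e64a06229020) (.node (nat_lit 0xf7fbcdeb36be20e9c9957d1b15a924188a839820) (.leaf (nat_lit 0xf7fbcbeb38dda145ca356b9ec9a8a81892439820)) (.leaf (nat_lit 0xf7fbcdeb36be20e9c9957d1b15a924188a839820))) (.node (nat_lit 0xffad7e6f1dd664e5d5ea8d18d9c0624a0e629020) (.leaf (nat_lit 0xffad7d6f19e76549d5aa63a2f5c0e64a06229020)) (.leaf (nat_lit 0xffad7e6f1dd664e5d5ea8d18d9c0624a0e629020)))) (.node (nat_lit 0xffb17d6edde65549c1f28b98d5d4662a0e249020)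 (.node (nat_lit 0xffadbe5f19d75549c1f28b98d5d4e2490662a020) (.leaf (nat_lit 0xffadbd5f1de654e5c1b26522f9d466490e22a020)) (.leaf (nat_lit 0xffadbe5f19d75549c1f28b98d5d4e2490662a020))) (.node (nat_lit 0xffb17e6ed9d754e5c1b26522f9d4e22a06649020) (.leaf (nat_lit 0xffb17d6edde65549c1f28b98d5d4662a0e249020)) (.node (nat_lit 0xffb1bd5ed9e764e5d5ea8d18d9c0e6290624a020) (.leaf (nat_lit 0xffb17e6ed9d754e5c1b26522f9d4e22a06649020)) (.leaf (nat_lit 0xffb1bd5ed9e764e5d5ea8d18d9c0e6290624a020)))))) (.node (nat_lit 0xffb3cdebb6be2149a9956b9f15c8a81992438820) (.node (nat_lit 0xffb3adf3b8bdaae5c9906d1f19a928188a439820) (.node (nat_lit 0xffb3abf3b6de2b49ca307b9ac5a8a41892839820) (.leaf (nat_lit 0xffb1be5eddd66549d5aa63a2f5c062290e64a020)) (.leaf (nat_lit 0xffb3abf3b6de2b49ca307b9ac5a8a41892839820))) (.node (nat_lit 0xffb3cbebb8dda0e5aa357d1ac9c924198a838820) (.leaf (nat_lit 0xffb3adf3b8bdaae5c9906d1f19a928188a439820))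 (.leaf (nat_lit 0xffb3cbebb8dda0e5aa357d1ac9c924198a838820)))) (.node (nat_lit 0xffbbadf336be20e5aa357d1ac9c8a83892419820) (.node (nat_lit 0xffbbabf338dda149a9956b9f15c924388a819820) (.leaf (nat_lit 0xffb3cdebb6be2149a9956b9f15c8a81992438820)) (.leaf (nat_lit 0xffbbabf338dda149a9956b9f15c924388a819820))) (.node (nat_lit 0xffbbcbeb36de2ae5c9906d1f19a8a43992818820) (.leaf (nat_lit 0xffbbadf336be20e5aa357d1ac9c8a83892419820)) (.node (nat_lit 0xffbbcdeb38bdab49ca307b9ac5a928398a418820) (.leaf (nat_lit 0xffbbcbeb36de2ae5c9906d1f19a8a43992818820)) (.leaf (nat_lit 0xffbbcdeb38bdab49ca307b9ac5a928398a418820)))))))))))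
noncomputable def AP_lKL_T : ST := AP_lKL_T0
theorem AP_lKL_E {G : Type*} [Group G] {R : ℕ → G → Prop} {z u v a b i j k l x y r s t : G}
    (M : Md0 AP_o AP_cs R [z, u, v, a, b, i, j, k, l, x, y, r, s, t]) :
    EnumS R AP_lKL (sp [i, x, y, r]) :=
  enumS_tree M.μ.1 (M.reps.tms M.μ.1 [(.v (nat_lit 5)), (.v (nat_lit 9)), (.v (nat_lit 10)), (.v (nat_lit 11))] (cs' := [(nat_lit 0xf7f3abf3b8dda0e9c9957d1b15a8a83992418820), (nat_lit 0x54b786daec7c7c73575fc8fbc142934a1cb29020), (nat_lit 0x9adb8ed9eccc49fa0b48bfb7c71a0951ea590c20), (nat_lit 0x857598f78f637c944b7fc16d722a93399cb18820)]) (by decide +kernel))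
    (Ws := AP_lKL_W) (T := AP_lKL_T) (by decide +kernel) (by decide +kernel)
theorem AP_lKL_c {G : Type*} [Group G] {R : ℕ → G → Prop} {z u v a b i j k l x y r s t : G}
    (M : Md0 AP_o AP_cs R [z, u, v, a, b, i, j, k, l, x, y, r, s, t]) :
    #(sp [i, x, y, r]) = 288 :=
  (AP_lKL_E M).card M.μ (h := AP_lKL_h) (by decide +kernel)
noncomputable def AP_lKR : List ℕ := [(nat_lit 0x11999d7637e6d63521f3c1ecd9129f2c1de4d420), (nat_lit 0x11999e763bd5d67921b3b0f0f511de2c29f4d420), (nat_lit 0x1199dd663be5e67911ebc0ecd521df2d69e4c020), (nat_lit 0x1199de6637d6e63511abb1f0f9229e2d5df4c020), (nat_lit 0x11a39d759be5e63511abb1f0f921df4c29e2d420), (nat_lit 0x11a39e7597d6e67911ebc0ecd5229e4c1df2d420), (nat_lit 0x11a3dd6597e6d67921b3b0f0f5129f4d5de2c020), (nat_lit 0x11a3de659bd5d63521f3c1ecd911de4d69f2c020), (nat_lit 0x11b2cbc7badf16a1a3137c9b6393f4817ceaa420), (nat_lit 0x11b2cdc7bcbe9723a2d36a9f8193ce817f4aa420),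 (nat_lit 0x11b31bb3bcdea723930b7a9b61a3d4827eea9420), (nat_lit 0x11b31db3babf26a192cb6c9f83a3ee827d4a9420), (nat_lit 0x11bacbc73cdea6a192cb6c9f83a3d4a97ee82420), (nat_lit 0x11bacdc73abf2723930b7a9b61a3eea97d482420), (nat_lit 0x11bb1bb33adf1723a2d36a9f8193f4aa7ce81420), (nat_lit 0x11bb1db33cbe96a1a3137c9b6393ceaa7f481420), (nat_lit 0x19dbacf1f6ee1c252634d9aec9167f2417e45420), (nat_lit 0x19dbaef1f8cd9c692594b8b715157e2427f45420), (nat_lit 0x19dbcce9f8eda869162ed8aec5257f2567e44020), (nat_lit 0x19dbcee9f6ce2825158eb9b719267e2557f44020), (nat_lit 0x19dfacf1b8eda825158eb9b719257f4427e25420), (nat_lit 0x19dfaef1b6ce2869162ed8aec5267e4417f25420), (nat_lit 0x19dfcce9b6ee1c692594b8b715167f4557e24020), (nat_lit 0x19dfcee9b8cd9c252634d9aec9157e4567f24020), (nat_lit 0x19f4db3f99c75ca127748c997317f3813cbaa020), (nat_lit 0x19f4dc3f9db65d2326f462a3b117cb813f3aa020), (nat_lit 0x19f4fb379dc66923176e8a997127d3823eba9020),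 (nat_lit 0x19f4fc3799b768a116ee64a3b327eb823d3a9020), (nat_lit 0x19f8db3f5dc668a116ee64a3b327d3a93eb82020), (nat_lit 0x19f8dc3f59b76923176e8a997127eba93d382020), (nat_lit 0x19f8fb3759c75d2326f462a3b117f3aa3cb81020), (nat_lit 0x19f8fc375db65ca127748c997317cbaa3f381020), (nat_lit 0x222fa6f3767e0d02ae22ed72c4cd43fd247f3820), (nat_lit 0x222fa7f3786d8d54ad82cc3b12ce47fd143f3820), (nat_lit 0x222fc6eb787d8554ce26ec32c2ae43fb947f5020), (nat_lit 0x222fc7eb766e0502cd86cd7b14ad47fba43f5020), (nat_lit 0x22357b6f8dc3cc582fa28a599acc6aa7cf277820), (nat_lit 0x22357c6f8fb34c9aaf226163d84cf2a7c6a77820), (nat_lit 0x2235bb5f8fc3449acfa68959982ceaa787277c20), (nat_lit 0x2235bc5f8db3c4584f266263daac72a78ea77c20), (nat_lit 0x2237a6f2f87d8502cd86cd7b14ae43f5147fb820), (nat_lit 0x2237a7f2f66e0554ce26ec32c2ad47f5243fb820), (nat_lit 0x2237c6eaf67e0d54ad82cc3b12cd43f3a47fd020), (nat_lit 0x2237c7eaf86d8d02ae22ed72c4ce47f3943fd020),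 (nat_lit 0x22397b6f4fc344584f266263daacea77c72a7820), (nat_lit 0x22397c6f4db3c49acfa68959982c7277ceaa7820), (nat_lit 0x2239bb5f4dc3cc9aaf226163d84c6a778f2a7c20), (nat_lit 0x2239bc5f4fb34c582fa28a599accf27786aa7c20), (nat_lit 0x2a6d9677178ecf0239e3e574d45142fce46f2c20), (nat_lit 0x2a6d98f71b65cf5439a3d438f25246fcd42f2c20), (nat_lit 0x2a6dd6671b8dc75451e7e434d23a42fad46f4c20), (nat_lit 0x2a6dd8e71766c70251a7d578f43946fae42f4c20), (nat_lit 0x2a719676db8dc70251a7d578f43a42f4d46fac20), (nat_lit 0x2a7198f6d766c75451e7e434d23946f4e42fac20), (nat_lit 0x2a71d666d78ecf5439a3d438f25142f2e46fcc20), (nat_lit 0x2a71d8e6db65cf0239e3e574d45246f2d42fcc20), (nat_lit 0x2a736be3acdc4e483b837a1baad04a9fcd25f820), (nat_lit 0x2a736de3b1bb0e8abb43691fc850d29fc4a5f820), (nat_lit 0x2a738bdbb1db068ad387791ba838ca9f8525fc20), (nat_lit 0x2a738ddbacbc464853476a1fcab8529f8ca5fc20), (nat_lit 0x2a7b6be331db064853476a1fcab8ca5fc529f820),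 (nat_lit 0x2a7b6de32cbc468ad387791ba838525fcca9f820), (nat_lit 0x2a7b8bdb2cdc4e8abb43691fc8504a5f8d29fc20), (nat_lit 0x2a7b8ddb31bb0e483b837a1baad0d25f84a9fc20), (nat_lit 0x30999d763be5e67521abc0ecf9129e4d5df2c020), (nat_lit 0x30999e7637d6e63921ebb1f0d511df4d69e2c020), (nat_lit 0x3099dd6637e6d63911b3c1ecf521de4c29f2d420), (nat_lit 0x3099de663bd5d67511f3b0f0d9229f4c1de2d420), (nat_lit 0x30a39d7597e6d67511f3b0f0d921de2d69f4c020), (nat_lit 0x30a39e759bd5d63911b3c1ecf5229f2d5de4c020), (nat_lit 0x30a3dd659be5e63921ebb1f0d5129e2c1df4d420), (nat_lit 0x30a3de6597d6e67521abc0ecf911df2c29e4d420), (nat_lit 0x30b2cbc7bcdea721a2cb7a9b8393eeaa7d481420), (nat_lit 0x30b2cdc7babf26a3a30b6c9f6193d4aa7ee81420), (nat_lit 0x30b31bb3badf16a392d37c9b81a3cea97f482420), (nat_lit 0x30b31db3bcbe972193136a9f63a3f4a97ce82420), (nat_lit 0x30bacbc73adf172193136a9f63a3ce827f4a9420), (nat_lit 0x30bacdc73cbe96a392d37c9b81a3f4827cea9420),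 (nat_lit 0x30bb1bb33cdea6a3a30b6c9f6193ee817d4aa420), (nat_lit 0x30bb1db33abf2721a2cb7a9b8393d4817eeaa420), (nat_lit 0x38dbacf1f8eda865258ed8af19167e4557f24020), (nat_lit 0x38dbaef1f6ce2829262eb9b6c5157f4567e24020), (nat_lit 0x38dbcce9f6ee1c291594d9af15257e4427f25420), (nat_lit 0x38dbcee9f8cd9c651634b8b6c9267f4417e25420), (nat_lit 0x38dfacf1b6ee1c651634b8b6c9257e2567f44020), (nat_lit 0x38dfaef1b8cd9c291594d9af15267f2557e44020), (nat_lit 0x38dfcce9b8eda829262eb9b6c5167e2417f45420), (nat_lit 0x38dfcee9b6ce2865258ed8af19157f2427e45420), (nat_lit 0x38f4db3f9dc6692126ee8a99b317ebaa3d381020), (nat_lit 0x38f4dc3f99b768a3276e64a37117d3aa3eb81020), (nat_lit 0x38f4fb3799c75ca316f48c99b127cba93f382020), (nat_lit 0x38f4fc379db65d21177462a37327f3a93cb82020), (nat_lit 0x38f8db3f59c75d21177462a37327cb823f3a9020), (nat_lit 0x38f8dc3f5db65ca316f48c99b127f3823cba9020), (nat_lit 0x38f8fb375dc668a3276e64a37117eb813d3aa020),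 (nat_lit 0x38f8fc3759b7692126ee8a99b317d3813ebaa020), (nat_lit 0x412fa6f3787d8552ad86ec3314cd47f3a43fd020), (nat_lit 0x412fa7f3766e0504ae26cd7ac2ce43f3947fd020), (nat_lit 0x412fc6eb767e0d04cd82ed7312ae47f5143fb820), (nat_lit 0x412fc7eb786d8d52ce22cc3ac4ad43f5247fb820), (nat_lit 0x41357b6f8fc344982f268959dacc72778eaa7c20), (nat_lit 0x41357c6f8db3c45aafa66263984cea77872a7c20), (nat_lit 0x4135bb5f8dc3cc5acf228a59d82cf277c6aa7820), (nat_lit 0x4135bc5f8fb34c984fa261639aac6a77cf2a7820), (nat_lit 0x4137a6f2f67e0d52ce22cc3ac4ae47fb943f5020), (nat_lit 0x4137a7f2f86d8d04cd82ed7312ad43fba47f5020), (nat_lit 0x4137c6eaf87d8504ae26cd7ac2cd47fd243f3820), (nat_lit 0x4137c7eaf66e0552ad86ec3314ce43fd147f3820), (nat_lit 0x41397b6f4dc3cc984fa261639aacf2a786a77c20), (nat_lit 0x41397c6f4fb34c5acf228a59d82c6aa78f277c20), (nat_lit 0x4139bb5f4fc3445aafa66263984c72a7cea77820), (nat_lit 0x4139bc5f4db3c4982f268959dacceaa7c7277820),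 (nat_lit 0x496d96771b8dc75239a7e434f45146f2e42fcc20), (nat_lit 0x496d98f71766c70439e7d578d25242f2d46fcc20), (nat_lit 0x496dd667178ecf0451a3e574f23a46f4d42fac20), (nat_lit 0x496dd8e71b65cf5251e3d438d43942f4e46fac20), (nat_lit 0x49719676d78ecf5251e3d438d43a46fad42f4c20), (nat_lit 0x497198f6db65cf0451a3e574f23942fae46f4c20), (nat_lit 0x4971d666db8dc70439e7d578d25146fce42f2c20), (nat_lit 0x4971d8e6d766c75239a7e434f45242fcd46f2c20), (nat_lit 0x49736be3b1db06883b47791bcad0525f8ca9fc20), (nat_lit 0x49736de3acbc464abb876a1fa850ca5f8529fc20), (nat_lit 0x49738bdbacdc4e4ad3437a1bc838d25fc4a9f820), (nat_lit 0x49738ddbb1bb0e885383691faab84a5fcd29f820), (nat_lit 0x497b6be32cdc4e885383691faab8d29f84a5fc20), (nat_lit 0x497b6de331bb0e4ad3437a1bc8384a9f8d25fc20), (nat_lit 0x497b8bdb31db064abb876a1fa850529fcca5f820), (nat_lit 0x497b8ddb2cbc46883b47791bcad0ca9fc525f820), (nat_lit 0x54ad766f0d8bfc21d7bfe1b593c2742156e42420),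 (nat_lit 0x54ad78ef0f637c63d73fd0b9d1c16e2167442420), (nat_lit 0x54adb65f0f8b7e63c3bee0b591d5742266e41420), (nat_lit 0x54adb8df0d63fe21c33ed1b9d3d66e2257441420), (nat_lit 0x54af66e36c7c7c31579fe9f3a34293291cb4a020), (nat_lit 0x54af67e3716b3c73575fc8fbc141cb292934a020), (nat_lit 0x54af86db717b3e73439ee8f3a155d32a28b49020), (nat_lit 0x54af87db6c6c7e31435ec9fbc3568b2a1d349020), (nat_lit 0x54b1766ecf8b7e21c33ed1b9d3d5744166e22420), (nat_lit 0x54b178eecd63fe63c3bee0b591d66e4157422420), (nat_lit 0x54b1b65ecd8bfc63d73fd0b9d1c2744256e21420), (nat_lit 0x54b1b8decf637c21d7bfe1b593c16e4267421420), (nat_lit 0x54b766e2f17b3e31435ec9fbc355d34928b2a020), (nat_lit 0x54b767e2ec6c7e73439ee8f3a1568b491d32a020), (nat_lit 0x54b786daec7c7c73575fc8fbc142934a1cb29020), (nat_lit 0x54b787daf16b3c31579fe9f3a341cb4a29329020), (nat_lit 0x5cdb6ce1f1eb09ea1b48dfefc70a0991ea550c20), (nat_lit 0x5cdb6ee1eccc49f71b88bfb7aa0aa591e0950c20),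 (nat_lit 0x5cdb8cd9ecec51f70b44dfafca1aa990e0551c20), (nat_lit 0x5cdb8ed9f1cb11ea0b84bff7a71a0590ea951c20), (nat_lit 0x5cdf6ce1acec51ea0b84bff7a71aa951e0590c20), (nat_lit 0x5cdf6ee1b1cb11f70b44dfafca1a0551ea990c20), (nat_lit 0x5cdf8cd9b1eb09f71b88bfb7aa0a0950ea591c20), (nat_lit 0x5cdf8ed9accc49ea1b48dfefc70aa550e0991c20), (nat_lit 0x5cecd63f1d8e48ef9ae8e535bf08b53c9301a820), (nat_lit 0x5cecd8bf1967494f1b68d3b97f89303c8b51a820), (nat_lit 0x5cecf637198f514f0ae4e3b5bf99353a8b01c820), (nat_lit 0x5cecf8b71d6650ef8b64d5397f18b03a9351c820), (nat_lit 0x5cf0d63ed98f50ef8b64d5397f19351c8b03a820), (nat_lit 0x5cf0d8bedd66514f0ae4e3b5bf98b01c9353a820), (nat_lit 0x5cf0f636dd8e494f1b68d3b97f88b51a9303c820), (nat_lit 0x5cf0f8b6d96748ef9ae8e535bf09301a8b53c820), (nat_lit 0x75197d6e2fe34be99f29c7edd58e0891aa450820), (nat_lit 0x75197e6e2dd3cbf59fa9b7b1998ea491a0850820), (nat_lit 0x7519bd5e2de3d3f58f25c7add99ea890a0451820),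 (nat_lit 0x7519be5e2fd353e98fa5b7f1959e0490aa851820), (nat_lit 0x75237d6d8de3d3e98fa5b7f1959ea851a0490820), (nat_lit 0x75237e6d8fd353f58f25c7add99e0451aa890820), (nat_lit 0x7523bd5d8fe34bf59fa9b7b1998e0850aa491820), (nat_lit 0x7523be5d8dd3cbe99f29c7edd58ea450a0891820), (nat_lit 0x752ec6c77c7e8abf9ec9ecf38f0c953491012820), (nat_lit 0x752ec7c77a6f0b3f1f09cafb6f8d103489512820), (nat_lit 0x752f16b37a7f133f0ec5eaf38f9d153289014820), (nat_lit 0x752f17b37c6e92bf8f05ccfb6f1c903291514820), (nat_lit 0x7536c6c6fa7f12bf8f05ccfb6f1d151489032820), (nat_lit 0x7536c7c6fc6e933f0ec5eaf38f9c901491532820), (nat_lit 0x753716b2fc7e8b3f1f09cafb6f8c951291034820), (nat_lit 0x753717b2fa6f0abf9ec9ecf38f0d101289534820), (nat_lit 0x8558dd3e39e76442fb6ac22d74fc439d0c75b820), (nat_lit 0x8558de3e3dd66484faeab131b2fcc79d0435b820), (nat_lit 0x8558fd363de65484ff72c12d72f8c39b8475d020), (nat_lit 0x8558fe3639d75442fef2b231b4f8479b8c35d020),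 (nat_lit 0x855accc5faef24527b0ada6f647c62a4ce672c20), (nat_lit 0x855acec5fccea4947acab977827ce6a4c6272c20), (nat_lit 0x855b1cb1fcee94947f12d96f6278e2a2c6674c20), (nat_lit 0x855b1eb1facf14527ed2ba77847866a2ce274c20), (nat_lit 0x855eccc5bcee94527ed2ba778478e274c66a2c20), (nat_lit 0x855ecec5bacf14947f12d96f62786674ce2a2c20), (nat_lit 0x855f1cb1baef24947acab977827c6272ce6a4c20), (nat_lit 0x855f1eb1bccea4527b0ada6f647ce672c62a4c20), (nat_lit 0x8562dd3d9de65442fef2b231b4f8c35d0479b820), (nat_lit 0x8562de3d99d75484ff72c12d72f8475d0c39b820), (nat_lit 0x8562fd3599e76484faeab131b2fc435b8c79d020), (nat_lit 0x8562fe359dd66442fb6ac22d74fcc75b8439d020), (nat_lit 0x92ad766f0f8b7e61d73ee0b5d3c26e4257421420), (nat_lit 0x92ad78ef0d63fe23d7bed1b991c1744266e21420), (nat_lit 0x92adb65f0d8bfc23c33fe1b5d1d56e4167422420), (nat_lit 0x92adb8df0f637c61c3bfd0b993d6744156e22420), (nat_lit 0x92af66e3717b3e71575ee8f3c3428b4a1d329020),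 (nat_lit 0x92af67e36c6c7e33579ec9fba141d34a28b29020), (nat_lit 0x92af86db6c7c7c33435fe9f3c155cb492932a020), (nat_lit 0x92af87db716b3c71439fc8fba35693491cb2a020), (nat_lit 0x92b1766ecd8bfc61c3bfd0b993d56e2267441420), (nat_lit 0x92b178eecf637c23c33fe1b5d1d6742256e41420), (nat_lit 0x92b1b65ecf8b7e23d7bed1b991c26e2157442420), (nat_lit 0x92b1b8decd63fe61d73ee0b5d3c1742166e42420), (nat_lit 0x92b766e2ec7c7c71439fc8fba355cb2a29349020), (nat_lit 0x92b767e2f16b3c33435fe9f3c156932a1cb49020), (nat_lit 0x92b786daf17b3e33579ec9fba1428b291d34a020), (nat_lit 0x92b787daec6c7e71575ee8f3c341d32928b4a020), (nat_lit 0x9adb6ce1ecec51fa1b84dfafa70a0550ea991c20), (nat_lit 0x9adb6ee1f1cb11e71b44bff7ca0aa950e0591c20), (nat_lit 0x9adb8cd9f1eb09e70b88dfefaa1aa551e0990c20), (nat_lit 0x9adb8ed9eccc49fa0b48bfb7c71a0951ea590c20), (nat_lit 0x9adf6ce1b1eb09fa0b48bfb7c71aa590e0951c20), (nat_lit 0x9adf6ee1accc49e70b88dfefaa1a0990ea551c20),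 (nat_lit 0x9adf8cd9acec51e71b44bff7ca0a0591ea950c20), (nat_lit 0x9adf8ed9b1cb11fa1b84dfafa70aa991e0550c20), (nat_lit 0x9aecd63f198f514f9b64e3b57f08b01a9353c820), (nat_lit 0x9aecd8bf1d6650ef1ae4d539bf89351a8b03c820), (nat_lit 0x9aecf6371d8e48ef0b68e5357f99301c8b53a820), (nat_lit 0x9aecf8b71967494f8ae8d3b9bf18b51c9303a820), (nat_lit 0x9af0d63edd8e494f8ae8d3b9bf19303a8b51c820), (nat_lit 0x9af0d8bed96748ef0b68e5357f98b53a9301c820), (nat_lit 0x9af0f636d98f50ef1ae4d539bf88b03c9351a820), (nat_lit 0x9af0f8b6dd66514f9b64e3b57f09353c8b01a820), (nat_lit 0xa3997d6e2de3d3f99fa5c7ad958e0450aa891820), (nat_lit 0xa3997e6e2fd353e59f25b7f1d98ea850a0491820), (nat_lit 0xa399bd5e2fe34be58fa9c7ed999ea451a0890820), (nat_lit 0xa399be5e2dd3cbf98f29b7b1d59e0851aa490820), (nat_lit 0xa3a37d6d8fe34bf98f29b7b1d59ea490a0851820), (nat_lit 0xa3a37e6d8dd3cbe58fa9c7ed999e0890aa451820), (nat_lit 0xa3a3bd5d8de3d3e59f25b7f1d98e0491aa850820),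 (nat_lit 0xa3a3be5d8fd353f99fa5c7ad958ea891a0450820), (nat_lit 0xa3aec6c77a7f133f9f05eaf36f0c901291534820), (nat_lit 0xa3aec7c77c6e92bf1ec5ccfb8f8d151289034820), (nat_lit 0xa3af16b37c7e8abf0f09ecf36f9d101489532820), (nat_lit 0xa3af17b37a6f0b3f8ec9cafb8f1c951491032820), (nat_lit 0xa3b6c6c6fc7e8b3f8ec9cafb8f1d103289514820), (nat_lit 0xa3b6c7c6fa6f0abf0f09ecf36f9c953291014820), (nat_lit 0xa3b716b2fa7f12bf1ec5ccfb8f8c903491512820), (nat_lit 0xa3b717b2fc6e933f9f05eaf36f0d153489012820), (nat_lit 0xac18dd3e3de65482faf2c12db4fc475b8c39d020), (nat_lit 0xac18de3e39d75444fb72b23172fcc35b8479d020), (nat_lit 0xac18fd3639e76444feeac22db2f8c75d0439b820), (nat_lit 0xac18fe363dd66482ff6ab13174f8435d0c79b820), (nat_lit 0xac1accc5fcee94927ad2d96f847c6672ce2a4c20), (nat_lit 0xac1acec5facf14547b12ba77627ce272c66a4c20), (nat_lit 0xac1b1cb1faef24547ecada6f8278e674c62a2c20), (nat_lit 0xac1b1eb1fccea4927f0ab97764786274ce6a2c20),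 (nat_lit 0xac1eccc5baef24927f0ab9776478e6a2c6274c20), (nat_lit 0xac1ecec5bccea4547ecada6f827862a2ce674c20), (nat_lit 0xac1f1cb1bcee94547b12ba77627c66a4ce272c20), (nat_lit 0xac1f1eb1bacf14927ad2d96f847ce2a4c6672c20), (nat_lit 0xac22dd3d99e76482ff6ab13174f8c79b8435d020), (nat_lit 0xac22de3d9dd66444feeac22db2f8439b8c75d020), (nat_lit 0xac22fd359de65444fb72b23172fc479d0c35b820), (nat_lit 0xac22fe3599d75482faf2c12db4fcc39d0475b820), (nat_lit 0xf7f3abf3b8dda0e9c9957d1b15a8a83992418820), (nat_lit 0xf7f3adf3b6be2145ca356b9ec9a924398a818820), (nat_lit 0xf7f3cbebb6de2b45a9907b9b19c928388a419820), (nat_lit 0xf7f3cdebb8bdaae9aa306d1ec5c8a43892819820), (nat_lit 0xf7f59b779bc5e0ba49b58cd8f7288931d0510c20), (nat_lit 0xf7f59c7797b6e13749f562e2da290531c8910c20), (nat_lit 0xf7f5db6797c6eb3729b08ad8fa490930c8511c20), (nat_lit 0xf7f5dc679bb5eaba29f064e2d7488530d0911c20), (nat_lit 0xf7f99b7757c6eaba29f064e2d7490911c8530c20),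 (nat_lit 0xf7f99c775bb5eb3729b08ad8fa488511d0930c20), (nat_lit 0xf7f9db675bc5e13749f562e2da288910d0531c20), (nat_lit 0xf7f9dc6757b6e0ba49b58cd8f7290510c8931c20), (nat_lit 0xf7fbabf336de2ae9aa306d1ec5c928198a438820), (nat_lit 0xf7fbadf338bdab45a9907b9b19c8a41992838820), (nat_lit 0xf7fbcbeb38dda145ca356b9ec9a8a81892439820), (nat_lit 0xf7fbcdeb36be20e9c9957d1b15a924188a839820), (nat_lit 0xffb3abf3b6de2b49ca307b9ac5a8a41892839820), (nat_lit 0xffb3adf3b8bdaae5c9906d1f19a928188a439820), (nat_lit 0xffb3cbebb8dda0e5aa357d1ac9c924198a838820), (nat_lit 0xffb3cdebb6be2149a9956b9f15c8a81992438820), (nat_lit 0xffb59b7797c6eb3a49f08ad8d7288510d0931c20), (nat_lit 0xffb59c779bb5eab749b064e2fa290910c8531c20), (nat_lit 0xffb5db679bc5e0b729f58cd8da490511c8930c20), (nat_lit 0xffb5dc6797b6e13a29b562e2f7488911d0530c20), (nat_lit 0xffb99b775bc5e13a29b562e2f7490530c8911c20), (nat_lit 0xffb99c7757b6e0b729f58cd8da488930d0511c20),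 (nat_lit 0xffb9db6757c6eab749b064e2fa288531d0910c20), (nat_lit 0xffb9dc675bb5eb3a49f08ad8d7290931c8510c20), (nat_lit 0xffbbabf338dda149a9956b9f15c924388a819820), (nat_lit 0xffbbadf336be20e5aa357d1ac9c8a83892419820), (nat_lit 0xffbbcbeb36de2ae5c9906d1f19a8a43992818820), (nat_lit 0xffbbcdeb38bdab49ca307b9ac5a928398a418820)]
noncomputable def AP_lKR_W : List (List ℕ) := [[(nat_lit 0), (nat_lit 1), (nat_lit 0), (nat_lit 2), (nat_lit 3)],
  [(nat_lit 3), (nat_lit 2), (nat_lit 0), (nat_lit 1), (nat_lit 0), (nat_lit 2), (nat_lit 0)],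
  [(nat_lit 0), (nat_lit 2), (nat_lit 0), (nat_lit 1), (nat_lit 0), (nat_lit 3)],
  [(nat_lit 0), (nat_lit 1), (nat_lit 2), (nat_lit 0), (nat_lit 3)],
  [(nat_lit 0), (nat_lit 1), (nat_lit 2), (nat_lit 3)],
  [(nat_lit 0), (nat_lit 2), (nat_lit 0), (nat_lit 1), (nat_lit 3)],
  [(nat_lit 3), (nat_lit 2), (nat_lit 0), (nat_lit 1), (nat_lit 0), (nat_lit 2)],
  [(nat_lit 0), (nat_lit 1), (nat_lit 0), (nat_lit 2), (nat_lit 0), (nat_lit 3)],
  [(nat_lit 1), (nat_lit 1), (nat_lit 0), (nat_lit 2), (nat_lit 0), (nat_lit 1), (nat_lit 1)],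
  [(nat_lit 0), (nat_lit 1), (nat_lit 0), (nat_lit 2), (nat_lit 0)],
  [(nat_lit 0), (nat_lit 1), (nat_lit 2)],
  [(nat_lit 0), (nat_lit 2), (nat_lit 0), (nat_lit 1)],
  [(nat_lit 0), (nat_lit 2), (nat_lit 0), (nat_lit 1), (nat_lit 0)],
  [(nat_lit 0), (nat_lit 1), (nat_lit 2), (nat_lit 0)],
  [(nat_lit 0), (nat_lit 1), (nat_lit 0), (nat_lit 2)],
  [(nat_lit 1), (nat_lit 1), (nat_lit 0), (nat_lit 1), (nat_lit 2), (nat_lit 0), (nat_lit 1)],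
  [(nat_lit 0), (nat_lit 1), (nat_lit 0), (nat_lit 2), (nat_lit 2)],
  [(nat_lit 0), (nat_lit 2), (nat_lit 0), (nat_lit 1), (nat_lit 0), (nat_lit 2), (nat_lit 0)],
  [(nat_lit 0), (nat_lit 2), (nat_lit 0), (nat_lit 1), (nat_lit 0), (nat_lit 2)],
  [(nat_lit 0), (nat_lit 1), (nat_lit 2), (nat_lit 0), (nat_lit 2)],
  [(nat_lit 0), (nat_lit 1), (nat_lit 2), (nat_lit 2)],
  [(nat_lit 2), (nat_lit 2), (nat_lit 0), (nat_lit 1)],
  [(nat_lit 2), (nat_lit 2), (nat_lit 0), (nat_lit 1), (nat_lit 0)],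
  [(nat_lit 0), (nat_lit 1), (nat_lit 2), (nat_lit 2), (nat_lit 0)],
  [(nat_lit 2), (nat_lit 2), (nat_lit 0), (nat_lit 1), (nat_lit 0), (nat_lit 2), (nat_lit 3)],
  [(nat_lit 0), (nat_lit 1), (nat_lit 0), (nat_lit 2), (nat_lit 0), (nat_lit 3), (nat_lit 2)],
  [(nat_lit 0), (nat_lit 1), (nat_lit 3)],
  [(nat_lit 0), (nat_lit 2), (nat_lit 0), (nat_lit 1), (nat_lit 3), (nat_lit 2)],
  [(nat_lit 0), (nat_lit 2), (nat_lit 0), (nat_lit 1), (nat_lit 0), (nat_lit 3), (nat_lit 2)],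
  [(nat_lit 0), (nat_lit 1), (nat_lit 2), (nat_lit 0), (nat_lit 3), (nat_lit 2)],
  [(nat_lit 0), (nat_lit 1), (nat_lit 0), (nat_lit 3)],
  [(nat_lit 0), (nat_lit 2), (nat_lit 0), (nat_lit 1), (nat_lit 3), (nat_lit 2), (nat_lit 0)],
  [(nat_lit 0), (nat_lit 2), (nat_lit 0), (nat_lit 1), (nat_lit 1)],
  [(nat_lit 0), (nat_lit 1), (nat_lit 1), (nat_lit 2)],
  [(nat_lit 0), (nat_lit 1), (nat_lit 0), (nat_lit 2), (nat_lit 0), (nat_lit 1)],
  [(nat_lit 1), (nat_lit 1), (nat_lit 0), (nat_lit 2), (nat_lit 0)],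
  [(nat_lit 0), (nat_lit 1), (nat_lit 1), (nat_lit 2), (nat_lit 3)],
  [(nat_lit 0), (nat_lit 2), (nat_lit 0), (nat_lit 1), (nat_lit 1), (nat_lit 3)],
  [(nat_lit 1), (nat_lit 1), (nat_lit 0), (nat_lit 2), (nat_lit 0), (nat_lit 3)],
  [(nat_lit 0), (nat_lit 1), (nat_lit 0), (nat_lit 2), (nat_lit 0), (nat_lit 1), (nat_lit 3)],
  [(nat_lit 0), (nat_lit 1), (nat_lit 0), (nat_lit 2), (nat_lit 0), (nat_lit 1), (nat_lit 0)],
  [(nat_lit 1), (nat_lit 1), (nat_lit 0), (nat_lit 2)],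
  [(nat_lit 0), (nat_lit 1), (nat_lit 2), (nat_lit 0), (nat_lit 1)],
  [(nat_lit 0), (nat_lit 1), (nat_lit 1), (nat_lit 2), (nat_lit 0)],
  [(nat_lit 1), (nat_lit 1), (nat_lit 0), (nat_lit 2), (nat_lit 3)],
  [(nat_lit 0), (nat_lit 1), (nat_lit 0), (nat_lit 2), (nat_lit 0), (nat_lit 1), (nat_lit 0), (nat_lit 3)],
  [(nat_lit 0), (nat_lit 1), (nat_lit 1), (nat_lit 2), (nat_lit 0), (nat_lit 3)],
  [(nat_lit 0), (nat_lit 1), (nat_lit 2), (nat_lit 0), (nat_lit 1), (nat_lit 3)],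
  [(nat_lit 0), (nat_lit 2), (nat_lit 0), (nat_lit 1), (nat_lit 1), (nat_lit 3), (nat_lit 2)],
  [(nat_lit 0), (nat_lit 1), (nat_lit 1), (nat_lit 3)],
  [(nat_lit 1), (nat_lit 2), (nat_lit 0), (nat_lit 1), (nat_lit 3), (nat_lit 2), (nat_lit 0)],
  [(nat_lit 1), (nat_lit 1), (nat_lit 0), (nat_lit 2), (nat_lit 0), (nat_lit 3), (nat_lit 2)],
  [(nat_lit 2), (nat_lit 0), (nat_lit 1), (nat_lit 1), (nat_lit 3), (nat_lit 2), (nat_lit 0)],
  [(nat_lit 1), (nat_lit 1), (nat_lit 0), (nat_lit 3)],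
  [(nat_lit 0), (nat_lit 1), (nat_lit 2), (nat_lit 0), (nat_lit 1), (nat_lit 3), (nat_lit 2)],
  [(nat_lit 0), (nat_lit 1), (nat_lit 1), (nat_lit 2), (nat_lit 0), (nat_lit 3), (nat_lit 2)],
  [(nat_lit 0), (nat_lit 1), (nat_lit 1), (nat_lit 2), (nat_lit 2)],
  [(nat_lit 2), (nat_lit 2), (nat_lit 0), (nat_lit 1), (nat_lit 1)],
  [(nat_lit 1), (nat_lit 1), (nat_lit 2), (nat_lit 2), (nat_lit 0)],
  [(nat_lit 0), (nat_lit 1), (nat_lit 2), (nat_lit 2), (nat_lit 0), (nat_lit 1)],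
  [(nat_lit 1), (nat_lit 1), (nat_lit 0), (nat_lit 2), (nat_lit 2)],
  [(nat_lit 1), (nat_lit 2), (nat_lit 0), (nat_lit 1), (nat_lit 2), (nat_lit 0)],
  [(nat_lit 0), (nat_lit 1), (nat_lit 1), (nat_lit 2), (nat_lit 0), (nat_lit 2)],
  [(nat_lit 0), (nat_lit 1), (nat_lit 2), (nat_lit 0), (nat_lit 1), (nat_lit 2)],
  [(nat_lit 1), (nat_lit 0), (nat_lit 2), (nat_lit 0), (nat_lit 3)],
  [(nat_lit 0), (nat_lit 3), (nat_lit 2), (nat_lit 0), (nat_lit 1), (nat_lit 0), (nat_lit 2)],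
  [(nat_lit 2), (nat_lit 0), (nat_lit 1), (nat_lit 3)],
  [(nat_lit 1), (nat_lit 2), (nat_lit 3)],
  [(nat_lit 1), (nat_lit 2), (nat_lit 0), (nat_lit 3)],
  [(nat_lit 2), (nat_lit 0), (nat_lit 1), (nat_lit 0), (nat_lit 3)],
  [(nat_lit 0), (nat_lit 3), (nat_lit 2), (nat_lit 0), (nat_lit 1), (nat_lit 0), (nat_lit 2), (nat_lit 0)],
  [(nat_lit 1), (nat_lit 0), (nat_lit 2), (nat_lit 3)],
  [(nat_lit 1), (nat_lit 0), (nat_lit 1), (nat_lit 1), (nat_lit 2), (nat_lit 0), (nat_lit 1)],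
  [(nat_lit 1), (nat_lit 0), (nat_lit 2)],
  [(nat_lit 1), (nat_lit 2), (nat_lit 0)],
  [(nat_lit 2), (nat_lit 0), (nat_lit 1), (nat_lit 0)],
  [(nat_lit 2), (nat_lit 0), (nat_lit 1)],
  [(nat_lit 1), (nat_lit 2)],
  [(nat_lit 1), (nat_lit 0), (nat_lit 2), (nat_lit 0)],
  [(nat_lit 1), (nat_lit 0), (nat_lit 1), (nat_lit 2), (nat_lit 0), (nat_lit 1), (nat_lit 1)],
  [(nat_lit 1), (nat_lit 2), (nat_lit 2), (nat_lit 0)],
  [(nat_lit 2), (nat_lit 0), (nat_lit 1), (nat_lit 2), (nat_lit 0)],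
  [(nat_lit 2), (nat_lit 0), (nat_lit 1), (nat_lit 2)],
  [(nat_lit 1), (nat_lit 2), (nat_lit 2)],
  [(nat_lit 1), (nat_lit 2), (nat_lit 0), (nat_lit 2)],
  [(nat_lit 2), (nat_lit 0), (nat_lit 1), (nat_lit 0), (nat_lit 2)],
  [(nat_lit 2), (nat_lit 0), (nat_lit 1), (nat_lit 0), (nat_lit 2), (nat_lit 0)],
  [(nat_lit 1), (nat_lit 0), (nat_lit 2), (nat_lit 2)],
  [(nat_lit 2), (nat_lit 0), (nat_lit 1), (nat_lit 3), (nat_lit 2), (nat_lit 0)],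
  [(nat_lit 1), (nat_lit 0), (nat_lit 3)],
  [(nat_lit 1), (nat_lit 2), (nat_lit 0), (nat_lit 3), (nat_lit 2)],
  [(nat_lit 2), (nat_lit 0), (nat_lit 1), (nat_lit 0), (nat_lit 3), (nat_lit 2)],
  [(nat_lit 2), (nat_lit 0), (nat_lit 1), (nat_lit 3), (nat_lit 2)],
  [(nat_lit 1), (nat_lit 3)],
  [(nat_lit 1), (nat_lit 0), (nat_lit 2), (nat_lit 0), (nat_lit 3), (nat_lit 2)],
  [(nat_lit 2), (nat_lit 0), (nat_lit 1), (nat_lit 0), (nat_lit 3), (nat_lit 2), (nat_lit 0)],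
  [(nat_lit 1), (nat_lit 1), (nat_lit 2), (nat_lit 0)],
  [(nat_lit 1), (nat_lit 2), (nat_lit 0), (nat_lit 1)],
  [(nat_lit 1), (nat_lit 0), (nat_lit 1), (nat_lit 2)],
  [(nat_lit 1), (nat_lit 0), (nat_lit 2), (nat_lit 0), (nat_lit 1), (nat_lit 0)],
  [(nat_lit 1), (nat_lit 2), (nat_lit 0), (nat_lit 1), (nat_lit 3)],
  [(nat_lit 1), (nat_lit 1), (nat_lit 2), (nat_lit 0), (nat_lit 3)],
  [(nat_lit 1), (nat_lit 0), (nat_lit 2), (nat_lit 0), (nat_lit 1), (nat_lit 0), (nat_lit 3)],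
  [(nat_lit 1), (nat_lit 0), (nat_lit 1), (nat_lit 2), (nat_lit 3)],
  [(nat_lit 1), (nat_lit 0), (nat_lit 1), (nat_lit 2), (nat_lit 0)],
  [(nat_lit 1), (nat_lit 0), (nat_lit 2), (nat_lit 0), (nat_lit 1)],
  [(nat_lit 1), (nat_lit 1), (nat_lit 2)],
  [(nat_lit 2), (nat_lit 0), (nat_lit 1), (nat_lit 1)],
  [(nat_lit 1), (nat_lit 0), (nat_lit 2), (nat_lit 0), (nat_lit 1), (nat_lit 3)],
  [(nat_lit 1), (nat_lit 0), (nat_lit 1), (nat_lit 2), (nat_lit 0), (nat_lit 3)],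
  [(nat_lit 2), (nat_lit 0), (nat_lit 1), (nat_lit 1), (nat_lit 3)],
  [(nat_lit 1), (nat_lit 1), (nat_lit 2), (nat_lit 3)],
  [(nat_lit 1), (nat_lit 1), (nat_lit 2), (nat_lit 0), (nat_lit 3), (nat_lit 2)],
  [(nat_lit 1), (nat_lit 2), (nat_lit 0), (nat_lit 1), (nat_lit 3), (nat_lit 2)],
  [(nat_lit 1), (nat_lit 0), (nat_lit 1), (nat_lit 3)],
  [(nat_lit 2), (nat_lit 0), (nat_lit 1), (nat_lit 3), (nat_lit 2), (nat_lit 0), (nat_lit 1)],
  [(nat_lit 1), (nat_lit 0), (nat_lit 1), (nat_lit 2), (nat_lit 0), (nat_lit 3), (nat_lit 2)],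
  [(nat_lit 1), (nat_lit 0), (nat_lit 2), (nat_lit 0), (nat_lit 1), (nat_lit 3), (nat_lit 2)],
  [(nat_lit 1), (nat_lit 1), (nat_lit 3)],
  [(nat_lit 2), (nat_lit 0), (nat_lit 1), (nat_lit 1), (nat_lit 3), (nat_lit 2)],
  [(nat_lit 1), (nat_lit 2), (nat_lit 0), (nat_lit 1), (nat_lit 2)],
  [(nat_lit 1), (nat_lit 1), (nat_lit 2), (nat_lit 0), (nat_lit 2)],
  [(nat_lit 0), (nat_lit 1), (nat_lit 2), (nat_lit 0), (nat_lit 1), (nat_lit 2), (nat_lit 0)],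
  [(nat_lit 1), (nat_lit 0), (nat_lit 1), (nat_lit 2), (nat_lit 2)],
  [(nat_lit 1), (nat_lit 2), (nat_lit 2), (nat_lit 0), (nat_lit 1)],
  [(nat_lit 0), (nat_lit 1), (nat_lit 1), (nat_lit 2), (nat_lit 2), (nat_lit 0)],
  [(nat_lit 2), (nat_lit 0), (nat_lit 1), (nat_lit 1), (nat_lit 2)],
  [(nat_lit 1), (nat_lit 1), (nat_lit 2), (nat_lit 2)],
  [(nat_lit 2), (nat_lit 0), (nat_lit 1), (nat_lit 0), (nat_lit 2), (nat_lit 3)],
  [(nat_lit 1), (nat_lit 0), (nat_lit 3), (nat_lit 2), (nat_lit 0)],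
  [(nat_lit 1), (nat_lit 0), (nat_lit 3), (nat_lit 2)],
  [(nat_lit 2), (nat_lit 0), (nat_lit 1), (nat_lit 0), (nat_lit 2), (nat_lit 0), (nat_lit 3)],
  [(nat_lit 2), (nat_lit 0), (nat_lit 1), (nat_lit 0), (nat_lit 2), (nat_lit 2)],
  [(nat_lit 1), (nat_lit 2), (nat_lit 0), (nat_lit 2), (nat_lit 2)],
  [(nat_lit 1), (nat_lit 0)],
  [(nat_lit 2), (nat_lit 0), (nat_lit 1), (nat_lit 2), (nat_lit 2), (nat_lit 0)],
  [(nat_lit 0), (nat_lit 3), (nat_lit 2), (nat_lit 0), (nat_lit 1), (nat_lit 0)],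
  [(nat_lit 1), (nat_lit 3), (nat_lit 2), (nat_lit 0)],
  [(nat_lit 1), (nat_lit 3), (nat_lit 2)],
  [(nat_lit 0), (nat_lit 3), (nat_lit 2), (nat_lit 0), (nat_lit 1)],
  [(nat_lit 2), (nat_lit 0), (nat_lit 1), (nat_lit 2), (nat_lit 0), (nat_lit 2)],
  [(nat_lit 1), (nat_lit 2), (nat_lit 2), (nat_lit 0), (nat_lit 2)],
  [(nat_lit 1)],
  [(nat_lit 2), (nat_lit 0), (nat_lit 1), (nat_lit 2), (nat_lit 2)],
  [(nat_lit 1), (nat_lit 1), (nat_lit 0), (nat_lit 1), (nat_lit 2)],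
  [(nat_lit 1), (nat_lit 1), (nat_lit 0), (nat_lit 1), (nat_lit 2), (nat_lit 0)],
  [(nat_lit 0), (nat_lit 1), (nat_lit 1), (nat_lit 2), (nat_lit 0), (nat_lit 1)],
  [(nat_lit 0), (nat_lit 1), (nat_lit 2), (nat_lit 0), (nat_lit 1), (nat_lit 1)],
  [(nat_lit 0), (nat_lit 2)],
  [(nat_lit 0), (nat_lit 2), (nat_lit 0)],
  [(nat_lit 1), (nat_lit 1), (nat_lit 0), (nat_lit 2), (nat_lit 0), (nat_lit 1)],
  [(nat_lit 0), (nat_lit 1), (nat_lit 0), (nat_lit 2), (nat_lit 0), (nat_lit 1), (nat_lit 1)],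
  [(nat_lit 0), (nat_lit 1), (nat_lit 0), (nat_lit 2), (nat_lit 0), (nat_lit 1), (nat_lit 1), (nat_lit 3)],
  [(nat_lit 1), (nat_lit 1), (nat_lit 0), (nat_lit 2), (nat_lit 0), (nat_lit 1), (nat_lit 3)],
  [(nat_lit 0), (nat_lit 2), (nat_lit 0), (nat_lit 3)],
  [(nat_lit 0), (nat_lit 2), (nat_lit 3)],
  [(nat_lit 0), (nat_lit 1), (nat_lit 2), (nat_lit 0), (nat_lit 1), (nat_lit 1), (nat_lit 3)],
  [(nat_lit 0), (nat_lit 1), (nat_lit 1), (nat_lit 2), (nat_lit 0), (nat_lit 1), (nat_lit 3)],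
  [(nat_lit 1), (nat_lit 1), (nat_lit 0), (nat_lit 1), (nat_lit 2), (nat_lit 0), (nat_lit 3)],
  [(nat_lit 1), (nat_lit 1), (nat_lit 0), (nat_lit 1), (nat_lit 2), (nat_lit 3)],
  [(nat_lit 1), (nat_lit 1), (nat_lit 0), (nat_lit 1), (nat_lit 3)],
  [(nat_lit 1), (nat_lit 1), (nat_lit 0), (nat_lit 1), (nat_lit 2), (nat_lit 0), (nat_lit 3), (nat_lit 2)],
  [(nat_lit 0), (nat_lit 1), (nat_lit 1), (nat_lit 2), (nat_lit 0), (nat_lit 1), (nat_lit 3), (nat_lit 2)],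
  [(nat_lit 0), (nat_lit 1), (nat_lit 2), (nat_lit 0), (nat_lit 1), (nat_lit 1), (nat_lit 3), (nat_lit 2)],
  [(nat_lit 0), (nat_lit 3)],
  [(nat_lit 0), (nat_lit 2), (nat_lit 0), (nat_lit 3), (nat_lit 2)],
  [(nat_lit 1), (nat_lit 1), (nat_lit 0), (nat_lit 2), (nat_lit 0), (nat_lit 1), (nat_lit 3), (nat_lit 2)],
  [(nat_lit 1), (nat_lit 2), (nat_lit 0), (nat_lit 1), (nat_lit 3), (nat_lit 2), (nat_lit 0), (nat_lit 1)],
  [(nat_lit 0), (nat_lit 1), (nat_lit 2), (nat_lit 2), (nat_lit 0), (nat_lit 1), (nat_lit 1)],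
  [(nat_lit 1), (nat_lit 1), (nat_lit 2), (nat_lit 2), (nat_lit 0), (nat_lit 1)],
  [(nat_lit 2), (nat_lit 2), (nat_lit 0)],
  [(nat_lit 0), (nat_lit 2), (nat_lit 2)],
  [(nat_lit 0), (nat_lit 1), (nat_lit 2), (nat_lit 0), (nat_lit 1), (nat_lit 1), (nat_lit 2)],
  [(nat_lit 0), (nat_lit 1), (nat_lit 1), (nat_lit 2), (nat_lit 0), (nat_lit 1), (nat_lit 2)],
  [(nat_lit 1), (nat_lit 0), (nat_lit 1), (nat_lit 1), (nat_lit 2), (nat_lit 2), (nat_lit 0)],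
  [(nat_lit 1), (nat_lit 1), (nat_lit 0), (nat_lit 1), (nat_lit 2), (nat_lit 2)],
  [(nat_lit 0), (nat_lit 3), (nat_lit 2), (nat_lit 0), (nat_lit 1), (nat_lit 1)],
  [(nat_lit 1), (nat_lit 1), (nat_lit 3), (nat_lit 2)],
  [(nat_lit 1), (nat_lit 3), (nat_lit 2), (nat_lit 0), (nat_lit 1)],
  [(nat_lit 0), (nat_lit 1), (nat_lit 1), (nat_lit 3), (nat_lit 2), (nat_lit 0)],
  [(nat_lit 2), (nat_lit 0), (nat_lit 1), (nat_lit 1), (nat_lit 2), (nat_lit 2)],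
  [(nat_lit 1), (nat_lit 1)],
  [(nat_lit 1), (nat_lit 2), (nat_lit 2), (nat_lit 0), (nat_lit 1), (nat_lit 2)],
  [(nat_lit 0), (nat_lit 1), (nat_lit 1), (nat_lit 2), (nat_lit 2), (nat_lit 0), (nat_lit 2)],
  [(nat_lit 2), (nat_lit 0), (nat_lit 1), (nat_lit 2), (nat_lit 2), (nat_lit 0), (nat_lit 1)],
  [(nat_lit 1), (nat_lit 0), (nat_lit 1)],
  [(nat_lit 1), (nat_lit 2), (nat_lit 0), (nat_lit 1), (nat_lit 2), (nat_lit 2)],
  [(nat_lit 1), (nat_lit 1), (nat_lit 2), (nat_lit 0), (nat_lit 2), (nat_lit 2)],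
  [(nat_lit 0), (nat_lit 1), (nat_lit 0), (nat_lit 3), (nat_lit 2), (nat_lit 0), (nat_lit 1), (nat_lit 0)],
  [(nat_lit 1), (nat_lit 0), (nat_lit 1), (nat_lit 3), (nat_lit 2)],
  [(nat_lit 1), (nat_lit 0), (nat_lit 3), (nat_lit 2), (nat_lit 0), (nat_lit 1)],
  [(nat_lit 1), (nat_lit 1), (nat_lit 0), (nat_lit 3), (nat_lit 2), (nat_lit 0)],
  [(nat_lit 3), (nat_lit 2), (nat_lit 0), (nat_lit 1)],
  [(nat_lit 0), (nat_lit 1), (nat_lit 3), (nat_lit 2)],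
  [(nat_lit 0), (nat_lit 1), (nat_lit 3), (nat_lit 2), (nat_lit 0)],
  [(nat_lit 3), (nat_lit 2), (nat_lit 0), (nat_lit 1), (nat_lit 0)],
  [(nat_lit 2), (nat_lit 2), (nat_lit 0), (nat_lit 1), (nat_lit 2)],
  [(nat_lit 0), (nat_lit 1)],
  [(nat_lit 0), (nat_lit 1), (nat_lit 2), (nat_lit 2), (nat_lit 0), (nat_lit 2)],
  [(nat_lit 2), (nat_lit 2), (nat_lit 0), (nat_lit 1), (nat_lit 0), (nat_lit 2)],
  [(nat_lit 0), (nat_lit 2), (nat_lit 0), (nat_lit 1), (nat_lit 0), (nat_lit 2), (nat_lit 0), (nat_lit 3)],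
  [(nat_lit 0), (nat_lit 1), (nat_lit 0), (nat_lit 3), (nat_lit 2)],
  [(nat_lit 0), (nat_lit 1), (nat_lit 0), (nat_lit 3), (nat_lit 2), (nat_lit 0)],
  [(nat_lit 0), (nat_lit 2), (nat_lit 0), (nat_lit 1), (nat_lit 0), (nat_lit 2), (nat_lit 3)],
  [(nat_lit 2), (nat_lit 2), (nat_lit 0), (nat_lit 1), (nat_lit 2), (nat_lit 0)],
  [(nat_lit 0), (nat_lit 1), (nat_lit 0)],
  [(nat_lit 0), (nat_lit 1), (nat_lit 2), (nat_lit 0), (nat_lit 2), (nat_lit 2)],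
  [(nat_lit 0), (nat_lit 2), (nat_lit 0), (nat_lit 1), (nat_lit 0), (nat_lit 2), (nat_lit 2)],
  [(nat_lit 1), (nat_lit 0), (nat_lit 2), (nat_lit 0), (nat_lit 1), (nat_lit 1)],
  [(nat_lit 1), (nat_lit 0), (nat_lit 1), (nat_lit 2), (nat_lit 0), (nat_lit 1)],
  [(nat_lit 2), (nat_lit 0)],
  [(nat_lit 2)],
  [(nat_lit 1), (nat_lit 2), (nat_lit 0), (nat_lit 1), (nat_lit 1)],
  [(nat_lit 1), (nat_lit 1), (nat_lit 2), (nat_lit 0), (nat_lit 1)],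
  [(nat_lit 1), (nat_lit 0), (nat_lit 1), (nat_lit 1), (nat_lit 2), (nat_lit 0)],
  [(nat_lit 1), (nat_lit 0), (nat_lit 1), (nat_lit 1), (nat_lit 2)],
  [(nat_lit 1), (nat_lit 0), (nat_lit 1), (nat_lit 1), (nat_lit 2), (nat_lit 3)],
  [(nat_lit 1), (nat_lit 0), (nat_lit 1), (nat_lit 1), (nat_lit 2), (nat_lit 0), (nat_lit 3)],
  [(nat_lit 1), (nat_lit 1), (nat_lit 2), (nat_lit 0), (nat_lit 1), (nat_lit 3)],
  [(nat_lit 1), (nat_lit 2), (nat_lit 0), (nat_lit 1), (nat_lit 1), (nat_lit 3)],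
  [(nat_lit 2), (nat_lit 3)],
  [(nat_lit 2), (nat_lit 0), (nat_lit 3)],
  [(nat_lit 1), (nat_lit 0), (nat_lit 1), (nat_lit 2), (nat_lit 0), (nat_lit 1), (nat_lit 3)],
  [(nat_lit 1), (nat_lit 0), (nat_lit 2), (nat_lit 0), (nat_lit 1), (nat_lit 1), (nat_lit 3)],
  [(nat_lit 1), (nat_lit 0), (nat_lit 2), (nat_lit 0), (nat_lit 1), (nat_lit 1), (nat_lit 3), (nat_lit 2)],
  [(nat_lit 1), (nat_lit 0), (nat_lit 1), (nat_lit 2), (nat_lit 0), (nat_lit 1), (nat_lit 3), (nat_lit 2)],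
  [(nat_lit 2), (nat_lit 0), (nat_lit 3), (nat_lit 2)],
  [(nat_lit 3)],
  [(nat_lit 1), (nat_lit 2), (nat_lit 0), (nat_lit 1), (nat_lit 1), (nat_lit 3), (nat_lit 2)],
  [(nat_lit 1), (nat_lit 1), (nat_lit 2), (nat_lit 0), (nat_lit 1), (nat_lit 3), (nat_lit 2)],
  [(nat_lit 1), (nat_lit 0), (nat_lit 1), (nat_lit 1), (nat_lit 2), (nat_lit 0), (nat_lit 3), (nat_lit 2)],
  [(nat_lit 1), (nat_lit 0), (nat_lit 1), (nat_lit 1), (nat_lit 3)],
  [(nat_lit 1), (nat_lit 0), (nat_lit 1), (nat_lit 1), (nat_lit 2), (nat_lit 2)],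
  [(nat_lit 1), (nat_lit 0), (nat_lit 1), (nat_lit 1), (nat_lit 2), (nat_lit 0), (nat_lit 2)],
  [(nat_lit 1), (nat_lit 1), (nat_lit 2), (nat_lit 0), (nat_lit 1), (nat_lit 2)],
  [(nat_lit 1), (nat_lit 2), (nat_lit 0), (nat_lit 1), (nat_lit 1), (nat_lit 2)],
  [(nat_lit 2), (nat_lit 2)],
  [(nat_lit 2), (nat_lit 0), (nat_lit 2)],
  [(nat_lit 0), (nat_lit 1), (nat_lit 1), (nat_lit 2), (nat_lit 2), (nat_lit 0), (nat_lit 1)],
  [(nat_lit 1), (nat_lit 2), (nat_lit 2), (nat_lit 0), (nat_lit 1), (nat_lit 1)],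
  [(nat_lit 1), (nat_lit 0), (nat_lit 1), (nat_lit 3), (nat_lit 2), (nat_lit 0)],
  [(nat_lit 0), (nat_lit 1), (nat_lit 0), (nat_lit 3), (nat_lit 2), (nat_lit 0), (nat_lit 1)],
  [(nat_lit 1), (nat_lit 1), (nat_lit 0), (nat_lit 3), (nat_lit 2)],
  [(nat_lit 1), (nat_lit 0), (nat_lit 3), (nat_lit 2), (nat_lit 0), (nat_lit 1), (nat_lit 0)],
  [(nat_lit 0), (nat_lit 1), (nat_lit 1), (nat_lit 2), (nat_lit 0), (nat_lit 2), (nat_lit 2)],
  [(nat_lit 0), (nat_lit 1), (nat_lit 2), (nat_lit 0), (nat_lit 1), (nat_lit 2), (nat_lit 2)],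
  [(nat_lit 1), (nat_lit 1), (nat_lit 0)],
  [(nat_lit 1), (nat_lit 2), (nat_lit 0), (nat_lit 1), (nat_lit 2), (nat_lit 0), (nat_lit 2)],
  [(nat_lit 1), (nat_lit 1), (nat_lit 2), (nat_lit 2), (nat_lit 0), (nat_lit 2)],
  [(nat_lit 0), (nat_lit 1), (nat_lit 2), (nat_lit 2), (nat_lit 0), (nat_lit 1), (nat_lit 2)],
  [(nat_lit 0), (nat_lit 1), (nat_lit 1)],
  [(nat_lit 2), (nat_lit 2), (nat_lit 0), (nat_lit 1), (nat_lit 1), (nat_lit 2)],
  [(nat_lit 1), (nat_lit 1), (nat_lit 3), (nat_lit 2), (nat_lit 0)],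
  [(nat_lit 0), (nat_lit 1), (nat_lit 3), (nat_lit 2), (nat_lit 0), (nat_lit 1)],
  [(nat_lit 0), (nat_lit 1), (nat_lit 1), (nat_lit 3), (nat_lit 2)],
  [(nat_lit 3), (nat_lit 2), (nat_lit 0), (nat_lit 1), (nat_lit 1)],
  [(nat_lit 0)],
  [(nat_lit 2), (nat_lit 2), (nat_lit 0), (nat_lit 2)],
  [(nat_lit 1), (nat_lit 1), (nat_lit 2), (nat_lit 2), (nat_lit 0), (nat_lit 1), (nat_lit 2)],
  [(nat_lit 0), (nat_lit 1), (nat_lit 2), (nat_lit 2), (nat_lit 0), (nat_lit 1), (nat_lit 1), (nat_lit 2)],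
  [(nat_lit 0), (nat_lit 3), (nat_lit 2)],
  [(nat_lit 3), (nat_lit 2), (nat_lit 0)],
  [(nat_lit 1), (nat_lit 1), (nat_lit 3), (nat_lit 2), (nat_lit 0), (nat_lit 1)],
  [(nat_lit 0), (nat_lit 1), (nat_lit 3), (nat_lit 2), (nat_lit 0), (nat_lit 1), (nat_lit 1)],
  [(nat_lit 1), (nat_lit 1), (nat_lit 0), (nat_lit 1), (nat_lit 3), (nat_lit 2)],
  [(nat_lit 1), (nat_lit 0), (nat_lit 1), (nat_lit 1), (nat_lit 3), (nat_lit 2), (nat_lit 0)],
  [(nat_lit 1), (nat_lit 0), (nat_lit 1), (nat_lit 3), (nat_lit 2), (nat_lit 0), (nat_lit 1)],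
  [(nat_lit 0), (nat_lit 1), (nat_lit 0), (nat_lit 3), (nat_lit 2), (nat_lit 0), (nat_lit 1), (nat_lit 1)],
  [(nat_lit 1), (nat_lit 1), (nat_lit 0), (nat_lit 1)],
  [(nat_lit 1), (nat_lit 0), (nat_lit 1), (nat_lit 1), (nat_lit 2), (nat_lit 2), (nat_lit 0), (nat_lit 2)],
  [(nat_lit 0), (nat_lit 1), (nat_lit 1), (nat_lit 2), (nat_lit 0), (nat_lit 1), (nat_lit 2), (nat_lit 2)],
  [(nat_lit 0), (nat_lit 1), (nat_lit 2), (nat_lit 0), (nat_lit 1), (nat_lit 1), (nat_lit 2), (nat_lit 2)],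
  [(nat_lit 1), (nat_lit 2), (nat_lit 0), (nat_lit 1), (nat_lit 1), (nat_lit 2), (nat_lit 2)],
  [(nat_lit 1), (nat_lit 1), (nat_lit 2), (nat_lit 0), (nat_lit 1), (nat_lit 2), (nat_lit 2)],
  [(nat_lit 1), (nat_lit 0), (nat_lit 1), (nat_lit 1), (nat_lit 2), (nat_lit 0), (nat_lit 2), (nat_lit 2)],
  [(nat_lit 1), (nat_lit 0), (nat_lit 1), (nat_lit 1)],
  [(nat_lit 1), (nat_lit 0), (nat_lit 3), (nat_lit 2), (nat_lit 0), (nat_lit 1), (nat_lit 1)],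
  [(nat_lit 1), (nat_lit 1), (nat_lit 0), (nat_lit 3), (nat_lit 2), (nat_lit 0), (nat_lit 1)],
  [(nat_lit 1), (nat_lit 1), (nat_lit 0), (nat_lit 1), (nat_lit 3), (nat_lit 2), (nat_lit 0)],
  [(nat_lit 1), (nat_lit 0), (nat_lit 1), (nat_lit 1), (nat_lit 3), (nat_lit 2)],
  [(nat_lit 1), (nat_lit 3), (nat_lit 2), (nat_lit 0), (nat_lit 1), (nat_lit 1)],
  [(nat_lit 0), (nat_lit 1), (nat_lit 1), (nat_lit 3), (nat_lit 2), (nat_lit 0), (nat_lit 1)],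
  [(nat_lit 0), (nat_lit 3), (nat_lit 2), (nat_lit 0)],
  [(nat_lit 3), (nat_lit 2)],
  [(nat_lit 1), (nat_lit 2), (nat_lit 2), (nat_lit 0), (nat_lit 1), (nat_lit 1), (nat_lit 2)],
  [(nat_lit 0), (nat_lit 1), (nat_lit 1), (nat_lit 2), (nat_lit 2), (nat_lit 0), (nat_lit 1), (nat_lit 2)],
  [(nat_lit 2), (nat_lit 0), (nat_lit 2), (nat_lit 2)],
  []]
noncomputable def AP_lKR_h (c : ℕ) : ℕ := Nat.mod c (nat_lit 11645)
noncomputable def AP_lKR_T0 : ST := (.node (nat_lit 0x5cdb6ce1f1eb09ea1b48dfefc70a0991ea550c20) (.node (nat_lit 0x30b2cbc7bcdea721a2cb7a9b8393eeaa7d481420) (.node (nat_lit 0x22357b6f8dc3cc582fa28a599acc6aa7cf277820) (.node (nat_lit 0x19dbcce9f8eda869162ed8aec5257f2567e44020) (.node (nat_lit 0x11b2cdc7bcbe9723a2d36a9f8193ce817f4aa420) (.node (nat_lit 0x11a39d759be5e63511abb1f0f921df4c29e2d420) (.node (nat_lit 0x1199dd663be5e67911ebc0ecd521df2d69e4c020) (.node (nat_lit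 0x11999e763bd5d67921b3b0f0f511de2c29f4d420) (.leaf (nat_lit 0x11999d7637e6d63521f3c1ecd9129f2c1de4d420)) (.leaf (nat_lit 0x11999e763bd5d67921b3b0f0f511de2c29f4d420))) (.node (nat_lit 0x1199de6637d6e63511abb1f0f9229e2d5df4c020) (.leaf (nat_lit 0x1199dd663be5e67911ebc0ecd521df2d69e4c020)) (.leaf (nat_lit 0x1199de6637d6e63511abb1f0f9229e2d5df4c020)))) (.node (nat_lit 0x11a3dd6597e6d67921b3b0f0f5129f4d5de2c020) (.node (nat_lit 0x11a39e7597d6e67911ebc0ecd5229e4c1df2d420) (.leaf (nat_lit 0x11a39d759be5e63511abb1f0f921df4c29e2d420)) (.leaf (nat_lit 0x11a39e7597d6e67911ebc0ecd5229e4c1df2d420))) (.node (nat_lit 0x11a3de659bd5d63521f3c1ecd911de4d69f2c020) (.leaf (nat_lit 0x11a3dd6597e6d67921b3b0f0f5129f4d5de2c020)) (.node (nat_lit 0x11b2cbc7badf16a1a3137c9b6393f4817ceaa420) (.leaf (nat_lit 0x11a3de659bd5d63521f3c1ecd911de4d69f2c020)) (.leaf (nat_lit 0x11b2cbc7badf16a1a3137c9b6393f4817ceaa420))))))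 (.node (nat_lit 0x11bacdc73abf2723930b7a9b61a3eea97d482420) (.node (nat_lit 0x11b31db3babf26a192cb6c9f83a3ee827d4a9420) (.node (nat_lit 0x11b31bb3bcdea723930b7a9b61a3d4827eea9420) (.leaf (nat_lit 0x11b2cdc7bcbe9723a2d36a9f8193ce817f4aa420)) (.leaf (nat_lit 0x11b31bb3bcdea723930b7a9b61a3d4827eea9420))) (.node (nat_lit 0x11bacbc73cdea6a192cb6c9f83a3d4a97ee82420) (.leaf (nat_lit 0x11b31db3babf26a192cb6c9f83a3ee827d4a9420)) (.leaf (nat_lit 0x11bacbc73cdea6a192cb6c9f83a3d4a97ee82420)))) (.node (nat_lit 0x11bb1db33cbe96a1a3137c9b6393ceaa7f481420) (.node (nat_lit 0x11bb1bb33adf1723a2d36a9f8193f4aa7ce81420) (.leaf (nat_lit 0x11bacdc73abf2723930b7a9b61a3eea97d482420)) (.leaf (nat_lit 0x11bb1bb33adf1723a2d36a9f8193f4aa7ce81420))) (.node (nat_lit 0x19dbacf1f6ee1c252634d9aec9167f2417e45420) (.leaf (nat_lit 0x11bb1db33cbe96a1a3137c9b6393ceaa7f481420)) (.node (nat_lit 0x19dbaef1f8cd9c692594b8b715157e2427f45420)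 (.leaf (nat_lit 0x19dbacf1f6ee1c252634d9aec9167f2417e45420)) (.leaf (nat_lit 0x19dbaef1f8cd9c692594b8b715157e2427f45420))))))) (.node (nat_lit 0x19f4fc3799b768a116ee64a3b327eb823d3a9020) (.node (nat_lit 0x19dfcce9b6ee1c692594b8b715167f4557e24020) (.node (nat_lit 0x19dfacf1b8eda825158eb9b719257f4427e25420) (.node (nat_lit 0x19dbcee9f6ce2825158eb9b719267e2557f44020) (.leaf (nat_lit 0x19dbcce9f8eda869162ed8aec5257f2567e44020)) (.leaf (nat_lit 0x19dbcee9f6ce2825158eb9b719267e2557f44020))) (.node (nat_lit 0x19dfaef1b6ce2869162ed8aec5267e4417f25420) (.leaf (nat_lit 0x19dfacf1b8eda825158eb9b719257f4427e25420)) (.leaf (nat_lit 0x19dfaef1b6ce2869162ed8aec5267e4417f25420)))) (.node (nat_lit 0x19f4db3f99c75ca127748c997317f3813cbaa020) (.node (nat_lit 0x19dfcee9b8cd9c252634d9aec9157e4567f24020) (.leaf (nat_lit 0x19dfcce9b6ee1c692594b8b715167f4557e24020)) (.leaf (nat_lit 0x19dfcee9b8cd9c252634d9aec9157e4567f24020)))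 (.node (nat_lit 0x19f4dc3f9db65d2326f462a3b117cb813f3aa020) (.leaf (nat_lit 0x19f4db3f99c75ca127748c997317f3813cbaa020)) (.node (nat_lit 0x19f4fb379dc66923176e8a997127d3823eba9020) (.leaf (nat_lit 0x19f4dc3f9db65d2326f462a3b117cb813f3aa020)) (.leaf (nat_lit 0x19f4fb379dc66923176e8a997127d3823eba9020)))))) (.node (nat_lit 0x19f8fc375db65ca127748c997317cbaa3f381020) (.node (nat_lit 0x19f8dc3f59b76923176e8a997127eba93d382020) (.node (nat_lit 0x19f8db3f5dc668a116ee64a3b327d3a93eb82020) (.leaf (nat_lit 0x19f4fc3799b768a116ee64a3b327eb823d3a9020)) (.leaf (nat_lit 0x19f8db3f5dc668a116ee64a3b327d3a93eb82020))) (.node (nat_lit 0x19f8fb3759c75d2326f462a3b117f3aa3cb81020) (.leaf (nat_lit 0x19f8dc3f59b76923176e8a997127eba93d382020)) (.leaf (nat_lit 0x19f8fb3759c75d2326f462a3b117f3aa3cb81020)))) (.node (nat_lit 0x222fa7f3786d8d54ad82cc3b12ce47fd143f3820) (.node (nat_lit 0x222fa6f3767e0d02ae22ed72c4cd43fd247f3820)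 (.leaf (nat_lit 0x19f8fc375db65ca127748c997317cbaa3f381020)) (.leaf (nat_lit 0x222fa6f3767e0d02ae22ed72c4cd43fd247f3820))) (.node (nat_lit 0x222fc6eb787d8554ce26ec32c2ae43fb947f5020) (.leaf (nat_lit 0x222fa7f3786d8d54ad82cc3b12ce47fd143f3820)) (.node (nat_lit 0x222fc7eb766e0502cd86cd7b14ad47fba43f5020) (.leaf (nat_lit 0x222fc6eb787d8554ce26ec32c2ae43fb947f5020)) (.leaf (nat_lit 0x222fc7eb766e0502cd86cd7b14ad47fba43f5020)))))))) (.node (nat_lit 0x2a71d666d78ecf5439a3d438f25142f2e46fcc20) (.node (nat_lit 0x22397c6f4db3c49acfa68959982c7277ceaa7820) (.node (nat_lit 0x2237a6f2f87d8502cd86cd7b14ae43f5147fb820) (.node (nat_lit 0x2235bb5f8fc3449acfa68959982ceaa787277c20) (.node (nat_lit 0x22357c6f8fb34c9aaf226163d84cf2a7c6a77820) (.leaf (nat_lit 0x22357b6f8dc3cc582fa28a599acc6aa7cf277820)) (.leaf (nat_lit 0x22357c6f8fb34c9aaf226163d84cf2a7c6a77820))) (.node (nat_lit 0x2235bc5f8db3c4584f266263daac72a78ea77c20)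 (.leaf (nat_lit 0x2235bb5f8fc3449acfa68959982ceaa787277c20)) (.leaf (nat_lit 0x2235bc5f8db3c4584f266263daac72a78ea77c20)))) (.node (nat_lit 0x2237c6eaf67e0d54ad82cc3b12cd43f3a47fd020) (.node (nat_lit 0x2237a7f2f66e0554ce26ec32c2ad47f5243fb820) (.leaf (nat_lit 0x2237a6f2f87d8502cd86cd7b14ae43f5147fb820)) (.leaf (nat_lit 0x2237a7f2f66e0554ce26ec32c2ad47f5243fb820))) (.node (nat_lit 0x2237c7eaf86d8d02ae22ed72c4ce47f3943fd020) (.leaf (nat_lit 0x2237c6eaf67e0d54ad82cc3b12cd43f3a47fd020)) (.node (nat_lit 0x22397b6f4fc344584f266263daacea77c72a7820) (.leaf (nat_lit 0x2237c7eaf86d8d02ae22ed72c4ce47f3943fd020)) (.leaf (nat_lit 0x22397b6f4fc344584f266263daacea77c72a7820)))))) (.node (nat_lit 0x2a6d98f71b65cf5439a3d438f25246fcd42f2c20) (.node (nat_lit 0x2239bc5f4fb34c582fa28a599accf27786aa7c20) (.node (nat_lit 0x2239bb5f4dc3cc9aaf226163d84c6a778f2a7c20) (.leaf (nat_lit 0x22397c6f4db3c49acfa68959982c7277ceaa7820))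 (.leaf (nat_lit 0x2239bb5f4dc3cc9aaf226163d84c6a778f2a7c20))) (.node (nat_lit 0x2a6d9677178ecf0239e3e574d45142fce46f2c20) (.leaf (nat_lit 0x2239bc5f4fb34c582fa28a599accf27786aa7c20)) (.leaf (nat_lit 0x2a6d9677178ecf0239e3e574d45142fce46f2c20)))) (.node (nat_lit 0x2a6dd8e71766c70251a7d578f43946fae42f4c20) (.node (nat_lit 0x2a6dd6671b8dc75451e7e434d23a42fad46f4c20) (.leaf (nat_lit 0x2a6d98f71b65cf5439a3d438f25246fcd42f2c20)) (.leaf (nat_lit 0x2a6dd6671b8dc75451e7e434d23a42fad46f4c20))) (.node (nat_lit 0x2a719676db8dc70251a7d578f43a42f4d46fac20) (.leaf (nat_lit 0x2a6dd8e71766c70251a7d578f43946fae42f4c20)) (.node (nat_lit 0x2a7198f6d766c75451e7e434d23946f4e42fac20) (.leaf (nat_lit 0x2a719676db8dc70251a7d578f43a42f4d46fac20)) (.leaf (nat_lit 0x2a7198f6d766c75451e7e434d23946f4e42fac20))))))) (.node (nat_lit 0x2a7b8ddb31bb0e483b837a1baad0d25f84a9fc20) (.node (nat_lit 0x2a738bdbb1db068ad387791ba838ca9f8525fc20)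 (.node (nat_lit 0x2a736be3acdc4e483b837a1baad04a9fcd25f820) (.node (nat_lit 0x2a71d8e6db65cf0239e3e574d45246f2d42fcc20) (.leaf (nat_lit 0x2a71d666d78ecf5439a3d438f25142f2e46fcc20)) (.leaf (nat_lit 0x2a71d8e6db65cf0239e3e574d45246f2d42fcc20))) (.node (nat_lit 0x2a736de3b1bb0e8abb43691fc850d29fc4a5f820) (.leaf (nat_lit 0x2a736be3acdc4e483b837a1baad04a9fcd25f820)) (.leaf (nat_lit 0x2a736de3b1bb0e8abb43691fc850d29fc4a5f820)))) (.node (nat_lit 0x2a7b6be331db064853476a1fcab8ca5fc529f820) (.node (nat_lit 0x2a738ddbacbc464853476a1fcab8529f8ca5fc20) (.leaf (nat_lit 0x2a738bdbb1db068ad387791ba838ca9f8525fc20)) (.leaf (nat_lit 0x2a738ddbacbc464853476a1fcab8529f8ca5fc20))) (.node (nat_lit 0x2a7b6de32cbc468ad387791ba838525fcca9f820) (.leaf (nat_lit 0x2a7b6be331db064853476a1fcab8ca5fc529f820)) (.node (nat_lit 0x2a7b8bdb2cdc4e8abb43691fc8504a5f8d29fc20) (.leaf (nat_lit 0x2a7b6de32cbc468ad387791ba838525fcca9f820))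 (.leaf (nat_lit 0x2a7b8bdb2cdc4e8abb43691fc8504a5f8d29fc20)))))) (.node (nat_lit 0x3099de663bd5d67511f3b0f0d9229f4c1de2d420) (.node (nat_lit 0x30999e7637d6e63921ebb1f0d511df4d69e2c020) (.node (nat_lit 0x30999d763be5e67521abc0ecf9129e4d5df2c020) (.leaf (nat_lit 0x2a7b8ddb31bb0e483b837a1baad0d25f84a9fc20)) (.leaf (nat_lit 0x30999d763be5e67521abc0ecf9129e4d5df2c020))) (.node (nat_lit 0x3099dd6637e6d63911b3c1ecf521de4c29f2d420) (.leaf (nat_lit 0x30999e7637d6e63921ebb1f0d511df4d69e2c020)) (.leaf (nat_lit 0x3099dd6637e6d63911b3c1ecf521de4c29f2d420)))) (.node (nat_lit 0x30a39e759bd5d63911b3c1ecf5229f2d5de4c020) (.node (nat_lit 0x30a39d7597e6d67511f3b0f0d921de2d69f4c020) (.leaf (nat_lit 0x3099de663bd5d67511f3b0f0d9229f4c1de2d420)) (.leaf (nat_lit 0x30a39d7597e6d67511f3b0f0d921de2d69f4c020))) (.node (nat_lit 0x30a3dd659be5e63921ebb1f0d5129e2c1df4d420) (.leaf (nat_lit 0x30a39e759bd5d63911b3c1ecf5229f2d5de4c020))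 (.node (nat_lit 0x30a3de6597d6e67521abc0ecf911df2c29e4d420) (.leaf (nat_lit 0x30a3dd659be5e63921ebb1f0d5129e2c1df4d420)) (.leaf (nat_lit 0x30a3de6597d6e67521abc0ecf911df2c29e4d420))))))))) (.node (nat_lit 0x41397b6f4dc3cc984fa261639aacf2a786a77c20) (.node (nat_lit 0x38f4fb3799c75ca316f48c99b127cba93f382020) (.node (nat_lit 0x38dbaef1f6ce2829262eb9b6c5157f4567e24020) (.node (nat_lit 0x30bacbc73adf172193136a9f63a3ce827f4a9420) (.node (nat_lit 0x30b31bb3badf16a392d37c9b81a3cea97f482420) (.node (nat_lit 0x30b2cdc7babf26a3a30b6c9f6193d4aa7ee81420) (.leaf (nat_lit 0x30b2cbc7bcdea721a2cb7a9b8393eeaa7d481420)) (.leaf (nat_lit 0x30b2cdc7babf26a3a30b6c9f6193d4aa7ee81420))) (.node (nat_lit 0x30b31db3bcbe972193136a9f63a3f4a97ce82420) (.leaf (nat_lit 0x30b31bb3badf16a392d37c9b81a3cea97f482420)) (.leaf (nat_lit 0x30b31db3bcbe972193136a9f63a3f4a97ce82420)))) (.node (nat_lit 0x30bb1bb33cdea6a3a30b6c9f6193ee817d4aa420)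 (.node (nat_lit 0x30bacdc73cbe96a392d37c9b81a3f4827cea9420) (.leaf (nat_lit 0x30bacbc73adf172193136a9f63a3ce827f4a9420)) (.leaf (nat_lit 0x30bacdc73cbe96a392d37c9b81a3f4827cea9420))) (.node (nat_lit 0x30bb1db33abf2721a2cb7a9b8393d4817eeaa420) (.leaf (nat_lit 0x30bb1bb33cdea6a3a30b6c9f6193ee817d4aa420)) (.node (nat_lit 0x38dbacf1f8eda865258ed8af19167e4557f24020) (.leaf (nat_lit 0x30bb1db33abf2721a2cb7a9b8393d4817eeaa420)) (.leaf (nat_lit 0x38dbacf1f8eda865258ed8af19167e4557f24020)))))) (.node (nat_lit 0x38dfaef1b8cd9c291594d9af15267f2557e44020) (.node (nat_lit 0x38dbcee9f8cd9c651634b8b6c9267f4417e25420) (.node (nat_lit 0x38dbcce9f6ee1c291594d9af15257e4427f25420) (.leaf (nat_lit 0x38dbaef1f6ce2829262eb9b6c5157f4567e24020)) (.leaf (nat_lit 0x38dbcce9f6ee1c291594d9af15257e4427f25420))) (.node (nat_lit 0x38dfacf1b6ee1c651634b8b6c9257e2567f44020) (.leaf (nat_lit 0x38dbcee9f8cd9c651634b8b6c9267f4417e25420))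 (.leaf (nat_lit 0x38dfacf1b6ee1c651634b8b6c9257e2567f44020)))) (.node (nat_lit 0x38dfcee9b6ce2865258ed8af19157f2427e45420) (.node (nat_lit 0x38dfcce9b8eda829262eb9b6c5167e2417f45420) (.leaf (nat_lit 0x38dfaef1b8cd9c291594d9af15267f2557e44020)) (.leaf (nat_lit 0x38dfcce9b8eda829262eb9b6c5167e2417f45420))) (.node (nat_lit 0x38f4db3f9dc6692126ee8a99b317ebaa3d381020) (.leaf (nat_lit 0x38dfcee9b6ce2865258ed8af19157f2427e45420)) (.node (nat_lit 0x38f4dc3f99b768a3276e64a37117d3aa3eb81020) (.leaf (nat_lit 0x38f4db3f9dc6692126ee8a99b317ebaa3d381020)) (.leaf (nat_lit 0x38f4dc3f99b768a3276e64a37117d3aa3eb81020))))))) (.node (nat_lit 0x412fc7eb786d8d52ce22cc3ac4ad43f5247fb820) (.node (nat_lit 0x38f8fb375dc668a3276e64a37117eb813d3aa020) (.node (nat_lit 0x38f8db3f59c75d21177462a37327cb823f3a9020) (.node (nat_lit 0x38f4fc379db65d21177462a37327f3a93cb82020) (.leaf (nat_lit 0x38f4fb3799c75ca316f48c99b127cba93f382020))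 (.leaf (nat_lit 0x38f4fc379db65d21177462a37327f3a93cb82020))) (.node (nat_lit 0x38f8dc3f5db65ca316f48c99b127f3823cba9020) (.leaf (nat_lit 0x38f8db3f59c75d21177462a37327cb823f3a9020)) (.leaf (nat_lit 0x38f8dc3f5db65ca316f48c99b127f3823cba9020)))) (.node (nat_lit 0x412fa6f3787d8552ad86ec3314cd47f3a43fd020) (.node (nat_lit 0x38f8fc3759b7692126ee8a99b317d3813ebaa020) (.leaf (nat_lit 0x38f8fb375dc668a3276e64a37117eb813d3aa020)) (.leaf (nat_lit 0x38f8fc3759b7692126ee8a99b317d3813ebaa020))) (.node (nat_lit 0x412fa7f3766e0504ae26cd7ac2ce43f3947fd020) (.leaf (nat_lit 0x412fa6f3787d8552ad86ec3314cd47f3a43fd020)) (.node (nat_lit 0x412fc6eb767e0d04cd82ed7312ae47f5143fb820) (.leaf (nat_lit 0x412fa7f3766e0504ae26cd7ac2ce43f3947fd020)) (.leaf (nat_lit 0x412fc6eb767e0d04cd82ed7312ae47f5143fb820)))))) (.node (nat_lit 0x4135bc5f8fb34c984fa261639aac6a77cf2a7820) (.node (nat_lit 0x41357c6f8db3c45aafa66263984cea77872a7c20)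 (.node (nat_lit 0x41357b6f8fc344982f268959dacc72778eaa7c20) (.leaf (nat_lit 0x412fc7eb786d8d52ce22cc3ac4ad43f5247fb820)) (.leaf (nat_lit 0x41357b6f8fc344982f268959dacc72778eaa7c20))) (.node (nat_lit 0x4135bb5f8dc3cc5acf228a59d82cf277c6aa7820) (.leaf (nat_lit 0x41357c6f8db3c45aafa66263984cea77872a7c20)) (.leaf (nat_lit 0x4135bb5f8dc3cc5acf228a59d82cf277c6aa7820)))) (.node (nat_lit 0x4137a7f2f86d8d04cd82ed7312ad43fba47f5020) (.node (nat_lit 0x4137a6f2f67e0d52ce22cc3ac4ae47fb943f5020) (.leaf (nat_lit 0x4135bc5f8fb34c984fa261639aac6a77cf2a7820)) (.leaf (nat_lit 0x4137a6f2f67e0d52ce22cc3ac4ae47fb943f5020))) (.node (nat_lit 0x4137c6eaf87d8504ae26cd7ac2cd47fd243f3820) (.leaf (nat_lit 0x4137a7f2f86d8d04cd82ed7312ad43fba47f5020)) (.node (nat_lit 0x4137c7eaf66e0552ad86ec3314ce43fd147f3820) (.leaf (nat_lit 0x4137c6eaf87d8504ae26cd7ac2cd47fd243f3820)) (.leaf (nat_lit 0x4137c7eaf66e0552ad86ec3314ce43fd147f3820))))))))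 (.node (nat_lit 0x497b8bdb31db064abb876a1fa850529fcca5f820) (.node (nat_lit 0x497198f6db65cf0451a3e574f23942fae46f4c20) (.node (nat_lit 0x496d96771b8dc75239a7e434f45146f2e42fcc20) (.node (nat_lit 0x4139bb5f4fc3445aafa66263984c72a7cea77820) (.node (nat_lit 0x41397c6f4fb34c5acf228a59d82c6aa78f277c20) (.leaf (nat_lit 0x41397b6f4dc3cc984fa261639aacf2a786a77c20)) (.leaf (nat_lit 0x41397c6f4fb34c5acf228a59d82c6aa78f277c20))) (.node (nat_lit 0x4139bc5f4db3c4982f268959dacceaa7c7277820) (.leaf (nat_lit 0x4139bb5f4fc3445aafa66263984c72a7cea77820)) (.leaf (nat_lit 0x4139bc5f4db3c4982f268959dacceaa7c7277820)))) (.node (nat_lit 0x496dd667178ecf0451a3e574f23a46f4d42fac20) (.node (nat_lit 0x496d98f71766c70439e7d578d25242f2d46fcc20) (.leaf (nat_lit 0x496d96771b8dc75239a7e434f45146f2e42fcc20)) (.leaf (nat_lit 0x496d98f71766c70439e7d578d25242f2d46fcc20))) (.node (nat_lit 0x496dd8e71b65cf5251e3d438d43942f4e46fac20)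 (.leaf (nat_lit 0x496dd667178ecf0451a3e574f23a46f4d42fac20)) (.node (nat_lit 0x49719676d78ecf5251e3d438d43a46fad42f4c20) (.leaf (nat_lit 0x496dd8e71b65cf5251e3d438d43942f4e46fac20)) (.leaf (nat_lit 0x49719676d78ecf5251e3d438d43a46fad42f4c20)))))) (.node (nat_lit 0x49736de3acbc464abb876a1fa850ca5f8529fc20) (.node (nat_lit 0x4971d8e6d766c75239a7e434f45242fcd46f2c20) (.node (nat_lit 0x4971d666db8dc70439e7d578d25146fce42f2c20) (.leaf (nat_lit 0x497198f6db65cf0451a3e574f23942fae46f4c20)) (.leaf (nat_lit 0x4971d666db8dc70439e7d578d25146fce42f2c20))) (.node (nat_lit 0x49736be3b1db06883b47791bcad0525f8ca9fc20) (.leaf (nat_lit 0x4971d8e6d766c75239a7e434f45242fcd46f2c20)) (.leaf (nat_lit 0x49736be3b1db06883b47791bcad0525f8ca9fc20)))) (.node (nat_lit 0x49738ddbb1bb0e885383691faab84a5fcd29f820) (.node (nat_lit 0x49738bdbacdc4e4ad3437a1bc838d25fc4a9f820) (.leaf (nat_lit 0x49736de3acbc464abb876a1fa850ca5f8529fc20))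 (.leaf (nat_lit 0x49738bdbacdc4e4ad3437a1bc838d25fc4a9f820))) (.node (nat_lit 0x497b6be32cdc4e885383691faab8d29f84a5fc20) (.leaf (nat_lit 0x49738ddbb1bb0e885383691faab84a5fcd29f820)) (.node (nat_lit 0x497b6de331bb0e4ad3437a1bc8384a9f8d25fc20) (.leaf (nat_lit 0x497b6be32cdc4e885383691faab8d29f84a5fc20)) (.leaf (nat_lit 0x497b6de331bb0e4ad3437a1bc8384a9f8d25fc20))))))) (.node (nat_lit 0x54af87db6c6c7e31435ec9fbc3568b2a1d349020) (.node (nat_lit 0x54adb65f0f8b7e63c3bee0b591d5742266e41420) (.node (nat_lit 0x54ad766f0d8bfc21d7bfe1b593c2742156e42420) (.node (nat_lit 0x497b8ddb2cbc46883b47791bcad0ca9fc525f820) (.leaf (nat_lit 0x497b8bdb31db064abb876a1fa850529fcca5f820)) (.leaf (nat_lit 0x497b8ddb2cbc46883b47791bcad0ca9fc525f820))) (.node (nat_lit 0x54ad78ef0f637c63d73fd0b9d1c16e2167442420) (.leaf (nat_lit 0x54ad766f0d8bfc21d7bfe1b593c2742156e42420)) (.leaf (nat_lit 0x54ad78ef0f637c63d73fd0b9d1c16e2167442420))))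 (.node (nat_lit 0x54af66e36c7c7c31579fe9f3a34293291cb4a020) (.node (nat_lit 0x54adb8df0d63fe21c33ed1b9d3d66e2257441420) (.leaf (nat_lit 0x54adb65f0f8b7e63c3bee0b591d5742266e41420)) (.leaf (nat_lit 0x54adb8df0d63fe21c33ed1b9d3d66e2257441420))) (.node (nat_lit 0x54af67e3716b3c73575fc8fbc141cb292934a020) (.leaf (nat_lit 0x54af66e36c7c7c31579fe9f3a34293291cb4a020)) (.node (nat_lit 0x54af86db717b3e73439ee8f3a155d32a28b49020) (.leaf (nat_lit 0x54af67e3716b3c73575fc8fbc141cb292934a020)) (.leaf (nat_lit 0x54af86db717b3e73439ee8f3a155d32a28b49020)))))) (.node (nat_lit 0x54b1b8decf637c21d7bfe1b593c16e4267421420) (.node (nat_lit 0x54b178eecd63fe63c3bee0b591d66e4157422420) (.node (nat_lit 0x54b1766ecf8b7e21c33ed1b9d3d5744166e22420) (.leaf (nat_lit 0x54af87db6c6c7e31435ec9fbc3568b2a1d349020)) (.leaf (nat_lit 0x54b1766ecf8b7e21c33ed1b9d3d5744166e22420))) (.node (nat_lit 0x54b1b65ecd8bfc63d73fd0b9d1c2744256e21420)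 (.leaf (nat_lit 0x54b178eecd63fe63c3bee0b591d66e4157422420)) (.leaf (nat_lit 0x54b1b65ecd8bfc63d73fd0b9d1c2744256e21420)))) (.node (nat_lit 0x54b767e2ec6c7e73439ee8f3a1568b491d32a020) (.node (nat_lit 0x54b766e2f17b3e31435ec9fbc355d34928b2a020) (.leaf (nat_lit 0x54b1b8decf637c21d7bfe1b593c16e4267421420)) (.leaf (nat_lit 0x54b766e2f17b3e31435ec9fbc355d34928b2a020))) (.node (nat_lit 0x54b786daec7c7c73575fc8fbc142934a1cb29020) (.leaf (nat_lit 0x54b767e2ec6c7e73439ee8f3a1568b491d32a020)) (.node (nat_lit 0x54b787daf16b3c31579fe9f3a341cb4a29329020) (.leaf (nat_lit 0x54b786daec7c7c73575fc8fbc142934a1cb29020)) (.leaf (nat_lit 0x54b787daf16b3c31579fe9f3a341cb4a29329020)))))))))) (.node (nat_lit 0x9aecd63f198f514f9b64e3b57f08b01a9353c820) (.node (nat_lit 0x855accc5faef24527b0ada6f647c62a4ce672c20) (.node (nat_lit 0x7519bd5e2de3d3f58f25c7add99ea890a0451820) (.node (nat_lit 0x5cecd8bf1967494f1b68d3b97f89303c8b51a820)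 (.node (nat_lit 0x5cdf6ce1acec51ea0b84bff7a71aa951e0590c20) (.node (nat_lit 0x5cdb8cd9ecec51f70b44dfafca1aa990e0551c20) (.node (nat_lit 0x5cdb6ee1eccc49f71b88bfb7aa0aa591e0950c20) (.leaf (nat_lit 0x5cdb6ce1f1eb09ea1b48dfefc70a0991ea550c20)) (.leaf (nat_lit 0x5cdb6ee1eccc49f71b88bfb7aa0aa591e0950c20))) (.node (nat_lit 0x5cdb8ed9f1cb11ea0b84bff7a71a0590ea951c20) (.leaf (nat_lit 0x5cdb8cd9ecec51f70b44dfafca1aa990e0551c20)) (.leaf (nat_lit 0x5cdb8ed9f1cb11ea0b84bff7a71a0590ea951c20)))) (.node (nat_lit 0x5cdf8cd9b1eb09f71b88bfb7aa0a0950ea591c20) (.node (nat_lit 0x5cdf6ee1b1cb11f70b44dfafca1a0551ea990c20) (.leaf (nat_lit 0x5cdf6ce1acec51ea0b84bff7a71aa951e0590c20)) (.leaf (nat_lit 0x5cdf6ee1b1cb11f70b44dfafca1a0551ea990c20))) (.node (nat_lit 0x5cdf8ed9accc49ea1b48dfefc70aa550e0991c20) (.leaf (nat_lit 0x5cdf8cd9b1eb09f71b88bfb7aa0a0950ea591c20)) (.node (nat_lit 0x5cecd63f1d8e48ef9ae8e535bf08b53c9301a820)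 (.leaf (nat_lit 0x5cdf8ed9accc49ea1b48dfefc70aa550e0991c20)) (.leaf (nat_lit 0x5cecd63f1d8e48ef9ae8e535bf08b53c9301a820)))))) (.node (nat_lit 0x5cf0d8bedd66514f0ae4e3b5bf98b01c9353a820) (.node (nat_lit 0x5cecf8b71d6650ef8b64d5397f18b03a9351c820) (.node (nat_lit 0x5cecf637198f514f0ae4e3b5bf99353a8b01c820) (.leaf (nat_lit 0x5cecd8bf1967494f1b68d3b97f89303c8b51a820)) (.leaf (nat_lit 0x5cecf637198f514f0ae4e3b5bf99353a8b01c820))) (.node (nat_lit 0x5cf0d63ed98f50ef8b64d5397f19351c8b03a820) (.leaf (nat_lit 0x5cecf8b71d6650ef8b64d5397f18b03a9351c820)) (.leaf (nat_lit 0x5cf0d63ed98f50ef8b64d5397f19351c8b03a820)))) (.node (nat_lit 0x5cf0f8b6d96748ef9ae8e535bf09301a8b53c820) (.node (nat_lit 0x5cf0f636dd8e494f1b68d3b97f88b51a9303c820) (.leaf (nat_lit 0x5cf0d8bedd66514f0ae4e3b5bf98b01c9353a820)) (.leaf (nat_lit 0x5cf0f636dd8e494f1b68d3b97f88b51a9303c820))) (.node (nat_lit 0x75197d6e2fe34be99f29c7edd58e0891aa450820)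 (.leaf (nat_lit 0x5cf0f8b6d96748ef9ae8e535bf09301a8b53c820)) (.node (nat_lit 0x75197e6e2dd3cbf59fa9b7b1998ea491a0850820) (.leaf (nat_lit 0x75197d6e2fe34be99f29c7edd58e0891aa450820)) (.leaf (nat_lit 0x75197e6e2dd3cbf59fa9b7b1998ea491a0850820))))))) (.node (nat_lit 0x752f17b37c6e92bf8f05ccfb6f1c903291514820) (.node (nat_lit 0x7523bd5d8fe34bf59fa9b7b1998e0850aa491820) (.node (nat_lit 0x75237d6d8de3d3e98fa5b7f1959ea851a0490820) (.node (nat_lit 0x7519be5e2fd353e98fa5b7f1959e0490aa851820) (.leaf (nat_lit 0x7519bd5e2de3d3f58f25c7add99ea890a0451820)) (.leaf (nat_lit 0x7519be5e2fd353e98fa5b7f1959e0490aa851820))) (.node (nat_lit 0x75237e6d8fd353f58f25c7add99e0451aa890820) (.leaf (nat_lit 0x75237d6d8de3d3e98fa5b7f1959ea851a0490820)) (.leaf (nat_lit 0x75237e6d8fd353f58f25c7add99e0451aa890820)))) (.node (nat_lit 0x752ec6c77c7e8abf9ec9ecf38f0c953491012820) (.node (nat_lit 0x7523be5d8dd3cbe99f29c7edd58ea450a0891820)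 (.leaf (nat_lit 0x7523bd5d8fe34bf59fa9b7b1998e0850aa491820)) (.leaf (nat_lit 0x7523be5d8dd3cbe99f29c7edd58ea450a0891820))) (.node (nat_lit 0x752ec7c77a6f0b3f1f09cafb6f8d103489512820) (.leaf (nat_lit 0x752ec6c77c7e8abf9ec9ecf38f0c953491012820)) (.node (nat_lit 0x752f16b37a7f133f0ec5eaf38f9d153289014820) (.leaf (nat_lit 0x752ec7c77a6f0b3f1f09cafb6f8d103489512820)) (.leaf (nat_lit 0x752f16b37a7f133f0ec5eaf38f9d153289014820)))))) (.node (nat_lit 0x753717b2fa6f0abf9ec9ecf38f0d101289534820) (.node (nat_lit 0x7536c7c6fc6e933f0ec5eaf38f9c901491532820) (.node (nat_lit 0x7536c6c6fa7f12bf8f05ccfb6f1d151489032820) (.leaf (nat_lit 0x752f17b37c6e92bf8f05ccfb6f1c903291514820)) (.leaf (nat_lit 0x7536c6c6fa7f12bf8f05ccfb6f1d151489032820))) (.node (nat_lit 0x753716b2fc7e8b3f1f09cafb6f8c951291034820) (.leaf (nat_lit 0x7536c7c6fc6e933f0ec5eaf38f9c901491532820)) (.leaf (nat_lit 0x753716b2fc7e8b3f1f09cafb6f8c951291034820))))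 (.node (nat_lit 0x8558de3e3dd66484faeab131b2fcc79d0435b820) (.node (nat_lit 0x8558dd3e39e76442fb6ac22d74fc439d0c75b820) (.leaf (nat_lit 0x753717b2fa6f0abf9ec9ecf38f0d101289534820)) (.leaf (nat_lit 0x8558dd3e39e76442fb6ac22d74fc439d0c75b820))) (.node (nat_lit 0x8558fd363de65484ff72c12d72f8c39b8475d020) (.leaf (nat_lit 0x8558de3e3dd66484faeab131b2fcc79d0435b820)) (.node (nat_lit 0x8558fe3639d75442fef2b231b4f8479b8c35d020) (.leaf (nat_lit 0x8558fd363de65484ff72c12d72f8c39b8475d020)) (.leaf (nat_lit 0x8558fe3639d75442fef2b231b4f8479b8c35d020)))))))) (.node (nat_lit 0x92af86db6c7c7c33435fe9f3c155cb492932a020) (.node (nat_lit 0x8562de3d99d75484ff72c12d72f8475d0c39b820) (.node (nat_lit 0x855eccc5bcee94527ed2ba778478e274c66a2c20) (.node (nat_lit 0x855b1cb1fcee94947f12d96f6278e2a2c6674c20) (.node (nat_lit 0x855acec5fccea4947acab977827ce6a4c6272c20) (.leaf (nat_lit 0x855accc5faef24527b0ada6f647c62a4ce672c20))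 (.leaf (nat_lit 0x855acec5fccea4947acab977827ce6a4c6272c20))) (.node (nat_lit 0x855b1eb1facf14527ed2ba77847866a2ce274c20) (.leaf (nat_lit 0x855b1cb1fcee94947f12d96f6278e2a2c6674c20)) (.leaf (nat_lit 0x855b1eb1facf14527ed2ba77847866a2ce274c20)))) (.node (nat_lit 0x855f1cb1baef24947acab977827c6272ce6a4c20) (.node (nat_lit 0x855ecec5bacf14947f12d96f62786674ce2a2c20) (.leaf (nat_lit 0x855eccc5bcee94527ed2ba778478e274c66a2c20)) (.leaf (nat_lit 0x855ecec5bacf14947f12d96f62786674ce2a2c20))) (.node (nat_lit 0x855f1eb1bccea4527b0ada6f647ce672c62a4c20) (.leaf (nat_lit 0x855f1cb1baef24947acab977827c6272ce6a4c20)) (.node (nat_lit 0x8562dd3d9de65442fef2b231b4f8c35d0479b820) (.leaf (nat_lit 0x855f1eb1bccea4527b0ada6f647ce672c62a4c20)) (.leaf (nat_lit 0x8562dd3d9de65442fef2b231b4f8c35d0479b820)))))) (.node (nat_lit 0x92ad78ef0d63fe23d7bed1b991c1744266e21420) (.node (nat_lit 0x8562fe359dd66442fb6ac22d74fcc75b8439d020)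 (.node (nat_lit 0x8562fd3599e76484faeab131b2fc435b8c79d020) (.leaf (nat_lit 0x8562de3d99d75484ff72c12d72f8475d0c39b820)) (.leaf (nat_lit 0x8562fd3599e76484faeab131b2fc435b8c79d020))) (.node (nat_lit 0x92ad766f0f8b7e61d73ee0b5d3c26e4257421420) (.leaf (nat_lit 0x8562fe359dd66442fb6ac22d74fcc75b8439d020)) (.leaf (nat_lit 0x92ad766f0f8b7e61d73ee0b5d3c26e4257421420)))) (.node (nat_lit 0x92adb8df0f637c61c3bfd0b993d6744156e22420) (.node (nat_lit 0x92adb65f0d8bfc23c33fe1b5d1d56e4167422420) (.leaf (nat_lit 0x92ad78ef0d63fe23d7bed1b991c1744266e21420)) (.leaf (nat_lit 0x92adb65f0d8bfc23c33fe1b5d1d56e4167422420))) (.node (nat_lit 0x92af66e3717b3e71575ee8f3c3428b4a1d329020) (.leaf (nat_lit 0x92adb8df0f637c61c3bfd0b993d6744156e22420)) (.node (nat_lit 0x92af67e36c6c7e33579ec9fba141d34a28b29020) (.leaf (nat_lit 0x92af66e3717b3e71575ee8f3c3428b4a1d329020)) (.leaf (nat_lit 0x92af67e36c6c7e33579ec9fba141d34a28b29020)))))))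 (.node (nat_lit 0x92b787daec6c7e71575ee8f3c341d32928b4a020) (.node (nat_lit 0x92b1b65ecf8b7e23d7bed1b991c26e2157442420) (.node (nat_lit 0x92b1766ecd8bfc61c3bfd0b993d56e2267441420) (.node (nat_lit 0x92af87db716b3c71439fc8fba35693491cb2a020) (.leaf (nat_lit 0x92af86db6c7c7c33435fe9f3c155cb492932a020)) (.leaf (nat_lit 0x92af87db716b3c71439fc8fba35693491cb2a020))) (.node (nat_lit 0x92b178eecf637c23c33fe1b5d1d6742256e41420) (.leaf (nat_lit 0x92b1766ecd8bfc61c3bfd0b993d56e2267441420)) (.leaf (nat_lit 0x92b178eecf637c23c33fe1b5d1d6742256e41420)))) (.node (nat_lit 0x92b766e2ec7c7c71439fc8fba355cb2a29349020) (.node (nat_lit 0x92b1b8decd63fe61d73ee0b5d3c1742166e42420) (.leaf (nat_lit 0x92b1b65ecf8b7e23d7bed1b991c26e2157442420)) (.leaf (nat_lit 0x92b1b8decd63fe61d73ee0b5d3c1742166e42420))) (.node (nat_lit 0x92b767e2f16b3c33435fe9f3c156932a1cb49020) (.leaf (nat_lit 0x92b766e2ec7c7c71439fc8fba355cb2a29349020))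 (.node (nat_lit 0x92b786daf17b3e33579ec9fba1428b291d34a020) (.leaf (nat_lit 0x92b767e2f16b3c33435fe9f3c156932a1cb49020)) (.leaf (nat_lit 0x92b786daf17b3e33579ec9fba1428b291d34a020)))))) (.node (nat_lit 0x9adb8ed9eccc49fa0b48bfb7c71a0951ea590c20) (.node (nat_lit 0x9adb6ee1f1cb11e71b44bff7ca0aa950e0591c20) (.node (nat_lit 0x9adb6ce1ecec51fa1b84dfafa70a0550ea991c20) (.leaf (nat_lit 0x92b787daec6c7e71575ee8f3c341d32928b4a020)) (.leaf (nat_lit 0x9adb6ce1ecec51fa1b84dfafa70a0550ea991c20))) (.node (nat_lit 0x9adb8cd9f1eb09e70b88dfefaa1aa551e0990c20) (.leaf (nat_lit 0x9adb6ee1f1cb11e71b44bff7ca0aa950e0591c20)) (.leaf (nat_lit 0x9adb8cd9f1eb09e70b88dfefaa1aa551e0990c20)))) (.node (nat_lit 0x9adf6ee1accc49e70b88dfefaa1a0990ea551c20) (.node (nat_lit 0x9adf6ce1b1eb09fa0b48bfb7c71aa590e0951c20) (.leaf (nat_lit 0x9adb8ed9eccc49fa0b48bfb7c71a0951ea590c20)) (.leaf (nat_lit 0x9adf6ce1b1eb09fa0b48bfb7c71aa590e0951c20)))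 (.node (nat_lit 0x9adf8cd9acec51e71b44bff7ca0a0591ea950c20) (.leaf (nat_lit 0x9adf6ee1accc49e70b88dfefaa1a0990ea551c20)) (.node (nat_lit 0x9adf8ed9b1cb11fa1b84dfafa70aa991e0550c20) (.leaf (nat_lit 0x9adf8cd9acec51e71b44bff7ca0a0591ea950c20)) (.leaf (nat_lit 0x9adf8ed9b1cb11fa1b84dfafa70aa991e0550c20))))))))) (.node (nat_lit 0xac22dd3d99e76482ff6ab13174f8c79b8435d020) (.node (nat_lit 0xa3af16b37c7e8abf0f09ecf36f9d101489532820) (.node (nat_lit 0xa3997e6e2fd353e59f25b7f1d98ea850a0491820) (.node (nat_lit 0x9af0d63edd8e494f8ae8d3b9bf19303a8b51c820) (.node (nat_lit 0x9aecf6371d8e48ef0b68e5357f99301c8b53a820) (.node (nat_lit 0x9aecd8bf1d6650ef1ae4d539bf89351a8b03c820) (.leaf (nat_lit 0x9aecd63f198f514f9b64e3b57f08b01a9353c820)) (.leaf (nat_lit 0x9aecd8bf1d6650ef1ae4d539bf89351a8b03c820))) (.node (nat_lit 0x9aecf8b71967494f8ae8d3b9bf18b51c9303a820) (.leaf (nat_lit 0x9aecf6371d8e48ef0b68e5357f99301c8b53a820))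 (.leaf (nat_lit 0x9aecf8b71967494f8ae8d3b9bf18b51c9303a820)))) (.node (nat_lit 0x9af0f636d98f50ef1ae4d539bf88b03c9351a820) (.node (nat_lit 0x9af0d8bed96748ef0b68e5357f98b53a9301c820) (.leaf (nat_lit 0x9af0d63edd8e494f8ae8d3b9bf19303a8b51c820)) (.leaf (nat_lit 0x9af0d8bed96748ef0b68e5357f98b53a9301c820))) (.node (nat_lit 0x9af0f8b6dd66514f9b64e3b57f09353c8b01a820) (.leaf (nat_lit 0x9af0f636d98f50ef1ae4d539bf88b03c9351a820)) (.node (nat_lit 0xa3997d6e2de3d3f99fa5c7ad958e0450aa891820) (.leaf (nat_lit 0x9af0f8b6dd66514f9b64e3b57f09353c8b01a820)) (.leaf (nat_lit 0xa3997d6e2de3d3f99fa5c7ad958e0450aa891820)))))) (.node (nat_lit 0xa3a37e6d8dd3cbe58fa9c7ed999e0890aa451820) (.node (nat_lit 0xa399be5e2dd3cbf98f29b7b1d59e0851aa490820) (.node (nat_lit 0xa399bd5e2fe34be58fa9c7ed999ea451a0890820) (.leaf (nat_lit 0xa3997e6e2fd353e59f25b7f1d98ea850a0491820)) (.leaf (nat_lit 0xa399bd5e2fe34be58fa9c7ed999ea451a0890820)))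 (.node (nat_lit 0xa3a37d6d8fe34bf98f29b7b1d59ea490a0851820) (.leaf (nat_lit 0xa399be5e2dd3cbf98f29b7b1d59e0851aa490820)) (.leaf (nat_lit 0xa3a37d6d8fe34bf98f29b7b1d59ea490a0851820)))) (.node (nat_lit 0xa3a3be5d8fd353f99fa5c7ad958ea891a0450820) (.node (nat_lit 0xa3a3bd5d8de3d3e59f25b7f1d98e0491aa850820) (.leaf (nat_lit 0xa3a37e6d8dd3cbe58fa9c7ed999e0890aa451820)) (.leaf (nat_lit 0xa3a3bd5d8de3d3e59f25b7f1d98e0491aa850820))) (.node (nat_lit 0xa3aec6c77a7f133f9f05eaf36f0c901291534820) (.leaf (nat_lit 0xa3a3be5d8fd353f99fa5c7ad958ea891a0450820)) (.node (nat_lit 0xa3aec7c77c6e92bf1ec5ccfb8f8d151289034820) (.leaf (nat_lit 0xa3aec6c77a7f133f9f05eaf36f0c901291534820)) (.leaf (nat_lit 0xa3aec7c77c6e92bf1ec5ccfb8f8d151289034820))))))) (.node (nat_lit 0xac18fe363dd66482ff6ab13174f8435d0c79b820) (.node (nat_lit 0xa3b716b2fa7f12bf1ec5ccfb8f8c903491512820) (.node (nat_lit 0xa3b6c6c6fc7e8b3f8ec9cafb8f1d103289514820)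 (.node (nat_lit 0xa3af17b37a6f0b3f8ec9cafb8f1c951491032820) (.leaf (nat_lit 0xa3af16b37c7e8abf0f09ecf36f9d101489532820)) (.leaf (nat_lit 0xa3af17b37a6f0b3f8ec9cafb8f1c951491032820))) (.node (nat_lit 0xa3b6c7c6fa6f0abf0f09ecf36f9c953291014820) (.leaf (nat_lit 0xa3b6c6c6fc7e8b3f8ec9cafb8f1d103289514820)) (.leaf (nat_lit 0xa3b6c7c6fa6f0abf0f09ecf36f9c953291014820)))) (.node (nat_lit 0xac18dd3e3de65482faf2c12db4fc475b8c39d020) (.node (nat_lit 0xa3b717b2fc6e933f9f05eaf36f0d153489012820) (.leaf (nat_lit 0xa3b716b2fa7f12bf1ec5ccfb8f8c903491512820)) (.leaf (nat_lit 0xa3b717b2fc6e933f9f05eaf36f0d153489012820))) (.node (nat_lit 0xac18de3e39d75444fb72b23172fcc35b8479d020) (.leaf (nat_lit 0xac18dd3e3de65482faf2c12db4fc475b8c39d020)) (.node (nat_lit 0xac18fd3639e76444feeac22db2f8c75d0439b820) (.leaf (nat_lit 0xac18de3e39d75444fb72b23172fcc35b8479d020)) (.leaf (nat_lit 0xac18fd3639e76444feeac22db2f8c75d0439b820))))))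 (.node (nat_lit 0xac1b1eb1fccea4927f0ab97764786274ce6a2c20) (.node (nat_lit 0xac1acec5facf14547b12ba77627ce272c66a4c20) (.node (nat_lit 0xac1accc5fcee94927ad2d96f847c6672ce2a4c20) (.leaf (nat_lit 0xac18fe363dd66482ff6ab13174f8435d0c79b820)) (.leaf (nat_lit 0xac1accc5fcee94927ad2d96f847c6672ce2a4c20))) (.node (nat_lit 0xac1b1cb1faef24547ecada6f8278e674c62a2c20) (.leaf (nat_lit 0xac1acec5facf14547b12ba77627ce272c66a4c20)) (.leaf (nat_lit 0xac1b1cb1faef24547ecada6f8278e674c62a2c20)))) (.node (nat_lit 0xac1ecec5bccea4547ecada6f827862a2ce674c20) (.node (nat_lit 0xac1eccc5baef24927f0ab9776478e6a2c6274c20) (.leaf (nat_lit 0xac1b1eb1fccea4927f0ab97764786274ce6a2c20)) (.leaf (nat_lit 0xac1eccc5baef24927f0ab9776478e6a2c6274c20))) (.node (nat_lit 0xac1f1cb1bcee94547b12ba77627c66a4ce272c20) (.leaf (nat_lit 0xac1ecec5bccea4547ecada6f827862a2ce674c20)) (.node (nat_lit 0xac1f1eb1bacf14927ad2d96f847ce2a4c6672c20)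 (.leaf (nat_lit 0xac1f1cb1bcee94547b12ba77627c66a4ce272c20)) (.leaf (nat_lit 0xac1f1eb1bacf14927ad2d96f847ce2a4c6672c20)))))))) (.node (nat_lit 0xf7fbcbeb38dda145ca356b9ec9a8a81892439820) (.node (nat_lit 0xf7f59c7797b6e13749f562e2da290531c8910c20) (.node (nat_lit 0xf7f3abf3b8dda0e9c9957d1b15a8a83992418820) (.node (nat_lit 0xac22fd359de65444fb72b23172fc479d0c35b820) (.node (nat_lit 0xac22de3d9dd66444feeac22db2f8439b8c75d020) (.leaf (nat_lit 0xac22dd3d99e76482ff6ab13174f8c79b8435d020)) (.leaf (nat_lit 0xac22de3d9dd66444feeac22db2f8439b8c75d020))) (.node (nat_lit 0xac22fe3599d75482faf2c12db4fcc39d0475b820) (.leaf (nat_lit 0xac22fd359de65444fb72b23172fc479d0c35b820)) (.leaf (nat_lit 0xac22fe3599d75482faf2c12db4fcc39d0475b820)))) (.node (nat_lit 0xf7f3cbebb6de2b45a9907b9b19c928388a419820) (.node (nat_lit 0xf7f3adf3b6be2145ca356b9ec9a924398a818820) (.leaf (nat_lit 0xf7f3abf3b8dda0e9c9957d1b15a8a83992418820))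 (.leaf (nat_lit 0xf7f3adf3b6be2145ca356b9ec9a924398a818820))) (.node (nat_lit 0xf7f3cdebb8bdaae9aa306d1ec5c8a43892819820) (.leaf (nat_lit 0xf7f3cbebb6de2b45a9907b9b19c928388a419820)) (.node (nat_lit 0xf7f59b779bc5e0ba49b58cd8f7288931d0510c20) (.leaf (nat_lit 0xf7f3cdebb8bdaae9aa306d1ec5c8a43892819820)) (.leaf (nat_lit 0xf7f59b779bc5e0ba49b58cd8f7288931d0510c20)))))) (.node (nat_lit 0xf7f99c775bb5eb3729b08ad8fa488511d0930c20) (.node (nat_lit 0xf7f5dc679bb5eaba29f064e2d7488530d0911c20) (.node (nat_lit 0xf7f5db6797c6eb3729b08ad8fa490930c8511c20) (.leaf (nat_lit 0xf7f59c7797b6e13749f562e2da290531c8910c20)) (.leaf (nat_lit 0xf7f5db6797c6eb3729b08ad8fa490930c8511c20))) (.node (nat_lit 0xf7f99b7757c6eaba29f064e2d7490911c8530c20) (.leaf (nat_lit 0xf7f5dc679bb5eaba29f064e2d7488530d0911c20)) (.leaf (nat_lit 0xf7f99b7757c6eaba29f064e2d7490911c8530c20)))) (.node (nat_lit 0xf7f9dc6757b6e0ba49b58cd8f7290510c8931c20)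 (.node (nat_lit 0xf7f9db675bc5e13749f562e2da288910d0531c20) (.leaf (nat_lit 0xf7f99c775bb5eb3729b08ad8fa488511d0930c20)) (.leaf (nat_lit 0xf7f9db675bc5e13749f562e2da288910d0531c20))) (.node (nat_lit 0xf7fbabf336de2ae9aa306d1ec5c928198a438820) (.leaf (nat_lit 0xf7f9dc6757b6e0ba49b58cd8f7290510c8931c20)) (.node (nat_lit 0xf7fbadf338bdab45a9907b9b19c8a41992838820) (.leaf (nat_lit 0xf7fbabf336de2ae9aa306d1ec5c928198a438820)) (.leaf (nat_lit 0xf7fbadf338bdab45a9907b9b19c8a41992838820))))))) (.node (nat_lit 0xffb5dc6797b6e13a29b562e2f7488911d0530c20) (.node (nat_lit 0xffb3cbebb8dda0e5aa357d1ac9c924198a838820) (.node (nat_lit 0xffb3abf3b6de2b49ca307b9ac5a8a41892839820) (.node (nat_lit 0xf7fbcdeb36be20e9c9957d1b15a924188a839820) (.leaf (nat_lit 0xf7fbcbeb38dda145ca356b9ec9a8a81892439820)) (.leaf (nat_lit 0xf7fbcdeb36be20e9c9957d1b15a924188a839820))) (.node (nat_lit 0xffb3adf3b8bdaae5c9906d1f19a928188a439820)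 (.leaf (nat_lit 0xffb3abf3b6de2b49ca307b9ac5a8a41892839820)) (.leaf (nat_lit 0xffb3adf3b8bdaae5c9906d1f19a928188a439820)))) (.node (nat_lit 0xffb59b7797c6eb3a49f08ad8d7288510d0931c20) (.node (nat_lit 0xffb3cdebb6be2149a9956b9f15c8a81992438820) (.leaf (nat_lit 0xffb3cbebb8dda0e5aa357d1ac9c924198a838820)) (.leaf (nat_lit 0xffb3cdebb6be2149a9956b9f15c8a81992438820))) (.node (nat_lit 0xffb59c779bb5eab749b064e2fa290910c8531c20) (.leaf (nat_lit 0xffb59b7797c6eb3a49f08ad8d7288510d0931c20)) (.node (nat_lit 0xffb5db679bc5e0b729f58cd8da490511c8930c20) (.leaf (nat_lit 0xffb59c779bb5eab749b064e2fa290910c8531c20)) (.leaf (nat_lit 0xffb5db679bc5e0b729f58cd8da490511c8930c20)))))) (.node (nat_lit 0xffb9dc675bb5eb3a49f08ad8d7290931c8510c20) (.node (nat_lit 0xffb99c7757b6e0b729f58cd8da488930d0511c20) (.node (nat_lit 0xffb99b775bc5e13a29b562e2f7490530c8911c20) (.leaf (nat_lit 0xffb5dc6797b6e13a29b562e2f7488911d0530c20))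 (.leaf (nat_lit 0xffb99b775bc5e13a29b562e2f7490530c8911c20))) (.node (nat_lit 0xffb9db6757c6eab749b064e2fa288531d0910c20) (.leaf (nat_lit 0xffb99c7757b6e0b729f58cd8da488930d0511c20)) (.leaf (nat_lit 0xffb9db6757c6eab749b064e2fa288531d0910c20)))) (.node (nat_lit 0xffbbadf336be20e5aa357d1ac9c8a83892419820) (.node (nat_lit 0xffbbabf338dda149a9956b9f15c924388a819820) (.leaf (nat_lit 0xffb9dc675bb5eb3a49f08ad8d7290931c8510c20)) (.leaf (nat_lit 0xffbbabf338dda149a9956b9f15c924388a819820))) (.node (nat_lit 0xffbbcbeb36de2ae5c9906d1f19a8a43992818820) (.leaf (nat_lit 0xffbbadf336be20e5aa357d1ac9c8a83892419820)) (.node (nat_lit 0xffbbcdeb38bdab49ca307b9ac5a928398a418820) (.leaf (nat_lit 0xffbbcbeb36de2ae5c9906d1f19a8a43992818820)) (.leaf (nat_lit 0xffbbcdeb38bdab49ca307b9ac5a928398a418820)))))))))))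
noncomputable def AP_lKR_T : ST := AP_lKR_T0
theorem AP_lKR_E {G : Type*} [Group G] {R : ℕ → G → Prop} {z u v a b i j k l x y r s t : G}
    (M : Md0 AP_o AP_cs R [z, u, v, a, b, i, j, k, l, x, y, r, s, t]) :
    EnumS R AP_lKR (sp [i, x, y, s]) :=
  enumS_tree M.μ.1 (M.reps.tms M.μ.1 [(.v (nat_lit 5)), (.v (nat_lit 9)), (.v (nat_lit 10)), (.v (nat_lit 12))] (cs' := [(nat_lit 0xf7f3abf3b8dda0e9c9957d1b15a8a83992418820), (nat_lit 0x54b786daec7c7c73575fc8fbc142934a1cb29020), (nat_lit 0x9adb8ed9eccc49fa0b48bfb7c71a0951ea590c20), (nat_lit 0xa399be5e2dd3cbf98f29b7b1d59e0851aa490820)]) (by decide +kernel))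
    (Ws := AP_lKR_W) (T := AP_lKR_T) (by decide +kernel) (by decide +kernel)
theorem AP_lKR_c {G : Type*} [Group G] {R : ℕ → G → Prop} {z u v a b i j k l x y r s t : G}
    (M : Md0 AP_o AP_cs R [z, u, v, a, b, i, j, k, l, x, y, r, s, t]) :
    #(sp [i, x, y, s]) = 288 :=
  (AP_lKR_E M).card M.μ (h := AP_lKR_h) (by decide +kernel)
noncomputable def AP_lKJ : List ℕ := [(nat_lit 0x11afacf36cec50352ec469df894d35778b0a7c20), (nat_lit 0x11afaef371cb10792f0478db654cb077935a7c20), (nat_lit 0x11afcceb71eb08794ec868df852cb577d30a7820), (nat_lit 0x11afceeb6ccc48354f0879db692d3077cb5a7820), (nat_lit 0x11b2cbc7badf16a1a3137c9b6393f4817ceaa420), (nat_lit 0x11b2cdc7bcbe9723a2d36a9f8193ce817f4aa420), (nat_lit 0x11b31bb3bcdea723930b7a9b61a3d4827eea9420), (nat_lit 0x11b31db3babf26a192cb6c9f83a3ee827d4a9420), (nat_lit 0x11b7acf2f1eb08354f0879db692cb5a793077c20), (nat_lit 0x11b7aef2eccc48794ec868df852d30a78b577c20),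 (nat_lit 0x11b7cceaecec50792f0478db654d35a7cb077820), (nat_lit 0x11b7ceeaf1cb10352ec469df894cb0a7d3577820), (nat_lit 0x11bacbc73cdea6a192cb6c9f83a3d4a97ee82420), (nat_lit 0x11bacdc73abf2723930b7a9b61a3eea97d482420), (nat_lit 0x11bb1bb33adf1723a2d36a9f8193f4aa7ce81420), (nat_lit 0x11bb1db33cbe96a1a3137c9b6393ceaa7f481420), (nat_lit 0x19dbacf1f6ee1c252634d9aec9167f2417e45420), (nat_lit 0x19dbaef1f8cd9c692594b8b715157e2427f45420), (nat_lit 0x19dbcce9f8eda869162ed8aec5257f2567e44020), (nat_lit 0x19dbcee9f6ce2825158eb9b719267e2557f44020), (nat_lit 0x19dfacf1b8eda825158eb9b719257f4427e25420), (nat_lit 0x19dfaef1b6ce2869162ed8aec5267e4417f25420), (nat_lit 0x19dfcce9b6ee1c692594b8b715167f4557e24020), (nat_lit 0x19dfcee9b8cd9c252634d9aec9157e4567f24020), (nat_lit 0x19f366e3ba7f12a13985bcb71352a8f2e04fcc20), (nat_lit 0x19f367e3bc6e93233a25daaec15204f2ea8fcc20), (nat_lit 0x19f386dbbc7e8b235189bab7113a08f4ea4fac20),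 (nat_lit 0x19f387dbba6f0aa15229dcaec33aa4f4e08fac20), (nat_lit 0x19fb66e33c7e8aa15229dcaec33a08faea4f4c20), (nat_lit 0x19fb67e33a6f0b235189bab7113aa4fae08f4c20), (nat_lit 0x19fb86db3a7f13233a25daaec152a8fce04f2c20), (nat_lit 0x19fb87db3c6e92a13985bcb7135204fcea8f2c20), (nat_lit 0x221b6be1fadf16581993ca7b1a89de3ca9f1a820), (nat_lit 0x221b6de1fcbe969a9a33e972c80a9f3c9de1a820), (nat_lit 0x221b8bd9fcdea69a898bc97b181a9e3a9df1c820), (nat_lit 0x221b8dd9fabf26580a2bea72ca99df3aa9e1c820), (nat_lit 0x221f6be1bcdea6580a2bea72ca9a9e1c9df3a820), (nat_lit 0x221f6de1babf269a898bc97b1819df1ca9e3a820), (nat_lit 0x221f8bd9badf169a9a33e972c809de1aa9f3c820), (nat_lit 0x221f8dd9bcbe96581993ca7b1a8a9f1a9de3c820), (nat_lit 0x222fa6f3767e0d02ae22ed72c4cd43fd247f3820), (nat_lit 0x222fa7f3786d8d54ad82cc3b12ce47fd143f3820), (nat_lit 0x222fc6eb787d8554ce26ec32c2ae43fb947f5020), (nat_lit 0x222fc7eb766e0502cd86cd7b14ad47fba43f5020),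 (nat_lit 0x2237a6f2f87d8502cd86cd7b14ae43f5147fb820), (nat_lit 0x2237a7f2f66e0554ce26ec32c2ad47f5243fb820), (nat_lit 0x2237c6eaf67e0d54ad82cc3b12cd43f3a47fd020), (nat_lit 0x2237c7eaf86d8d02ae22ed72c4ce47f3943fd020), (nat_lit 0x2a6eccc776ee1d021f546d5fc40fcb91bf350820), (nat_lit 0x2a6ecec778cd9d541f947c1ba20ff391bcb50820), (nat_lit 0x2a6f1cb378eda9540f4e6c1fc21feb90bd351820), (nat_lit 0x2a6f1eb376ce29020f8e7d5ba41fd390beb51820), (nat_lit 0x2a736be3acdc4e483b837a1baad04a9fcd25f820), (nat_lit 0x2a736de3b1bb0e8abb43691fc850d29fc4a5f820), (nat_lit 0x2a738bdbb1db068ad387791ba838ca9f8525fc20), (nat_lit 0x2a738ddbacbc464853476a1fcab8529f8ca5fc20), (nat_lit 0x2a76ccc6f8eda9020f8e7d5ba41feb51bd390820), (nat_lit 0x2a76cec6f6ce29540f4e6c1fc21fd351beb90820), (nat_lit 0x2a771cb2f6ee1d541f947c1ba20fcb50bf391820), (nat_lit 0x2a771eb2f8cd9d021f546d5fc40ff350bcb91820), (nat_lit 0x2a7b6be331db064853476a1fcab8ca5fc529f820),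 (nat_lit 0x2a7b6de32cbc468ad387791ba838525fcca9f820), (nat_lit 0x2a7b8bdb2cdc4e8abb43691fc8504a5f8d29fc20), (nat_lit 0x2a7b8ddb31bb0e483b837a1baad0d25f84a9fc20), (nat_lit 0x30afacf371eb08752f0868df694d30a7cb577820), (nat_lit 0x30afaef36ccc48392ec879db854cb5a7d3077820), (nat_lit 0x30afcceb6cec50394f0469df652cb0a793577c20), (nat_lit 0x30afceeb71cb10754ec478db892d35a78b077c20), (nat_lit 0x30b2cbc7bcdea721a2cb7a9b8393eeaa7d481420), (nat_lit 0x30b2cdc7babf26a3a30b6c9f6193d4aa7ee81420), (nat_lit 0x30b31bb3badf16a392d37c9b81a3cea97f482420), (nat_lit 0x30b31db3bcbe972193136a9f63a3f4a97ce82420), (nat_lit 0x30b7acf2ecec50754ec478db892cb077d35a7820), (nat_lit 0x30b7aef2f1cb10394f0469df652d3577cb0a7820), (nat_lit 0x30b7cceaf1eb08392ec879db854d30778b5a7c20), (nat_lit 0x30b7ceeaeccc48752f0868df694cb577930a7c20), (nat_lit 0x30bacbc73adf172193136a9f63a3ce827f4a9420), (nat_lit 0x30bacdc73cbe96a392d37c9b81a3f4827cea9420),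 (nat_lit 0x30bb1bb33cdea6a3a30b6c9f6193ee817d4aa420), (nat_lit 0x30bb1db33abf2721a2cb7a9b8393d4817eeaa420), (nat_lit 0x38dbacf1f8eda865258ed8af19167e4557f24020), (nat_lit 0x38dbaef1f6ce2829262eb9b6c5157f4567e24020), (nat_lit 0x38dbcce9f6ee1c291594d9af15257e4427f25420), (nat_lit 0x38dbcee9f8cd9c651634b8b6c9267f4417e25420), (nat_lit 0x38dfacf1b6ee1c651634b8b6c9257e2567f44020), (nat_lit 0x38dfaef1b8cd9c291594d9af15267f2557e44020), (nat_lit 0x38dfcce9b8eda829262eb9b6c5167e2417f45420), (nat_lit 0x38dfcee9b6ce2865258ed8af19157f2427e45420), (nat_lit 0x38f366e3bc7e8b213a29bab6c352a4fce08f2c20), (nat_lit 0x38f367e3ba6f0aa33989dcaf115208fcea4f2c20), (nat_lit 0x38f386dbba7f12a35225bcb6c13a04faea8f4c20), (nat_lit 0x38f387dbbc6e93215185daaf133aa8fae04f4c20), (nat_lit 0x38fb66e33a7f13215185daaf133a04f4ea8fac20), (nat_lit 0x38fb67e33c6e92a35225bcb6c13aa8f4e04fac20), (nat_lit 0x38fb86db3c7e8aa33989dcaf1152a4f2e08fcc20),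 (nat_lit 0x38fb87db3a6f0b213a29bab6c35208f2ea4fcc20), (nat_lit 0x411b6be1fcdea6981a2bc97aca89df1aa9e3c820), (nat_lit 0x411b6de1fabf265a998bea73180a9e1a9df3c820), (nat_lit 0x411b8bd9fadf165a8a33ca7ac81a9f1c9de3a820), (nat_lit 0x411b8dd9fcbe96980993e9731a99de1ca9f3a820), (nat_lit 0x411f6be1badf16980993e9731a9a9f3a9de1c820), (nat_lit 0x411f6de1bcbe965a8a33ca7ac819de3aa9f1c820), (nat_lit 0x411f8bd9bcdea65a998bea731809df3ca9e1a820), (nat_lit 0x411f8dd9babf26981a2bc97aca8a9e3c9df1a820), (nat_lit 0x412fa6f3787d8552ad86ec3314cd47f3a43fd020), (nat_lit 0x412fa7f3766e0504ae26cd7ac2ce43f3947fd020), (nat_lit 0x412fc6eb767e0d04cd82ed7312ae47f5143fb820), (nat_lit 0x412fc7eb786d8d52ce22cc3ac4ad43f5247fb820), (nat_lit 0x4137a6f2f67e0d52ce22cc3ac4ae47fb943f5020), (nat_lit 0x4137a7f2f86d8d04cd82ed7312ad43fba47f5020), (nat_lit 0x4137c6eaf87d8504ae26cd7ac2cd47fd243f3820), (nat_lit 0x4137c7eaf66e0552ad86ec3314ce43fd147f3820),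 (nat_lit 0x496eccc778eda9521f8e6c1fa40fd350beb91820), (nat_lit 0x496ecec776ce29041f4e7d5bc20feb50bd391820), (nat_lit 0x496f1cb376ee1d040f946d5fa21ff351bcb90820), (nat_lit 0x496f1eb378cd9d520f547c1bc41fcb51bf390820), (nat_lit 0x49736be3b1db06883b47791bcad0525f8ca9fc20), (nat_lit 0x49736de3acbc464abb876a1fa850ca5f8529fc20), (nat_lit 0x49738bdbacdc4e4ad3437a1bc838d25fc4a9f820), (nat_lit 0x49738ddbb1bb0e885383691faab84a5fcd29f820), (nat_lit 0x4976ccc6f6ee1d520f547c1bc41ff390bcb51820), (nat_lit 0x4976cec6f8cd9d040f946d5fa21fcb90bf351820), (nat_lit 0x49771cb2f8eda9041f4e7d5bc20fd391beb50820), (nat_lit 0x49771eb2f6ce29521f8e6c1fa40feb91bd350820), (nat_lit 0x497b6be32cdc4e885383691faab8d29f84a5fc20), (nat_lit 0x497b6de331bb0e4ad3437a1bc8384a9f8d25fc20), (nat_lit 0x497b8bdb31db064abb876a1fa850529fcca5f820), (nat_lit 0x497b8ddb2cbc46883b47791bcad0ca9fc525f820), (nat_lit 0x549acbc5f6de2a21fb50c9bbc3fd095b8859d020),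 (nat_lit 0x549acdc5f8bdaa63fb90e8b3a1fc855b9099d020), (nat_lit 0x549b1bb1f8dda063ff55c8bbc1f8895d1059b820), (nat_lit 0x549b1db1f6be2021ff95e9b3a3f9055d0899b820), (nat_lit 0x549ecbc5b8dda021ff95e9b3a3f8899b9055d020), (nat_lit 0x549ecdc5b6be2063ff55c8bbc1f9059b8895d020), (nat_lit 0x549f1bb1b6de2a63fb90e8b3a1fd099d0855b820), (nat_lit 0x549f1db1b8bdaa21fb50c9bbc3fc859d1095b820), (nat_lit 0x54af66e36c7c7c31579fe9f3a34293291cb4a020), (nat_lit 0x54af67e3716b3c73575fc8fbc141cb292934a020), (nat_lit 0x54af86db717b3e73439ee8f3a155d32a28b49020), (nat_lit 0x54af87db6c6c7e31435ec9fbc3568b2a1d349020), (nat_lit 0x54b766e2f17b3e31435ec9fbc355d34928b2a020), (nat_lit 0x54b767e2ec6c7e73439ee8f3a1568b491d32a020), (nat_lit 0x54b786daec7c7c73575fc8fbc142934a1cb29020), (nat_lit 0x54b787daf16b3c31579fe9f3a341cb4a29329020), (nat_lit 0x5cdb6ce1f1eb09ea1b48dfefc70a0991ea550c20), (nat_lit 0x5cdb6ee1eccc49f71b88bfb7aa0aa591e0950c20),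 (nat_lit 0x5cdb8cd9ecec51f70b44dfafca1aa990e0551c20), (nat_lit 0x5cdb8ed9f1cb11ea0b84bff7a71a0590ea951c20), (nat_lit 0x5cdf6ce1acec51ea0b84bff7a71aa951e0590c20), (nat_lit 0x5cdf6ee1b1cb11f70b44dfafca1a0551ea990c20), (nat_lit 0x5cdf8cd9b1eb09f71b88bfb7aa0a0950ea591c20), (nat_lit 0x5cdf8ed9accc49ea1b48dfefc70aa550e0991c20), (nat_lit 0x5cf2c6c7b87d84efa386bd37af10ea2c0724d420), (nat_lit 0x5cf2c7c7b66e054f2346dbafcf90722c0ea4d420), (nat_lit 0x5cf316b3b67e0d4f1382bbb7afa06a2d4f24c020), (nat_lit 0x5cf317b3b86d8cef9342dd2fcf20f22d46a4c020), (nat_lit 0x5cfac6c7367e0cef9342dd2fcf206a4c0f22d420), (nat_lit 0x5cfac7c7386d8d4f1382bbb7afa0f24c06a2d420), (nat_lit 0x5cfb16b3387d854f2346dbafcf90ea4d4722c020), (nat_lit 0x5cfb17b3366e04efa386bd37af10724d4ea2c020), (nat_lit 0x751babf1f1db07e9a707cffb65964281146aa020), (nat_lit 0x751badf1ecbc47f5a6c7efb389954681242aa020), (nat_lit 0x751bcbe9ecdc4ff59703cfbb69a54282246a9020),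 (nat_lit 0x751bcde9f1bb0fe996c3eff385a64682142a9020), (nat_lit 0x751fabf1acdc4fe996c3eff385a542a924682020), (nat_lit 0x751fadf1b1bb0ff59703cfbb69a646a914282020), (nat_lit 0x751fcbe9b1db07f5a6c7efb3899642aa14681020), (nat_lit 0x751fcde9acbc47e9a707cffb659546aa24281020), (nat_lit 0x752ec6c77c7e8abf9ec9ecf38f0c953491012820), (nat_lit 0x752ec7c77a6f0b3f1f09cafb6f8d103489512820), (nat_lit 0x752f16b37a7f133f0ec5eaf38f9d153289014820), (nat_lit 0x752f17b37c6e92bf8f05ccfb6f1c903291514820), (nat_lit 0x7536c6c6fa7f12bf8f05ccfb6f1d151489032820), (nat_lit 0x7536c7c6fc6e933f0ec5eaf38f9c901491532820), (nat_lit 0x753716b2fc7e8b3f1f09cafb6f8c951291034820), (nat_lit 0x753717b2fa6f0abf9ec9ecf38f0d101289534820), (nat_lit 0x855accc5faef24527b0ada6f647c62a4ce672c20), (nat_lit 0x855acec5fccea4947acab977827ce6a4c6272c20), (nat_lit 0x855b1cb1fcee94947f12d96f6278e2a2c6674c20), (nat_lit 0x855b1eb1facf14527ed2ba77847866a2ce274c20),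 (nat_lit 0x855eccc5bcee94527ed2ba778478e274c66a2c20), (nat_lit 0x855ecec5bacf14947f12d96f62786674ce2a2c20), (nat_lit 0x855f1cb1baef24947acab977827c6272ce6a4c20), (nat_lit 0x855f1eb1bccea4527b0ada6f647ce672c62a4c20), (nat_lit 0x8573a6f3ac7c7c42cadfba3784a96e31e7410c20), (nat_lit 0x8573a7f3b16b3c84cb1fd92f62aa7431d6e10c20), (nat_lit 0x8573c6ebb17b3e84aadeb93782ca6e30d7411c20), (nat_lit 0x8573c7ebac6c7e42ab1eda2f64c97430e6e11c20), (nat_lit 0x857ba6f3317b3e42ab1eda2f64ca6e11d7430c20), (nat_lit 0x857ba7f32c6c7e84aadeb93782c97411e6e30c20), (nat_lit 0x857bc6eb2c7c7c84cb1fd92f62a96e10e7431c20), (nat_lit 0x857bc7eb316b3c42cadfba3784aa7410d6e31c20), (nat_lit 0x929acbc5f8dda061fb95c8bba3fd059d0895b820), (nat_lit 0x929acdc5f6be2023fb55e9b3c1fc899d1055b820), (nat_lit 0x929b1bb1f6de2a23ff90c9bba1f8859b9095d020), (nat_lit 0x929b1db1f8bdaa61ff50e8b3c3f9099b8855d020), (nat_lit 0x929ecbc5b6de2a61ff50e8b3c3f8855d1099b820),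 (nat_lit 0x929ecdc5b8bdaa23ff90c9bba1f9095d0859b820), (nat_lit 0x929f1bb1b8dda023fb55e9b3c1fd055b8899d020), (nat_lit 0x929f1db1b6be2061fb95c8bba3fc895b9059d020), (nat_lit 0x92af66e3717b3e71575ee8f3c3428b4a1d329020), (nat_lit 0x92af67e36c6c7e33579ec9fba141d34a28b29020), (nat_lit 0x92af86db6c7c7c33435fe9f3c155cb492932a020), (nat_lit 0x92af87db716b3c71439fc8fba35693491cb2a020), (nat_lit 0x92b766e2ec7c7c71439fc8fba355cb2a29349020), (nat_lit 0x92b767e2f16b3c33435fe9f3c156932a1cb49020), (nat_lit 0x92b786daf17b3e33579ec9fba1428b291d34a020), (nat_lit 0x92b787daec6c7e71575ee8f3c341d32928b4a020), (nat_lit 0x9adb6ce1ecec51fa1b84dfafa70a0550ea991c20), (nat_lit 0x9adb6ee1f1cb11e71b44bff7ca0aa950e0591c20), (nat_lit 0x9adb8cd9f1eb09e70b88dfefaa1aa551e0990c20), (nat_lit 0x9adb8ed9eccc49fa0b48bfb7c71a0951ea590c20), (nat_lit 0x9adf6ce1b1eb09fa0b48bfb7c71aa590e0951c20), (nat_lit 0x9adf6ee1accc49e70b88dfefaa1a0990ea551c20),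 (nat_lit 0x9adf8cd9acec51e71b44bff7ca0a0591ea950c20), (nat_lit 0x9adf8ed9b1cb11fa1b84dfafa70aa991e0550c20), (nat_lit 0x9af2c6c7b67e0d4fa342bbb7cf10f24d46a2c020), (nat_lit 0x9af2c7c7b86d8cef2382dd2faf906a4d4f22c020), (nat_lit 0x9af316b3b87d84ef1346bd37cfa0724c0ea2d420), (nat_lit 0x9af317b3b66e054f9386dbafaf20ea4c0722d420), (nat_lit 0x9afac6c7387d854f9386dbafaf20722d4ea4c020), (nat_lit 0x9afac7c7366e04ef1346bd37cfa0ea2d4724c020), (nat_lit 0x9afb16b3367e0cef2382dd2faf90f22c06a4d420), (nat_lit 0x9afb17b3386d8d4fa342bbb7cf106a2c0f24d420), (nat_lit 0xa39babf1ecdc4ff9a6c3cfbb859646aa14281020), (nat_lit 0xa39badf1f1bb0fe5a703eff3699542aa24681020), (nat_lit 0xa39bcbe9f1db07e596c7cffb89a546a924282020), (nat_lit 0xa39bcde9ecbc47f99707efb365a642a914682020), (nat_lit 0xa39fabf1b1db07f99707efb365a54682242a9020), (nat_lit 0xa39fadf1acbc47e596c7cffb89a64282146a9020), (nat_lit 0xa39fcbe9acdc4fe5a703eff369964681142aa020),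 (nat_lit 0xa39fcde9b1bb0ff9a6c3cfbb85954281246aa020), (nat_lit 0xa3aec6c77a7f133f9f05eaf36f0c901291534820), (nat_lit 0xa3aec7c77c6e92bf1ec5ccfb8f8d151289034820), (nat_lit 0xa3af16b37c7e8abf0f09ecf36f9d101489532820), (nat_lit 0xa3af17b37a6f0b3f8ec9cafb8f1c951491032820), (nat_lit 0xa3b6c6c6fc7e8b3f8ec9cafb8f1d103289514820), (nat_lit 0xa3b6c7c6fa6f0abf0f09ecf36f9c953291014820), (nat_lit 0xa3b716b2fa7f12bf1ec5ccfb8f8c903491512820), (nat_lit 0xa3b717b2fc6e933f9f05eaf36f0d153489012820), (nat_lit 0xac1accc5fcee94927ad2d96f847c6672ce2a4c20), (nat_lit 0xac1acec5facf14547b12ba77627ce272c66a4c20), (nat_lit 0xac1b1cb1faef24547ecada6f8278e674c62a2c20), (nat_lit 0xac1b1eb1fccea4927f0ab97764786274ce6a2c20), (nat_lit 0xac1eccc5baef24927f0ab9776478e6a2c6274c20), (nat_lit 0xac1ecec5bccea4547ecada6f827862a2ce674c20), (nat_lit 0xac1f1cb1bcee94547b12ba77627c66a4ce272c20), (nat_lit 0xac1f1eb1bacf14927ad2d96f847ce2a4c6672c20),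 (nat_lit 0xac33a6f3b17b3e82cb1eb93764a97410e6e31c20), (nat_lit 0xac33a7f3ac6c7e44cadeda2f82aa6e10d7431c20), (nat_lit 0xac33c6ebac7c7c44ab1fba3762ca7411d6e30c20), (nat_lit 0xac33c7ebb16b3c82aadfd92f84c96e11e7430c20), (nat_lit 0xac3ba6f32c7c7c82aadfd92f84ca7430d6e11c20), (nat_lit 0xac3ba7f3316b3c44ab1fba3762c96e30e7411c20), (nat_lit 0xac3bc6eb317b3e44cadeda2f82a97431e6e10c20), (nat_lit 0xac3bc7eb2c6c7e82cb1eb93764aa6e31d7410c20), (nat_lit 0xf7ef6ce37cee94ba56326cdec740c32144742420), (nat_lit 0xf7ef6ee37acf153755927adb1a4047214c342420), (nat_lit 0xf7ef8cdb7aef2537422a6adeca5443224c741420), (nat_lit 0xf7ef8edb7ccea4ba418a7cdb1754c72244341420), (nat_lit 0xf7f3abf3b8dda0e9c9957d1b15a8a83992418820), (nat_lit 0xf7f3adf3b6be2145ca356b9ec9a924398a818820), (nat_lit 0xf7f3cbebb6de2b45a9907b9b19c928388a419820), (nat_lit 0xf7f3cdebb8bdaae9aa306d1ec5c8a43892819820), (nat_lit 0xf7f76ce2faef24ba418a7cdb175443414c722420),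 (nat_lit 0xf7f76ee2fccea537422a6adeca54c74144322420), (nat_lit 0xf7f78cdafcee953755927adb1a40c34244721420), (nat_lit 0xf7f78edafacf14ba56326cdec74047424c321420), (nat_lit 0xf7fbabf336de2ae9aa306d1ec5c928198a438820), (nat_lit 0xf7fbadf338bdab45a9907b9b19c8a41992838820), (nat_lit 0xf7fbcbeb38dda145ca356b9ec9a8a81892439820), (nat_lit 0xf7fbcdeb36be20e9c9957d1b15a924188a839820), (nat_lit 0xffaf6ce37aef253a558a6adf1740c74244321420), (nat_lit 0xffaf6ee37ccea4b7562a7cdaca4043424c721420), (nat_lit 0xffaf8cdb7cee94b741926cdf1a5447414c322420), (nat_lit 0xffaf8edb7acf153a42327adac754c34144722420), (nat_lit 0xffb3abf3b6de2b49ca307b9ac5a8a41892839820), (nat_lit 0xffb3adf3b8bdaae5c9906d1f19a928188a439820), (nat_lit 0xffb3cbebb8dda0e5aa357d1ac9c924198a838820), (nat_lit 0xffb3cdebb6be2149a9956b9f15c8a81992438820), (nat_lit 0xffb76ce2fcee953a42327adac75447224c341420), (nat_lit 0xffb76ee2facf14b741926cdf1a54c32244741420),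 (nat_lit 0xffb78cdafaef24b7562a7cdaca40c72144342420), (nat_lit 0xffb78edafccea53a558a6adf174043214c742420), (nat_lit 0xffbbabf338dda149a9956b9f15c924388a819820), (nat_lit 0xffbbadf336be20e5aa357d1ac9c8a83892419820), (nat_lit 0xffbbcbeb36de2ae5c9906d1f19a8a43992818820), (nat_lit 0xffbbcdeb38bdab49ca307b9ac5a928398a418820)]
noncomputable def AP_lKJ_W : List (List ℕ) := [[(nat_lit 0), (nat_lit 1), (nat_lit 2), (nat_lit 0), (nat_lit 3)],
  [(nat_lit 0), (nat_lit 2), (nat_lit 0), (nat_lit 1), (nat_lit 0), (nat_lit 3)],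
  [(nat_lit 3), (nat_lit 1), (nat_lit 2), (nat_lit 0), (nat_lit 1), (nat_lit 2), (nat_lit 0)],
  [(nat_lit 0), (nat_lit 1), (nat_lit 0), (nat_lit 2), (nat_lit 3)],
  [(nat_lit 1), (nat_lit 1), (nat_lit 0), (nat_lit 2), (nat_lit 0), (nat_lit 1), (nat_lit 1)],
  [(nat_lit 0), (nat_lit 1), (nat_lit 0), (nat_lit 2), (nat_lit 0)],
  [(nat_lit 0), (nat_lit 1), (nat_lit 2)],
  [(nat_lit 0), (nat_lit 2), (nat_lit 0), (nat_lit 1)],
  [(nat_lit 0), (nat_lit 1), (nat_lit 0), (nat_lit 2), (nat_lit 0), (nat_lit 3)],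
  [(nat_lit 3), (nat_lit 1), (nat_lit 2), (nat_lit 0), (nat_lit 1), (nat_lit 2)],
  [(nat_lit 0), (nat_lit 2), (nat_lit 0), (nat_lit 1), (nat_lit 3)],
  [(nat_lit 0), (nat_lit 1), (nat_lit 2), (nat_lit 3)],
  [(nat_lit 0), (nat_lit 2), (nat_lit 0), (nat_lit 1), (nat_lit 0)],
  [(nat_lit 0), (nat_lit 1), (nat_lit 2), (nat_lit 0)],
  [(nat_lit 0), (nat_lit 1), (nat_lit 0), (nat_lit 2)],
  [(nat_lit 1), (nat_lit 1), (nat_lit 0), (nat_lit 1), (nat_lit 2), (nat_lit 0), (nat_lit 1)],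
  [(nat_lit 0), (nat_lit 1), (nat_lit 0), (nat_lit 2), (nat_lit 2)],
  [(nat_lit 0), (nat_lit 2), (nat_lit 0), (nat_lit 1), (nat_lit 0), (nat_lit 2), (nat_lit 0)],
  [(nat_lit 0), (nat_lit 2), (nat_lit 0), (nat_lit 1), (nat_lit 0), (nat_lit 2)],
  [(nat_lit 0), (nat_lit 1), (nat_lit 2), (nat_lit 0), (nat_lit 2)],
  [(nat_lit 0), (nat_lit 1), (nat_lit 2), (nat_lit 2)],
  [(nat_lit 2), (nat_lit 2), (nat_lit 0), (nat_lit 1)],
  [(nat_lit 2), (nat_lit 2), (nat_lit 0), (nat_lit 1), (nat_lit 0)],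
  [(nat_lit 0), (nat_lit 1), (nat_lit 2), (nat_lit 2), (nat_lit 0)],
  [(nat_lit 0), (nat_lit 2), (nat_lit 0), (nat_lit 1), (nat_lit 0), (nat_lit 3), (nat_lit 2)],
  [(nat_lit 0), (nat_lit 1), (nat_lit 2), (nat_lit 0), (nat_lit 3), (nat_lit 2)],
  [(nat_lit 0), (nat_lit 1), (nat_lit 0), (nat_lit 3)],
  [(nat_lit 0), (nat_lit 2), (nat_lit 0), (nat_lit 1), (nat_lit 3), (nat_lit 2), (nat_lit 0)],
  [(nat_lit 2), (nat_lit 2), (nat_lit 0), (nat_lit 1), (nat_lit 0), (nat_lit 2), (nat_lit 3)],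
  [(nat_lit 0), (nat_lit 1), (nat_lit 0), (nat_lit 2), (nat_lit 0), (nat_lit 3), (nat_lit 2)],
  [(nat_lit 0), (nat_lit 1), (nat_lit 3)],
  [(nat_lit 0), (nat_lit 2), (nat_lit 0), (nat_lit 1), (nat_lit 3), (nat_lit 2)],
  [(nat_lit 0), (nat_lit 1), (nat_lit 0), (nat_lit 2), (nat_lit 0), (nat_lit 3), (nat_lit 1)],
  [(nat_lit 1), (nat_lit 1), (nat_lit 0), (nat_lit 2), (nat_lit 0), (nat_lit 1), (nat_lit 3)],
  [(nat_lit 0), (nat_lit 2), (nat_lit 0), (nat_lit 3)],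
  [(nat_lit 0), (nat_lit 2), (nat_lit 3)],
  [(nat_lit 0), (nat_lit 1), (nat_lit 2), (nat_lit 0), (nat_lit 3), (nat_lit 1)],
  [(nat_lit 0), (nat_lit 1), (nat_lit 1), (nat_lit 2), (nat_lit 0), (nat_lit 1), (nat_lit 3)],
  [(nat_lit 0), (nat_lit 1), (nat_lit 0), (nat_lit 2), (nat_lit 3), (nat_lit 1), (nat_lit 0)],
  [(nat_lit 0), (nat_lit 1), (nat_lit 0), (nat_lit 2), (nat_lit 3), (nat_lit 1)],
  [(nat_lit 0), (nat_lit 2), (nat_lit 0), (nat_lit 1), (nat_lit 1)],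
  [(nat_lit 0), (nat_lit 1), (nat_lit 1), (nat_lit 2)],
  [(nat_lit 0), (nat_lit 1), (nat_lit 0), (nat_lit 2), (nat_lit 0), (nat_lit 1)],
  [(nat_lit 1), (nat_lit 1), (nat_lit 0), (nat_lit 2), (nat_lit 0)],
  [(nat_lit 0), (nat_lit 1), (nat_lit 0), (nat_lit 2), (nat_lit 0), (nat_lit 1), (nat_lit 0)],
  [(nat_lit 1), (nat_lit 1), (nat_lit 0), (nat_lit 2)],
  [(nat_lit 0), (nat_lit 1), (nat_lit 2), (nat_lit 0), (nat_lit 1)],
  [(nat_lit 0), (nat_lit 1), (nat_lit 1), (nat_lit 2), (nat_lit 0)],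
  [(nat_lit 0), (nat_lit 1), (nat_lit 0), (nat_lit 2), (nat_lit 3), (nat_lit 1), (nat_lit 0), (nat_lit 2)],
  [(nat_lit 0), (nat_lit 1), (nat_lit 0), (nat_lit 3), (nat_lit 1)],
  [(nat_lit 0), (nat_lit 1), (nat_lit 2), (nat_lit 0), (nat_lit 3), (nat_lit 1), (nat_lit 2)],
  [(nat_lit 0), (nat_lit 1), (nat_lit 1), (nat_lit 2), (nat_lit 0), (nat_lit 1), (nat_lit 3), (nat_lit 2)],
  [(nat_lit 0), (nat_lit 1), (nat_lit 1), (nat_lit 2), (nat_lit 2)],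
  [(nat_lit 2), (nat_lit 2), (nat_lit 0), (nat_lit 1), (nat_lit 1)],
  [(nat_lit 1), (nat_lit 1), (nat_lit 2), (nat_lit 2), (nat_lit 0)],
  [(nat_lit 0), (nat_lit 1), (nat_lit 2), (nat_lit 2), (nat_lit 0), (nat_lit 1)],
  [(nat_lit 0), (nat_lit 2), (nat_lit 0), (nat_lit 3), (nat_lit 2)],
  [(nat_lit 0), (nat_lit 3)],
  [(nat_lit 0), (nat_lit 1), (nat_lit 0), (nat_lit 2), (nat_lit 0), (nat_lit 3), (nat_lit 1), (nat_lit 2)],
  [(nat_lit 1), (nat_lit 1), (nat_lit 0), (nat_lit 2), (nat_lit 0), (nat_lit 1), (nat_lit 3), (nat_lit 2)],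
  [(nat_lit 1), (nat_lit 1), (nat_lit 0), (nat_lit 2), (nat_lit 2)],
  [(nat_lit 1), (nat_lit 2), (nat_lit 0), (nat_lit 1), (nat_lit 2), (nat_lit 0)],
  [(nat_lit 0), (nat_lit 1), (nat_lit 1), (nat_lit 2), (nat_lit 0), (nat_lit 2)],
  [(nat_lit 0), (nat_lit 1), (nat_lit 2), (nat_lit 0), (nat_lit 1), (nat_lit 2)],
  [(nat_lit 1), (nat_lit 2), (nat_lit 3)],
  [(nat_lit 2), (nat_lit 0), (nat_lit 1), (nat_lit 3)],
  [(nat_lit 0), (nat_lit 3), (nat_lit 1), (nat_lit 2), (nat_lit 0), (nat_lit 1), (nat_lit 2)],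
  [(nat_lit 1), (nat_lit 0), (nat_lit 2), (nat_lit 0), (nat_lit 3)],
  [(nat_lit 1), (nat_lit 0), (nat_lit 1), (nat_lit 1), (nat_lit 2), (nat_lit 0), (nat_lit 1)],
  [(nat_lit 1), (nat_lit 0), (nat_lit 2)],
  [(nat_lit 1), (nat_lit 2), (nat_lit 0)],
  [(nat_lit 2), (nat_lit 0), (nat_lit 1), (nat_lit 0)],
  [(nat_lit 1), (nat_lit 0), (nat_lit 2), (nat_lit 3)],
  [(nat_lit 0), (nat_lit 3), (nat_lit 1), (nat_lit 2), (nat_lit 0), (nat_lit 1), (nat_lit 2), (nat_lit 0)],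
  [(nat_lit 2), (nat_lit 0), (nat_lit 1), (nat_lit 0), (nat_lit 3)],
  [(nat_lit 1), (nat_lit 2), (nat_lit 0), (nat_lit 3)],
  [(nat_lit 2), (nat_lit 0), (nat_lit 1)],
  [(nat_lit 1), (nat_lit 2)],
  [(nat_lit 1), (nat_lit 0), (nat_lit 2), (nat_lit 0)],
  [(nat_lit 1), (nat_lit 0), (nat_lit 1), (nat_lit 2), (nat_lit 0), (nat_lit 1), (nat_lit 1)],
  [(nat_lit 1), (nat_lit 2), (nat_lit 2), (nat_lit 0)],
  [(nat_lit 2), (nat_lit 0), (nat_lit 1), (nat_lit 2), (nat_lit 0)],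
  [(nat_lit 2), (nat_lit 0), (nat_lit 1), (nat_lit 2)],
  [(nat_lit 1), (nat_lit 2), (nat_lit 2)],
  [(nat_lit 1), (nat_lit 2), (nat_lit 0), (nat_lit 2)],
  [(nat_lit 2), (nat_lit 0), (nat_lit 1), (nat_lit 0), (nat_lit 2)],
  [(nat_lit 2), (nat_lit 0), (nat_lit 1), (nat_lit 0), (nat_lit 2), (nat_lit 0)],
  [(nat_lit 1), (nat_lit 0), (nat_lit 2), (nat_lit 2)],
  [(nat_lit 2), (nat_lit 0), (nat_lit 1), (nat_lit 3), (nat_lit 2)],
  [(nat_lit 1), (nat_lit 3)],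
  [(nat_lit 1), (nat_lit 0), (nat_lit 2), (nat_lit 0), (nat_lit 3), (nat_lit 2)],
  [(nat_lit 2), (nat_lit 0), (nat_lit 1), (nat_lit 0), (nat_lit 3), (nat_lit 2), (nat_lit 0)],
  [(nat_lit 2), (nat_lit 0), (nat_lit 1), (nat_lit 3), (nat_lit 2), (nat_lit 0)],
  [(nat_lit 1), (nat_lit 0), (nat_lit 3)],
  [(nat_lit 1), (nat_lit 2), (nat_lit 0), (nat_lit 3), (nat_lit 2)],
  [(nat_lit 2), (nat_lit 0), (nat_lit 1), (nat_lit 0), (nat_lit 3), (nat_lit 2)],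
  [(nat_lit 1), (nat_lit 0), (nat_lit 2), (nat_lit 3), (nat_lit 1)],
  [(nat_lit 1), (nat_lit 0), (nat_lit 2), (nat_lit 3), (nat_lit 1), (nat_lit 0)],
  [(nat_lit 1), (nat_lit 1), (nat_lit 2), (nat_lit 0), (nat_lit 1), (nat_lit 3)],
  [(nat_lit 1), (nat_lit 2), (nat_lit 0), (nat_lit 3), (nat_lit 1)],
  [(nat_lit 2), (nat_lit 3)],
  [(nat_lit 2), (nat_lit 0), (nat_lit 3)],
  [(nat_lit 1), (nat_lit 0), (nat_lit 1), (nat_lit 2), (nat_lit 0), (nat_lit 1), (nat_lit 3)],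
  [(nat_lit 1), (nat_lit 0), (nat_lit 2), (nat_lit 0), (nat_lit 3), (nat_lit 1)],
  [(nat_lit 1), (nat_lit 1), (nat_lit 2), (nat_lit 0)],
  [(nat_lit 1), (nat_lit 2), (nat_lit 0), (nat_lit 1)],
  [(nat_lit 1), (nat_lit 0), (nat_lit 1), (nat_lit 2)],
  [(nat_lit 1), (nat_lit 0), (nat_lit 2), (nat_lit 0), (nat_lit 1), (nat_lit 0)],
  [(nat_lit 1), (nat_lit 0), (nat_lit 1), (nat_lit 2), (nat_lit 0)],
  [(nat_lit 1), (nat_lit 0), (nat_lit 2), (nat_lit 0), (nat_lit 1)],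
  [(nat_lit 1), (nat_lit 1), (nat_lit 2)],
  [(nat_lit 2), (nat_lit 0), (nat_lit 1), (nat_lit 1)],
  [(nat_lit 1), (nat_lit 0), (nat_lit 1), (nat_lit 2), (nat_lit 0), (nat_lit 1), (nat_lit 3), (nat_lit 2)],
  [(nat_lit 1), (nat_lit 0), (nat_lit 2), (nat_lit 0), (nat_lit 3), (nat_lit 1), (nat_lit 2)],
  [(nat_lit 3)],
  [(nat_lit 2), (nat_lit 0), (nat_lit 3), (nat_lit 2)],
  [(nat_lit 1), (nat_lit 2), (nat_lit 0), (nat_lit 1), (nat_lit 2)],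
  [(nat_lit 1), (nat_lit 1), (nat_lit 2), (nat_lit 0), (nat_lit 2)],
  [(nat_lit 0), (nat_lit 1), (nat_lit 2), (nat_lit 0), (nat_lit 1), (nat_lit 2), (nat_lit 0)],
  [(nat_lit 1), (nat_lit 0), (nat_lit 1), (nat_lit 2), (nat_lit 2)],
  [(nat_lit 1), (nat_lit 1), (nat_lit 2), (nat_lit 0), (nat_lit 1), (nat_lit 3), (nat_lit 2)],
  [(nat_lit 1), (nat_lit 2), (nat_lit 0), (nat_lit 3), (nat_lit 1), (nat_lit 2)],
  [(nat_lit 1), (nat_lit 0), (nat_lit 3), (nat_lit 1)],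
  [(nat_lit 1), (nat_lit 0), (nat_lit 2), (nat_lit 3), (nat_lit 1), (nat_lit 0), (nat_lit 2)],
  [(nat_lit 1), (nat_lit 2), (nat_lit 2), (nat_lit 0), (nat_lit 1)],
  [(nat_lit 0), (nat_lit 1), (nat_lit 1), (nat_lit 2), (nat_lit 2), (nat_lit 0)],
  [(nat_lit 2), (nat_lit 0), (nat_lit 1), (nat_lit 1), (nat_lit 2)],
  [(nat_lit 1), (nat_lit 1), (nat_lit 2), (nat_lit 2)],
  [(nat_lit 2), (nat_lit 0), (nat_lit 1), (nat_lit 0), (nat_lit 2), (nat_lit 3)],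
  [(nat_lit 1), (nat_lit 0), (nat_lit 3), (nat_lit 2), (nat_lit 0)],
  [(nat_lit 1), (nat_lit 0), (nat_lit 3), (nat_lit 2)],
  [(nat_lit 2), (nat_lit 0), (nat_lit 1), (nat_lit 0), (nat_lit 2), (nat_lit 0), (nat_lit 3)],
  [(nat_lit 0), (nat_lit 3), (nat_lit 1), (nat_lit 2), (nat_lit 0), (nat_lit 1)],
  [(nat_lit 1), (nat_lit 3), (nat_lit 2), (nat_lit 0)],
  [(nat_lit 1), (nat_lit 3), (nat_lit 2)],
  [(nat_lit 2), (nat_lit 0), (nat_lit 1), (nat_lit 2), (nat_lit 3)],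
  [(nat_lit 2), (nat_lit 0), (nat_lit 1), (nat_lit 0), (nat_lit 2), (nat_lit 2)],
  [(nat_lit 1), (nat_lit 2), (nat_lit 0), (nat_lit 2), (nat_lit 2)],
  [(nat_lit 1), (nat_lit 0)],
  [(nat_lit 2), (nat_lit 0), (nat_lit 1), (nat_lit 2), (nat_lit 2), (nat_lit 0)],
  [(nat_lit 2), (nat_lit 0), (nat_lit 1), (nat_lit 2), (nat_lit 0), (nat_lit 2)],
  [(nat_lit 1), (nat_lit 2), (nat_lit 2), (nat_lit 0), (nat_lit 2)],
  [(nat_lit 1)],
  [(nat_lit 2), (nat_lit 0), (nat_lit 1), (nat_lit 2), (nat_lit 2)],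
  [(nat_lit 1), (nat_lit 1), (nat_lit 0), (nat_lit 1), (nat_lit 2)],
  [(nat_lit 1), (nat_lit 1), (nat_lit 0), (nat_lit 1), (nat_lit 2), (nat_lit 0)],
  [(nat_lit 0), (nat_lit 1), (nat_lit 1), (nat_lit 2), (nat_lit 0), (nat_lit 1)],
  [(nat_lit 0), (nat_lit 1), (nat_lit 2), (nat_lit 0), (nat_lit 1), (nat_lit 1)],
  [(nat_lit 0), (nat_lit 2)],
  [(nat_lit 0), (nat_lit 2), (nat_lit 0)],
  [(nat_lit 1), (nat_lit 1), (nat_lit 0), (nat_lit 2), (nat_lit 0), (nat_lit 1)],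
  [(nat_lit 0), (nat_lit 1), (nat_lit 0), (nat_lit 2), (nat_lit 0), (nat_lit 1), (nat_lit 1)],
  [(nat_lit 1), (nat_lit 1), (nat_lit 0), (nat_lit 2), (nat_lit 3)],
  [(nat_lit 0), (nat_lit 1), (nat_lit 0), (nat_lit 2), (nat_lit 0), (nat_lit 1), (nat_lit 0), (nat_lit 3)],
  [(nat_lit 0), (nat_lit 2), (nat_lit 3), (nat_lit 1), (nat_lit 0)],
  [(nat_lit 0), (nat_lit 1), (nat_lit 2), (nat_lit 0), (nat_lit 1), (nat_lit 3)],
  [(nat_lit 0), (nat_lit 2), (nat_lit 3), (nat_lit 1)],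
  [(nat_lit 0), (nat_lit 2), (nat_lit 0), (nat_lit 3), (nat_lit 1)],
  [(nat_lit 3), (nat_lit 1), (nat_lit 2), (nat_lit 0), (nat_lit 2)],
  [(nat_lit 0), (nat_lit 1), (nat_lit 0), (nat_lit 2), (nat_lit 0), (nat_lit 1), (nat_lit 3)],
  [(nat_lit 1), (nat_lit 2), (nat_lit 0), (nat_lit 1), (nat_lit 3), (nat_lit 2), (nat_lit 0)],
  [(nat_lit 2), (nat_lit 3), (nat_lit 1), (nat_lit 0), (nat_lit 2), (nat_lit 0)],
  [(nat_lit 0), (nat_lit 2), (nat_lit 0), (nat_lit 3), (nat_lit 1), (nat_lit 2)],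
  [(nat_lit 0), (nat_lit 3), (nat_lit 1)],
  [(nat_lit 0), (nat_lit 1), (nat_lit 2), (nat_lit 0), (nat_lit 1), (nat_lit 3), (nat_lit 2)],
  [(nat_lit 0), (nat_lit 2), (nat_lit 3), (nat_lit 1), (nat_lit 0), (nat_lit 2)],
  [(nat_lit 2), (nat_lit 0), (nat_lit 3), (nat_lit 1), (nat_lit 2), (nat_lit 0)],
  [(nat_lit 3), (nat_lit 1), (nat_lit 0)],
  [(nat_lit 0), (nat_lit 1), (nat_lit 2), (nat_lit 2), (nat_lit 0), (nat_lit 1), (nat_lit 1)],
  [(nat_lit 1), (nat_lit 1), (nat_lit 2), (nat_lit 2), (nat_lit 0), (nat_lit 1)],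
  [(nat_lit 2), (nat_lit 2), (nat_lit 0)],
  [(nat_lit 0), (nat_lit 2), (nat_lit 2)],
  [(nat_lit 0), (nat_lit 1), (nat_lit 2), (nat_lit 0), (nat_lit 1), (nat_lit 1), (nat_lit 2)],
  [(nat_lit 0), (nat_lit 1), (nat_lit 1), (nat_lit 2), (nat_lit 0), (nat_lit 1), (nat_lit 2)],
  [(nat_lit 1), (nat_lit 0), (nat_lit 1), (nat_lit 1), (nat_lit 2), (nat_lit 2), (nat_lit 0)],
  [(nat_lit 1), (nat_lit 1), (nat_lit 0), (nat_lit 1), (nat_lit 2), (nat_lit 2)],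
  [(nat_lit 2), (nat_lit 0), (nat_lit 1), (nat_lit 1), (nat_lit 2), (nat_lit 2)],
  [(nat_lit 1), (nat_lit 1)],
  [(nat_lit 1), (nat_lit 2), (nat_lit 2), (nat_lit 0), (nat_lit 1), (nat_lit 2)],
  [(nat_lit 0), (nat_lit 1), (nat_lit 1), (nat_lit 2), (nat_lit 2), (nat_lit 0), (nat_lit 2)],
  [(nat_lit 2), (nat_lit 0), (nat_lit 1), (nat_lit 2), (nat_lit 2), (nat_lit 0), (nat_lit 1)],
  [(nat_lit 1), (nat_lit 0), (nat_lit 1)],
  [(nat_lit 1), (nat_lit 2), (nat_lit 0), (nat_lit 1), (nat_lit 2), (nat_lit 2)],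
  [(nat_lit 1), (nat_lit 1), (nat_lit 2), (nat_lit 0), (nat_lit 2), (nat_lit 2)],
  [(nat_lit 0), (nat_lit 3), (nat_lit 2), (nat_lit 0)],
  [(nat_lit 3), (nat_lit 2)],
  [(nat_lit 1), (nat_lit 3), (nat_lit 2), (nat_lit 0), (nat_lit 1)],
  [(nat_lit 0), (nat_lit 1), (nat_lit 3), (nat_lit 2), (nat_lit 0), (nat_lit 1), (nat_lit 0)],
  [(nat_lit 0), (nat_lit 1), (nat_lit 0), (nat_lit 3), (nat_lit 1), (nat_lit 2), (nat_lit 0)],
  [(nat_lit 1), (nat_lit 0), (nat_lit 3), (nat_lit 1), (nat_lit 2)],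
  [(nat_lit 1), (nat_lit 0), (nat_lit 3), (nat_lit 2), (nat_lit 0), (nat_lit 1)],
  [(nat_lit 1), (nat_lit 1), (nat_lit 2), (nat_lit 0), (nat_lit 1), (nat_lit 2), (nat_lit 3)],
  [(nat_lit 2), (nat_lit 2), (nat_lit 0), (nat_lit 1), (nat_lit 3)],
  [(nat_lit 0), (nat_lit 1), (nat_lit 3), (nat_lit 2)],
  [(nat_lit 0), (nat_lit 1), (nat_lit 3), (nat_lit 2), (nat_lit 0)],
  [(nat_lit 3), (nat_lit 1), (nat_lit 2), (nat_lit 0), (nat_lit 1)],
  [(nat_lit 0), (nat_lit 2), (nat_lit 0), (nat_lit 1), (nat_lit 0), (nat_lit 2), (nat_lit 0), (nat_lit 3)],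
  [(nat_lit 0), (nat_lit 1), (nat_lit 0), (nat_lit 3), (nat_lit 2)],
  [(nat_lit 0), (nat_lit 1), (nat_lit 0), (nat_lit 3), (nat_lit 2), (nat_lit 0)],
  [(nat_lit 0), (nat_lit 2), (nat_lit 0), (nat_lit 1), (nat_lit 0), (nat_lit 2), (nat_lit 3)],
  [(nat_lit 2), (nat_lit 2), (nat_lit 0), (nat_lit 1), (nat_lit 2)],
  [(nat_lit 0), (nat_lit 1)],
  [(nat_lit 0), (nat_lit 1), (nat_lit 2), (nat_lit 2), (nat_lit 0), (nat_lit 2)],
  [(nat_lit 2), (nat_lit 2), (nat_lit 0), (nat_lit 1), (nat_lit 0), (nat_lit 2)],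
  [(nat_lit 2), (nat_lit 2), (nat_lit 0), (nat_lit 1), (nat_lit 2), (nat_lit 0)],
  [(nat_lit 0), (nat_lit 1), (nat_lit 0)],
  [(nat_lit 0), (nat_lit 1), (nat_lit 2), (nat_lit 0), (nat_lit 2), (nat_lit 2)],
  [(nat_lit 0), (nat_lit 2), (nat_lit 0), (nat_lit 1), (nat_lit 0), (nat_lit 2), (nat_lit 2)],
  [(nat_lit 1), (nat_lit 0), (nat_lit 2), (nat_lit 0), (nat_lit 1), (nat_lit 1)],
  [(nat_lit 1), (nat_lit 0), (nat_lit 1), (nat_lit 2), (nat_lit 0), (nat_lit 1)],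
  [(nat_lit 2), (nat_lit 0)],
  [(nat_lit 2)],
  [(nat_lit 1), (nat_lit 2), (nat_lit 0), (nat_lit 1), (nat_lit 1)],
  [(nat_lit 1), (nat_lit 1), (nat_lit 2), (nat_lit 0), (nat_lit 1)],
  [(nat_lit 1), (nat_lit 0), (nat_lit 1), (nat_lit 1), (nat_lit 2), (nat_lit 0)],
  [(nat_lit 1), (nat_lit 0), (nat_lit 1), (nat_lit 1), (nat_lit 2)],
  [(nat_lit 1), (nat_lit 0), (nat_lit 2), (nat_lit 0), (nat_lit 1), (nat_lit 3)],
  [(nat_lit 0), (nat_lit 3), (nat_lit 1), (nat_lit 2), (nat_lit 0), (nat_lit 2)],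
  [(nat_lit 2), (nat_lit 0), (nat_lit 3), (nat_lit 1)],
  [(nat_lit 2), (nat_lit 3), (nat_lit 1)],
  [(nat_lit 1), (nat_lit 2), (nat_lit 0), (nat_lit 1), (nat_lit 3)],
  [(nat_lit 2), (nat_lit 3), (nat_lit 1), (nat_lit 0)],
  [(nat_lit 1), (nat_lit 0), (nat_lit 2), (nat_lit 0), (nat_lit 1), (nat_lit 0), (nat_lit 3)],
  [(nat_lit 1), (nat_lit 0), (nat_lit 1), (nat_lit 2), (nat_lit 3)],
  [(nat_lit 0), (nat_lit 3), (nat_lit 1), (nat_lit 0)],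
  [(nat_lit 0), (nat_lit 2), (nat_lit 0), (nat_lit 3), (nat_lit 1), (nat_lit 2), (nat_lit 0)],
  [(nat_lit 2), (nat_lit 3), (nat_lit 1), (nat_lit 0), (nat_lit 2)],
  [(nat_lit 1), (nat_lit 2), (nat_lit 0), (nat_lit 1), (nat_lit 3), (nat_lit 2)],
  [(nat_lit 3), (nat_lit 1)],
  [(nat_lit 2), (nat_lit 0), (nat_lit 3), (nat_lit 1), (nat_lit 2)],
  [(nat_lit 0), (nat_lit 2), (nat_lit 3), (nat_lit 1), (nat_lit 0), (nat_lit 2), (nat_lit 0)],
  [(nat_lit 1), (nat_lit 0), (nat_lit 2), (nat_lit 0), (nat_lit 1), (nat_lit 3), (nat_lit 2)],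
  [(nat_lit 1), (nat_lit 0), (nat_lit 1), (nat_lit 1), (nat_lit 2), (nat_lit 2)],
  [(nat_lit 1), (nat_lit 0), (nat_lit 1), (nat_lit 1), (nat_lit 2), (nat_lit 0), (nat_lit 2)],
  [(nat_lit 1), (nat_lit 1), (nat_lit 2), (nat_lit 0), (nat_lit 1), (nat_lit 2)],
  [(nat_lit 1), (nat_lit 2), (nat_lit 0), (nat_lit 1), (nat_lit 1), (nat_lit 2)],
  [(nat_lit 2), (nat_lit 2)],
  [(nat_lit 2), (nat_lit 0), (nat_lit 2)],
  [(nat_lit 0), (nat_lit 1), (nat_lit 1), (nat_lit 2), (nat_lit 2), (nat_lit 0), (nat_lit 1)],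
  [(nat_lit 1), (nat_lit 2), (nat_lit 2), (nat_lit 0), (nat_lit 1), (nat_lit 1)],
  [(nat_lit 0), (nat_lit 1), (nat_lit 1), (nat_lit 2), (nat_lit 0), (nat_lit 2), (nat_lit 2)],
  [(nat_lit 0), (nat_lit 1), (nat_lit 2), (nat_lit 0), (nat_lit 1), (nat_lit 2), (nat_lit 2)],
  [(nat_lit 1), (nat_lit 1), (nat_lit 0)],
  [(nat_lit 1), (nat_lit 2), (nat_lit 0), (nat_lit 1), (nat_lit 2), (nat_lit 0), (nat_lit 2)],
  [(nat_lit 1), (nat_lit 1), (nat_lit 2), (nat_lit 2), (nat_lit 0), (nat_lit 2)],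
  [(nat_lit 0), (nat_lit 1), (nat_lit 2), (nat_lit 2), (nat_lit 0), (nat_lit 1), (nat_lit 2)],
  [(nat_lit 0), (nat_lit 1), (nat_lit 1)],
  [(nat_lit 2), (nat_lit 2), (nat_lit 0), (nat_lit 1), (nat_lit 1), (nat_lit 2)],
  [(nat_lit 1), (nat_lit 0), (nat_lit 3), (nat_lit 2), (nat_lit 0), (nat_lit 1), (nat_lit 0)],
  [(nat_lit 0), (nat_lit 1), (nat_lit 0), (nat_lit 3), (nat_lit 2), (nat_lit 0), (nat_lit 1)],
  [(nat_lit 0), (nat_lit 1), (nat_lit 0), (nat_lit 3), (nat_lit 1), (nat_lit 2)],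
  [(nat_lit 1), (nat_lit 0), (nat_lit 3), (nat_lit 1), (nat_lit 2), (nat_lit 0)],
  [(nat_lit 1), (nat_lit 3), (nat_lit 2), (nat_lit 0), (nat_lit 1), (nat_lit 0)],
  [(nat_lit 0), (nat_lit 1), (nat_lit 3), (nat_lit 2), (nat_lit 0), (nat_lit 1)],
  [(nat_lit 0), (nat_lit 3), (nat_lit 2)],
  [(nat_lit 3), (nat_lit 2), (nat_lit 0)],
  [(nat_lit 0), (nat_lit 1), (nat_lit 2), (nat_lit 0), (nat_lit 1), (nat_lit 2), (nat_lit 3)],
  [(nat_lit 0), (nat_lit 3), (nat_lit 1), (nat_lit 0), (nat_lit 2), (nat_lit 0)],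
  [(nat_lit 1), (nat_lit 0), (nat_lit 3), (nat_lit 1), (nat_lit 2), (nat_lit 0), (nat_lit 1)],
  [(nat_lit 3), (nat_lit 1), (nat_lit 0), (nat_lit 2)],
  [(nat_lit 0)],
  [(nat_lit 2), (nat_lit 2), (nat_lit 0), (nat_lit 2)],
  [(nat_lit 1), (nat_lit 1), (nat_lit 2), (nat_lit 2), (nat_lit 0), (nat_lit 1), (nat_lit 2)],
  [(nat_lit 0), (nat_lit 1), (nat_lit 2), (nat_lit 2), (nat_lit 0), (nat_lit 1), (nat_lit 1), (nat_lit 2)],
  [(nat_lit 0), (nat_lit 3), (nat_lit 2), (nat_lit 0), (nat_lit 1), (nat_lit 0)],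
  [(nat_lit 3), (nat_lit 1), (nat_lit 2), (nat_lit 0)],
  [(nat_lit 3), (nat_lit 2), (nat_lit 0), (nat_lit 1)],
  [(nat_lit 0), (nat_lit 3), (nat_lit 1), (nat_lit 2)],
  [(nat_lit 1), (nat_lit 1), (nat_lit 0), (nat_lit 1)],
  [(nat_lit 1), (nat_lit 0), (nat_lit 1), (nat_lit 1), (nat_lit 2), (nat_lit 2), (nat_lit 0), (nat_lit 2)],
  [(nat_lit 0), (nat_lit 1), (nat_lit 1), (nat_lit 2), (nat_lit 0), (nat_lit 1), (nat_lit 2), (nat_lit 2)],
  [(nat_lit 0), (nat_lit 1), (nat_lit 2), (nat_lit 0), (nat_lit 1), (nat_lit 1), (nat_lit 2), (nat_lit 2)],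
  [(nat_lit 3), (nat_lit 1), (nat_lit 2)],
  [(nat_lit 0), (nat_lit 3), (nat_lit 2), (nat_lit 0), (nat_lit 1)],
  [(nat_lit 0), (nat_lit 3), (nat_lit 1), (nat_lit 2), (nat_lit 0)],
  [(nat_lit 3), (nat_lit 2), (nat_lit 0), (nat_lit 1), (nat_lit 0)],
  [(nat_lit 1), (nat_lit 2), (nat_lit 0), (nat_lit 1), (nat_lit 1), (nat_lit 2), (nat_lit 2)],
  [(nat_lit 1), (nat_lit 1), (nat_lit 2), (nat_lit 0), (nat_lit 1), (nat_lit 2), (nat_lit 2)],
  [(nat_lit 1), (nat_lit 0), (nat_lit 1), (nat_lit 1), (nat_lit 2), (nat_lit 0), (nat_lit 2), (nat_lit 2)],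
  [(nat_lit 1), (nat_lit 0), (nat_lit 1), (nat_lit 1)],
  [(nat_lit 0), (nat_lit 3), (nat_lit 1), (nat_lit 0), (nat_lit 2)],
  [(nat_lit 0), (nat_lit 1), (nat_lit 0), (nat_lit 3), (nat_lit 1), (nat_lit 2), (nat_lit 0), (nat_lit 1)],
  [(nat_lit 3), (nat_lit 1), (nat_lit 0), (nat_lit 2), (nat_lit 0)],
  [(nat_lit 1), (nat_lit 2), (nat_lit 0), (nat_lit 1), (nat_lit 2), (nat_lit 3)],
  [(nat_lit 1), (nat_lit 2), (nat_lit 2), (nat_lit 0), (nat_lit 1), (nat_lit 1), (nat_lit 2)],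
  [(nat_lit 0), (nat_lit 1), (nat_lit 1), (nat_lit 2), (nat_lit 2), (nat_lit 0), (nat_lit 1), (nat_lit 2)],
  [(nat_lit 2), (nat_lit 0), (nat_lit 2), (nat_lit 2)],
  []]
noncomputable def AP_lKJ_h (c : ℕ) : ℕ := Nat.mod c (nat_lit 35302)
noncomputable def AP_lKJ_T0 : ST := (.node (nat_lit 0x5cdb6ce1f1eb09ea1b48dfefc70a0991ea550c20) (.node (nat_lit 0x30b7acf2ecec50754ec478db892cb077d35a7820) (.node (nat_lit 0x221f6be1bcdea6580a2bea72ca9a9e1c9df3a820) (.node (nat_lit 0x19dbcce9f8eda869162ed8aec5257f2567e44020) (.node (nat_lit 0x11b7aef2eccc48794ec868df852d30a78b577c20) (.node (nat_lit 0x11b2cbc7badf16a1a3137c9b6393f4817ceaa420) (.node (nat_lit 0x11afcceb71eb08794ec868df852cb577d30a7820) (.node (nat_lit 0x11afaef371cb10792f0478db654cb077935a7c20) (.leaf (nat_lit 0x11afacf36cec50352ec469df894d35778b0a7c20)) (.leaf (nat_lit 0x11afaef371cb10792f0478db654cb077935a7c20))) (.node (nat_lit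 0x11afceeb6ccc48354f0879db692d3077cb5a7820) (.leaf (nat_lit 0x11afcceb71eb08794ec868df852cb577d30a7820)) (.leaf (nat_lit 0x11afceeb6ccc48354f0879db692d3077cb5a7820)))) (.node (nat_lit 0x11b31bb3bcdea723930b7a9b61a3d4827eea9420) (.node (nat_lit 0x11b2cdc7bcbe9723a2d36a9f8193ce817f4aa420) (.leaf (nat_lit 0x11b2cbc7badf16a1a3137c9b6393f4817ceaa420)) (.leaf (nat_lit 0x11b2cdc7bcbe9723a2d36a9f8193ce817f4aa420))) (.node (nat_lit 0x11b31db3babf26a192cb6c9f83a3ee827d4a9420) (.leaf (nat_lit 0x11b31bb3bcdea723930b7a9b61a3d4827eea9420)) (.node (nat_lit 0x11b7acf2f1eb08354f0879db692cb5a793077c20) (.leaf (nat_lit 0x11b31db3babf26a192cb6c9f83a3ee827d4a9420)) (.leaf (nat_lit 0x11b7acf2f1eb08354f0879db692cb5a793077c20)))))) (.node (nat_lit 0x11bacdc73abf2723930b7a9b61a3eea97d482420) (.node (nat_lit 0x11b7ceeaf1cb10352ec469df894cb0a7d3577820) (.node (nat_lit 0x11b7cceaecec50792f0478db654d35a7cb077820)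 (.leaf (nat_lit 0x11b7aef2eccc48794ec868df852d30a78b577c20)) (.leaf (nat_lit 0x11b7cceaecec50792f0478db654d35a7cb077820))) (.node (nat_lit 0x11bacbc73cdea6a192cb6c9f83a3d4a97ee82420) (.leaf (nat_lit 0x11b7ceeaf1cb10352ec469df894cb0a7d3577820)) (.leaf (nat_lit 0x11bacbc73cdea6a192cb6c9f83a3d4a97ee82420)))) (.node (nat_lit 0x11bb1db33cbe96a1a3137c9b6393ceaa7f481420) (.node (nat_lit 0x11bb1bb33adf1723a2d36a9f8193f4aa7ce81420) (.leaf (nat_lit 0x11bacdc73abf2723930b7a9b61a3eea97d482420)) (.leaf (nat_lit 0x11bb1bb33adf1723a2d36a9f8193f4aa7ce81420))) (.node (nat_lit 0x19dbacf1f6ee1c252634d9aec9167f2417e45420) (.leaf (nat_lit 0x11bb1db33cbe96a1a3137c9b6393ceaa7f481420)) (.node (nat_lit 0x19dbaef1f8cd9c692594b8b715157e2427f45420) (.leaf (nat_lit 0x19dbacf1f6ee1c252634d9aec9167f2417e45420)) (.leaf (nat_lit 0x19dbaef1f8cd9c692594b8b715157e2427f45420))))))) (.node (nat_lit 0x19f387dbba6f0aa15229dcaec33aa4f4e08fac20)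 (.node (nat_lit 0x19dfcce9b6ee1c692594b8b715167f4557e24020) (.node (nat_lit 0x19dfacf1b8eda825158eb9b719257f4427e25420) (.node (nat_lit 0x19dbcee9f6ce2825158eb9b719267e2557f44020) (.leaf (nat_lit 0x19dbcce9f8eda869162ed8aec5257f2567e44020)) (.leaf (nat_lit 0x19dbcee9f6ce2825158eb9b719267e2557f44020))) (.node (nat_lit 0x19dfaef1b6ce2869162ed8aec5267e4417f25420) (.leaf (nat_lit 0x19dfacf1b8eda825158eb9b719257f4427e25420)) (.leaf (nat_lit 0x19dfaef1b6ce2869162ed8aec5267e4417f25420)))) (.node (nat_lit 0x19f366e3ba7f12a13985bcb71352a8f2e04fcc20) (.node (nat_lit 0x19dfcee9b8cd9c252634d9aec9157e4567f24020) (.leaf (nat_lit 0x19dfcce9b6ee1c692594b8b715167f4557e24020)) (.leaf (nat_lit 0x19dfcee9b8cd9c252634d9aec9157e4567f24020))) (.node (nat_lit 0x19f367e3bc6e93233a25daaec15204f2ea8fcc20) (.leaf (nat_lit 0x19f366e3ba7f12a13985bcb71352a8f2e04fcc20)) (.node (nat_lit 0x19f386dbbc7e8b235189bab7113a08f4ea4fac20)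 (.leaf (nat_lit 0x19f367e3bc6e93233a25daaec15204f2ea8fcc20)) (.leaf (nat_lit 0x19f386dbbc7e8b235189bab7113a08f4ea4fac20)))))) (.node (nat_lit 0x19fb87db3c6e92a13985bcb7135204fcea8f2c20) (.node (nat_lit 0x19fb67e33a6f0b235189bab7113aa4fae08f4c20) (.node (nat_lit 0x19fb66e33c7e8aa15229dcaec33a08faea4f4c20) (.leaf (nat_lit 0x19f387dbba6f0aa15229dcaec33aa4f4e08fac20)) (.leaf (nat_lit 0x19fb66e33c7e8aa15229dcaec33a08faea4f4c20))) (.node (nat_lit 0x19fb86db3a7f13233a25daaec152a8fce04f2c20) (.leaf (nat_lit 0x19fb67e33a6f0b235189bab7113aa4fae08f4c20)) (.leaf (nat_lit 0x19fb86db3a7f13233a25daaec152a8fce04f2c20)))) (.node (nat_lit 0x221b6de1fcbe969a9a33e972c80a9f3c9de1a820) (.node (nat_lit 0x221b6be1fadf16581993ca7b1a89de3ca9f1a820) (.leaf (nat_lit 0x19fb87db3c6e92a13985bcb7135204fcea8f2c20)) (.leaf (nat_lit 0x221b6be1fadf16581993ca7b1a89de3ca9f1a820))) (.node (nat_lit 0x221b8bd9fcdea69a898bc97b181a9e3a9df1c820)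 (.leaf (nat_lit 0x221b6de1fcbe969a9a33e972c80a9f3c9de1a820)) (.node (nat_lit 0x221b8dd9fabf26580a2bea72ca99df3aa9e1c820) (.leaf (nat_lit 0x221b8bd9fcdea69a898bc97b181a9e3a9df1c820)) (.leaf (nat_lit 0x221b8dd9fabf26580a2bea72ca99df3aa9e1c820)))))))) (.node (nat_lit 0x2a738bdbb1db068ad387791ba838ca9f8525fc20) (.node (nat_lit 0x2237a7f2f66e0554ce26ec32c2ad47f5243fb820) (.node (nat_lit 0x222fa6f3767e0d02ae22ed72c4cd43fd247f3820) (.node (nat_lit 0x221f8bd9badf169a9a33e972c809de1aa9f3c820) (.node (nat_lit 0x221f6de1babf269a898bc97b1819df1ca9e3a820) (.leaf (nat_lit 0x221f6be1bcdea6580a2bea72ca9a9e1c9df3a820)) (.leaf (nat_lit 0x221f6de1babf269a898bc97b1819df1ca9e3a820))) (.node (nat_lit 0x221f8dd9bcbe96581993ca7b1a8a9f1a9de3c820) (.leaf (nat_lit 0x221f8bd9badf169a9a33e972c809de1aa9f3c820)) (.leaf (nat_lit 0x221f8dd9bcbe96581993ca7b1a8a9f1a9de3c820)))) (.node (nat_lit 0x222fc6eb787d8554ce26ec32c2ae43fb947f5020)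 (.node (nat_lit 0x222fa7f3786d8d54ad82cc3b12ce47fd143f3820) (.leaf (nat_lit 0x222fa6f3767e0d02ae22ed72c4cd43fd247f3820)) (.leaf (nat_lit 0x222fa7f3786d8d54ad82cc3b12ce47fd143f3820))) (.node (nat_lit 0x222fc7eb766e0502cd86cd7b14ad47fba43f5020) (.leaf (nat_lit 0x222fc6eb787d8554ce26ec32c2ae43fb947f5020)) (.node (nat_lit 0x2237a6f2f87d8502cd86cd7b14ae43f5147fb820) (.leaf (nat_lit 0x222fc7eb766e0502cd86cd7b14ad47fba43f5020)) (.leaf (nat_lit 0x2237a6f2f87d8502cd86cd7b14ae43f5147fb820)))))) (.node (nat_lit 0x2a6ecec778cd9d541f947c1ba20ff391bcb50820) (.node (nat_lit 0x2237c7eaf86d8d02ae22ed72c4ce47f3943fd020) (.node (nat_lit 0x2237c6eaf67e0d54ad82cc3b12cd43f3a47fd020) (.leaf (nat_lit 0x2237a7f2f66e0554ce26ec32c2ad47f5243fb820)) (.leaf (nat_lit 0x2237c6eaf67e0d54ad82cc3b12cd43f3a47fd020))) (.node (nat_lit 0x2a6eccc776ee1d021f546d5fc40fcb91bf350820) (.leaf (nat_lit 0x2237c7eaf86d8d02ae22ed72c4ce47f3943fd020))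 (.leaf (nat_lit 0x2a6eccc776ee1d021f546d5fc40fcb91bf350820)))) (.node (nat_lit 0x2a6f1eb376ce29020f8e7d5ba41fd390beb51820) (.node (nat_lit 0x2a6f1cb378eda9540f4e6c1fc21feb90bd351820) (.leaf (nat_lit 0x2a6ecec778cd9d541f947c1ba20ff391bcb50820)) (.leaf (nat_lit 0x2a6f1cb378eda9540f4e6c1fc21feb90bd351820))) (.node (nat_lit 0x2a736be3acdc4e483b837a1baad04a9fcd25f820) (.leaf (nat_lit 0x2a6f1eb376ce29020f8e7d5ba41fd390beb51820)) (.node (nat_lit 0x2a736de3b1bb0e8abb43691fc850d29fc4a5f820) (.leaf (nat_lit 0x2a736be3acdc4e483b837a1baad04a9fcd25f820)) (.leaf (nat_lit 0x2a736de3b1bb0e8abb43691fc850d29fc4a5f820))))))) (.node (nat_lit 0x2a7b8ddb31bb0e483b837a1baad0d25f84a9fc20) (.node (nat_lit 0x2a771cb2f6ee1d541f947c1ba20fcb50bf391820) (.node (nat_lit 0x2a76ccc6f8eda9020f8e7d5ba41feb51bd390820) (.node (nat_lit 0x2a738ddbacbc464853476a1fcab8529f8ca5fc20) (.leaf (nat_lit 0x2a738bdbb1db068ad387791ba838ca9f8525fc20))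 (.leaf (nat_lit 0x2a738ddbacbc464853476a1fcab8529f8ca5fc20))) (.node (nat_lit 0x2a76cec6f6ce29540f4e6c1fc21fd351beb90820) (.leaf (nat_lit 0x2a76ccc6f8eda9020f8e7d5ba41feb51bd390820)) (.leaf (nat_lit 0x2a76cec6f6ce29540f4e6c1fc21fd351beb90820)))) (.node (nat_lit 0x2a7b6be331db064853476a1fcab8ca5fc529f820) (.node (nat_lit 0x2a771eb2f8cd9d021f546d5fc40ff350bcb91820) (.leaf (nat_lit 0x2a771cb2f6ee1d541f947c1ba20fcb50bf391820)) (.leaf (nat_lit 0x2a771eb2f8cd9d021f546d5fc40ff350bcb91820))) (.node (nat_lit 0x2a7b6de32cbc468ad387791ba838525fcca9f820) (.leaf (nat_lit 0x2a7b6be331db064853476a1fcab8ca5fc529f820)) (.node (nat_lit 0x2a7b8bdb2cdc4e8abb43691fc8504a5f8d29fc20) (.leaf (nat_lit 0x2a7b6de32cbc468ad387791ba838525fcca9f820)) (.leaf (nat_lit 0x2a7b8bdb2cdc4e8abb43691fc8504a5f8d29fc20)))))) (.node (nat_lit 0x30afceeb71cb10754ec478db892d35a78b077c20) (.node (nat_lit 0x30afaef36ccc48392ec879db854cb5a7d3077820)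 (.node (nat_lit 0x30afacf371eb08752f0868df694d30a7cb577820) (.leaf (nat_lit 0x2a7b8ddb31bb0e483b837a1baad0d25f84a9fc20)) (.leaf (nat_lit 0x30afacf371eb08752f0868df694d30a7cb577820))) (.node (nat_lit 0x30afcceb6cec50394f0469df652cb0a793577c20) (.leaf (nat_lit 0x30afaef36ccc48392ec879db854cb5a7d3077820)) (.leaf (nat_lit 0x30afcceb6cec50394f0469df652cb0a793577c20)))) (.node (nat_lit 0x30b2cdc7babf26a3a30b6c9f6193d4aa7ee81420) (.node (nat_lit 0x30b2cbc7bcdea721a2cb7a9b8393eeaa7d481420) (.leaf (nat_lit 0x30afceeb71cb10754ec478db892d35a78b077c20)) (.leaf (nat_lit 0x30b2cbc7bcdea721a2cb7a9b8393eeaa7d481420))) (.node (nat_lit 0x30b31bb3badf16a392d37c9b81a3cea97f482420) (.leaf (nat_lit 0x30b2cdc7babf26a3a30b6c9f6193d4aa7ee81420)) (.node (nat_lit 0x30b31db3bcbe972193136a9f63a3f4a97ce82420) (.leaf (nat_lit 0x30b31bb3badf16a392d37c9b81a3cea97f482420)) (.leaf (nat_lit 0x30b31db3bcbe972193136a9f63a3f4a97ce82420)))))))))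 (.node (nat_lit 0x4137a6f2f67e0d52ce22cc3ac4ae47fb943f5020) (.node (nat_lit 0x38f386dbba7f12a35225bcb6c13a04faea8f4c20) (.node (nat_lit 0x38dbaef1f6ce2829262eb9b6c5157f4567e24020) (.node (nat_lit 0x30bacbc73adf172193136a9f63a3ce827f4a9420) (.node (nat_lit 0x30b7cceaf1eb08392ec879db854d30778b5a7c20) (.node (nat_lit 0x30b7aef2f1cb10394f0469df652d3577cb0a7820) (.leaf (nat_lit 0x30b7acf2ecec50754ec478db892cb077d35a7820)) (.leaf (nat_lit 0x30b7aef2f1cb10394f0469df652d3577cb0a7820))) (.node (nat_lit 0x30b7ceeaeccc48752f0868df694cb577930a7c20) (.leaf (nat_lit 0x30b7cceaf1eb08392ec879db854d30778b5a7c20)) (.leaf (nat_lit 0x30b7ceeaeccc48752f0868df694cb577930a7c20)))) (.node (nat_lit 0x30bb1bb33cdea6a3a30b6c9f6193ee817d4aa420) (.node (nat_lit 0x30bacdc73cbe96a392d37c9b81a3f4827cea9420) (.leaf (nat_lit 0x30bacbc73adf172193136a9f63a3ce827f4a9420)) (.leaf (nat_lit 0x30bacdc73cbe96a392d37c9b81a3f4827cea9420)))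 (.node (nat_lit 0x30bb1db33abf2721a2cb7a9b8393d4817eeaa420) (.leaf (nat_lit 0x30bb1bb33cdea6a3a30b6c9f6193ee817d4aa420)) (.node (nat_lit 0x38dbacf1f8eda865258ed8af19167e4557f24020) (.leaf (nat_lit 0x30bb1db33abf2721a2cb7a9b8393d4817eeaa420)) (.leaf (nat_lit 0x38dbacf1f8eda865258ed8af19167e4557f24020)))))) (.node (nat_lit 0x38dfaef1b8cd9c291594d9af15267f2557e44020) (.node (nat_lit 0x38dbcee9f8cd9c651634b8b6c9267f4417e25420) (.node (nat_lit 0x38dbcce9f6ee1c291594d9af15257e4427f25420) (.leaf (nat_lit 0x38dbaef1f6ce2829262eb9b6c5157f4567e24020)) (.leaf (nat_lit 0x38dbcce9f6ee1c291594d9af15257e4427f25420))) (.node (nat_lit 0x38dfacf1b6ee1c651634b8b6c9257e2567f44020) (.leaf (nat_lit 0x38dbcee9f8cd9c651634b8b6c9267f4417e25420)) (.leaf (nat_lit 0x38dfacf1b6ee1c651634b8b6c9257e2567f44020)))) (.node (nat_lit 0x38dfcee9b6ce2865258ed8af19157f2427e45420) (.node (nat_lit 0x38dfcce9b8eda829262eb9b6c5167e2417f45420)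 (.leaf (nat_lit 0x38dfaef1b8cd9c291594d9af15267f2557e44020)) (.leaf (nat_lit 0x38dfcce9b8eda829262eb9b6c5167e2417f45420))) (.node (nat_lit 0x38f366e3bc7e8b213a29bab6c352a4fce08f2c20) (.leaf (nat_lit 0x38dfcee9b6ce2865258ed8af19157f2427e45420)) (.node (nat_lit 0x38f367e3ba6f0aa33989dcaf115208fcea4f2c20) (.leaf (nat_lit 0x38f366e3bc7e8b213a29bab6c352a4fce08f2c20)) (.leaf (nat_lit 0x38f367e3ba6f0aa33989dcaf115208fcea4f2c20))))))) (.node (nat_lit 0x411b8dd9fcbe96980993e9731a99de1ca9f3a820) (.node (nat_lit 0x38fb86db3c7e8aa33989dcaf1152a4f2e08fcc20) (.node (nat_lit 0x38fb66e33a7f13215185daaf133a04f4ea8fac20) (.node (nat_lit 0x38f387dbbc6e93215185daaf133aa8fae04f4c20) (.leaf (nat_lit 0x38f386dbba7f12a35225bcb6c13a04faea8f4c20)) (.leaf (nat_lit 0x38f387dbbc6e93215185daaf133aa8fae04f4c20))) (.node (nat_lit 0x38fb67e33c6e92a35225bcb6c13aa8f4e04fac20) (.leaf (nat_lit 0x38fb66e33a7f13215185daaf133a04f4ea8fac20))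 (.leaf (nat_lit 0x38fb67e33c6e92a35225bcb6c13aa8f4e04fac20)))) (.node (nat_lit 0x411b6be1fcdea6981a2bc97aca89df1aa9e3c820) (.node (nat_lit 0x38fb87db3a6f0b213a29bab6c35208f2ea4fcc20) (.leaf (nat_lit 0x38fb86db3c7e8aa33989dcaf1152a4f2e08fcc20)) (.leaf (nat_lit 0x38fb87db3a6f0b213a29bab6c35208f2ea4fcc20))) (.node (nat_lit 0x411b6de1fabf265a998bea73180a9e1a9df3c820) (.leaf (nat_lit 0x411b6be1fcdea6981a2bc97aca89df1aa9e3c820)) (.node (nat_lit 0x411b8bd9fadf165a8a33ca7ac81a9f1c9de3a820) (.leaf (nat_lit 0x411b6de1fabf265a998bea73180a9e1a9df3c820)) (.leaf (nat_lit 0x411b8bd9fadf165a8a33ca7ac81a9f1c9de3a820)))))) (.node (nat_lit 0x411f8dd9babf26981a2bc97aca8a9e3c9df1a820) (.node (nat_lit 0x411f6de1bcbe965a8a33ca7ac819de3aa9f1c820) (.node (nat_lit 0x411f6be1badf16980993e9731a9a9f3a9de1c820) (.leaf (nat_lit 0x411b8dd9fcbe96980993e9731a99de1ca9f3a820)) (.leaf (nat_lit 0x411f6be1badf16980993e9731a9a9f3a9de1c820)))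 (.node (nat_lit 0x411f8bd9bcdea65a998bea731809df3ca9e1a820) (.leaf (nat_lit 0x411f6de1bcbe965a8a33ca7ac819de3aa9f1c820)) (.leaf (nat_lit 0x411f8bd9bcdea65a998bea731809df3ca9e1a820)))) (.node (nat_lit 0x412fa7f3766e0504ae26cd7ac2ce43f3947fd020) (.node (nat_lit 0x412fa6f3787d8552ad86ec3314cd47f3a43fd020) (.leaf (nat_lit 0x411f8dd9babf26981a2bc97aca8a9e3c9df1a820)) (.leaf (nat_lit 0x412fa6f3787d8552ad86ec3314cd47f3a43fd020))) (.node (nat_lit 0x412fc6eb767e0d04cd82ed7312ae47f5143fb820) (.leaf (nat_lit 0x412fa7f3766e0504ae26cd7ac2ce43f3947fd020)) (.node (nat_lit 0x412fc7eb786d8d52ce22cc3ac4ad43f5247fb820) (.leaf (nat_lit 0x412fc6eb767e0d04cd82ed7312ae47f5143fb820)) (.leaf (nat_lit 0x412fc7eb786d8d52ce22cc3ac4ad43f5247fb820)))))))) (.node (nat_lit 0x497b8bdb31db064abb876a1fa850529fcca5f820) (.node (nat_lit 0x49736de3acbc464abb876a1fa850ca5f8529fc20) (.node (nat_lit 0x496eccc778eda9521f8e6c1fa40fd350beb91820)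 (.node (nat_lit 0x4137c6eaf87d8504ae26cd7ac2cd47fd243f3820) (.node (nat_lit 0x4137a7f2f86d8d04cd82ed7312ad43fba47f5020) (.leaf (nat_lit 0x4137a6f2f67e0d52ce22cc3ac4ae47fb943f5020)) (.leaf (nat_lit 0x4137a7f2f86d8d04cd82ed7312ad43fba47f5020))) (.node (nat_lit 0x4137c7eaf66e0552ad86ec3314ce43fd147f3820) (.leaf (nat_lit 0x4137c6eaf87d8504ae26cd7ac2cd47fd243f3820)) (.leaf (nat_lit 0x4137c7eaf66e0552ad86ec3314ce43fd147f3820)))) (.node (nat_lit 0x496f1cb376ee1d040f946d5fa21ff351bcb90820) (.node (nat_lit 0x496ecec776ce29041f4e7d5bc20feb50bd391820) (.leaf (nat_lit 0x496eccc778eda9521f8e6c1fa40fd350beb91820)) (.leaf (nat_lit 0x496ecec776ce29041f4e7d5bc20feb50bd391820))) (.node (nat_lit 0x496f1eb378cd9d520f547c1bc41fcb51bf390820) (.leaf (nat_lit 0x496f1cb376ee1d040f946d5fa21ff351bcb90820)) (.node (nat_lit 0x49736be3b1db06883b47791bcad0525f8ca9fc20) (.leaf (nat_lit 0x496f1eb378cd9d520f547c1bc41fcb51bf390820))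 (.leaf (nat_lit 0x49736be3b1db06883b47791bcad0525f8ca9fc20)))))) (.node (nat_lit 0x4976cec6f8cd9d040f946d5fa21fcb90bf351820) (.node (nat_lit 0x49738ddbb1bb0e885383691faab84a5fcd29f820) (.node (nat_lit 0x49738bdbacdc4e4ad3437a1bc838d25fc4a9f820) (.leaf (nat_lit 0x49736de3acbc464abb876a1fa850ca5f8529fc20)) (.leaf (nat_lit 0x49738bdbacdc4e4ad3437a1bc838d25fc4a9f820))) (.node (nat_lit 0x4976ccc6f6ee1d520f547c1bc41ff390bcb51820) (.leaf (nat_lit 0x49738ddbb1bb0e885383691faab84a5fcd29f820)) (.leaf (nat_lit 0x4976ccc6f6ee1d520f547c1bc41ff390bcb51820)))) (.node (nat_lit 0x49771eb2f6ce29521f8e6c1fa40feb91bd350820) (.node (nat_lit 0x49771cb2f8eda9041f4e7d5bc20fd391beb50820) (.leaf (nat_lit 0x4976cec6f8cd9d040f946d5fa21fcb90bf351820)) (.leaf (nat_lit 0x49771cb2f8eda9041f4e7d5bc20fd391beb50820))) (.node (nat_lit 0x497b6be32cdc4e885383691faab8d29f84a5fc20) (.leaf (nat_lit 0x49771eb2f6ce29521f8e6c1fa40feb91bd350820))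 (.node (nat_lit 0x497b6de331bb0e4ad3437a1bc8384a9f8d25fc20) (.leaf (nat_lit 0x497b6be32cdc4e885383691faab8d29f84a5fc20)) (.leaf (nat_lit 0x497b6de331bb0e4ad3437a1bc8384a9f8d25fc20))))))) (.node (nat_lit 0x549f1db1b8bdaa21fb50c9bbc3fc859d1095b820) (.node (nat_lit 0x549b1bb1f8dda063ff55c8bbc1f8895d1059b820) (.node (nat_lit 0x549acbc5f6de2a21fb50c9bbc3fd095b8859d020) (.node (nat_lit 0x497b8ddb2cbc46883b47791bcad0ca9fc525f820) (.leaf (nat_lit 0x497b8bdb31db064abb876a1fa850529fcca5f820)) (.leaf (nat_lit 0x497b8ddb2cbc46883b47791bcad0ca9fc525f820))) (.node (nat_lit 0x549acdc5f8bdaa63fb90e8b3a1fc855b9099d020) (.leaf (nat_lit 0x549acbc5f6de2a21fb50c9bbc3fd095b8859d020)) (.leaf (nat_lit 0x549acdc5f8bdaa63fb90e8b3a1fc855b9099d020)))) (.node (nat_lit 0x549ecbc5b8dda021ff95e9b3a3f8899b9055d020) (.node (nat_lit 0x549b1db1f6be2021ff95e9b3a3f9055d0899b820) (.leaf (nat_lit 0x549b1bb1f8dda063ff55c8bbc1f8895d1059b820))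 (.leaf (nat_lit 0x549b1db1f6be2021ff95e9b3a3f9055d0899b820))) (.node (nat_lit 0x549ecdc5b6be2063ff55c8bbc1f9059b8895d020) (.leaf (nat_lit 0x549ecbc5b8dda021ff95e9b3a3f8899b9055d020)) (.node (nat_lit 0x549f1bb1b6de2a63fb90e8b3a1fd099d0855b820) (.leaf (nat_lit 0x549ecdc5b6be2063ff55c8bbc1f9059b8895d020)) (.leaf (nat_lit 0x549f1bb1b6de2a63fb90e8b3a1fd099d0855b820)))))) (.node (nat_lit 0x54af87db6c6c7e31435ec9fbc3568b2a1d349020) (.node (nat_lit 0x54af67e3716b3c73575fc8fbc141cb292934a020) (.node (nat_lit 0x54af66e36c7c7c31579fe9f3a34293291cb4a020) (.leaf (nat_lit 0x549f1db1b8bdaa21fb50c9bbc3fc859d1095b820)) (.leaf (nat_lit 0x54af66e36c7c7c31579fe9f3a34293291cb4a020))) (.node (nat_lit 0x54af86db717b3e73439ee8f3a155d32a28b49020) (.leaf (nat_lit 0x54af67e3716b3c73575fc8fbc141cb292934a020)) (.leaf (nat_lit 0x54af86db717b3e73439ee8f3a155d32a28b49020)))) (.node (nat_lit 0x54b767e2ec6c7e73439ee8f3a1568b491d32a020)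 (.node (nat_lit 0x54b766e2f17b3e31435ec9fbc355d34928b2a020) (.leaf (nat_lit 0x54af87db6c6c7e31435ec9fbc3568b2a1d349020)) (.leaf (nat_lit 0x54b766e2f17b3e31435ec9fbc355d34928b2a020))) (.node (nat_lit 0x54b786daec7c7c73575fc8fbc142934a1cb29020) (.leaf (nat_lit 0x54b767e2ec6c7e73439ee8f3a1568b491d32a020)) (.node (nat_lit 0x54b787daf16b3c31579fe9f3a341cb4a29329020) (.leaf (nat_lit 0x54b786daec7c7c73575fc8fbc142934a1cb29020)) (.leaf (nat_lit 0x54b787daf16b3c31579fe9f3a341cb4a29329020)))))))))) (.node (nat_lit 0x9af2c6c7b67e0d4fa342bbb7cf10f24d46a2c020) (.node (nat_lit 0x855eccc5bcee94527ed2ba778478e274c66a2c20) (.node (nat_lit 0x751bcbe9ecdc4ff59703cfbb69a54282246a9020) (.node (nat_lit 0x5cf2c7c7b66e054f2346dbafcf90722c0ea4d420) (.node (nat_lit 0x5cdf6ce1acec51ea0b84bff7a71aa951e0590c20) (.node (nat_lit 0x5cdb8cd9ecec51f70b44dfafca1aa990e0551c20) (.node (nat_lit 0x5cdb6ee1eccc49f71b88bfb7aa0aa591e0950c20)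 (.leaf (nat_lit 0x5cdb6ce1f1eb09ea1b48dfefc70a0991ea550c20)) (.leaf (nat_lit 0x5cdb6ee1eccc49f71b88bfb7aa0aa591e0950c20))) (.node (nat_lit 0x5cdb8ed9f1cb11ea0b84bff7a71a0590ea951c20) (.leaf (nat_lit 0x5cdb8cd9ecec51f70b44dfafca1aa990e0551c20)) (.leaf (nat_lit 0x5cdb8ed9f1cb11ea0b84bff7a71a0590ea951c20)))) (.node (nat_lit 0x5cdf8cd9b1eb09f71b88bfb7aa0a0950ea591c20) (.node (nat_lit 0x5cdf6ee1b1cb11f70b44dfafca1a0551ea990c20) (.leaf (nat_lit 0x5cdf6ce1acec51ea0b84bff7a71aa951e0590c20)) (.leaf (nat_lit 0x5cdf6ee1b1cb11f70b44dfafca1a0551ea990c20))) (.node (nat_lit 0x5cdf8ed9accc49ea1b48dfefc70aa550e0991c20) (.leaf (nat_lit 0x5cdf8cd9b1eb09f71b88bfb7aa0a0950ea591c20)) (.node (nat_lit 0x5cf2c6c7b87d84efa386bd37af10ea2c0724d420) (.leaf (nat_lit 0x5cdf8ed9accc49ea1b48dfefc70aa550e0991c20)) (.leaf (nat_lit 0x5cf2c6c7b87d84efa386bd37af10ea2c0724d420)))))) (.node (nat_lit 0x5cfac7c7386d8d4f1382bbb7afa0f24c06a2d420)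 (.node (nat_lit 0x5cf317b3b86d8cef9342dd2fcf20f22d46a4c020) (.node (nat_lit 0x5cf316b3b67e0d4f1382bbb7afa06a2d4f24c020) (.leaf (nat_lit 0x5cf2c7c7b66e054f2346dbafcf90722c0ea4d420)) (.leaf (nat_lit 0x5cf316b3b67e0d4f1382bbb7afa06a2d4f24c020))) (.node (nat_lit 0x5cfac6c7367e0cef9342dd2fcf206a4c0f22d420) (.leaf (nat_lit 0x5cf317b3b86d8cef9342dd2fcf20f22d46a4c020)) (.leaf (nat_lit 0x5cfac6c7367e0cef9342dd2fcf206a4c0f22d420)))) (.node (nat_lit 0x5cfb17b3366e04efa386bd37af10724d4ea2c020) (.node (nat_lit 0x5cfb16b3387d854f2346dbafcf90ea4d4722c020) (.leaf (nat_lit 0x5cfac7c7386d8d4f1382bbb7afa0f24c06a2d420)) (.leaf (nat_lit 0x5cfb16b3387d854f2346dbafcf90ea4d4722c020))) (.node (nat_lit 0x751babf1f1db07e9a707cffb65964281146aa020) (.leaf (nat_lit 0x5cfb17b3366e04efa386bd37af10724d4ea2c020)) (.node (nat_lit 0x751badf1ecbc47f5a6c7efb389954681242aa020) (.leaf (nat_lit 0x751babf1f1db07e9a707cffb65964281146aa020))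 (.leaf (nat_lit 0x751badf1ecbc47f5a6c7efb389954681242aa020))))))) (.node (nat_lit 0x752f17b37c6e92bf8f05ccfb6f1c903291514820) (.node (nat_lit 0x751fcbe9b1db07f5a6c7efb3899642aa14681020) (.node (nat_lit 0x751fabf1acdc4fe996c3eff385a542a924682020) (.node (nat_lit 0x751bcde9f1bb0fe996c3eff385a64682142a9020) (.leaf (nat_lit 0x751bcbe9ecdc4ff59703cfbb69a54282246a9020)) (.leaf (nat_lit 0x751bcde9f1bb0fe996c3eff385a64682142a9020))) (.node (nat_lit 0x751fadf1b1bb0ff59703cfbb69a646a914282020) (.leaf (nat_lit 0x751fabf1acdc4fe996c3eff385a542a924682020)) (.leaf (nat_lit 0x751fadf1b1bb0ff59703cfbb69a646a914282020)))) (.node (nat_lit 0x752ec6c77c7e8abf9ec9ecf38f0c953491012820) (.node (nat_lit 0x751fcde9acbc47e9a707cffb659546aa24281020) (.leaf (nat_lit 0x751fcbe9b1db07f5a6c7efb3899642aa14681020)) (.leaf (nat_lit 0x751fcde9acbc47e9a707cffb659546aa24281020))) (.node (nat_lit 0x752ec7c77a6f0b3f1f09cafb6f8d103489512820)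 (.leaf (nat_lit 0x752ec6c77c7e8abf9ec9ecf38f0c953491012820)) (.node (nat_lit 0x752f16b37a7f133f0ec5eaf38f9d153289014820) (.leaf (nat_lit 0x752ec7c77a6f0b3f1f09cafb6f8d103489512820)) (.leaf (nat_lit 0x752f16b37a7f133f0ec5eaf38f9d153289014820)))))) (.node (nat_lit 0x753717b2fa6f0abf9ec9ecf38f0d101289534820) (.node (nat_lit 0x7536c7c6fc6e933f0ec5eaf38f9c901491532820) (.node (nat_lit 0x7536c6c6fa7f12bf8f05ccfb6f1d151489032820) (.leaf (nat_lit 0x752f17b37c6e92bf8f05ccfb6f1c903291514820)) (.leaf (nat_lit 0x7536c6c6fa7f12bf8f05ccfb6f1d151489032820))) (.node (nat_lit 0x753716b2fc7e8b3f1f09cafb6f8c951291034820) (.leaf (nat_lit 0x7536c7c6fc6e933f0ec5eaf38f9c901491532820)) (.leaf (nat_lit 0x753716b2fc7e8b3f1f09cafb6f8c951291034820)))) (.node (nat_lit 0x855acec5fccea4947acab977827ce6a4c6272c20) (.node (nat_lit 0x855accc5faef24527b0ada6f647c62a4ce672c20) (.leaf (nat_lit 0x753717b2fa6f0abf9ec9ecf38f0d101289534820))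 (.leaf (nat_lit 0x855accc5faef24527b0ada6f647c62a4ce672c20))) (.node (nat_lit 0x855b1cb1fcee94947f12d96f6278e2a2c6674c20) (.leaf (nat_lit 0x855acec5fccea4947acab977827ce6a4c6272c20)) (.node (nat_lit 0x855b1eb1facf14527ed2ba77847866a2ce274c20) (.leaf (nat_lit 0x855b1cb1fcee94947f12d96f6278e2a2c6674c20)) (.leaf (nat_lit 0x855b1eb1facf14527ed2ba77847866a2ce274c20)))))))) (.node (nat_lit 0x929f1bb1b8dda023fb55e9b3c1fd055b8899d020) (.node (nat_lit 0x857ba7f32c6c7e84aadeb93782c97411e6e30c20) (.node (nat_lit 0x8573a6f3ac7c7c42cadfba3784a96e31e7410c20) (.node (nat_lit 0x855f1cb1baef24947acab977827c6272ce6a4c20) (.node (nat_lit 0x855ecec5bacf14947f12d96f62786674ce2a2c20) (.leaf (nat_lit 0x855eccc5bcee94527ed2ba778478e274c66a2c20)) (.leaf (nat_lit 0x855ecec5bacf14947f12d96f62786674ce2a2c20))) (.node (nat_lit 0x855f1eb1bccea4527b0ada6f647ce672c62a4c20) (.leaf (nat_lit 0x855f1cb1baef24947acab977827c6272ce6a4c20))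 (.leaf (nat_lit 0x855f1eb1bccea4527b0ada6f647ce672c62a4c20)))) (.node (nat_lit 0x8573c6ebb17b3e84aadeb93782ca6e30d7411c20) (.node (nat_lit 0x8573a7f3b16b3c84cb1fd92f62aa7431d6e10c20) (.leaf (nat_lit 0x8573a6f3ac7c7c42cadfba3784a96e31e7410c20)) (.leaf (nat_lit 0x8573a7f3b16b3c84cb1fd92f62aa7431d6e10c20))) (.node (nat_lit 0x8573c7ebac6c7e42ab1eda2f64c97430e6e11c20) (.leaf (nat_lit 0x8573c6ebb17b3e84aadeb93782ca6e30d7411c20)) (.node (nat_lit 0x857ba6f3317b3e42ab1eda2f64ca6e11d7430c20) (.leaf (nat_lit 0x8573c7ebac6c7e42ab1eda2f64c97430e6e11c20)) (.leaf (nat_lit 0x857ba6f3317b3e42ab1eda2f64ca6e11d7430c20)))))) (.node (nat_lit 0x929acdc5f6be2023fb55e9b3c1fc899d1055b820) (.node (nat_lit 0x857bc7eb316b3c42cadfba3784aa7410d6e31c20) (.node (nat_lit 0x857bc6eb2c7c7c84cb1fd92f62a96e10e7431c20) (.leaf (nat_lit 0x857ba7f32c6c7e84aadeb93782c97411e6e30c20)) (.leaf (nat_lit 0x857bc6eb2c7c7c84cb1fd92f62a96e10e7431c20)))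 (.node (nat_lit 0x929acbc5f8dda061fb95c8bba3fd059d0895b820) (.leaf (nat_lit 0x857bc7eb316b3c42cadfba3784aa7410d6e31c20)) (.leaf (nat_lit 0x929acbc5f8dda061fb95c8bba3fd059d0895b820)))) (.node (nat_lit 0x929b1db1f8bdaa61ff50e8b3c3f9099b8855d020) (.node (nat_lit 0x929b1bb1f6de2a23ff90c9bba1f8859b9095d020) (.leaf (nat_lit 0x929acdc5f6be2023fb55e9b3c1fc899d1055b820)) (.leaf (nat_lit 0x929b1bb1f6de2a23ff90c9bba1f8859b9095d020))) (.node (nat_lit 0x929ecbc5b6de2a61ff50e8b3c3f8855d1099b820) (.leaf (nat_lit 0x929b1db1f8bdaa61ff50e8b3c3f9099b8855d020)) (.node (nat_lit 0x929ecdc5b8bdaa23ff90c9bba1f9095d0859b820) (.leaf (nat_lit 0x929ecbc5b6de2a61ff50e8b3c3f8855d1099b820)) (.leaf (nat_lit 0x929ecdc5b8bdaa23ff90c9bba1f9095d0859b820))))))) (.node (nat_lit 0x92b787daec6c7e71575ee8f3c341d32928b4a020) (.node (nat_lit 0x92af86db6c7c7c33435fe9f3c155cb492932a020) (.node (nat_lit 0x92af66e3717b3e71575ee8f3c3428b4a1d329020)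 (.node (nat_lit 0x929f1db1b6be2061fb95c8bba3fc895b9059d020) (.leaf (nat_lit 0x929f1bb1b8dda023fb55e9b3c1fd055b8899d020)) (.leaf (nat_lit 0x929f1db1b6be2061fb95c8bba3fc895b9059d020))) (.node (nat_lit 0x92af67e36c6c7e33579ec9fba141d34a28b29020) (.leaf (nat_lit 0x92af66e3717b3e71575ee8f3c3428b4a1d329020)) (.leaf (nat_lit 0x92af67e36c6c7e33579ec9fba141d34a28b29020)))) (.node (nat_lit 0x92b766e2ec7c7c71439fc8fba355cb2a29349020) (.node (nat_lit 0x92af87db716b3c71439fc8fba35693491cb2a020) (.leaf (nat_lit 0x92af86db6c7c7c33435fe9f3c155cb492932a020)) (.leaf (nat_lit 0x92af87db716b3c71439fc8fba35693491cb2a020))) (.node (nat_lit 0x92b767e2f16b3c33435fe9f3c156932a1cb49020) (.leaf (nat_lit 0x92b766e2ec7c7c71439fc8fba355cb2a29349020)) (.node (nat_lit 0x92b786daf17b3e33579ec9fba1428b291d34a020) (.leaf (nat_lit 0x92b767e2f16b3c33435fe9f3c156932a1cb49020)) (.leaf (nat_lit 0x92b786daf17b3e33579ec9fba1428b291d34a020))))))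 (.node (nat_lit 0x9adb8ed9eccc49fa0b48bfb7c71a0951ea590c20) (.node (nat_lit 0x9adb6ee1f1cb11e71b44bff7ca0aa950e0591c20) (.node (nat_lit 0x9adb6ce1ecec51fa1b84dfafa70a0550ea991c20) (.leaf (nat_lit 0x92b787daec6c7e71575ee8f3c341d32928b4a020)) (.leaf (nat_lit 0x9adb6ce1ecec51fa1b84dfafa70a0550ea991c20))) (.node (nat_lit 0x9adb8cd9f1eb09e70b88dfefaa1aa551e0990c20) (.leaf (nat_lit 0x9adb6ee1f1cb11e71b44bff7ca0aa950e0591c20)) (.leaf (nat_lit 0x9adb8cd9f1eb09e70b88dfefaa1aa551e0990c20)))) (.node (nat_lit 0x9adf6ee1accc49e70b88dfefaa1a0990ea551c20) (.node (nat_lit 0x9adf6ce1b1eb09fa0b48bfb7c71aa590e0951c20) (.leaf (nat_lit 0x9adb8ed9eccc49fa0b48bfb7c71a0951ea590c20)) (.leaf (nat_lit 0x9adf6ce1b1eb09fa0b48bfb7c71aa590e0951c20))) (.node (nat_lit 0x9adf8cd9acec51e71b44bff7ca0a0591ea950c20) (.leaf (nat_lit 0x9adf6ee1accc49e70b88dfefaa1a0990ea551c20)) (.node (nat_lit 0x9adf8ed9b1cb11fa1b84dfafa70aa991e0550c20)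 (.leaf (nat_lit 0x9adf8cd9acec51e71b44bff7ca0a0591ea950c20)) (.leaf (nat_lit 0x9adf8ed9b1cb11fa1b84dfafa70aa991e0550c20))))))))) (.node (nat_lit 0xac3ba6f32c7c7c82aadfd92f84ca7430d6e11c20) (.node (nat_lit 0xa3af16b37c7e8abf0f09ecf36f9d101489532820) (.node (nat_lit 0xa39badf1f1bb0fe5a703eff3699542aa24681020) (.node (nat_lit 0x9afac6c7387d854f9386dbafaf20722d4ea4c020) (.node (nat_lit 0x9af316b3b87d84ef1346bd37cfa0724c0ea2d420) (.node (nat_lit 0x9af2c7c7b86d8cef2382dd2faf906a4d4f22c020) (.leaf (nat_lit 0x9af2c6c7b67e0d4fa342bbb7cf10f24d46a2c020)) (.leaf (nat_lit 0x9af2c7c7b86d8cef2382dd2faf906a4d4f22c020))) (.node (nat_lit 0x9af317b3b66e054f9386dbafaf20ea4c0722d420) (.leaf (nat_lit 0x9af316b3b87d84ef1346bd37cfa0724c0ea2d420)) (.leaf (nat_lit 0x9af317b3b66e054f9386dbafaf20ea4c0722d420)))) (.node (nat_lit 0x9afb16b3367e0cef2382dd2faf90f22c06a4d420) (.node (nat_lit 0x9afac7c7366e04ef1346bd37cfa0ea2d4724c020)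 (.leaf (nat_lit 0x9afac6c7387d854f9386dbafaf20722d4ea4c020)) (.leaf (nat_lit 0x9afac7c7366e04ef1346bd37cfa0ea2d4724c020))) (.node (nat_lit 0x9afb17b3386d8d4fa342bbb7cf106a2c0f24d420) (.leaf (nat_lit 0x9afb16b3367e0cef2382dd2faf90f22c06a4d420)) (.node (nat_lit 0xa39babf1ecdc4ff9a6c3cfbb859646aa14281020) (.leaf (nat_lit 0x9afb17b3386d8d4fa342bbb7cf106a2c0f24d420)) (.leaf (nat_lit 0xa39babf1ecdc4ff9a6c3cfbb859646aa14281020)))))) (.node (nat_lit 0xa39fadf1acbc47e596c7cffb89a64282146a9020) (.node (nat_lit 0xa39bcde9ecbc47f99707efb365a642a914682020) (.node (nat_lit 0xa39bcbe9f1db07e596c7cffb89a546a924282020) (.leaf (nat_lit 0xa39badf1f1bb0fe5a703eff3699542aa24681020)) (.leaf (nat_lit 0xa39bcbe9f1db07e596c7cffb89a546a924282020))) (.node (nat_lit 0xa39fabf1b1db07f99707efb365a54682242a9020) (.leaf (nat_lit 0xa39bcde9ecbc47f99707efb365a642a914682020)) (.leaf (nat_lit 0xa39fabf1b1db07f99707efb365a54682242a9020))))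 (.node (nat_lit 0xa39fcde9b1bb0ff9a6c3cfbb85954281246aa020) (.node (nat_lit 0xa39fcbe9acdc4fe5a703eff369964681142aa020) (.leaf (nat_lit 0xa39fadf1acbc47e596c7cffb89a64282146a9020)) (.leaf (nat_lit 0xa39fcbe9acdc4fe5a703eff369964681142aa020))) (.node (nat_lit 0xa3aec6c77a7f133f9f05eaf36f0c901291534820) (.leaf (nat_lit 0xa39fcde9b1bb0ff9a6c3cfbb85954281246aa020)) (.node (nat_lit 0xa3aec7c77c6e92bf1ec5ccfb8f8d151289034820) (.leaf (nat_lit 0xa3aec6c77a7f133f9f05eaf36f0c901291534820)) (.leaf (nat_lit 0xa3aec7c77c6e92bf1ec5ccfb8f8d151289034820))))))) (.node (nat_lit 0xac1b1eb1fccea4927f0ab97764786274ce6a2c20) (.node (nat_lit 0xa3b716b2fa7f12bf1ec5ccfb8f8c903491512820) (.node (nat_lit 0xa3b6c6c6fc7e8b3f8ec9cafb8f1d103289514820) (.node (nat_lit 0xa3af17b37a6f0b3f8ec9cafb8f1c951491032820) (.leaf (nat_lit 0xa3af16b37c7e8abf0f09ecf36f9d101489532820)) (.leaf (nat_lit 0xa3af17b37a6f0b3f8ec9cafb8f1c951491032820)))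 (.node (nat_lit 0xa3b6c7c6fa6f0abf0f09ecf36f9c953291014820) (.leaf (nat_lit 0xa3b6c6c6fc7e8b3f8ec9cafb8f1d103289514820)) (.leaf (nat_lit 0xa3b6c7c6fa6f0abf0f09ecf36f9c953291014820)))) (.node (nat_lit 0xac1accc5fcee94927ad2d96f847c6672ce2a4c20) (.node (nat_lit 0xa3b717b2fc6e933f9f05eaf36f0d153489012820) (.leaf (nat_lit 0xa3b716b2fa7f12bf1ec5ccfb8f8c903491512820)) (.leaf (nat_lit 0xa3b717b2fc6e933f9f05eaf36f0d153489012820))) (.node (nat_lit 0xac1acec5facf14547b12ba77627ce272c66a4c20) (.leaf (nat_lit 0xac1accc5fcee94927ad2d96f847c6672ce2a4c20)) (.node (nat_lit 0xac1b1cb1faef24547ecada6f8278e674c62a2c20) (.leaf (nat_lit 0xac1acec5facf14547b12ba77627ce272c66a4c20)) (.leaf (nat_lit 0xac1b1cb1faef24547ecada6f8278e674c62a2c20)))))) (.node (nat_lit 0xac1f1eb1bacf14927ad2d96f847ce2a4c6672c20) (.node (nat_lit 0xac1ecec5bccea4547ecada6f827862a2ce674c20) (.node (nat_lit 0xac1eccc5baef24927f0ab9776478e6a2c6274c20)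 (.leaf (nat_lit 0xac1b1eb1fccea4927f0ab97764786274ce6a2c20)) (.leaf (nat_lit 0xac1eccc5baef24927f0ab9776478e6a2c6274c20))) (.node (nat_lit 0xac1f1cb1bcee94547b12ba77627c66a4ce272c20) (.leaf (nat_lit 0xac1ecec5bccea4547ecada6f827862a2ce674c20)) (.leaf (nat_lit 0xac1f1cb1bcee94547b12ba77627c66a4ce272c20)))) (.node (nat_lit 0xac33a7f3ac6c7e44cadeda2f82aa6e10d7431c20) (.node (nat_lit 0xac33a6f3b17b3e82cb1eb93764a97410e6e31c20) (.leaf (nat_lit 0xac1f1eb1bacf14927ad2d96f847ce2a4c6672c20)) (.leaf (nat_lit 0xac33a6f3b17b3e82cb1eb93764a97410e6e31c20))) (.node (nat_lit 0xac33c6ebac7c7c44ab1fba3762ca7411d6e30c20) (.leaf (nat_lit 0xac33a7f3ac6c7e44cadeda2f82aa6e10d7431c20)) (.node (nat_lit 0xac33c7ebb16b3c82aadfd92f84c96e11e7430c20) (.leaf (nat_lit 0xac33c6ebac7c7c44ab1fba3762ca7411d6e30c20)) (.leaf (nat_lit 0xac33c7ebb16b3c82aadfd92f84c96e11e7430c20)))))))) (.node (nat_lit 0xf7fbcbeb38dda145ca356b9ec9a8a81892439820)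 (.node (nat_lit 0xf7f3adf3b6be2145ca356b9ec9a924398a818820) (.node (nat_lit 0xf7ef6ce37cee94ba56326cdec740c32144742420) (.node (nat_lit 0xac3bc6eb317b3e44cadeda2f82a97431e6e10c20) (.node (nat_lit 0xac3ba7f3316b3c44ab1fba3762c96e30e7411c20) (.leaf (nat_lit 0xac3ba6f32c7c7c82aadfd92f84ca7430d6e11c20)) (.leaf (nat_lit 0xac3ba7f3316b3c44ab1fba3762c96e30e7411c20))) (.node (nat_lit 0xac3bc7eb2c6c7e82cb1eb93764aa6e31d7410c20) (.leaf (nat_lit 0xac3bc6eb317b3e44cadeda2f82a97431e6e10c20)) (.leaf (nat_lit 0xac3bc7eb2c6c7e82cb1eb93764aa6e31d7410c20)))) (.node (nat_lit 0xf7ef8cdb7aef2537422a6adeca5443224c741420) (.node (nat_lit 0xf7ef6ee37acf153755927adb1a4047214c342420) (.leaf (nat_lit 0xf7ef6ce37cee94ba56326cdec740c32144742420)) (.leaf (nat_lit 0xf7ef6ee37acf153755927adb1a4047214c342420))) (.node (nat_lit 0xf7ef8edb7ccea4ba418a7cdb1754c72244341420) (.leaf (nat_lit 0xf7ef8cdb7aef2537422a6adeca5443224c741420))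 (.node (nat_lit 0xf7f3abf3b8dda0e9c9957d1b15a8a83992418820) (.leaf (nat_lit 0xf7ef8edb7ccea4ba418a7cdb1754c72244341420)) (.leaf (nat_lit 0xf7f3abf3b8dda0e9c9957d1b15a8a83992418820)))))) (.node (nat_lit 0xf7f76ee2fccea537422a6adeca54c74144322420) (.node (nat_lit 0xf7f3cdebb8bdaae9aa306d1ec5c8a43892819820) (.node (nat_lit 0xf7f3cbebb6de2b45a9907b9b19c928388a419820) (.leaf (nat_lit 0xf7f3adf3b6be2145ca356b9ec9a924398a818820)) (.leaf (nat_lit 0xf7f3cbebb6de2b45a9907b9b19c928388a419820))) (.node (nat_lit 0xf7f76ce2faef24ba418a7cdb175443414c722420) (.leaf (nat_lit 0xf7f3cdebb8bdaae9aa306d1ec5c8a43892819820)) (.leaf (nat_lit 0xf7f76ce2faef24ba418a7cdb175443414c722420)))) (.node (nat_lit 0xf7f78edafacf14ba56326cdec74047424c321420) (.node (nat_lit 0xf7f78cdafcee953755927adb1a40c34244721420) (.leaf (nat_lit 0xf7f76ee2fccea537422a6adeca54c74144322420)) (.leaf (nat_lit 0xf7f78cdafcee953755927adb1a40c34244721420)))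 (.node (nat_lit 0xf7fbabf336de2ae9aa306d1ec5c928198a438820) (.leaf (nat_lit 0xf7f78edafacf14ba56326cdec74047424c321420)) (.node (nat_lit 0xf7fbadf338bdab45a9907b9b19c8a41992838820) (.leaf (nat_lit 0xf7fbabf336de2ae9aa306d1ec5c928198a438820)) (.leaf (nat_lit 0xf7fbadf338bdab45a9907b9b19c8a41992838820))))))) (.node (nat_lit 0xffb3cdebb6be2149a9956b9f15c8a81992438820) (.node (nat_lit 0xffaf8cdb7cee94b741926cdf1a5447414c322420) (.node (nat_lit 0xffaf6ce37aef253a558a6adf1740c74244321420) (.node (nat_lit 0xf7fbcdeb36be20e9c9957d1b15a924188a839820) (.leaf (nat_lit 0xf7fbcbeb38dda145ca356b9ec9a8a81892439820)) (.leaf (nat_lit 0xf7fbcdeb36be20e9c9957d1b15a924188a839820))) (.node (nat_lit 0xffaf6ee37ccea4b7562a7cdaca4043424c721420) (.leaf (nat_lit 0xffaf6ce37aef253a558a6adf1740c74244321420)) (.leaf (nat_lit 0xffaf6ee37ccea4b7562a7cdaca4043424c721420)))) (.node (nat_lit 0xffb3abf3b6de2b49ca307b9ac5a8a41892839820)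 (.node (nat_lit 0xffaf8edb7acf153a42327adac754c34144722420) (.leaf (nat_lit 0xffaf8cdb7cee94b741926cdf1a5447414c322420)) (.leaf (nat_lit 0xffaf8edb7acf153a42327adac754c34144722420))) (.node (nat_lit 0xffb3adf3b8bdaae5c9906d1f19a928188a439820) (.leaf (nat_lit 0xffb3abf3b6de2b49ca307b9ac5a8a41892839820)) (.node (nat_lit 0xffb3cbebb8dda0e5aa357d1ac9c924198a838820) (.leaf (nat_lit 0xffb3adf3b8bdaae5c9906d1f19a928188a439820)) (.leaf (nat_lit 0xffb3cbebb8dda0e5aa357d1ac9c924198a838820)))))) (.node (nat_lit 0xffb78edafccea53a558a6adf174043214c742420) (.node (nat_lit 0xffb76ee2facf14b741926cdf1a54c32244741420) (.node (nat_lit 0xffb76ce2fcee953a42327adac75447224c341420) (.leaf (nat_lit 0xffb3cdebb6be2149a9956b9f15c8a81992438820)) (.leaf (nat_lit 0xffb76ce2fcee953a42327adac75447224c341420))) (.node (nat_lit 0xffb78cdafaef24b7562a7cdaca40c72144342420) (.leaf (nat_lit 0xffb76ee2facf14b741926cdf1a54c32244741420))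 (.leaf (nat_lit 0xffb78cdafaef24b7562a7cdaca40c72144342420)))) (.node (nat_lit 0xffbbadf336be20e5aa357d1ac9c8a83892419820) (.node (nat_lit 0xffbbabf338dda149a9956b9f15c924388a819820) (.leaf (nat_lit 0xffb78edafccea53a558a6adf174043214c742420)) (.leaf (nat_lit 0xffbbabf338dda149a9956b9f15c924388a819820))) (.node (nat_lit 0xffbbcbeb36de2ae5c9906d1f19a8a43992818820) (.leaf (nat_lit 0xffbbadf336be20e5aa357d1ac9c8a83892419820)) (.node (nat_lit 0xffbbcdeb38bdab49ca307b9ac5a928398a418820) (.leaf (nat_lit 0xffbbcbeb36de2ae5c9906d1f19a8a43992818820)) (.leaf (nat_lit 0xffbbcdeb38bdab49ca307b9ac5a928398a418820)))))))))))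
noncomputable def AP_lKJ_T : ST := AP_lKJ_T0
theorem AP_lKJ_E {G : Type*} [Group G] {R : ℕ → G → Prop} {z u v a b i j k l x y r s t : G}
    (M : Md0 AP_o AP_cs R [z, u, v, a, b, i, j, k, l, x, y, r, s, t]) :
    EnumS R AP_lKJ (sp [i, x, y, r * s]) :=
  enumS_tree M.μ.1 (M.reps.tms M.μ.1 [(.v (nat_lit 5)), (.v (nat_lit 9)), (.v (nat_lit 10)), (.mul (.v (nat_lit 11)) (.v (nat_lit 12)))] (cs' := [(nat_lit 0xf7f3abf3b8dda0e9c9957d1b15a8a83992418820), (nat_lit 0x54b786daec7c7c73575fc8fbc142934a1cb29020), (nat_lit 0x9adb8ed9eccc49fa0b48bfb7c71a0951ea590c20), (nat_lit 0x496f1cb376ee1d040f946d5fa21ff351bcb90820)]) (by decide +kernel))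
    (Ws := AP_lKJ_W) (T := AP_lKJ_T) (by decide +kernel) (by decide +kernel)
theorem AP_lKJ_c {G : Type*} [Group G] {R : ℕ → G → Prop} {z u v a b i j k l x y r s t : G}
    (M : Md0 AP_o AP_cs R [z, u, v, a, b, i, j, k, l, x, y, r, s, t]) :
    #(sp [i, x, y, r * s]) = 288 :=
  (AP_lKJ_E M).card M.μ (h := AP_lKJ_h) (by decide +kernel)
noncomputable def AP_lMr : List ℕ := [(nat_lit 0xffbbcdeb38bdab49ca307b9ac5a928398a418820), (nat_lit 0xf7f3abf3b8dda0e9c9957d1b15a8a83992418820), (nat_lit 0xf7f3adf3b6be2145ca356b9ec9a924398a818820), (nat_lit 0xf7fbabf336de2ae9aa306d1ec5c928198a438820), (nat_lit 0xf7f3cbebb6de2b45a9907b9b19c928388a419820), (nat_lit 0x54b786daec7c7c73575fc8fbc142934a1cb29020), (nat_lit 0x857598f78f637c944b7fc16d722a93399cb18820), (nat_lit 0xffbbcbeb36de2ae5c9906d1f19a8a43992818820), (nat_lit 0xffb3cdebb6be2149a9956b9f15c8a81992438820), (nat_lit 0xffbbadf336be20e5aa357d1ac9c8a83892419820),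 (nat_lit 0x92af67e36c6c7e33579ec9fba141d34a28b29020), (nat_lit 0xac39d6674f8b7e544afec26db229d339a8b18820), (nat_lit 0xffb3cbebb8dda0e5aa357d1ac9c924198a838820), (nat_lit 0xffbbabf338dda149a9956b9f15c924388a819820), (nat_lit 0x92af66e3717b3e71575ee8f3c3428b4a1d329020), (nat_lit 0xac39d8e74d63fe924b7eb171742a8b399d318820), (nat_lit 0xffb3adf3b8bdaae5c9906d1f19a928188a439820), (nat_lit 0x92b767e2f16b3c33435fe9f3c156932a1cb49020), (nat_lit 0xac35d6678d8bfc542b7fb271724a93199cb38820), (nat_lit 0x92af87db716b3c71439fc8fba35693491cb2a020), (nat_lit 0xac3996774d8bfc922affc16db44a93389cb19820), (nat_lit 0x54af86db717b3e73439ee8f3a155d32a28b49020), (nat_lit 0x54b767e2ec6c7e73439ee8f3a1568b491d32a020), (nat_lit 0x855acec5fccea4947acab977827ce6a4c6272c20), (nat_lit 0x54a2fb3597c6ea737bb0e0f5917d28a4ca472c20), (nat_lit 0x857998f74d63fe942afeb171b249d319a8b38820), (nat_lit 0x8575d6678f8b7e942afeb171b24a8b389d319820),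 (nat_lit 0xffad7d6f19e76549d5aa63a2f5c0e64a06229020), (nat_lit 0xf7fbadf338bdab45a9907b9b19c8a41992838820), (nat_lit 0xf7f3cdebb8bdaae9aa306d1ec5c8a43892819820), (nat_lit 0x54b787daf16b3c31579fe9f3a341cb4a29329020), (nat_lit 0x857596778d8bfc524affb271b429cb39a9318820), (nat_lit 0xf7fbcbeb38dda145ca356b9ec9a8a81892439820), (nat_lit 0x54b766e2f17b3e31435ec9fbc355d34928b2a020), (nat_lit 0x8575d8e78d63fe522b7ec26d7449d338a8b19820), (nat_lit 0x92af86db6c7c7c33435fe9f3c155cb492932a020), (nat_lit 0xac1f1cb1bcee94547b12ba77627c66a4ce272c20), (nat_lit 0x9298dc3e37b6e0337b35e1f5d17ca8a4d2472c20), (nat_lit 0xac3998f74f637c542b7fb2717249cb38a9319820), (nat_lit 0xf7f1be5ed9d754e9d5f26522d5c0664a0e229020), (nat_lit 0xf7fbcdeb36be20e9c9957d1b15a924188a839820), (nat_lit 0x54af87db6c6c7e31435ec9fbc3568b2a1d349020), (nat_lit 0x857996774f8b7e522b7ec26d744a8b199d338820), (nat_lit 0x92b766e2ec7c7c71439fc8fba355cb2a29349020),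 (nat_lit 0xac1f1eb1bacf14927ad2d96f847ce2a4c6672c20), (nat_lit 0x9298db3e3bc5e0717bb5d0f9937d24a4ca872c20), (nat_lit 0xac35d8e78f637c922affc16db449cb19a9338820), (nat_lit 0xf7f1bd5edde65545d5b28b98f9c0e24a06629020), (nat_lit 0x54af66e36c7c7c31579fe9f3a34293291cb4a020), (nat_lit 0x8579d8e74f637c524affb271b42a93189cb39820), (nat_lit 0x92b786daf17b3e33579ec9fba1428b291d34a020), (nat_lit 0xac1b1cb1faef24547ecada6f8278e674c62a2c20), (nat_lit 0x92a2dc3d9bb5ea337fb0d1f991792874ca4a2c20), (nat_lit 0xac3598f78d63fe544afec26db22a8b189d339820), (nat_lit 0xf7edbe5f1dd664e9c1aa8d18f5d4e62a06249020), (nat_lit 0x92b787daec6c7e71575ee8f3c341d32928b4a020), (nat_lit 0xac1eccc5baef24927f0ab9776478e6a2c6274c20), (nat_lit 0x9298fc363bb5ea717f30e0f5d37928a2ca474c20), (nat_lit 0xac3596778f8b7e924b7eb1717429d318a8b39820), (nat_lit 0xf7f17e6eddd66545c1ea63a2d9d4e6490622a020), (nat_lit 0x54af67e3716b3c73575fc8fbc141cb292934a020),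 (nat_lit 0x855ecec5bacf14947f12d96f62786674ce2a2c20), (nat_lit 0x5498fb363bc5e0737f35d0f9d178a874d24a2c20), (nat_lit 0x855b1cb1fcee94947f12d96f6278e2a2c6674c20), (nat_lit 0x54a2dc3d97b6e0737f35d0f9d17924a2ca874c20), (nat_lit 0x8579d6674d8bfc944b7fc16d7229cb18a9339820), (nat_lit 0xffb17d6edde65549c1f28b98d5d4662a0e249020), (nat_lit 0xffadbe5f19d75549c1f28b98d5d4e2490662a020), (nat_lit 0xffb3abf3b6de2b49ca307b9ac5a8a41892839820), (nat_lit 0x855accc5faef24527b0ada6f647c62a4ce672c20), (nat_lit 0x54a2fc359bb5ea317b30d1f9d37ca4a4d2872c20), (nat_lit 0xffad7e6f1dd664e5d5ea8d18d9c0624a0e629020), (nat_lit 0x855b1eb1facf14527ed2ba77847866a2ce274c20), (nat_lit 0x54a2db3d9bc5e0317fb5e1f59378a8a2d2474c20), (nat_lit 0xffadbd5f1de654e5c1b26522f9d466490e22a020), (nat_lit 0xac1ecec5bccea4547ecada6f827862a2ce674c20), (nat_lit 0x9298fb3637c6ea337fb0d1f99178a4a2d2874c20), (nat_lit 0xf7f17d6ed9e764e9c1aa8d18f5d462490e62a020),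 (nat_lit 0x855eccc5bcee94527ed2ba778478e274c66a2c20), (nat_lit 0x5498fc3637b6e0317fb5e1f593792474ca8a2c20), (nat_lit 0xffb17e6ed9d754e5c1b26522f9d4e22a06649020), (nat_lit 0xac1b1eb1fccea4927f0ab97764786274ce6a2c20), (nat_lit 0x92a2db3d97c6ea717f30e0f5d378a474d28a2c20), (nat_lit 0xf7edbd5f19e76545c1ea63a2d9d4622a0e649020), (nat_lit 0x855f1eb1bccea4527b0ada6f647ce672c62a4c20), (nat_lit 0x5498db3e37c6ea317b30d1f9d37d2872ca4a4c20), (nat_lit 0xffb1bd5ed9e764e5d5ea8d18d9c0e6290624a020), (nat_lit 0xac1acec5facf14547b12ba77627ce272c66a4c20), (nat_lit 0x92a2fb359bc5e0337b35e1f5d17d2472ca8a4c20), (nat_lit 0xf7ed7d6f1de654e9d5f26522d5c0e2290664a020), (nat_lit 0xac1accc5fcee94927ad2d96f847c6672ce2a4c20), (nat_lit 0x92a2fc3597b6e0717bb5d0f9937ca872d24a4c20), (nat_lit 0xf7ed7e6f19d75545d5b28b98f9c066290e24a020), (nat_lit 0x855f1cb1baef24947acab977827c6272ce6a4c20), (nat_lit 0x5498dc3e3bb5ea737bb0e0f5917ca472d28a4c20),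 (nat_lit 0xffb1be5eddd66549d5aa63a2f5c062290e64a020)]
noncomputable def AP_lMr_W : List (List ℕ) := [[],
  [(nat_lit 0)],
  [(nat_lit 1)],
  [(nat_lit 2)],
  [(nat_lit 3)],
  [(nat_lit 4)],
  [(nat_lit 5)],
  [(nat_lit 0), (nat_lit 1)],
  [(nat_lit 0), (nat_lit 2)],
  [(nat_lit 0), (nat_lit 3)],
  [(nat_lit 0), (nat_lit 4)],
  [(nat_lit 0), (nat_lit 5)],
  [(nat_lit 1), (nat_lit 2)],
  [(nat_lit 1), (nat_lit 3)],
  [(nat_lit 1), (nat_lit 4)],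
  [(nat_lit 1), (nat_lit 5)],
  [(nat_lit 2), (nat_lit 3)],
  [(nat_lit 2), (nat_lit 4)],
  [(nat_lit 2), (nat_lit 5)],
  [(nat_lit 3), (nat_lit 4)],
  [(nat_lit 3), (nat_lit 5)],
  [(nat_lit 4), (nat_lit 0)],
  [(nat_lit 4), (nat_lit 1)],
  [(nat_lit 4), (nat_lit 4)],
  [(nat_lit 4), (nat_lit 5)],
  [(nat_lit 5), (nat_lit 2)],
  [(nat_lit 5), (nat_lit 3)],
  [(nat_lit 5), (nat_lit 4)],
  [(nat_lit 0), (nat_lit 1), (nat_lit 2)],
  [(nat_lit 0), (nat_lit 1), (nat_lit 3)],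
  [(nat_lit 0), (nat_lit 1), (nat_lit 4)],
  [(nat_lit 0), (nat_lit 1), (nat_lit 5)],
  [(nat_lit 0), (nat_lit 2), (nat_lit 3)],
  [(nat_lit 0), (nat_lit 3), (nat_lit 4)],
  [(nat_lit 0), (nat_lit 3), (nat_lit 5)],
  [(nat_lit 0), (nat_lit 4), (nat_lit 1)],
  [(nat_lit 0), (nat_lit 4), (nat_lit 4)],
  [(nat_lit 0), (nat_lit 4), (nat_lit 5)],
  [(nat_lit 0), (nat_lit 5), (nat_lit 3)],
  [(nat_lit 0), (nat_lit 5), (nat_lit 4)],
  [(nat_lit 1), (nat_lit 2), (nat_lit 3)],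
  [(nat_lit 1), (nat_lit 2), (nat_lit 4)],
  [(nat_lit 1), (nat_lit 2), (nat_lit 5)],
  [(nat_lit 1), (nat_lit 4), (nat_lit 0)],
  [(nat_lit 1), (nat_lit 4), (nat_lit 4)],
  [(nat_lit 1), (nat_lit 4), (nat_lit 5)],
  [(nat_lit 1), (nat_lit 5), (nat_lit 2)],
  [(nat_lit 1), (nat_lit 5), (nat_lit 4)],
  [(nat_lit 2), (nat_lit 3), (nat_lit 4)],
  [(nat_lit 2), (nat_lit 3), (nat_lit 5)],
  [(nat_lit 2), (nat_lit 4), (nat_lit 1)],
  [(nat_lit 2), (nat_lit 4), (nat_lit 4)],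
  [(nat_lit 2), (nat_lit 4), (nat_lit 5)],
  [(nat_lit 2), (nat_lit 5), (nat_lit 3)],
  [(nat_lit 2), (nat_lit 5), (nat_lit 4)],
  [(nat_lit 3), (nat_lit 4), (nat_lit 0)],
  [(nat_lit 3), (nat_lit 4), (nat_lit 4)],
  [(nat_lit 3), (nat_lit 4), (nat_lit 5)],
  [(nat_lit 3), (nat_lit 5), (nat_lit 2)],
  [(nat_lit 3), (nat_lit 5), (nat_lit 4)],
  [(nat_lit 4), (nat_lit 0), (nat_lit 1)],
  [(nat_lit 4), (nat_lit 0), (nat_lit 4)],
  [(nat_lit 4), (nat_lit 0), (nat_lit 5)],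
  [(nat_lit 4), (nat_lit 1), (nat_lit 4)],
  [(nat_lit 4), (nat_lit 1), (nat_lit 5)],
  [(nat_lit 5), (nat_lit 2), (nat_lit 3)],
  [(nat_lit 5), (nat_lit 2), (nat_lit 4)],
  [(nat_lit 5), (nat_lit 3), (nat_lit 4)],
  [(nat_lit 0), (nat_lit 1), (nat_lit 2), (nat_lit 3)],
  [(nat_lit 0), (nat_lit 1), (nat_lit 4), (nat_lit 4)],
  [(nat_lit 0), (nat_lit 1), (nat_lit 4), (nat_lit 5)],
  [(nat_lit 0), (nat_lit 1), (nat_lit 5), (nat_lit 4)],
  [(nat_lit 0), (nat_lit 3), (nat_lit 4), (nat_lit 4)],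
  [(nat_lit 0), (nat_lit 3), (nat_lit 4), (nat_lit 5)],
  [(nat_lit 0), (nat_lit 3), (nat_lit 5), (nat_lit 4)],
  [(nat_lit 0), (nat_lit 4), (nat_lit 1), (nat_lit 4)],
  [(nat_lit 0), (nat_lit 4), (nat_lit 1), (nat_lit 5)],
  [(nat_lit 0), (nat_lit 5), (nat_lit 3), (nat_lit 4)],
  [(nat_lit 1), (nat_lit 2), (nat_lit 4), (nat_lit 4)],
  [(nat_lit 1), (nat_lit 2), (nat_lit 4), (nat_lit 5)],
  [(nat_lit 1), (nat_lit 2), (nat_lit 5), (nat_lit 4)],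
  [(nat_lit 1), (nat_lit 4), (nat_lit 0), (nat_lit 4)],
  [(nat_lit 1), (nat_lit 4), (nat_lit 0), (nat_lit 5)],
  [(nat_lit 1), (nat_lit 5), (nat_lit 2), (nat_lit 4)],
  [(nat_lit 2), (nat_lit 3), (nat_lit 4), (nat_lit 4)],
  [(nat_lit 2), (nat_lit 3), (nat_lit 4), (nat_lit 5)],
  [(nat_lit 2), (nat_lit 3), (nat_lit 5), (nat_lit 4)],
  [(nat_lit 2), (nat_lit 4), (nat_lit 1), (nat_lit 4)],
  [(nat_lit 2), (nat_lit 4), (nat_lit 1), (nat_lit 5)],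
  [(nat_lit 2), (nat_lit 5), (nat_lit 3), (nat_lit 4)],
  [(nat_lit 3), (nat_lit 4), (nat_lit 0), (nat_lit 4)],
  [(nat_lit 3), (nat_lit 4), (nat_lit 0), (nat_lit 5)],
  [(nat_lit 3), (nat_lit 5), (nat_lit 2), (nat_lit 4)],
  [(nat_lit 4), (nat_lit 0), (nat_lit 1), (nat_lit 4)],
  [(nat_lit 4), (nat_lit 0), (nat_lit 1), (nat_lit 5)],
  [(nat_lit 5), (nat_lit 2), (nat_lit 3), (nat_lit 4)]]
noncomputable def AP_lMr_h (c : ℕ) : ℕ := Nat.mod c (nat_lit 1859)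
theorem AP_lMr_E {G : Type*} [Group G] {R : ℕ → G → Prop} {z u v a b i j k l x y r s t : G}
    (M : Md0 AP_o AP_cs R [z, u, v, a, b, i, j, k, l, x, y, r, s, t]) :
    EnumS R AP_lMr (sp [i, j, k, l, x, r]) :=
  enumS_sp M.μ.1 (M.reps.tms M.μ.1 [(.v (nat_lit 5)), (.v (nat_lit 6)), (.v (nat_lit 7)), (.v (nat_lit 8)), (.v (nat_lit 9)), (.v (nat_lit 11))] (cs' := [(nat_lit 0xf7f3abf3b8dda0e9c9957d1b15a8a83992418820), (nat_lit 0xf7f3adf3b6be2145ca356b9ec9a924398a818820), (nat_lit 0xf7fbabf336de2ae9aa306d1ec5c928198a438820), (nat_lit 0xf7f3cbebb6de2b45a9907b9b19c928388a419820), (nat_lit 0x54b786daec7c7c73575fc8fbc142934a1cb29020), (nat_lit 0x857598f78f637c944b7fc16d722a93399cb18820)]) (by decide +kernel))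
    (Ws := AP_lMr_W) (by decide +kernel) (by decide +kernel)
theorem AP_lMr_c {G : Type*} [Group G] {R : ℕ → G → Prop} {z u v a b i j k l x y r s t : G}
    (M : Md0 AP_o AP_cs R [z, u, v, a, b, i, j, k, l, x, y, r, s, t]) :
    #(sp [i, j, k, l, x, r]) = 96 :=
  (AP_lMr_E M).card M.μ (h := AP_lMr_h) (by decide +kernel)
noncomputable def AP_lMj : List ℕ := [(nat_lit 0xffbbcdeb38bdab49ca307b9ac5a928398a418820), (nat_lit 0xf7f3abf3b8dda0e9c9957d1b15a8a83992418820), (nat_lit 0xf7f3adf3b6be2145ca356b9ec9a924398a818820), (nat_lit 0xf7fbabf336de2ae9aa306d1ec5c928198a438820), (nat_lit 0xf7f3cbebb6de2b45a9907b9b19c928388a419820), (nat_lit 0x54b786daec7c7c73575fc8fbc142934a1cb29020), (nat_lit 0x496f1cb376ee1d040f946d5fa21ff351bcb90820), (nat_lit 0xffbbcbeb36de2ae5c9906d1f19a8a43992818820), (nat_lit 0xffb3cdebb6be2149a9956b9f15c8a81992438820), (nat_lit 0xffbbadf336be20e5aa357d1ac9c8a83892419820),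 (nat_lit 0x92af67e36c6c7e33579ec9fba141d34a28b29020), (nat_lit 0x2a76cec6f6ce29540f4e6c1fc21fd351beb90820), (nat_lit 0xffb3cbebb8dda0e5aa357d1ac9c924198a838820), (nat_lit 0xffbbabf338dda149a9956b9f15c924388a819820), (nat_lit 0x92af66e3717b3e71575ee8f3c3428b4a1d329020), (nat_lit 0x2a76ccc6f8eda9020f8e7d5ba41feb51bd390820), (nat_lit 0xffb3adf3b8bdaae5c9906d1f19a928188a439820), (nat_lit 0x92b767e2f16b3c33435fe9f3c156932a1cb49020), (nat_lit 0x2a6ecec778cd9d541f947c1ba20ff391bcb50820), (nat_lit 0x92af87db716b3c71439fc8fba35693491cb2a020), (nat_lit 0x2a771eb2f8cd9d021f546d5fc40ff350bcb91820), (nat_lit 0x54af86db717b3e73439ee8f3a155d32a28b49020), (nat_lit 0x54b767e2ec6c7e73439ee8f3a1568b491d32a020), (nat_lit 0x855acec5fccea4947acab977827ce6a4c6272c20), (nat_lit 0x38f367e3ba6f0aa33989dcaf115208fcea4f2c20), (nat_lit 0x496f1eb378cd9d520f547c1bc41fcb51bf390820), (nat_lit 0x49771cb2f8eda9041f4e7d5bc20fd391beb50820),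 (nat_lit 0x4976cec6f8cd9d040f946d5fa21fcb90bf351820), (nat_lit 0xa39fabf1b1db07f99707efb365a54682242a9020), (nat_lit 0xf7fbadf338bdab45a9907b9b19c8a41992838820), (nat_lit 0xf7f3cdebb8bdaae9aa306d1ec5c8a43892819820), (nat_lit 0x54b787daf16b3c31579fe9f3a341cb4a29329020), (nat_lit 0xf7fbcbeb38dda145ca356b9ec9a8a81892439820), (nat_lit 0x54b766e2f17b3e31435ec9fbc355d34928b2a020), (nat_lit 0x496eccc778eda9521f8e6c1fa40fd350beb91820), (nat_lit 0x92af86db6c7c7c33435fe9f3c155cb492932a020), (nat_lit 0xac1f1cb1bcee94547b12ba77627c66a4ce272c20), (nat_lit 0x19fb86db3a7f13233a25daaec152a8fce04f2c20), (nat_lit 0x2a6f1cb378eda9540f4e6c1fc21feb90bd351820), (nat_lit 0x751bcde9f1bb0fe996c3eff385a64682142a9020), (nat_lit 0xf7fbcdeb36be20e9c9957d1b15a924188a839820), (nat_lit 0x54af87db6c6c7e31435ec9fbc3568b2a1d349020), (nat_lit 0x49771eb2f6ce29521f8e6c1fa40feb91bd350820), (nat_lit 0x496ecec776ce29041f4e7d5bc20feb50bd391820),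 (nat_lit 0x92b766e2ec7c7c71439fc8fba355cb2a29349020), (nat_lit 0xac1f1eb1bacf14927ad2d96f847ce2a4c6672c20), (nat_lit 0x19fb87db3c6e92a13985bcb7135204fcea8f2c20), (nat_lit 0x2a6eccc776ee1d021f546d5fc40fcb91bf350820), (nat_lit 0x2a6f1eb376ce29020f8e7d5ba41fd390beb51820), (nat_lit 0x751bcbe9ecdc4ff59703cfbb69a54282246a9020), (nat_lit 0x54af66e36c7c7c31579fe9f3a34293291cb4a020), (nat_lit 0x4976ccc6f6ee1d520f547c1bc41ff390bcb51820), (nat_lit 0x92b786daf17b3e33579ec9fba1428b291d34a020), (nat_lit 0xac1b1cb1faef24547ecada6f8278e674c62a2c20), (nat_lit 0x19f386dbbc7e8b235189bab7113a08f4ea4fac20), (nat_lit 0x2a771cb2f6ee1d541f947c1ba20fcb50bf391820), (nat_lit 0x751fcde9acbc47e9a707cffb659546aa24281020), (nat_lit 0x92b787daec6c7e71575ee8f3c341d32928b4a020), (nat_lit 0xac1eccc5baef24927f0ab9776478e6a2c6274c20), (nat_lit 0x19fb66e33c7e8aa15229dcaec33a08faea4f4c20), (nat_lit 0x751badf1ecbc47f5a6c7efb389954681242aa020),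 (nat_lit 0x54af67e3716b3c73575fc8fbc141cb292934a020), (nat_lit 0x855ecec5bacf14947f12d96f62786674ce2a2c20), (nat_lit 0x38fb67e33c6e92a35225bcb6c13aa8f4e04fac20), (nat_lit 0x855b1cb1fcee94947f12d96f6278e2a2c6674c20), (nat_lit 0x38f386dbba7f12a35225bcb6c13a04faea8f4c20), (nat_lit 0x38fb86db3c7e8aa33989dcaf1152a4f2e08fcc20), (nat_lit 0x38fb87db3a6f0b213a29bab6c35208f2ea4fcc20), (nat_lit 0xa39fadf1acbc47e596c7cffb89a64282146a9020), (nat_lit 0xa39babf1ecdc4ff9a6c3cfbb859646aa14281020), (nat_lit 0xa39bcde9ecbc47f99707efb365a642a914682020), (nat_lit 0xffb3abf3b6de2b49ca307b9ac5a8a41892839820), (nat_lit 0xa39bcbe9f1db07e596c7cffb89a546a924282020), (nat_lit 0x855accc5faef24527b0ada6f647c62a4ce672c20), (nat_lit 0x38f366e3bc7e8b213a29bab6c352a4fce08f2c20), (nat_lit 0x855b1eb1facf14527ed2ba77847866a2ce274c20), (nat_lit 0x38f387dbbc6e93215185daaf133aa8fae04f4c20), (nat_lit 0xa39fcbe9acdc4fe5a703eff369964681142aa020),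 (nat_lit 0xac1ecec5bccea4547ecada6f827862a2ce674c20), (nat_lit 0x19fb67e33a6f0b235189bab7113aa4fae08f4c20), (nat_lit 0x19f367e3bc6e93233a25daaec15204f2ea8fcc20), (nat_lit 0x19f366e3ba7f12a13985bcb71352a8f2e04fcc20), (nat_lit 0x751fabf1acdc4fe996c3eff385a542a924682020), (nat_lit 0x751fadf1b1bb0ff59703cfbb69a646a914282020), (nat_lit 0x855eccc5bcee94527ed2ba778478e274c66a2c20), (nat_lit 0x38fb66e33a7f13215185daaf133a04f4ea8fac20), (nat_lit 0xa39badf1f1bb0fe5a703eff3699542aa24681020), (nat_lit 0xa39fcde9b1bb0ff9a6c3cfbb85954281246aa020), (nat_lit 0xac1b1eb1fccea4927f0ab97764786274ce6a2c20), (nat_lit 0x19f387dbba6f0aa15229dcaec33aa4f4e08fac20), (nat_lit 0x751fcbe9b1db07f5a6c7efb3899642aa14681020), (nat_lit 0x855f1eb1bccea4527b0ada6f647ce672c62a4c20), (nat_lit 0xac1acec5facf14547b12ba77627ce272c66a4c20), (nat_lit 0x751babf1f1db07e9a707cffb65964281146aa020), (nat_lit 0xac1accc5fcee94927ad2d96f847c6672ce2a4c20),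 (nat_lit 0x855f1cb1baef24947acab977827c6272ce6a4c20)]
noncomputable def AP_lMj_W : List (List ℕ) := [[],
  [(nat_lit 0)],
  [(nat_lit 1)],
  [(nat_lit 2)],
  [(nat_lit 3)],
  [(nat_lit 4)],
  [(nat_lit 5)],
  [(nat_lit 0), (nat_lit 1)],
  [(nat_lit 0), (nat_lit 2)],
  [(nat_lit 0), (nat_lit 3)],
  [(nat_lit 0), (nat_lit 4)],
  [(nat_lit 0), (nat_lit 5)],
  [(nat_lit 1), (nat_lit 2)],
  [(nat_lit 1), (nat_lit 3)],
  [(nat_lit 1), (nat_lit 4)],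
  [(nat_lit 1), (nat_lit 5)],
  [(nat_lit 2), (nat_lit 3)],
  [(nat_lit 2), (nat_lit 4)],
  [(nat_lit 2), (nat_lit 5)],
  [(nat_lit 3), (nat_lit 4)],
  [(nat_lit 3), (nat_lit 5)],
  [(nat_lit 4), (nat_lit 0)],
  [(nat_lit 4), (nat_lit 1)],
  [(nat_lit 4), (nat_lit 4)],
  [(nat_lit 4), (nat_lit 5)],
  [(nat_lit 5), (nat_lit 1)],
  [(nat_lit 5), (nat_lit 2)],
  [(nat_lit 5), (nat_lit 3)],
  [(nat_lit 5), (nat_lit 4)],
  [(nat_lit 0), (nat_lit 1), (nat_lit 2)],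
  [(nat_lit 0), (nat_lit 1), (nat_lit 3)],
  [(nat_lit 0), (nat_lit 1), (nat_lit 4)],
  [(nat_lit 0), (nat_lit 2), (nat_lit 3)],
  [(nat_lit 0), (nat_lit 3), (nat_lit 4)],
  [(nat_lit 0), (nat_lit 3), (nat_lit 5)],
  [(nat_lit 0), (nat_lit 4), (nat_lit 1)],
  [(nat_lit 0), (nat_lit 4), (nat_lit 4)],
  [(nat_lit 0), (nat_lit 4), (nat_lit 5)],
  [(nat_lit 0), (nat_lit 5), (nat_lit 3)],
  [(nat_lit 0), (nat_lit 5), (nat_lit 4)],
  [(nat_lit 1), (nat_lit 2), (nat_lit 3)],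
  [(nat_lit 1), (nat_lit 2), (nat_lit 4)],
  [(nat_lit 1), (nat_lit 2), (nat_lit 5)],
  [(nat_lit 1), (nat_lit 3), (nat_lit 5)],
  [(nat_lit 1), (nat_lit 4), (nat_lit 0)],
  [(nat_lit 1), (nat_lit 4), (nat_lit 4)],
  [(nat_lit 1), (nat_lit 4), (nat_lit 5)],
  [(nat_lit 1), (nat_lit 5), (nat_lit 2)],
  [(nat_lit 1), (nat_lit 5), (nat_lit 3)],
  [(nat_lit 1), (nat_lit 5), (nat_lit 4)],
  [(nat_lit 2), (nat_lit 3), (nat_lit 4)],
  [(nat_lit 2), (nat_lit 3), (nat_lit 5)],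
  [(nat_lit 2), (nat_lit 4), (nat_lit 1)],
  [(nat_lit 2), (nat_lit 4), (nat_lit 4)],
  [(nat_lit 2), (nat_lit 4), (nat_lit 5)],
  [(nat_lit 2), (nat_lit 5), (nat_lit 3)],
  [(nat_lit 2), (nat_lit 5), (nat_lit 4)],
  [(nat_lit 3), (nat_lit 4), (nat_lit 0)],
  [(nat_lit 3), (nat_lit 4), (nat_lit 4)],
  [(nat_lit 3), (nat_lit 4), (nat_lit 5)],
  [(nat_lit 3), (nat_lit 5), (nat_lit 4)],
  [(nat_lit 4), (nat_lit 0), (nat_lit 1)],
  [(nat_lit 4), (nat_lit 0), (nat_lit 4)],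
  [(nat_lit 4), (nat_lit 0), (nat_lit 5)],
  [(nat_lit 4), (nat_lit 1), (nat_lit 4)],
  [(nat_lit 4), (nat_lit 1), (nat_lit 5)],
  [(nat_lit 4), (nat_lit 5), (nat_lit 1)],
  [(nat_lit 4), (nat_lit 5), (nat_lit 3)],
  [(nat_lit 5), (nat_lit 1), (nat_lit 4)],
  [(nat_lit 5), (nat_lit 2), (nat_lit 4)],
  [(nat_lit 5), (nat_lit 3), (nat_lit 4)],
  [(nat_lit 5), (nat_lit 3), (nat_lit 5)],
  [(nat_lit 5), (nat_lit 4), (nat_lit 1)],
  [(nat_lit 0), (nat_lit 1), (nat_lit 4), (nat_lit 4)],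
  [(nat_lit 0), (nat_lit 1), (nat_lit 4), (nat_lit 5)],
  [(nat_lit 0), (nat_lit 3), (nat_lit 4), (nat_lit 4)],
  [(nat_lit 0), (nat_lit 3), (nat_lit 4), (nat_lit 5)],
  [(nat_lit 0), (nat_lit 3), (nat_lit 5), (nat_lit 4)],
  [(nat_lit 0), (nat_lit 4), (nat_lit 1), (nat_lit 4)],
  [(nat_lit 0), (nat_lit 4), (nat_lit 1), (nat_lit 5)],
  [(nat_lit 0), (nat_lit 4), (nat_lit 5), (nat_lit 1)],
  [(nat_lit 0), (nat_lit 4), (nat_lit 5), (nat_lit 3)],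
  [(nat_lit 0), (nat_lit 5), (nat_lit 3), (nat_lit 4)],
  [(nat_lit 0), (nat_lit 5), (nat_lit 4), (nat_lit 1)],
  [(nat_lit 1), (nat_lit 2), (nat_lit 4), (nat_lit 4)],
  [(nat_lit 1), (nat_lit 2), (nat_lit 4), (nat_lit 5)],
  [(nat_lit 1), (nat_lit 2), (nat_lit 5), (nat_lit 4)],
  [(nat_lit 1), (nat_lit 3), (nat_lit 5), (nat_lit 4)],
  [(nat_lit 1), (nat_lit 4), (nat_lit 0), (nat_lit 4)],
  [(nat_lit 1), (nat_lit 4), (nat_lit 0), (nat_lit 5)],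
  [(nat_lit 1), (nat_lit 5), (nat_lit 2), (nat_lit 4)],
  [(nat_lit 2), (nat_lit 3), (nat_lit 4), (nat_lit 4)],
  [(nat_lit 2), (nat_lit 4), (nat_lit 1), (nat_lit 4)],
  [(nat_lit 2), (nat_lit 5), (nat_lit 3), (nat_lit 4)],
  [(nat_lit 3), (nat_lit 4), (nat_lit 0), (nat_lit 4)],
  [(nat_lit 4), (nat_lit 0), (nat_lit 1), (nat_lit 4)]]
noncomputable def AP_lMj_h (c : ℕ) : ℕ := Nat.mod c (nat_lit 1485)
theorem AP_lMj_E {G : Type*} [Group G] {R : ℕ → G → Prop} {z u v a b i j k l x y r s t : G}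
    (M : Md0 AP_o AP_cs R [z, u, v, a, b, i, j, k, l, x, y, r, s, t]) :
    EnumS R AP_lMj (sp [i, j, k, l, x, r * s]) :=
  enumS_sp M.μ.1 (M.reps.tms M.μ.1 [(.v (nat_lit 5)), (.v (nat_lit 6)), (.v (nat_lit 7)), (.v (nat_lit 8)), (.v (nat_lit 9)), (.mul (.v (nat_lit 11)) (.v (nat_lit 12)))] (cs' := [(nat_lit 0xf7f3abf3b8dda0e9c9957d1b15a8a83992418820), (nat_lit 0xf7f3adf3b6be2145ca356b9ec9a924398a818820), (nat_lit 0xf7fbabf336de2ae9aa306d1ec5c928198a438820), (nat_lit 0xf7f3cbebb6de2b45a9907b9b19c928388a419820), (nat_lit 0x54b786daec7c7c73575fc8fbc142934a1cb29020), (nat_lit 0x496f1cb376ee1d040f946d5fa21ff351bcb90820)]) (by decide +kernel))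
    (Ws := AP_lMj_W) (by decide +kernel) (by decide +kernel)
theorem AP_lMj_c {G : Type*} [Group G] {R : ℕ → G → Prop} {z u v a b i j k l x y r s t : G}
    (M : Md0 AP_o AP_cs R [z, u, v, a, b, i, j, k, l, x, y, r, s, t]) :
    #(sp [i, j, k, l, x, r * s]) = 96 :=
  (AP_lMj_E M).card M.μ (h := AP_lMj_h) (by decide +kernel)
noncomputable def AP_lMc : List ℕ := [(nat_lit 0xffbbcdeb38bdab49ca307b9ac5a928398a418820), (nat_lit 0xf7f3abf3b8dda0e9c9957d1b15a8a83992418820), (nat_lit 0xf7f3adf3b6be2145ca356b9ec9a924398a818820), (nat_lit 0xf7fbabf336de2ae9aa306d1ec5c928198a438820), (nat_lit 0xf7f3cbebb6de2b45a9907b9b19c928388a419820), (nat_lit 0x30bacdc73cbe96a392d37c9b81a3f4827cea9420), (nat_lit 0x496f1cb376ee1d040f946d5fa21ff351bcb90820), (nat_lit 0xffbbcbeb36de2ae5c9906d1f19a8a43992818820), (nat_lit 0xffb3cdebb6be2149a9956b9f15c8a81992438820), (nat_lit 0xffbbadf336be20e5aa357d1ac9c8a83892419820),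 (nat_lit 0x11b31bb3bcdea723930b7a9b61a3d4827eea9420), (nat_lit 0x2a76cec6f6ce29540f4e6c1fc21fd351beb90820), (nat_lit 0xffb3cbebb8dda0e5aa357d1ac9c924198a838820), (nat_lit 0xffbbabf338dda149a9956b9f15c924388a819820), (nat_lit 0x11b31db3babf26a192cb6c9f83a3ee827d4a9420), (nat_lit 0x2a76ccc6f8eda9020f8e7d5ba41feb51bd390820), (nat_lit 0xffb3adf3b8bdaae5c9906d1f19a928188a439820), (nat_lit 0x11bb1bb33adf1723a2d36a9f8193f4aa7ce81420), (nat_lit 0x2a6ecec778cd9d541f947c1ba20ff391bcb50820), (nat_lit 0x11b2cbc7badf16a1a3137c9b6393f4817ceaa420), (nat_lit 0x2a771eb2f8cd9d021f546d5fc40ff350bcb91820), (nat_lit 0x30b31bb3badf16a392d37c9b81a3cea97f482420), (nat_lit 0x30b2cdc7babf26a3a30b6c9f6193d4aa7ee81420), (nat_lit 0x30bacbc73adf172193136a9f63a3ce827f4a9420), (nat_lit 0x497b8ddb2cbc46883b47791bcad0ca9fc525f820), (nat_lit 0x30afacf371eb08752f0868df694d30a7cb577820), (nat_lit 0x496f1eb378cd9d520f547c1bc41fcb51bf390820),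 (nat_lit 0x49771cb2f8eda9041f4e7d5bc20fd391beb50820), (nat_lit 0x4976cec6f8cd9d040f946d5fa21fcb90bf351820), (nat_lit 0xffaf6ce37aef253a558a6adf1740c74244321420), (nat_lit 0xf7fbadf338bdab45a9907b9b19c8a41992838820), (nat_lit 0xf7f3cdebb8bdaae9aa306d1ec5c8a43892819820), (nat_lit 0xf7fbcbeb38dda145ca356b9ec9a8a81892439820), (nat_lit 0x30bb1db33abf2721a2cb7a9b8393d4817eeaa420), (nat_lit 0x496eccc778eda9521f8e6c1fa40fd350beb91820), (nat_lit 0x11bacdc73abf2723930b7a9b61a3eea97d482420), (nat_lit 0x2a736be3acdc4e483b837a1baad04a9fcd25f820), (nat_lit 0x11b7ceeaf1cb10352ec469df894cb0a7d3577820), (nat_lit 0x2a6f1cb378eda9540f4e6c1fc21feb90bd351820), (nat_lit 0xf7f78edafacf14ba56326cdec74047424c321420), (nat_lit 0xf7fbcdeb36be20e9c9957d1b15a924188a839820), (nat_lit 0x30b2cbc7bcdea721a2cb7a9b8393eeaa7d481420), (nat_lit 0x49771eb2f6ce29521f8e6c1fa40feb91bd350820), (nat_lit 0x30bb1bb33cdea6a3a30b6c9f6193ee817d4aa420),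 (nat_lit 0x496ecec776ce29041f4e7d5bc20feb50bd391820), (nat_lit 0x11bacbc73cdea6a192cb6c9f83a3d4a97ee82420), (nat_lit 0x11bb1db33cbe96a1a3137c9b6393ceaa7f481420), (nat_lit 0x2a736de3b1bb0e8abb43691fc850d29fc4a5f820), (nat_lit 0x11b7cceaecec50792f0478db654d35a7cb077820), (nat_lit 0x2a6eccc776ee1d021f546d5fc40fcb91bf350820), (nat_lit 0x2a6f1eb376ce29020f8e7d5ba41fd390beb51820), (nat_lit 0xf7f78cdafcee953755927adb1a40c34244721420), (nat_lit 0x30b31db3bcbe972193136a9f63a3f4a97ce82420), (nat_lit 0x4976ccc6f6ee1d520f547c1bc41ff390bcb51820), (nat_lit 0x11b2cdc7bcbe9723a2d36a9f8193ce817f4aa420), (nat_lit 0x2a7b6be331db064853476a1fcab8ca5fc529f820), (nat_lit 0x11afceeb6ccc48354f0879db692d3077cb5a7820), (nat_lit 0x2a771cb2f6ee1d541f947c1ba20fcb50bf391820), (nat_lit 0xf7ef8edb7ccea4ba418a7cdb1754c72244341420), (nat_lit 0x2a738bdbb1db068ad387791ba838ca9f8525fc20), (nat_lit 0x11b7aef2eccc48794ec868df852d30a78b577c20),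 (nat_lit 0xf7f76ee2fccea537422a6adeca54c74144322420), (nat_lit 0x49736be3b1db06883b47791bcad0525f8ca9fc20), (nat_lit 0x30b7ceeaeccc48752f0868df694cb577930a7c20), (nat_lit 0x49738ddbb1bb0e885383691faab84a5fcd29f820), (nat_lit 0x30b7acf2ecec50754ec478db892cb077d35a7820), (nat_lit 0x497b8bdb31db064abb876a1fa850529fcca5f820), (nat_lit 0x30afaef36ccc48392ec879db854cb5a7d3077820), (nat_lit 0x49736de3acbc464abb876a1fa850ca5f8529fc20), (nat_lit 0x497b6be32cdc4e885383691faab8d29f84a5fc20), (nat_lit 0x30afceeb71cb10754ec478db892d35a78b077c20), (nat_lit 0x30b7cceaf1eb08392ec879db854d30778b5a7c20), (nat_lit 0xffaf6ee37ccea4b7562a7cdaca4043424c721420), (nat_lit 0xffb76ce2fcee953a42327adac75447224c341420), (nat_lit 0xffb78edafccea53a558a6adf174043214c742420), (nat_lit 0xffb3abf3b6de2b49ca307b9ac5a8a41892839820), (nat_lit 0x497b6de331bb0e4ad3437a1bc8384a9f8d25fc20), (nat_lit 0x30afcceb6cec50394f0469df652cb0a793577c20),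 (nat_lit 0xffaf8cdb7cee94b741926cdf1a5447414c322420), (nat_lit 0x2a7b8ddb31bb0e483b837a1baad0d25f84a9fc20), (nat_lit 0x11afacf36cec50352ec469df894d35778b0a7c20), (nat_lit 0x2a7b8bdb2cdc4e8abb43691fc8504a5f8d29fc20), (nat_lit 0x2a738ddbacbc464853476a1fcab8529f8ca5fc20), (nat_lit 0x11b7acf2f1eb08354f0879db692cb5a793077c20), (nat_lit 0x11afaef371cb10792f0478db654cb077935a7c20), (nat_lit 0xf7ef6ce37cee94ba56326cdec740c32144742420), (nat_lit 0x49738bdbacdc4e4ad3437a1bc838d25fc4a9f820), (nat_lit 0x30b7aef2f1cb10394f0469df652d3577cb0a7820), (nat_lit 0xffb76ee2facf14b741926cdf1a54c32244741420), (nat_lit 0xffaf8edb7acf153a42327adac754c34144722420), (nat_lit 0x2a7b6de32cbc468ad387791ba838525fcca9f820), (nat_lit 0x11afcceb71eb08794ec868df852cb577d30a7820), (nat_lit 0xf7ef8cdb7aef2537422a6adeca5443224c741420), (nat_lit 0xf7ef6ee37acf153755927adb1a4047214c342420), (nat_lit 0xffb78cdafaef24b7562a7cdaca40c72144342420),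 (nat_lit 0xf7f76ce2faef24ba418a7cdb175443414c722420)]
noncomputable def AP_lMc_W : List (List ℕ) := [[],
  [(nat_lit 0)],
  [(nat_lit 1)],
  [(nat_lit 2)],
  [(nat_lit 3)],
  [(nat_lit 4)],
  [(nat_lit 5)],
  [(nat_lit 0), (nat_lit 1)],
  [(nat_lit 0), (nat_lit 2)],
  [(nat_lit 0), (nat_lit 3)],
  [(nat_lit 0), (nat_lit 4)],
  [(nat_lit 0), (nat_lit 5)],
  [(nat_lit 1), (nat_lit 2)],
  [(nat_lit 1), (nat_lit 3)],
  [(nat_lit 1), (nat_lit 4)],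
  [(nat_lit 1), (nat_lit 5)],
  [(nat_lit 2), (nat_lit 3)],
  [(nat_lit 2), (nat_lit 4)],
  [(nat_lit 2), (nat_lit 5)],
  [(nat_lit 3), (nat_lit 4)],
  [(nat_lit 3), (nat_lit 5)],
  [(nat_lit 4), (nat_lit 0)],
  [(nat_lit 4), (nat_lit 1)],
  [(nat_lit 4), (nat_lit 2)],
  [(nat_lit 4), (nat_lit 4)],
  [(nat_lit 4), (nat_lit 5)],
  [(nat_lit 5), (nat_lit 1)],
  [(nat_lit 5), (nat_lit 2)],
  [(nat_lit 5), (nat_lit 3)],
  [(nat_lit 5), (nat_lit 4)],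
  [(nat_lit 0), (nat_lit 1), (nat_lit 2)],
  [(nat_lit 0), (nat_lit 1), (nat_lit 3)],
  [(nat_lit 0), (nat_lit 2), (nat_lit 3)],
  [(nat_lit 0), (nat_lit 3), (nat_lit 4)],
  [(nat_lit 0), (nat_lit 3), (nat_lit 5)],
  [(nat_lit 0), (nat_lit 4), (nat_lit 0)],
  [(nat_lit 0), (nat_lit 4), (nat_lit 4)],
  [(nat_lit 0), (nat_lit 4), (nat_lit 5)],
  [(nat_lit 0), (nat_lit 5), (nat_lit 3)],
  [(nat_lit 0), (nat_lit 5), (nat_lit 4)],
  [(nat_lit 1), (nat_lit 2), (nat_lit 3)],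
  [(nat_lit 1), (nat_lit 2), (nat_lit 4)],
  [(nat_lit 1), (nat_lit 2), (nat_lit 5)],
  [(nat_lit 1), (nat_lit 3), (nat_lit 4)],
  [(nat_lit 1), (nat_lit 3), (nat_lit 5)],
  [(nat_lit 1), (nat_lit 4), (nat_lit 0)],
  [(nat_lit 1), (nat_lit 4), (nat_lit 1)],
  [(nat_lit 1), (nat_lit 4), (nat_lit 4)],
  [(nat_lit 1), (nat_lit 4), (nat_lit 5)],
  [(nat_lit 1), (nat_lit 5), (nat_lit 2)],
  [(nat_lit 1), (nat_lit 5), (nat_lit 3)],
  [(nat_lit 1), (nat_lit 5), (nat_lit 4)],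
  [(nat_lit 2), (nat_lit 3), (nat_lit 4)],
  [(nat_lit 2), (nat_lit 3), (nat_lit 5)],
  [(nat_lit 2), (nat_lit 4), (nat_lit 0)],
  [(nat_lit 2), (nat_lit 4), (nat_lit 4)],
  [(nat_lit 2), (nat_lit 4), (nat_lit 5)],
  [(nat_lit 2), (nat_lit 5), (nat_lit 3)],
  [(nat_lit 2), (nat_lit 5), (nat_lit 4)],
  [(nat_lit 3), (nat_lit 4), (nat_lit 4)],
  [(nat_lit 3), (nat_lit 4), (nat_lit 5)],
  [(nat_lit 3), (nat_lit 5), (nat_lit 4)],
  [(nat_lit 4), (nat_lit 0), (nat_lit 4)],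
  [(nat_lit 4), (nat_lit 0), (nat_lit 5)],
  [(nat_lit 4), (nat_lit 1), (nat_lit 4)],
  [(nat_lit 4), (nat_lit 1), (nat_lit 5)],
  [(nat_lit 4), (nat_lit 2), (nat_lit 4)],
  [(nat_lit 4), (nat_lit 2), (nat_lit 5)],
  [(nat_lit 4), (nat_lit 4), (nat_lit 1)],
  [(nat_lit 4), (nat_lit 4), (nat_lit 2)],
  [(nat_lit 4), (nat_lit 5), (nat_lit 1)],
  [(nat_lit 4), (nat_lit 5), (nat_lit 2)],
  [(nat_lit 5), (nat_lit 1), (nat_lit 4)],
  [(nat_lit 5), (nat_lit 2), (nat_lit 4)],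
  [(nat_lit 5), (nat_lit 3), (nat_lit 4)],
  [(nat_lit 5), (nat_lit 3), (nat_lit 5)],
  [(nat_lit 0), (nat_lit 3), (nat_lit 4), (nat_lit 4)],
  [(nat_lit 0), (nat_lit 3), (nat_lit 4), (nat_lit 5)],
  [(nat_lit 0), (nat_lit 3), (nat_lit 5), (nat_lit 4)],
  [(nat_lit 0), (nat_lit 4), (nat_lit 0), (nat_lit 4)],
  [(nat_lit 0), (nat_lit 4), (nat_lit 0), (nat_lit 5)],
  [(nat_lit 0), (nat_lit 4), (nat_lit 4), (nat_lit 1)],
  [(nat_lit 0), (nat_lit 4), (nat_lit 4), (nat_lit 2)],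
  [(nat_lit 0), (nat_lit 4), (nat_lit 5), (nat_lit 1)],
  [(nat_lit 0), (nat_lit 4), (nat_lit 5), (nat_lit 2)],
  [(nat_lit 0), (nat_lit 5), (nat_lit 3), (nat_lit 4)],
  [(nat_lit 1), (nat_lit 2), (nat_lit 4), (nat_lit 4)],
  [(nat_lit 1), (nat_lit 2), (nat_lit 4), (nat_lit 5)],
  [(nat_lit 1), (nat_lit 2), (nat_lit 5), (nat_lit 4)],
  [(nat_lit 1), (nat_lit 3), (nat_lit 5), (nat_lit 4)],
  [(nat_lit 1), (nat_lit 4), (nat_lit 1), (nat_lit 4)],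
  [(nat_lit 1), (nat_lit 4), (nat_lit 1), (nat_lit 5)],
  [(nat_lit 1), (nat_lit 5), (nat_lit 2), (nat_lit 4)],
  [(nat_lit 1), (nat_lit 5), (nat_lit 3), (nat_lit 4)],
  [(nat_lit 2), (nat_lit 3), (nat_lit 5), (nat_lit 4)],
  [(nat_lit 2), (nat_lit 5), (nat_lit 3), (nat_lit 4)]]
noncomputable def AP_lMc_h (c : ℕ) : ℕ := Nat.mod c (nat_lit 2859)
theorem AP_lMc_E {G : Type*} [Group G] {R : ℕ → G → Prop} {z u v a b i j k l x y r s t : G}
    (M : Md0 AP_o AP_cs R [z, u, v, a, b, i, j, k, l, x, y, r, s, t]) :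
    EnumS R AP_lMc (sp [i, j, k, l, x * y, r * s]) :=
  enumS_sp M.μ.1 (M.reps.tms M.μ.1 [(.v (nat_lit 5)), (.v (nat_lit 6)), (.v (nat_lit 7)), (.v (nat_lit 8)), (.mul (.v (nat_lit 9)) (.v (nat_lit 10))), (.mul (.v (nat_lit 11)) (.v (nat_lit 12)))] (cs' := [(nat_lit 0xf7f3abf3b8dda0e9c9957d1b15a8a83992418820), (nat_lit 0xf7f3adf3b6be2145ca356b9ec9a924398a818820), (nat_lit 0xf7fbabf336de2ae9aa306d1ec5c928198a438820), (nat_lit 0xf7f3cbebb6de2b45a9907b9b19c928388a419820), (nat_lit 0x30bacdc73cbe96a392d37c9b81a3f4827cea9420), (nat_lit 0x496f1cb376ee1d040f946d5fa21ff351bcb90820)]) (by decide +kernel))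
    (Ws := AP_lMc_W) (by decide +kernel) (by decide +kernel)
theorem AP_lMc_c {G : Type*} [Group G] {R : ℕ → G → Prop} {z u v a b i j k l x y r s t : G}
    (M : Md0 AP_o AP_cs R [z, u, v, a, b, i, j, k, l, x, y, r, s, t]) :
    #(sp [i, j, k, l, x * y, r * s]) = 96 :=
  (AP_lMc_E M).card M.μ (h := AP_lMc_h) (by decide +kernel)
noncomputable def AP_lK2 : List ℕ := [(nat_lit 0xffbbcdeb38bdab49ca307b9ac5a928398a418820), (nat_lit 0xf7f3abf3b8dda0e9c9957d1b15a8a83992418820), (nat_lit 0xf7f3cbebb6de2b45a9907b9b19c928388a419820), (nat_lit 0xffb3cbebb8dda0e5aa357d1ac9c924198a838820), (nat_lit 0x30bacdc73cbe96a392d37c9b81a3f4827cea9420), (nat_lit 0x496f1cb376ee1d040f946d5fa21ff351bcb90820), (nat_lit 0xffbbadf336be20e5aa357d1ac9c8a83892419820), (nat_lit 0xf7fbadf338bdab45a9907b9b19c8a41992838820), (nat_lit 0x11b31bb3bcdea723930b7a9b61a3d4827eea9420), (nat_lit 0x2a76cec6f6ce29540f4e6c1fc21fd351beb90820),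 (nat_lit 0xf7fbcdeb36be20e9c9957d1b15a924188a839820), (nat_lit 0x11b2cbc7badf16a1a3137c9b6393f4817ceaa420), (nat_lit 0x2a771eb2f8cd9d021f546d5fc40ff350bcb91820), (nat_lit 0x30b2cbc7bcdea721a2cb7a9b8393eeaa7d481420), (nat_lit 0x49771eb2f6ce29521f8e6c1fa40feb91bd350820), (nat_lit 0x30b31bb3badf16a392d37c9b81a3cea97f482420), (nat_lit 0x497b8ddb2cbc46883b47791bcad0ca9fc525f820), (nat_lit 0x30afacf371eb08752f0868df694d30a7cb577820), (nat_lit 0x4976cec6f8cd9d040f946d5fa21fcb90bf351820), (nat_lit 0xffaf6ce37aef253a558a6adf1740c74244321420), (nat_lit 0xffb3abf3b6de2b49ca307b9ac5a8a41892839820), (nat_lit 0x30bb1db33abf2721a2cb7a9b8393d4817eeaa420), (nat_lit 0x496eccc778eda9521f8e6c1fa40fd350beb91820), (nat_lit 0x11bb1db33cbe96a1a3137c9b6393ceaa7f481420), (nat_lit 0x2a6eccc776ee1d021f546d5fc40fcb91bf350820), (nat_lit 0x11bacdc73abf2723930b7a9b61a3eea97d482420), (nat_lit 0x2a736be3acdc4e483b837a1baad04a9fcd25f820),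 (nat_lit 0x11b7ceeaf1cb10352ec469df894cb0a7d3577820), (nat_lit 0x2a6f1cb378eda9540f4e6c1fc21feb90bd351820), (nat_lit 0xf7f78edafacf14ba56326cdec74047424c321420), (nat_lit 0x2a738bdbb1db068ad387791ba838ca9f8525fc20), (nat_lit 0x11b7aef2eccc48794ec868df852d30a78b577c20), (nat_lit 0xf7f76ee2fccea537422a6adeca54c74144322420), (nat_lit 0x49738bdbacdc4e4ad3437a1bc838d25fc4a9f820), (nat_lit 0x30b7aef2f1cb10394f0469df652d3577cb0a7820), (nat_lit 0xffb76ee2facf14b741926cdf1a54c32244741420), (nat_lit 0x49736be3b1db06883b47791bcad0525f8ca9fc20), (nat_lit 0x30b7ceeaeccc48752f0868df694cb577930a7c20), (nat_lit 0xffb78edafccea53a558a6adf174043214c742420), (nat_lit 0x497b6de331bb0e4ad3437a1bc8384a9f8d25fc20), (nat_lit 0x30afcceb6cec50394f0469df652cb0a793577c20), (nat_lit 0xffaf8cdb7cee94b741926cdf1a5447414c322420), (nat_lit 0x2a7b6de32cbc468ad387791ba838525fcca9f820), (nat_lit 0x11afcceb71eb08794ec868df852cb577d30a7820),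 (nat_lit 0xf7ef8cdb7aef2537422a6adeca5443224c741420), (nat_lit 0x2a7b8ddb31bb0e483b837a1baad0d25f84a9fc20), (nat_lit 0x11afacf36cec50352ec469df894d35778b0a7c20), (nat_lit 0xf7ef6ce37cee94ba56326cdec740c32144742420)]
noncomputable def AP_lK2_W : List (List ℕ) := [[],
  [(nat_lit 0)],
  [(nat_lit 1)],
  [(nat_lit 2)],
  [(nat_lit 3)],
  [(nat_lit 4)],
  [(nat_lit 0), (nat_lit 1)],
  [(nat_lit 0), (nat_lit 2)],
  [(nat_lit 0), (nat_lit 3)],
  [(nat_lit 0), (nat_lit 4)],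
  [(nat_lit 1), (nat_lit 2)],
  [(nat_lit 1), (nat_lit 3)],
  [(nat_lit 1), (nat_lit 4)],
  [(nat_lit 2), (nat_lit 3)],
  [(nat_lit 2), (nat_lit 4)],
  [(nat_lit 3), (nat_lit 0)],
  [(nat_lit 3), (nat_lit 3)],
  [(nat_lit 3), (nat_lit 4)],
  [(nat_lit 4), (nat_lit 1)],
  [(nat_lit 4), (nat_lit 3)],
  [(nat_lit 0), (nat_lit 1), (nat_lit 2)],
  [(nat_lit 0), (nat_lit 1), (nat_lit 3)],
  [(nat_lit 0), (nat_lit 1), (nat_lit 4)],
  [(nat_lit 0), (nat_lit 2), (nat_lit 3)],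
  [(nat_lit 0), (nat_lit 2), (nat_lit 4)],
  [(nat_lit 0), (nat_lit 3), (nat_lit 0)],
  [(nat_lit 0), (nat_lit 3), (nat_lit 3)],
  [(nat_lit 0), (nat_lit 3), (nat_lit 4)],
  [(nat_lit 0), (nat_lit 4), (nat_lit 1)],
  [(nat_lit 0), (nat_lit 4), (nat_lit 3)],
  [(nat_lit 1), (nat_lit 3), (nat_lit 3)],
  [(nat_lit 1), (nat_lit 3), (nat_lit 4)],
  [(nat_lit 1), (nat_lit 4), (nat_lit 3)],
  [(nat_lit 2), (nat_lit 3), (nat_lit 3)],
  [(nat_lit 2), (nat_lit 3), (nat_lit 4)],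
  [(nat_lit 2), (nat_lit 4), (nat_lit 3)],
  [(nat_lit 3), (nat_lit 0), (nat_lit 3)],
  [(nat_lit 3), (nat_lit 0), (nat_lit 4)],
  [(nat_lit 4), (nat_lit 1), (nat_lit 3)],
  [(nat_lit 0), (nat_lit 1), (nat_lit 3), (nat_lit 3)],
  [(nat_lit 0), (nat_lit 1), (nat_lit 3), (nat_lit 4)],
  [(nat_lit 0), (nat_lit 1), (nat_lit 4), (nat_lit 3)],
  [(nat_lit 0), (nat_lit 2), (nat_lit 3), (nat_lit 3)],
  [(nat_lit 0), (nat_lit 2), (nat_lit 3), (nat_lit 4)],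
  [(nat_lit 0), (nat_lit 2), (nat_lit 4), (nat_lit 3)],
  [(nat_lit 0), (nat_lit 3), (nat_lit 0), (nat_lit 3)],
  [(nat_lit 0), (nat_lit 3), (nat_lit 0), (nat_lit 4)],
  [(nat_lit 0), (nat_lit 4), (nat_lit 1), (nat_lit 3)]]
noncomputable def AP_lK2_h (c : ℕ) : ℕ := Nat.mod c (nat_lit 545)
theorem AP_lK2_E {G : Type*} [Group G] {R : ℕ → G → Prop} {z u v a b i j k l x y r s t : G}
    (M : Md0 AP_o AP_cs R [z, u, v, a, b, i, j, k, l, x, y, r, s, t]) :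
    EnumS R AP_lK2 (sp [i, l, j * k, x * y, r * s]) :=
  enumS_sp M.μ.1 (M.reps.tms M.μ.1 [(.v (nat_lit 5)), (.v (nat_lit 8)), (.mul (.v (nat_lit 6)) (.v (nat_lit 7))), (.mul (.v (nat_lit 9)) (.v (nat_lit 10))), (.mul (.v (nat_lit 11)) (.v (nat_lit 12)))] (cs' := [(nat_lit 0xf7f3abf3b8dda0e9c9957d1b15a8a83992418820), (nat_lit 0xf7f3cbebb6de2b45a9907b9b19c928388a419820), (nat_lit 0xffb3cbebb8dda0e5aa357d1ac9c924198a838820), (nat_lit 0x30bacdc73cbe96a392d37c9b81a3f4827cea9420), (nat_lit 0x496f1cb376ee1d040f946d5fa21ff351bcb90820)]) (by decide +kernel))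
    (Ws := AP_lK2_W) (by decide +kernel) (by decide +kernel)
theorem AP_lK2_c {G : Type*} [Group G] {R : ℕ → G → Prop} {z u v a b i j k l x y r s t : G}
    (M : Md0 AP_o AP_cs R [z, u, v, a, b, i, j, k, l, x, y, r, s, t]) :
    #(sp [i, l, j * k, x * y, r * s]) = 48 :=
  (AP_lK2_E M).card M.μ (h := AP_lK2_h) (by decide +kernel)
noncomputable def AP_lSt : List ℕ := [(nat_lit 0x11aeccc77cee94b21ed26cdf840fd5717f0a2420), (nat_lit 0x11aecec77acf15341f127adb620ff0717d5a2420), (nat_lit 0x11af1cb37aef25340eca6adf821ff5727d0a1420), (nat_lit 0x11af1eb37ccea4b20f0a7cdb641fd0727f5a1420), (nat_lit 0x11afacf36cec50352ec469df894d35778b0a7c20), (nat_lit 0x11afaef371cb10792f0478db654cb077935a7c20), (nat_lit 0x11afcceb71eb08794ec868df852cb577d30a7820), (nat_lit 0x11afceeb6ccc48354f0879db692d3077cb5a7820), (nat_lit 0x11b2cbc7badf16a1a3137c9b6393f4817ceaa420), (nat_lit 0x11b2cdc7bcbe9723a2d36a9f8193ce817f4aa420),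 (nat_lit 0x11b31bb3bcdea723930b7a9b61a3d4827eea9420), (nat_lit 0x11b31db3babf26a192cb6c9f83a3ee827d4a9420), (nat_lit 0x11b3abf3b1db0689cb07791b65a8b48792eafc20), (nat_lit 0x11b3adf3acbc4645cac76a1f89a92e878b4afc20), (nat_lit 0x11b3cbebacdc4e45ab037a1b69c93487caeaf820), (nat_lit 0x11b3cdebb1bb0e89aac3691f85c8ae87d34af820), (nat_lit 0x11b6ccc6faef24b20f0a7cdb641ff5a17d072420), (nat_lit 0x11b6cec6fccea5340eca6adf821fd0a17f572420), (nat_lit 0x11b71cb2fcee95341f127adb620fd5a27f071420), (nat_lit 0x11b71eb2facf14b21ed26cdf840ff0a27d571420), (nat_lit 0x11b7acf2f1eb08354f0879db692cb5a793077c20), (nat_lit 0x11b7aef2eccc48794ec868df852d30a78b577c20), (nat_lit 0x11b7cceaecec50792f0478db654d35a7cb077820), (nat_lit 0x11b7ceeaf1cb10352ec469df894cb0a7d3577820), (nat_lit 0x11bacbc73cdea6a192cb6c9f83a3d4a97ee82420), (nat_lit 0x11bacdc73abf2723930b7a9b61a3eea97d482420), (nat_lit 0x11bb1bb33adf1723a2d36a9f8193f4aa7ce81420),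 (nat_lit 0x11bb1db33cbe96a1a3137c9b6393ceaa7f481420), (nat_lit 0x11bbabf32cdc4e89aac3691f85c934af8ae87c20), (nat_lit 0x11bbadf331bb0e45ab037a1b69c8aeaf93487c20), (nat_lit 0x11bbcbeb31db0645cac76a1f89a8b4afd2e87820), (nat_lit 0x11bbcdeb2cbc4689cb07791b65a92eafcb487820), (nat_lit 0x2a6eccc776ee1d021f546d5fc40fcb91bf350820), (nat_lit 0x2a6ecec778cd9d541f947c1ba20ff391bcb50820), (nat_lit 0x2a6f1cb378eda9540f4e6c1fc21feb90bd351820), (nat_lit 0x2a6f1eb376ce29020f8e7d5ba41fd390beb51820), (nat_lit 0x2a6f6ce371eb087a574868dfc740cb97c5357820), (nat_lit 0x2a6f6ee36ccc4837578879dbaa405397ccb57820), (nat_lit 0x2a6f8cdb6cec5037434469dfca544b978d357c20), (nat_lit 0x2a6f8edb71cb107a438478dba754d39784b57c20), (nat_lit 0x2a72cbc7b8dda0e1a3957d1ba393ea99bd258820), (nat_lit 0x2a72cdc7b6be2143a3556b9fc193d299bea58820), (nat_lit 0x2a731bb3b6de2b4393907b9ba1a3ca98bf259820), (nat_lit 0x2a731db3b8bdaae193506d1fc3a3f298bca59820),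 (nat_lit 0x2a736be3acdc4e483b837a1baad04a9fcd25f820), (nat_lit 0x2a736de3b1bb0e8abb43691fc850d29fc4a5f820), (nat_lit 0x2a738bdbb1db068ad387791ba838ca9f8525fc20), (nat_lit 0x2a738ddbacbc464853476a1fcab8529f8ca5fc20), (nat_lit 0x2a76ccc6f8eda9020f8e7d5ba41feb51bd390820), (nat_lit 0x2a76cec6f6ce29540f4e6c1fc21fd351beb90820), (nat_lit 0x2a771cb2f6ee1d541f947c1ba20fcb50bf391820), (nat_lit 0x2a771eb2f8cd9d021f546d5fc40ff350bcb91820), (nat_lit 0x2a776ce2ecec507a438478dba7544b57cd397820), (nat_lit 0x2a776ee2f1cb1037434469dfca54d357c4b97820), (nat_lit 0x2a778cdaf1eb0837578879dbaa40cb5785397c20), (nat_lit 0x2a778edaeccc487a574868dfc74053578cb97c20), (nat_lit 0x2a7acbc736de2ae193506d1fc3a3ca59bf298820), (nat_lit 0x2a7acdc738bdab4393907b9ba1a3f259bca98820), (nat_lit 0x2a7b1bb338dda143a3556b9fc193ea58bd299820), (nat_lit 0x2a7b1db336be20e1a3957d1ba393d258bea99820), (nat_lit 0x2a7b6be331db064853476a1fcab8ca5fc529f820),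 (nat_lit 0x2a7b6de32cbc468ad387791ba838525fcca9f820), (nat_lit 0x2a7b8bdb2cdc4e8abb43691fc8504a5f8d29fc20), (nat_lit 0x2a7b8ddb31bb0e483b837a1baad0d25f84a9fc20), (nat_lit 0x30aeccc77aef25321f0a6adf640fd0a27f571420), (nat_lit 0x30aecec77ccea4b41eca7cdb820ff5a27d071420), (nat_lit 0x30af1cb37cee94b40f126cdf621ff0a17d572420), (nat_lit 0x30af1eb37acf15320ed27adb841fd5a17f072420), (nat_lit 0x30afacf371eb08752f0868df694d30a7cb577820), (nat_lit 0x30afaef36ccc48392ec879db854cb5a7d3077820), (nat_lit 0x30afcceb6cec50394f0469df652cb0a793577c20), (nat_lit 0x30afceeb71cb10754ec478db892d35a78b077c20), (nat_lit 0x30b2cbc7bcdea721a2cb7a9b8393eeaa7d481420), (nat_lit 0x30b2cdc7babf26a3a30b6c9f6193d4aa7ee81420), (nat_lit 0x30b31bb3badf16a392d37c9b81a3cea97f482420), (nat_lit 0x30b31db3bcbe972193136a9f63a3f4a97ce82420), (nat_lit 0x30b3abf3acdc4e49cac37a1b85a8aeafd3487820), (nat_lit 0x30b3adf3b1bb0e85cb03691f69a934afcae87820),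 (nat_lit 0x30b3cbebb1db0685aac7791b89c92eaf8b487c20), (nat_lit 0x30b3cdebacbc4649ab076a1f65c8b4af92e87c20), (nat_lit 0x30b6ccc6fcee95320ed27adb841ff0727d5a1420), (nat_lit 0x30b6cec6facf14b40f126cdf621fd5727f0a1420), (nat_lit 0x30b71cb2faef24b41eca7cdb820fd0717f5a2420), (nat_lit 0x30b71eb2fccea5321f0a6adf640ff5717d0a2420), (nat_lit 0x30b7acf2ecec50754ec478db892cb077d35a7820), (nat_lit 0x30b7aef2f1cb10394f0469df652d3577cb0a7820), (nat_lit 0x30b7cceaf1eb08392ec879db854d30778b5a7c20), (nat_lit 0x30b7ceeaeccc48752f0868df694cb577930a7c20), (nat_lit 0x30bacbc73adf172193136a9f63a3ce827f4a9420), (nat_lit 0x30bacdc73cbe96a392d37c9b81a3f4827cea9420), (nat_lit 0x30bb1bb33cdea6a3a30b6c9f6193ee817d4aa420), (nat_lit 0x30bb1db33abf2721a2cb7a9b8393d4817eeaa420), (nat_lit 0x30bbabf331db0649ab076a1f65c92e87cb4af820), (nat_lit 0x30bbadf32cbc4685aac7791b89c8b487d2eaf820), (nat_lit 0x30bbcbeb2cdc4e85cb03691f69a8ae87934afc20),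 (nat_lit 0x30bbcdeb31bb0e49cac37a1b85a934878aeafc20), (nat_lit 0x496eccc778eda9521f8e6c1fa40fd350beb91820), (nat_lit 0x496ecec776ce29041f4e7d5bc20feb50bd391820), (nat_lit 0x496f1cb376ee1d040f946d5fa21ff351bcb90820), (nat_lit 0x496f1eb378cd9d520f547c1bc41fcb51bf390820), (nat_lit 0x496f6ce36cec503a578469dfa740d35784b97c20), (nat_lit 0x496f6ee371cb1077574478dbca404b578d397c20), (nat_lit 0x496f8cdb71eb0877438868dfaa545357ccb97820), (nat_lit 0x496f8edb6ccc483a434879dbc754cb57c5397820), (nat_lit 0x4972cbc7b6de2b41a3507b9bc393f258bca99820), (nat_lit 0x4972cdc7b8bdaae3a3906d1fa193ca58bf299820), (nat_lit 0x49731bb3b8dda0e393557d1bc1a3d259bea98820), (nat_lit 0x49731db3b6be214193956b9fa3a3ea59bd298820), (nat_lit 0x49736be3b1db06883b47791bcad0525f8ca9fc20), (nat_lit 0x49736de3acbc464abb876a1fa850ca5f8529fc20), (nat_lit 0x49738bdbacdc4e4ad3437a1bc838d25fc4a9f820), (nat_lit 0x49738ddbb1bb0e885383691faab84a5fcd29f820),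 (nat_lit 0x4976ccc6f6ee1d520f547c1bc41ff390bcb51820), (nat_lit 0x4976cec6f8cd9d040f946d5fa21fcb90bf351820), (nat_lit 0x49771cb2f8eda9041f4e7d5bc20fd391beb50820), (nat_lit 0x49771eb2f6ce29521f8e6c1fa40feb91bd350820), (nat_lit 0x49776ce2f1eb083a434879dbc75453978cb57c20), (nat_lit 0x49776ee2eccc4877438868dfaa54cb9785357c20), (nat_lit 0x49778cdaecec5077574478dbca40d397c4b57820), (nat_lit 0x49778edaf1cb103a578469dfa7404b97cd357820), (nat_lit 0x497acbc738dda14193956b9fa3a3d298bea59820), (nat_lit 0x497acdc736be20e393557d1bc1a3ea98bd259820), (nat_lit 0x497b1bb336de2ae3a3906d1fa193f299bca58820), (nat_lit 0x497b1db338bdab41a3507b9bc393ca99bf258820), (nat_lit 0x497b6be32cdc4e885383691faab8d29f84a5fc20), (nat_lit 0x497b6de331bb0e4ad3437a1bc8384a9f8d25fc20), (nat_lit 0x497b8bdb31db064abb876a1fa850529fcca5f820), (nat_lit 0x497b8ddb2cbc46883b47791bcad0ca9fc525f820), (nat_lit 0xf7ef6ce37cee94ba56326cdec740c32144742420),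 (nat_lit 0xf7ef6ee37acf153755927adb1a4047214c342420), (nat_lit 0xf7ef8cdb7aef2537422a6adeca5443224c741420), (nat_lit 0xf7ef8edb7ccea4ba418a7cdb1754c72244341420), (nat_lit 0xf7efacf376ee1d052e346d5ec94d23218a740820), (nat_lit 0xf7efaef378cd9d592d947c1b154ca72192340820), (nat_lit 0xf7efcceb78eda9594e2e6c1ec52ca32092741820), (nat_lit 0xf7efceeb76ce29054d8e7d5b192d27208a341820), (nat_lit 0xf7f36be3badf16a839937c9b1ad048394c41a420), (nat_lit 0xf7f36de3bcbe972aba336a9ec850c4394481a420), (nat_lit 0xf7f38bdbbcdea72ad18b7a9b1838c83a44419420), (nat_lit 0xf7f38ddbbabf26a8522b6c9ecab8443a4c819420), (nat_lit 0xf7f3abf3b8dda0e9c9957d1b15a8a83992418820), (nat_lit 0xf7f3adf3b6be2145ca356b9ec9a924398a818820), (nat_lit 0xf7f3cbebb6de2b45a9907b9b19c928388a419820), (nat_lit 0xf7f3cdebb8bdaae9aa306d1ec5c8a43892819820), (nat_lit 0xf7f76ce2faef24ba418a7cdb175443414c722420), (nat_lit 0xf7f76ee2fccea537422a6adeca54c74144322420),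 (nat_lit 0xf7f78cdafcee953755927adb1a40c34244721420), (nat_lit 0xf7f78edafacf14ba56326cdec74047424c321420), (nat_lit 0xf7f7acf2f8eda9054d8e7d5b192ca34192720820), (nat_lit 0xf7f7aef2f6ce29594e2e6c1ec52d27418a320820), (nat_lit 0xf7f7cceaf6ee1d592d947c1b154d23408a721820), (nat_lit 0xf7f7ceeaf8cd9d052e346d5ec94ca74092321820), (nat_lit 0xf7fb6be33cdea6a8522b6c9ecab8c8194443a420), (nat_lit 0xf7fb6de33abf272ad18b7a9b183844194c83a420), (nat_lit 0xf7fb8bdb3adf172aba336a9ec850481a4c439420), (nat_lit 0xf7fb8ddb3cbe96a839937c9b1ad0c41a44839420), (nat_lit 0xf7fbabf336de2ae9aa306d1ec5c928198a438820), (nat_lit 0xf7fbadf338bdab45a9907b9b19c8a41992838820), (nat_lit 0xf7fbcbeb38dda145ca356b9ec9a8a81892439820), (nat_lit 0xf7fbcdeb36be20e9c9957d1b15a924188a839820), (nat_lit 0xffaf6ce37aef253a558a6adf1740c74244321420), (nat_lit 0xffaf6ee37ccea4b7562a7cdaca4043424c721420), (nat_lit 0xffaf8cdb7cee94b741926cdf1a5447414c322420),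 (nat_lit 0xffaf8edb7acf153a42327adac754c34144722420), (nat_lit 0xffafacf378eda9552d8e6c1f194d27408a321820), (nat_lit 0xffafaef376ce29092e2e7d5ac54ca34092721820), (nat_lit 0xffafcceb76ee1d094d946d5f152ca74192320820), (nat_lit 0xffafceeb78cd9d554e347c1ac92d23418a720820), (nat_lit 0xffb36be3bcdea7283a2b7a9acad0441a4c839420), (nat_lit 0xffb36de3babf26aab98b6c9f1850c81a44439420), (nat_lit 0xffb38bdbbadf16aad2337c9ac838c4194483a420), (nat_lit 0xffb38ddbbcbe972851936a9f1ab848194c43a420), (nat_lit 0xffb3abf3b6de2b49ca307b9ac5a8a41892839820), (nat_lit 0xffb3adf3b8bdaae5c9906d1f19a928188a439820), (nat_lit 0xffb3cbebb8dda0e5aa357d1ac9c924198a838820), (nat_lit 0xffb3cdebb6be2149a9956b9f15c8a81992438820), (nat_lit 0xffb76ce2fcee953a42327adac75447224c341420), (nat_lit 0xffb76ee2facf14b741926cdf1a54c32244741420), (nat_lit 0xffb78cdafaef24b7562a7cdaca40c72144342420), (nat_lit 0xffb78edafccea53a558a6adf174043214c742420),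 (nat_lit 0xffb7acf2f6ee1d554e347c1ac92ca72092341820), (nat_lit 0xffb7aef2f8cd9d094d946d5f152d23208a741820), (nat_lit 0xffb7cceaf8eda9092e2e7d5ac54d27218a340820), (nat_lit 0xffb7ceeaf6ce29552d8e6c1f194ca32192740820), (nat_lit 0xffbb6be33adf172851936a9f1ab8c43a44819420), (nat_lit 0xffbb6de33cbe96aad2337c9ac838483a4c419420), (nat_lit 0xffbb8bdb3cdea6aab98b6c9f185044394c81a420), (nat_lit 0xffbb8ddb3abf27283a2b7a9acad0c8394441a420), (nat_lit 0xffbbabf338dda149a9956b9f15c924388a819820), (nat_lit 0xffbbadf336be20e5aa357d1ac9c8a83892419820), (nat_lit 0xffbbcbeb36de2ae5c9906d1f19a8a43992818820), (nat_lit 0xffbbcdeb38bdab49ca307b9ac5a928398a418820)]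
noncomputable def AP_lSt_W : List (List ℕ) := [[(nat_lit 4), (nat_lit 6)],
  [(nat_lit 4), (nat_lit 2), (nat_lit 6)],
  [(nat_lit 0), (nat_lit 3), (nat_lit 4), (nat_lit 6)],
  [(nat_lit 1), (nat_lit 3), (nat_lit 4), (nat_lit 6)],
  [(nat_lit 0), (nat_lit 4), (nat_lit 0), (nat_lit 5)],
  [(nat_lit 0), (nat_lit 4), (nat_lit 5), (nat_lit 2)],
  [(nat_lit 1), (nat_lit 4), (nat_lit 1), (nat_lit 5)],
  [(nat_lit 2), (nat_lit 4), (nat_lit 5)],
  [(nat_lit 3), (nat_lit 4)],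
  [(nat_lit 2), (nat_lit 4), (nat_lit 0)],
  [(nat_lit 0), (nat_lit 4)],
  [(nat_lit 1), (nat_lit 4)],
  [(nat_lit 1), (nat_lit 2), (nat_lit 4), (nat_lit 5), (nat_lit 6)],
  [(nat_lit 4), (nat_lit 1), (nat_lit 5), (nat_lit 6)],
  [(nat_lit 4), (nat_lit 0), (nat_lit 5), (nat_lit 6)],
  [(nat_lit 4), (nat_lit 5), (nat_lit 2), (nat_lit 6)],
  [(nat_lit 4), (nat_lit 1), (nat_lit 6)],
  [(nat_lit 1), (nat_lit 2), (nat_lit 4), (nat_lit 6)],
  [(nat_lit 2), (nat_lit 3), (nat_lit 4), (nat_lit 6)],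
  [(nat_lit 4), (nat_lit 0), (nat_lit 6)],
  [(nat_lit 0), (nat_lit 4), (nat_lit 5), (nat_lit 1)],
  [(nat_lit 3), (nat_lit 4), (nat_lit 5)],
  [(nat_lit 1), (nat_lit 4), (nat_lit 5)],
  [(nat_lit 0), (nat_lit 4), (nat_lit 5)],
  [(nat_lit 1), (nat_lit 4), (nat_lit 0)],
  [(nat_lit 0), (nat_lit 4), (nat_lit 0)],
  [(nat_lit 2), (nat_lit 4)],
  [(nat_lit 1), (nat_lit 4), (nat_lit 1)],
  [(nat_lit 4), (nat_lit 2), (nat_lit 5), (nat_lit 6)],
  [(nat_lit 4), (nat_lit 5), (nat_lit 6)],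
  [(nat_lit 4), (nat_lit 5), (nat_lit 1), (nat_lit 6)],
  [(nat_lit 0), (nat_lit 3), (nat_lit 4), (nat_lit 5), (nat_lit 6)],
  [(nat_lit 1), (nat_lit 5), (nat_lit 2)],
  [(nat_lit 2), (nat_lit 5)],
  [(nat_lit 0), (nat_lit 5), (nat_lit 3)],
  [(nat_lit 1), (nat_lit 5), (nat_lit 3)],
  [(nat_lit 0), (nat_lit 3), (nat_lit 4), (nat_lit 4), (nat_lit 6)],
  [(nat_lit 4), (nat_lit 4), (nat_lit 2), (nat_lit 6)],
  [(nat_lit 4), (nat_lit 4), (nat_lit 6)],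
  [(nat_lit 4), (nat_lit 2), (nat_lit 4), (nat_lit 6)],
  [(nat_lit 5), (nat_lit 3), (nat_lit 6)],
  [(nat_lit 2), (nat_lit 3), (nat_lit 5), (nat_lit 6)],
  [(nat_lit 1), (nat_lit 2), (nat_lit 5), (nat_lit 6)],
  [(nat_lit 5), (nat_lit 2), (nat_lit 6)],
  [(nat_lit 0), (nat_lit 4), (nat_lit 4)],
  [(nat_lit 1), (nat_lit 4), (nat_lit 4)],
  [(nat_lit 3), (nat_lit 4), (nat_lit 4)],
  [(nat_lit 0), (nat_lit 4), (nat_lit 4), (nat_lit 2)],
  [(nat_lit 1), (nat_lit 5)],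
  [(nat_lit 0), (nat_lit 5)],
  [(nat_lit 2), (nat_lit 5), (nat_lit 3)],
  [(nat_lit 3), (nat_lit 5)],
  [(nat_lit 4), (nat_lit 4), (nat_lit 1), (nat_lit 6)],
  [(nat_lit 4), (nat_lit 0), (nat_lit 4), (nat_lit 6)],
  [(nat_lit 4), (nat_lit 1), (nat_lit 4), (nat_lit 6)],
  [(nat_lit 1), (nat_lit 2), (nat_lit 4), (nat_lit 4), (nat_lit 6)],
  [(nat_lit 1), (nat_lit 3), (nat_lit 5), (nat_lit 6)],
  [(nat_lit 0), (nat_lit 3), (nat_lit 5), (nat_lit 6)],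
  [(nat_lit 5), (nat_lit 1), (nat_lit 6)],
  [(nat_lit 5), (nat_lit 6)],
  [(nat_lit 2), (nat_lit 4), (nat_lit 4)],
  [(nat_lit 1), (nat_lit 4), (nat_lit 1), (nat_lit 4)],
  [(nat_lit 0), (nat_lit 4), (nat_lit 4), (nat_lit 1)],
  [(nat_lit 0), (nat_lit 4), (nat_lit 0), (nat_lit 4)],
  [(nat_lit 0), (nat_lit 4), (nat_lit 0), (nat_lit 6)],
  [(nat_lit 1), (nat_lit 4), (nat_lit 0), (nat_lit 6)],
  [(nat_lit 1), (nat_lit 4), (nat_lit 1), (nat_lit 6)],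
  [(nat_lit 2), (nat_lit 4), (nat_lit 6)],
  [(nat_lit 4), (nat_lit 5)],
  [(nat_lit 4), (nat_lit 2), (nat_lit 5)],
  [(nat_lit 0), (nat_lit 3), (nat_lit 4), (nat_lit 5)],
  [(nat_lit 4), (nat_lit 5), (nat_lit 1)],
  [(nat_lit 1), (nat_lit 2), (nat_lit 4)],
  [(nat_lit 4), (nat_lit 1)],
  [(nat_lit 4), (nat_lit 0)],
  [(nat_lit 2), (nat_lit 3), (nat_lit 4)],
  [(nat_lit 3), (nat_lit 4), (nat_lit 5), (nat_lit 6)],
  [(nat_lit 0), (nat_lit 4), (nat_lit 5), (nat_lit 1), (nat_lit 6)],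
  [(nat_lit 0), (nat_lit 4), (nat_lit 5), (nat_lit 6)],
  [(nat_lit 1), (nat_lit 4), (nat_lit 5), (nat_lit 6)],
  [(nat_lit 2), (nat_lit 4), (nat_lit 0), (nat_lit 6)],
  [(nat_lit 3), (nat_lit 4), (nat_lit 6)],
  [(nat_lit 1), (nat_lit 4), (nat_lit 6)],
  [(nat_lit 0), (nat_lit 4), (nat_lit 6)],
  [(nat_lit 4), (nat_lit 1), (nat_lit 5)],
  [(nat_lit 1), (nat_lit 2), (nat_lit 4), (nat_lit 5)],
  [(nat_lit 4), (nat_lit 5), (nat_lit 2)],
  [(nat_lit 4), (nat_lit 0), (nat_lit 5)],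
  [(nat_lit 4), (nat_lit 2)],
  [(nat_lit 4)],
  [(nat_lit 1), (nat_lit 3), (nat_lit 4)],
  [(nat_lit 0), (nat_lit 3), (nat_lit 4)],
  [(nat_lit 0), (nat_lit 4), (nat_lit 5), (nat_lit 2), (nat_lit 6)],
  [(nat_lit 0), (nat_lit 4), (nat_lit 0), (nat_lit 5), (nat_lit 6)],
  [(nat_lit 2), (nat_lit 4), (nat_lit 5), (nat_lit 6)],
  [(nat_lit 1), (nat_lit 4), (nat_lit 1), (nat_lit 5), (nat_lit 6)],
  [(nat_lit 0), (nat_lit 3), (nat_lit 5)],
  [(nat_lit 1), (nat_lit 3), (nat_lit 5)],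
  [(nat_lit 5)],
  [(nat_lit 5), (nat_lit 1)],
  [(nat_lit 1), (nat_lit 4), (nat_lit 1), (nat_lit 4), (nat_lit 6)],
  [(nat_lit 2), (nat_lit 4), (nat_lit 4), (nat_lit 6)],
  [(nat_lit 0), (nat_lit 4), (nat_lit 0), (nat_lit 4), (nat_lit 6)],
  [(nat_lit 0), (nat_lit 4), (nat_lit 4), (nat_lit 1), (nat_lit 6)],
  [(nat_lit 0), (nat_lit 5), (nat_lit 6)],
  [(nat_lit 1), (nat_lit 5), (nat_lit 6)],
  [(nat_lit 3), (nat_lit 5), (nat_lit 6)],
  [(nat_lit 2), (nat_lit 5), (nat_lit 3), (nat_lit 6)],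
  [(nat_lit 4), (nat_lit 0), (nat_lit 4)],
  [(nat_lit 4), (nat_lit 4), (nat_lit 1)],
  [(nat_lit 1), (nat_lit 2), (nat_lit 4), (nat_lit 4)],
  [(nat_lit 4), (nat_lit 1), (nat_lit 4)],
  [(nat_lit 2), (nat_lit 3), (nat_lit 5)],
  [(nat_lit 5), (nat_lit 3)],
  [(nat_lit 5), (nat_lit 2)],
  [(nat_lit 1), (nat_lit 2), (nat_lit 5)],
  [(nat_lit 1), (nat_lit 4), (nat_lit 4), (nat_lit 6)],
  [(nat_lit 0), (nat_lit 4), (nat_lit 4), (nat_lit 6)],
  [(nat_lit 0), (nat_lit 4), (nat_lit 4), (nat_lit 2), (nat_lit 6)],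
  [(nat_lit 3), (nat_lit 4), (nat_lit 4), (nat_lit 6)],
  [(nat_lit 2), (nat_lit 5), (nat_lit 6)],
  [(nat_lit 1), (nat_lit 5), (nat_lit 2), (nat_lit 6)],
  [(nat_lit 1), (nat_lit 5), (nat_lit 3), (nat_lit 6)],
  [(nat_lit 0), (nat_lit 5), (nat_lit 3), (nat_lit 6)],
  [(nat_lit 4), (nat_lit 4), (nat_lit 2)],
  [(nat_lit 0), (nat_lit 3), (nat_lit 4), (nat_lit 4)],
  [(nat_lit 4), (nat_lit 2), (nat_lit 4)],
  [(nat_lit 4), (nat_lit 4)],
  [(nat_lit 0), (nat_lit 5), (nat_lit 3), (nat_lit 4)],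
  [(nat_lit 1), (nat_lit 5), (nat_lit 3), (nat_lit 4)],
  [(nat_lit 1), (nat_lit 5), (nat_lit 2), (nat_lit 4)],
  [(nat_lit 2), (nat_lit 5), (nat_lit 4)],
  [(nat_lit 0), (nat_lit 3), (nat_lit 6)],
  [(nat_lit 1), (nat_lit 3), (nat_lit 6)],
  [(nat_lit 6)],
  [(nat_lit 0), (nat_lit 1), (nat_lit 6)],
  [(nat_lit 1), (nat_lit 2), (nat_lit 5), (nat_lit 4), (nat_lit 6)],
  [(nat_lit 5), (nat_lit 2), (nat_lit 4), (nat_lit 6)],
  [(nat_lit 5), (nat_lit 3), (nat_lit 4), (nat_lit 6)],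
  [(nat_lit 2), (nat_lit 3), (nat_lit 5), (nat_lit 4), (nat_lit 6)],
  [(nat_lit 0)],
  [(nat_lit 1)],
  [(nat_lit 3)],
  [(nat_lit 0), (nat_lit 1), (nat_lit 3)],
  [(nat_lit 2), (nat_lit 5), (nat_lit 3), (nat_lit 4)],
  [(nat_lit 3), (nat_lit 5), (nat_lit 4)],
  [(nat_lit 1), (nat_lit 5), (nat_lit 4)],
  [(nat_lit 0), (nat_lit 5), (nat_lit 4)],
  [(nat_lit 2), (nat_lit 3), (nat_lit 6)],
  [(nat_lit 5), (nat_lit 3), (nat_lit 5), (nat_lit 6)],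
  [(nat_lit 0), (nat_lit 2), (nat_lit 6)],
  [(nat_lit 1), (nat_lit 2), (nat_lit 6)],
  [(nat_lit 5), (nat_lit 1), (nat_lit 4), (nat_lit 6)],
  [(nat_lit 5), (nat_lit 4), (nat_lit 6)],
  [(nat_lit 1), (nat_lit 3), (nat_lit 5), (nat_lit 4), (nat_lit 6)],
  [(nat_lit 0), (nat_lit 3), (nat_lit 5), (nat_lit 4), (nat_lit 6)],
  [(nat_lit 2)],
  [(nat_lit 0), (nat_lit 1), (nat_lit 2)],
  [(nat_lit 0), (nat_lit 2), (nat_lit 3)],
  [(nat_lit 1), (nat_lit 2), (nat_lit 3)],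
  [(nat_lit 5), (nat_lit 4)],
  [(nat_lit 5), (nat_lit 1), (nat_lit 4)],
  [(nat_lit 0), (nat_lit 3), (nat_lit 5), (nat_lit 4)],
  [(nat_lit 1), (nat_lit 3), (nat_lit 5), (nat_lit 4)],
  [(nat_lit 0), (nat_lit 1), (nat_lit 2), (nat_lit 6)],
  [(nat_lit 2), (nat_lit 6)],
  [(nat_lit 1), (nat_lit 2), (nat_lit 3), (nat_lit 6)],
  [(nat_lit 0), (nat_lit 2), (nat_lit 3), (nat_lit 6)],
  [(nat_lit 3), (nat_lit 5), (nat_lit 4), (nat_lit 6)],
  [(nat_lit 2), (nat_lit 5), (nat_lit 3), (nat_lit 4), (nat_lit 6)],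
  [(nat_lit 0), (nat_lit 5), (nat_lit 4), (nat_lit 6)],
  [(nat_lit 1), (nat_lit 5), (nat_lit 4), (nat_lit 6)],
  [(nat_lit 5), (nat_lit 3), (nat_lit 5)],
  [(nat_lit 2), (nat_lit 3)],
  [(nat_lit 1), (nat_lit 2)],
  [(nat_lit 0), (nat_lit 2)],
  [(nat_lit 5), (nat_lit 2), (nat_lit 4)],
  [(nat_lit 1), (nat_lit 2), (nat_lit 5), (nat_lit 4)],
  [(nat_lit 2), (nat_lit 3), (nat_lit 5), (nat_lit 4)],
  [(nat_lit 5), (nat_lit 3), (nat_lit 4)],
  [(nat_lit 1), (nat_lit 6)],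
  [(nat_lit 0), (nat_lit 6)],
  [(nat_lit 0), (nat_lit 1), (nat_lit 3), (nat_lit 6)],
  [(nat_lit 3), (nat_lit 6)],
  [(nat_lit 1), (nat_lit 5), (nat_lit 3), (nat_lit 4), (nat_lit 6)],
  [(nat_lit 0), (nat_lit 5), (nat_lit 3), (nat_lit 4), (nat_lit 6)],
  [(nat_lit 2), (nat_lit 5), (nat_lit 4), (nat_lit 6)],
  [(nat_lit 1), (nat_lit 5), (nat_lit 2), (nat_lit 4), (nat_lit 6)],
  [(nat_lit 1), (nat_lit 3)],
  [(nat_lit 0), (nat_lit 3)],
  [(nat_lit 0), (nat_lit 1)],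
  []]
noncomputable def AP_lSt_h (c : ℕ) : ℕ := Nat.mod c (nat_lit 11787)
noncomputable def AP_lSt_T0 : ST := (.node (nat_lit 0x496eccc778eda9521f8e6c1fa40fd350beb91820) (.node (nat_lit 0x2a76ccc6f8eda9020f8e7d5ba41feb51bd390820) (.node (nat_lit 0x11bacbc73cdea6a192cb6c9f83a3d4a97ee82420) (.node (nat_lit 0x11b3abf3b1db0689cb07791b65a8b48792eafc20) (.node (nat_lit 0x11afcceb71eb08794ec868df852cb577d30a7820) (.node (nat_lit 0x11af1eb37ccea4b20f0a7cdb641fd0727f5a1420) (.node (nat_lit 0x11aecec77acf15341f127adb620ff0717d5a2420) (.leaf (nat_lit 0x11aeccc77cee94b21ed26cdf840fd5717f0a2420)) (.node (nat_lit 0x11af1cb37aef25340eca6adf821ff5727d0a1420) (.leaf (nat_lit 0x11aecec77acf15341f127adb620ff0717d5a2420)) (.leaf (nat_lit 0x11af1cb37aef25340eca6adf821ff5727d0a1420)))) (.node (nat_lit 0x11afacf36cec50352ec469df894d35778b0a7c20) (.leaf (nat_lit 0x11af1eb37ccea4b20f0a7cdb641fd0727f5a1420))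 (.node (nat_lit 0x11afaef371cb10792f0478db654cb077935a7c20) (.leaf (nat_lit 0x11afacf36cec50352ec469df894d35778b0a7c20)) (.leaf (nat_lit 0x11afaef371cb10792f0478db654cb077935a7c20))))) (.node (nat_lit 0x11b2cdc7bcbe9723a2d36a9f8193ce817f4aa420) (.node (nat_lit 0x11afceeb6ccc48354f0879db692d3077cb5a7820) (.leaf (nat_lit 0x11afcceb71eb08794ec868df852cb577d30a7820)) (.node (nat_lit 0x11b2cbc7badf16a1a3137c9b6393f4817ceaa420) (.leaf (nat_lit 0x11afceeb6ccc48354f0879db692d3077cb5a7820)) (.leaf (nat_lit 0x11b2cbc7badf16a1a3137c9b6393f4817ceaa420)))) (.node (nat_lit 0x11b31bb3bcdea723930b7a9b61a3d4827eea9420) (.leaf (nat_lit 0x11b2cdc7bcbe9723a2d36a9f8193ce817f4aa420)) (.node (nat_lit 0x11b31db3babf26a192cb6c9f83a3ee827d4a9420) (.leaf (nat_lit 0x11b31bb3bcdea723930b7a9b61a3d4827eea9420)) (.leaf (nat_lit 0x11b31db3babf26a192cb6c9f83a3ee827d4a9420)))))) (.node (nat_lit 0x11b71cb2fcee95341f127adb620fd5a27f071420)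 (.node (nat_lit 0x11b3cdebb1bb0e89aac3691f85c8ae87d34af820) (.node (nat_lit 0x11b3adf3acbc4645cac76a1f89a92e878b4afc20) (.leaf (nat_lit 0x11b3abf3b1db0689cb07791b65a8b48792eafc20)) (.node (nat_lit 0x11b3cbebacdc4e45ab037a1b69c93487caeaf820) (.leaf (nat_lit 0x11b3adf3acbc4645cac76a1f89a92e878b4afc20)) (.leaf (nat_lit 0x11b3cbebacdc4e45ab037a1b69c93487caeaf820)))) (.node (nat_lit 0x11b6ccc6faef24b20f0a7cdb641ff5a17d072420) (.leaf (nat_lit 0x11b3cdebb1bb0e89aac3691f85c8ae87d34af820)) (.node (nat_lit 0x11b6cec6fccea5340eca6adf821fd0a17f572420) (.leaf (nat_lit 0x11b6ccc6faef24b20f0a7cdb641ff5a17d072420)) (.leaf (nat_lit 0x11b6cec6fccea5340eca6adf821fd0a17f572420))))) (.node (nat_lit 0x11b7aef2eccc48794ec868df852d30a78b577c20) (.node (nat_lit 0x11b71eb2facf14b21ed26cdf840ff0a27d571420) (.leaf (nat_lit 0x11b71cb2fcee95341f127adb620fd5a27f071420)) (.node (nat_lit 0x11b7acf2f1eb08354f0879db692cb5a793077c20)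 (.leaf (nat_lit 0x11b71eb2facf14b21ed26cdf840ff0a27d571420)) (.leaf (nat_lit 0x11b7acf2f1eb08354f0879db692cb5a793077c20)))) (.node (nat_lit 0x11b7cceaecec50792f0478db654d35a7cb077820) (.leaf (nat_lit 0x11b7aef2eccc48794ec868df852d30a78b577c20)) (.node (nat_lit 0x11b7ceeaf1cb10352ec469df894cb0a7d3577820) (.leaf (nat_lit 0x11b7cceaecec50792f0478db654d35a7cb077820)) (.leaf (nat_lit 0x11b7ceeaf1cb10352ec469df894cb0a7d3577820))))))) (.node (nat_lit 0x2a6f6ce371eb087a574868dfc740cb97c5357820) (.node (nat_lit 0x11bbcbeb31db0645cac76a1f89a8b4afd2e87820) (.node (nat_lit 0x11bb1db33cbe96a1a3137c9b6393ceaa7f481420) (.node (nat_lit 0x11bacdc73abf2723930b7a9b61a3eea97d482420) (.leaf (nat_lit 0x11bacbc73cdea6a192cb6c9f83a3d4a97ee82420)) (.node (nat_lit 0x11bb1bb33adf1723a2d36a9f8193f4aa7ce81420) (.leaf (nat_lit 0x11bacdc73abf2723930b7a9b61a3eea97d482420)) (.leaf (nat_lit 0x11bb1bb33adf1723a2d36a9f8193f4aa7ce81420))))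 (.node (nat_lit 0x11bbabf32cdc4e89aac3691f85c934af8ae87c20) (.leaf (nat_lit 0x11bb1db33cbe96a1a3137c9b6393ceaa7f481420)) (.node (nat_lit 0x11bbadf331bb0e45ab037a1b69c8aeaf93487c20) (.leaf (nat_lit 0x11bbabf32cdc4e89aac3691f85c934af8ae87c20)) (.leaf (nat_lit 0x11bbadf331bb0e45ab037a1b69c8aeaf93487c20))))) (.node (nat_lit 0x2a6ecec778cd9d541f947c1ba20ff391bcb50820) (.node (nat_lit 0x11bbcdeb2cbc4689cb07791b65a92eafcb487820) (.leaf (nat_lit 0x11bbcbeb31db0645cac76a1f89a8b4afd2e87820)) (.node (nat_lit 0x2a6eccc776ee1d021f546d5fc40fcb91bf350820) (.leaf (nat_lit 0x11bbcdeb2cbc4689cb07791b65a92eafcb487820)) (.leaf (nat_lit 0x2a6eccc776ee1d021f546d5fc40fcb91bf350820)))) (.node (nat_lit 0x2a6f1cb378eda9540f4e6c1fc21feb90bd351820) (.leaf (nat_lit 0x2a6ecec778cd9d541f947c1ba20ff391bcb50820)) (.node (nat_lit 0x2a6f1eb376ce29020f8e7d5ba41fd390beb51820) (.leaf (nat_lit 0x2a6f1cb378eda9540f4e6c1fc21feb90bd351820))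 (.leaf (nat_lit 0x2a6f1eb376ce29020f8e7d5ba41fd390beb51820)))))) (.node (nat_lit 0x2a731bb3b6de2b4393907b9ba1a3ca98bf259820) (.node (nat_lit 0x2a6f8edb71cb107a438478dba754d39784b57c20) (.node (nat_lit 0x2a6f6ee36ccc4837578879dbaa405397ccb57820) (.leaf (nat_lit 0x2a6f6ce371eb087a574868dfc740cb97c5357820)) (.node (nat_lit 0x2a6f8cdb6cec5037434469dfca544b978d357c20) (.leaf (nat_lit 0x2a6f6ee36ccc4837578879dbaa405397ccb57820)) (.leaf (nat_lit 0x2a6f8cdb6cec5037434469dfca544b978d357c20)))) (.node (nat_lit 0x2a72cbc7b8dda0e1a3957d1ba393ea99bd258820) (.leaf (nat_lit 0x2a6f8edb71cb107a438478dba754d39784b57c20)) (.node (nat_lit 0x2a72cdc7b6be2143a3556b9fc193d299bea58820) (.leaf (nat_lit 0x2a72cbc7b8dda0e1a3957d1ba393ea99bd258820)) (.leaf (nat_lit 0x2a72cdc7b6be2143a3556b9fc193d299bea58820))))) (.node (nat_lit 0x2a736de3b1bb0e8abb43691fc850d29fc4a5f820) (.node (nat_lit 0x2a731db3b8bdaae193506d1fc3a3f298bca59820)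 (.leaf (nat_lit 0x2a731bb3b6de2b4393907b9ba1a3ca98bf259820)) (.node (nat_lit 0x2a736be3acdc4e483b837a1baad04a9fcd25f820) (.leaf (nat_lit 0x2a731db3b8bdaae193506d1fc3a3f298bca59820)) (.leaf (nat_lit 0x2a736be3acdc4e483b837a1baad04a9fcd25f820)))) (.node (nat_lit 0x2a738bdbb1db068ad387791ba838ca9f8525fc20) (.leaf (nat_lit 0x2a736de3b1bb0e8abb43691fc850d29fc4a5f820)) (.node (nat_lit 0x2a738ddbacbc464853476a1fcab8529f8ca5fc20) (.leaf (nat_lit 0x2a738bdbb1db068ad387791ba838ca9f8525fc20)) (.leaf (nat_lit 0x2a738ddbacbc464853476a1fcab8529f8ca5fc20)))))))) (.node (nat_lit 0x30b2cbc7bcdea721a2cb7a9b8393eeaa7d481420) (.node (nat_lit 0x2a7b6be331db064853476a1fcab8ca5fc529f820) (.node (nat_lit 0x2a778cdaf1eb0837578879dbaa40cb5785397c20) (.node (nat_lit 0x2a771eb2f8cd9d021f546d5fc40ff350bcb91820) (.node (nat_lit 0x2a76cec6f6ce29540f4e6c1fc21fd351beb90820) (.leaf (nat_lit 0x2a76ccc6f8eda9020f8e7d5ba41feb51bd390820))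 (.node (nat_lit 0x2a771cb2f6ee1d541f947c1ba20fcb50bf391820) (.leaf (nat_lit 0x2a76cec6f6ce29540f4e6c1fc21fd351beb90820)) (.leaf (nat_lit 0x2a771cb2f6ee1d541f947c1ba20fcb50bf391820)))) (.node (nat_lit 0x2a776ce2ecec507a438478dba7544b57cd397820) (.leaf (nat_lit 0x2a771eb2f8cd9d021f546d5fc40ff350bcb91820)) (.node (nat_lit 0x2a776ee2f1cb1037434469dfca54d357c4b97820) (.leaf (nat_lit 0x2a776ce2ecec507a438478dba7544b57cd397820)) (.leaf (nat_lit 0x2a776ee2f1cb1037434469dfca54d357c4b97820))))) (.node (nat_lit 0x2a7acdc738bdab4393907b9ba1a3f259bca98820) (.node (nat_lit 0x2a778edaeccc487a574868dfc74053578cb97c20) (.leaf (nat_lit 0x2a778cdaf1eb0837578879dbaa40cb5785397c20)) (.node (nat_lit 0x2a7acbc736de2ae193506d1fc3a3ca59bf298820) (.leaf (nat_lit 0x2a778edaeccc487a574868dfc74053578cb97c20)) (.leaf (nat_lit 0x2a7acbc736de2ae193506d1fc3a3ca59bf298820)))) (.node (nat_lit 0x2a7b1bb338dda143a3556b9fc193ea58bd299820)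 (.leaf (nat_lit 0x2a7acdc738bdab4393907b9ba1a3f259bca98820)) (.node (nat_lit 0x2a7b1db336be20e1a3957d1ba393d258bea99820) (.leaf (nat_lit 0x2a7b1bb338dda143a3556b9fc193ea58bd299820)) (.leaf (nat_lit 0x2a7b1db336be20e1a3957d1ba393d258bea99820)))))) (.node (nat_lit 0x30af1cb37cee94b40f126cdf621ff0a17d572420) (.node (nat_lit 0x2a7b8ddb31bb0e483b837a1baad0d25f84a9fc20) (.node (nat_lit 0x2a7b6de32cbc468ad387791ba838525fcca9f820) (.leaf (nat_lit 0x2a7b6be331db064853476a1fcab8ca5fc529f820)) (.node (nat_lit 0x2a7b8bdb2cdc4e8abb43691fc8504a5f8d29fc20) (.leaf (nat_lit 0x2a7b6de32cbc468ad387791ba838525fcca9f820)) (.leaf (nat_lit 0x2a7b8bdb2cdc4e8abb43691fc8504a5f8d29fc20)))) (.node (nat_lit 0x30aeccc77aef25321f0a6adf640fd0a27f571420) (.leaf (nat_lit 0x2a7b8ddb31bb0e483b837a1baad0d25f84a9fc20)) (.node (nat_lit 0x30aecec77ccea4b41eca7cdb820ff5a27d071420) (.leaf (nat_lit 0x30aeccc77aef25321f0a6adf640fd0a27f571420))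 (.leaf (nat_lit 0x30aecec77ccea4b41eca7cdb820ff5a27d071420))))) (.node (nat_lit 0x30afaef36ccc48392ec879db854cb5a7d3077820) (.node (nat_lit 0x30af1eb37acf15320ed27adb841fd5a17f072420) (.leaf (nat_lit 0x30af1cb37cee94b40f126cdf621ff0a17d572420)) (.node (nat_lit 0x30afacf371eb08752f0868df694d30a7cb577820) (.leaf (nat_lit 0x30af1eb37acf15320ed27adb841fd5a17f072420)) (.leaf (nat_lit 0x30afacf371eb08752f0868df694d30a7cb577820)))) (.node (nat_lit 0x30afcceb6cec50394f0469df652cb0a793577c20) (.leaf (nat_lit 0x30afaef36ccc48392ec879db854cb5a7d3077820)) (.node (nat_lit 0x30afceeb71cb10754ec478db892d35a78b077c20) (.leaf (nat_lit 0x30afcceb6cec50394f0469df652cb0a793577c20)) (.leaf (nat_lit 0x30afceeb71cb10754ec478db892d35a78b077c20))))))) (.node (nat_lit 0x30b7acf2ecec50754ec478db892cb077d35a7820) (.node (nat_lit 0x30b3cbebb1db0685aac7791b89c92eaf8b487c20) (.node (nat_lit 0x30b31db3bcbe972193136a9f63a3f4a97ce82420)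 (.node (nat_lit 0x30b2cdc7babf26a3a30b6c9f6193d4aa7ee81420) (.leaf (nat_lit 0x30b2cbc7bcdea721a2cb7a9b8393eeaa7d481420)) (.node (nat_lit 0x30b31bb3badf16a392d37c9b81a3cea97f482420) (.leaf (nat_lit 0x30b2cdc7babf26a3a30b6c9f6193d4aa7ee81420)) (.leaf (nat_lit 0x30b31bb3badf16a392d37c9b81a3cea97f482420)))) (.node (nat_lit 0x30b3abf3acdc4e49cac37a1b85a8aeafd3487820) (.leaf (nat_lit 0x30b31db3bcbe972193136a9f63a3f4a97ce82420)) (.node (nat_lit 0x30b3adf3b1bb0e85cb03691f69a934afcae87820) (.leaf (nat_lit 0x30b3abf3acdc4e49cac37a1b85a8aeafd3487820)) (.leaf (nat_lit 0x30b3adf3b1bb0e85cb03691f69a934afcae87820))))) (.node (nat_lit 0x30b6cec6facf14b40f126cdf621fd5727f0a1420) (.node (nat_lit 0x30b3cdebacbc4649ab076a1f65c8b4af92e87c20) (.leaf (nat_lit 0x30b3cbebb1db0685aac7791b89c92eaf8b487c20)) (.node (nat_lit 0x30b6ccc6fcee95320ed27adb841ff0727d5a1420) (.leaf (nat_lit 0x30b3cdebacbc4649ab076a1f65c8b4af92e87c20))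 (.leaf (nat_lit 0x30b6ccc6fcee95320ed27adb841ff0727d5a1420)))) (.node (nat_lit 0x30b71cb2faef24b41eca7cdb820fd0717f5a2420) (.leaf (nat_lit 0x30b6cec6facf14b40f126cdf621fd5727f0a1420)) (.node (nat_lit 0x30b71eb2fccea5321f0a6adf640ff5717d0a2420) (.leaf (nat_lit 0x30b71cb2faef24b41eca7cdb820fd0717f5a2420)) (.leaf (nat_lit 0x30b71eb2fccea5321f0a6adf640ff5717d0a2420)))))) (.node (nat_lit 0x30bb1bb33cdea6a3a30b6c9f6193ee817d4aa420) (.node (nat_lit 0x30b7ceeaeccc48752f0868df694cb577930a7c20) (.node (nat_lit 0x30b7aef2f1cb10394f0469df652d3577cb0a7820) (.leaf (nat_lit 0x30b7acf2ecec50754ec478db892cb077d35a7820)) (.node (nat_lit 0x30b7cceaf1eb08392ec879db854d30778b5a7c20) (.leaf (nat_lit 0x30b7aef2f1cb10394f0469df652d3577cb0a7820)) (.leaf (nat_lit 0x30b7cceaf1eb08392ec879db854d30778b5a7c20)))) (.node (nat_lit 0x30bacbc73adf172193136a9f63a3ce827f4a9420) (.leaf (nat_lit 0x30b7ceeaeccc48752f0868df694cb577930a7c20))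 (.node (nat_lit 0x30bacdc73cbe96a392d37c9b81a3f4827cea9420) (.leaf (nat_lit 0x30bacbc73adf172193136a9f63a3ce827f4a9420)) (.leaf (nat_lit 0x30bacdc73cbe96a392d37c9b81a3f4827cea9420))))) (.node (nat_lit 0x30bbadf32cbc4685aac7791b89c8b487d2eaf820) (.node (nat_lit 0x30bb1db33abf2721a2cb7a9b8393d4817eeaa420) (.leaf (nat_lit 0x30bb1bb33cdea6a3a30b6c9f6193ee817d4aa420)) (.node (nat_lit 0x30bbabf331db0649ab076a1f65c92e87cb4af820) (.leaf (nat_lit 0x30bb1db33abf2721a2cb7a9b8393d4817eeaa420)) (.leaf (nat_lit 0x30bbabf331db0649ab076a1f65c92e87cb4af820)))) (.node (nat_lit 0x30bbcbeb2cdc4e85cb03691f69a8ae87934afc20) (.leaf (nat_lit 0x30bbadf32cbc4685aac7791b89c8b487d2eaf820)) (.node (nat_lit 0x30bbcdeb31bb0e49cac37a1b85a934878aeafc20) (.leaf (nat_lit 0x30bbcbeb2cdc4e85cb03691f69a8ae87934afc20)) (.leaf (nat_lit 0x30bbcdeb31bb0e49cac37a1b85a934878aeafc20))))))))) (.node (nat_lit 0xf7f76ce2faef24ba418a7cdb175443414c722420)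 (.node (nat_lit 0x497acbc738dda14193956b9fa3a3d298bea59820) (.node (nat_lit 0x49736be3b1db06883b47791bcad0525f8ca9fc20) (.node (nat_lit 0x496f8cdb71eb0877438868dfaa545357ccb97820) (.node (nat_lit 0x496f1eb378cd9d520f547c1bc41fcb51bf390820) (.node (nat_lit 0x496ecec776ce29041f4e7d5bc20feb50bd391820) (.leaf (nat_lit 0x496eccc778eda9521f8e6c1fa40fd350beb91820)) (.node (nat_lit 0x496f1cb376ee1d040f946d5fa21ff351bcb90820) (.leaf (nat_lit 0x496ecec776ce29041f4e7d5bc20feb50bd391820)) (.leaf (nat_lit 0x496f1cb376ee1d040f946d5fa21ff351bcb90820)))) (.node (nat_lit 0x496f6ce36cec503a578469dfa740d35784b97c20) (.leaf (nat_lit 0x496f1eb378cd9d520f547c1bc41fcb51bf390820)) (.node (nat_lit 0x496f6ee371cb1077574478dbca404b578d397c20) (.leaf (nat_lit 0x496f6ce36cec503a578469dfa740d35784b97c20)) (.leaf (nat_lit 0x496f6ee371cb1077574478dbca404b578d397c20))))) (.node (nat_lit 0x4972cdc7b8bdaae3a3906d1fa193ca58bf299820)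 (.node (nat_lit 0x496f8edb6ccc483a434879dbc754cb57c5397820) (.leaf (nat_lit 0x496f8cdb71eb0877438868dfaa545357ccb97820)) (.node (nat_lit 0x4972cbc7b6de2b41a3507b9bc393f258bca99820) (.leaf (nat_lit 0x496f8edb6ccc483a434879dbc754cb57c5397820)) (.leaf (nat_lit 0x4972cbc7b6de2b41a3507b9bc393f258bca99820)))) (.node (nat_lit 0x49731bb3b8dda0e393557d1bc1a3d259bea98820) (.leaf (nat_lit 0x4972cdc7b8bdaae3a3906d1fa193ca58bf299820)) (.node (nat_lit 0x49731db3b6be214193956b9fa3a3ea59bd298820) (.leaf (nat_lit 0x49731bb3b8dda0e393557d1bc1a3d259bea98820)) (.leaf (nat_lit 0x49731db3b6be214193956b9fa3a3ea59bd298820)))))) (.node (nat_lit 0x49771cb2f8eda9041f4e7d5bc20fd391beb50820) (.node (nat_lit 0x49738ddbb1bb0e885383691faab84a5fcd29f820) (.node (nat_lit 0x49736de3acbc464abb876a1fa850ca5f8529fc20) (.leaf (nat_lit 0x49736be3b1db06883b47791bcad0525f8ca9fc20)) (.node (nat_lit 0x49738bdbacdc4e4ad3437a1bc838d25fc4a9f820)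 (.leaf (nat_lit 0x49736de3acbc464abb876a1fa850ca5f8529fc20)) (.leaf (nat_lit 0x49738bdbacdc4e4ad3437a1bc838d25fc4a9f820)))) (.node (nat_lit 0x4976ccc6f6ee1d520f547c1bc41ff390bcb51820) (.leaf (nat_lit 0x49738ddbb1bb0e885383691faab84a5fcd29f820)) (.node (nat_lit 0x4976cec6f8cd9d040f946d5fa21fcb90bf351820) (.leaf (nat_lit 0x4976ccc6f6ee1d520f547c1bc41ff390bcb51820)) (.leaf (nat_lit 0x4976cec6f8cd9d040f946d5fa21fcb90bf351820))))) (.node (nat_lit 0x49776ee2eccc4877438868dfaa54cb9785357c20) (.node (nat_lit 0x49771eb2f6ce29521f8e6c1fa40feb91bd350820) (.leaf (nat_lit 0x49771cb2f8eda9041f4e7d5bc20fd391beb50820)) (.node (nat_lit 0x49776ce2f1eb083a434879dbc75453978cb57c20) (.leaf (nat_lit 0x49771eb2f6ce29521f8e6c1fa40feb91bd350820)) (.leaf (nat_lit 0x49776ce2f1eb083a434879dbc75453978cb57c20)))) (.node (nat_lit 0x49778cdaecec5077574478dbca40d397c4b57820) (.leaf (nat_lit 0x49776ee2eccc4877438868dfaa54cb9785357c20))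 (.node (nat_lit 0x49778edaf1cb103a578469dfa7404b97cd357820) (.leaf (nat_lit 0x49778cdaecec5077574478dbca40d397c4b57820)) (.leaf (nat_lit 0x49778edaf1cb103a578469dfa7404b97cd357820))))))) (.node (nat_lit 0xf7efacf376ee1d052e346d5ec94d23218a740820) (.node (nat_lit 0x497b8bdb31db064abb876a1fa850529fcca5f820) (.node (nat_lit 0x497b1db338bdab41a3507b9bc393ca99bf258820) (.node (nat_lit 0x497acdc736be20e393557d1bc1a3ea98bd259820) (.leaf (nat_lit 0x497acbc738dda14193956b9fa3a3d298bea59820)) (.node (nat_lit 0x497b1bb336de2ae3a3906d1fa193f299bca58820) (.leaf (nat_lit 0x497acdc736be20e393557d1bc1a3ea98bd259820)) (.leaf (nat_lit 0x497b1bb336de2ae3a3906d1fa193f299bca58820)))) (.node (nat_lit 0x497b6be32cdc4e885383691faab8d29f84a5fc20) (.leaf (nat_lit 0x497b1db338bdab41a3507b9bc393ca99bf258820)) (.node (nat_lit 0x497b6de331bb0e4ad3437a1bc8384a9f8d25fc20) (.leaf (nat_lit 0x497b6be32cdc4e885383691faab8d29f84a5fc20))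 (.leaf (nat_lit 0x497b6de331bb0e4ad3437a1bc8384a9f8d25fc20))))) (.node (nat_lit 0xf7ef6ee37acf153755927adb1a4047214c342420) (.node (nat_lit 0x497b8ddb2cbc46883b47791bcad0ca9fc525f820) (.leaf (nat_lit 0x497b8bdb31db064abb876a1fa850529fcca5f820)) (.node (nat_lit 0xf7ef6ce37cee94ba56326cdec740c32144742420) (.leaf (nat_lit 0x497b8ddb2cbc46883b47791bcad0ca9fc525f820)) (.leaf (nat_lit 0xf7ef6ce37cee94ba56326cdec740c32144742420)))) (.node (nat_lit 0xf7ef8cdb7aef2537422a6adeca5443224c741420) (.leaf (nat_lit 0xf7ef6ee37acf153755927adb1a4047214c342420)) (.node (nat_lit 0xf7ef8edb7ccea4ba418a7cdb1754c72244341420) (.leaf (nat_lit 0xf7ef8cdb7aef2537422a6adeca5443224c741420)) (.leaf (nat_lit 0xf7ef8edb7ccea4ba418a7cdb1754c72244341420)))))) (.node (nat_lit 0xf7f38bdbbcdea72ad18b7a9b1838c83a44419420) (.node (nat_lit 0xf7efceeb76ce29054d8e7d5b192d27208a341820) (.node (nat_lit 0xf7efaef378cd9d592d947c1b154ca72192340820)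 (.leaf (nat_lit 0xf7efacf376ee1d052e346d5ec94d23218a740820)) (.node (nat_lit 0xf7efcceb78eda9594e2e6c1ec52ca32092741820) (.leaf (nat_lit 0xf7efaef378cd9d592d947c1b154ca72192340820)) (.leaf (nat_lit 0xf7efcceb78eda9594e2e6c1ec52ca32092741820)))) (.node (nat_lit 0xf7f36be3badf16a839937c9b1ad048394c41a420) (.leaf (nat_lit 0xf7efceeb76ce29054d8e7d5b192d27208a341820)) (.node (nat_lit 0xf7f36de3bcbe972aba336a9ec850c4394481a420) (.leaf (nat_lit 0xf7f36be3badf16a839937c9b1ad048394c41a420)) (.leaf (nat_lit 0xf7f36de3bcbe972aba336a9ec850c4394481a420))))) (.node (nat_lit 0xf7f3adf3b6be2145ca356b9ec9a924398a818820) (.node (nat_lit 0xf7f38ddbbabf26a8522b6c9ecab8443a4c819420) (.leaf (nat_lit 0xf7f38bdbbcdea72ad18b7a9b1838c83a44419420)) (.node (nat_lit 0xf7f3abf3b8dda0e9c9957d1b15a8a83992418820) (.leaf (nat_lit 0xf7f38ddbbabf26a8522b6c9ecab8443a4c819420)) (.leaf (nat_lit 0xf7f3abf3b8dda0e9c9957d1b15a8a83992418820))))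 (.node (nat_lit 0xf7f3cbebb6de2b45a9907b9b19c928388a419820) (.leaf (nat_lit 0xf7f3adf3b6be2145ca356b9ec9a924398a818820)) (.node (nat_lit 0xf7f3cdebb8bdaae9aa306d1ec5c8a43892819820) (.leaf (nat_lit 0xf7f3cbebb6de2b45a9907b9b19c928388a419820)) (.leaf (nat_lit 0xf7f3cdebb8bdaae9aa306d1ec5c8a43892819820)))))))) (.node (nat_lit 0xffb36be3bcdea7283a2b7a9acad0441a4c839420) (.node (nat_lit 0xf7fbabf336de2ae9aa306d1ec5c928198a438820) (.node (nat_lit 0xf7f7cceaf6ee1d592d947c1b154d23408a721820) (.node (nat_lit 0xf7f78edafacf14ba56326cdec74047424c321420) (.node (nat_lit 0xf7f76ee2fccea537422a6adeca54c74144322420) (.leaf (nat_lit 0xf7f76ce2faef24ba418a7cdb175443414c722420)) (.node (nat_lit 0xf7f78cdafcee953755927adb1a40c34244721420) (.leaf (nat_lit 0xf7f76ee2fccea537422a6adeca54c74144322420)) (.leaf (nat_lit 0xf7f78cdafcee953755927adb1a40c34244721420)))) (.node (nat_lit 0xf7f7acf2f8eda9054d8e7d5b192ca34192720820)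 (.leaf (nat_lit 0xf7f78edafacf14ba56326cdec74047424c321420)) (.node (nat_lit 0xf7f7aef2f6ce29594e2e6c1ec52d27418a320820) (.leaf (nat_lit 0xf7f7acf2f8eda9054d8e7d5b192ca34192720820)) (.leaf (nat_lit 0xf7f7aef2f6ce29594e2e6c1ec52d27418a320820))))) (.node (nat_lit 0xf7fb6de33abf272ad18b7a9b183844194c83a420) (.node (nat_lit 0xf7f7ceeaf8cd9d052e346d5ec94ca74092321820) (.leaf (nat_lit 0xf7f7cceaf6ee1d592d947c1b154d23408a721820)) (.node (nat_lit 0xf7fb6be33cdea6a8522b6c9ecab8c8194443a420) (.leaf (nat_lit 0xf7f7ceeaf8cd9d052e346d5ec94ca74092321820)) (.leaf (nat_lit 0xf7fb6be33cdea6a8522b6c9ecab8c8194443a420)))) (.node (nat_lit 0xf7fb8bdb3adf172aba336a9ec850481a4c439420) (.leaf (nat_lit 0xf7fb6de33abf272ad18b7a9b183844194c83a420)) (.node (nat_lit 0xf7fb8ddb3cbe96a839937c9b1ad0c41a44839420) (.leaf (nat_lit 0xf7fb8bdb3adf172aba336a9ec850481a4c439420)) (.leaf (nat_lit 0xf7fb8ddb3cbe96a839937c9b1ad0c41a44839420))))))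 (.node (nat_lit 0xffaf8cdb7cee94b741926cdf1a5447414c322420) (.node (nat_lit 0xf7fbcdeb36be20e9c9957d1b15a924188a839820) (.node (nat_lit 0xf7fbadf338bdab45a9907b9b19c8a41992838820) (.leaf (nat_lit 0xf7fbabf336de2ae9aa306d1ec5c928198a438820)) (.node (nat_lit 0xf7fbcbeb38dda145ca356b9ec9a8a81892439820) (.leaf (nat_lit 0xf7fbadf338bdab45a9907b9b19c8a41992838820)) (.leaf (nat_lit 0xf7fbcbeb38dda145ca356b9ec9a8a81892439820)))) (.node (nat_lit 0xffaf6ce37aef253a558a6adf1740c74244321420) (.leaf (nat_lit 0xf7fbcdeb36be20e9c9957d1b15a924188a839820)) (.node (nat_lit 0xffaf6ee37ccea4b7562a7cdaca4043424c721420) (.leaf (nat_lit 0xffaf6ce37aef253a558a6adf1740c74244321420)) (.leaf (nat_lit 0xffaf6ee37ccea4b7562a7cdaca4043424c721420))))) (.node (nat_lit 0xffafaef376ce29092e2e7d5ac54ca34092721820) (.node (nat_lit 0xffaf8edb7acf153a42327adac754c34144722420) (.leaf (nat_lit 0xffaf8cdb7cee94b741926cdf1a5447414c322420))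 (.node (nat_lit 0xffafacf378eda9552d8e6c1f194d27408a321820) (.leaf (nat_lit 0xffaf8edb7acf153a42327adac754c34144722420)) (.leaf (nat_lit 0xffafacf378eda9552d8e6c1f194d27408a321820)))) (.node (nat_lit 0xffafcceb76ee1d094d946d5f152ca74192320820) (.leaf (nat_lit 0xffafaef376ce29092e2e7d5ac54ca34092721820)) (.node (nat_lit 0xffafceeb78cd9d554e347c1ac92d23418a720820) (.leaf (nat_lit 0xffafcceb76ee1d094d946d5f152ca74192320820)) (.leaf (nat_lit 0xffafceeb78cd9d554e347c1ac92d23418a720820))))))) (.node (nat_lit 0xffb7acf2f6ee1d554e347c1ac92ca72092341820) (.node (nat_lit 0xffb3cbebb8dda0e5aa357d1ac9c924198a838820) (.node (nat_lit 0xffb38ddbbcbe972851936a9f1ab848194c43a420) (.node (nat_lit 0xffb36de3babf26aab98b6c9f1850c81a44439420) (.leaf (nat_lit 0xffb36be3bcdea7283a2b7a9acad0441a4c839420)) (.node (nat_lit 0xffb38bdbbadf16aad2337c9ac838c4194483a420) (.leaf (nat_lit 0xffb36de3babf26aab98b6c9f1850c81a44439420))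 (.leaf (nat_lit 0xffb38bdbbadf16aad2337c9ac838c4194483a420)))) (.node (nat_lit 0xffb3abf3b6de2b49ca307b9ac5a8a41892839820) (.leaf (nat_lit 0xffb38ddbbcbe972851936a9f1ab848194c43a420)) (.node (nat_lit 0xffb3adf3b8bdaae5c9906d1f19a928188a439820) (.leaf (nat_lit 0xffb3abf3b6de2b49ca307b9ac5a8a41892839820)) (.leaf (nat_lit 0xffb3adf3b8bdaae5c9906d1f19a928188a439820))))) (.node (nat_lit 0xffb76ee2facf14b741926cdf1a54c32244741420) (.node (nat_lit 0xffb3cdebb6be2149a9956b9f15c8a81992438820) (.leaf (nat_lit 0xffb3cbebb8dda0e5aa357d1ac9c924198a838820)) (.node (nat_lit 0xffb76ce2fcee953a42327adac75447224c341420) (.leaf (nat_lit 0xffb3cdebb6be2149a9956b9f15c8a81992438820)) (.leaf (nat_lit 0xffb76ce2fcee953a42327adac75447224c341420)))) (.node (nat_lit 0xffb78cdafaef24b7562a7cdaca40c72144342420) (.leaf (nat_lit 0xffb76ee2facf14b741926cdf1a54c32244741420)) (.node (nat_lit 0xffb78edafccea53a558a6adf174043214c742420)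 (.leaf (nat_lit 0xffb78cdafaef24b7562a7cdaca40c72144342420)) (.leaf (nat_lit 0xffb78edafccea53a558a6adf174043214c742420)))))) (.node (nat_lit 0xffbb8bdb3cdea6aab98b6c9f185044394c81a420) (.node (nat_lit 0xffb7ceeaf6ce29552d8e6c1f194ca32192740820) (.node (nat_lit 0xffb7aef2f8cd9d094d946d5f152d23208a741820) (.leaf (nat_lit 0xffb7acf2f6ee1d554e347c1ac92ca72092341820)) (.node (nat_lit 0xffb7cceaf8eda9092e2e7d5ac54d27218a340820) (.leaf (nat_lit 0xffb7aef2f8cd9d094d946d5f152d23208a741820)) (.leaf (nat_lit 0xffb7cceaf8eda9092e2e7d5ac54d27218a340820)))) (.node (nat_lit 0xffbb6be33adf172851936a9f1ab8c43a44819420) (.leaf (nat_lit 0xffb7ceeaf6ce29552d8e6c1f194ca32192740820)) (.node (nat_lit 0xffbb6de33cbe96aad2337c9ac838483a4c419420) (.leaf (nat_lit 0xffbb6be33adf172851936a9f1ab8c43a44819420)) (.leaf (nat_lit 0xffbb6de33cbe96aad2337c9ac838483a4c419420))))) (.node (nat_lit 0xffbbadf336be20e5aa357d1ac9c8a83892419820)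 (.node (nat_lit 0xffbb8ddb3abf27283a2b7a9acad0c8394441a420) (.leaf (nat_lit 0xffbb8bdb3cdea6aab98b6c9f185044394c81a420)) (.node (nat_lit 0xffbbabf338dda149a9956b9f15c924388a819820) (.leaf (nat_lit 0xffbb8ddb3abf27283a2b7a9acad0c8394441a420)) (.leaf (nat_lit 0xffbbabf338dda149a9956b9f15c924388a819820)))) (.node (nat_lit 0xffbbcbeb36de2ae5c9906d1f19a8a43992818820) (.leaf (nat_lit 0xffbbadf336be20e5aa357d1ac9c8a83892419820)) (.node (nat_lit 0xffbbcdeb38bdab49ca307b9ac5a928398a418820) (.leaf (nat_lit 0xffbbcbeb36de2ae5c9906d1f19a8a43992818820)) (.leaf (nat_lit 0xffbbcdeb38bdab49ca307b9ac5a928398a418820))))))))))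
noncomputable def AP_lSt_T : ST := AP_lSt_T0
theorem AP_lSt_E {G : Type*} [Group G] {R : ℕ → G → Prop} {z u v a b i j k l x y r s t : G}
    (M : Md0 AP_o AP_cs R [z, u, v, a, b, i, j, k, l, x, y, r, s, t]) :
    EnumS R AP_lSt (sp [i, j, k, l, x * y, r * s, t]) :=
  enumS_tree M.μ.1 (M.reps.tms M.μ.1 [(.v (nat_lit 5)), (.v (nat_lit 6)), (.v (nat_lit 7)), (.v (nat_lit 8)), (.mul (.v (nat_lit 9)) (.v (nat_lit 10))), (.mul (.v (nat_lit 11)) (.v (nat_lit 12))), (.v (nat_lit 13))] (cs' := [(nat_lit 0xf7f3abf3b8dda0e9c9957d1b15a8a83992418820), (nat_lit 0xf7f3adf3b6be2145ca356b9ec9a924398a818820), (nat_lit 0xf7fbabf336de2ae9aa306d1ec5c928198a438820), (nat_lit 0xf7f3cbebb6de2b45a9907b9b19c928388a419820), (nat_lit 0x30bacdc73cbe96a392d37c9b81a3f4827cea9420), (nat_lit 0x496f1cb376ee1d040f946d5fa21ff351bcb90820), (nat_lit 0xf7efcceb78eda9594e2e6c1ec52ca32092741820)]) (by decide +kernel))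
    (Ws := AP_lSt_W) (T := AP_lSt_T) (by decide +kernel) (by decide +kernel)
theorem AP_lSt_c {G : Type*} [Group G] {R : ℕ → G → Prop} {z u v a b i j k l x y r s t : G}
    (M : Md0 AP_o AP_cs R [z, u, v, a, b, i, j, k, l, x, y, r, s, t]) :
    #(sp [i, j, k, l, x * y, r * s, t]) = 192 :=
  (AP_lSt_E M).card M.μ (h := AP_lSt_h) (by decide +kernel)
noncomputable def AP_IT_F : Fm := (.allS AP_lI (.qf (.mem (.v (nat_lit 0)) AP_lT)))
theorem AP_IT_chk : Fm.chk AP_o AP_IT_F AP_cs = true := by decide +kernel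
theorem AP_IT {G : Type*} [Group G] {R : ℕ → G → Prop} {z u v a b i j k l x y r s t : G}
    (M : Md0 AP_o AP_cs R [z, u, v, a, b, i, j, k, l, x, y, r, s, t]) :
    ∀ g ∈ sp [i, j, k, l], g ∈ sp [i, x, y] :=
  have h : ∀ g, InS R AP_lI g → InS R AP_lT (g) :=
    Fm.sound M.μ AP_IT_F AP_IT_chk M.reps
  (fun g h0 => ((AP_lT_E M).iff.1 (h g ((AP_lI_E M).iff.2 h0))))
noncomputable def AP_cl_t0 : ST := (.node (nat_lit 371) (.node (nat_lit 165) (.node (nat_lit 69) (.node (nat_lit 17) (.node (nat_lit 9) (.leaf (nat_lit 8)) (.node (nat_lit 13) (.leaf (nat_lit 88)) (.leaf (nat_lit 66)))) (.node (nat_lit 41) (.node (nat_lit 40) (.leaf (nat_lit 67)) (.leaf (nat_lit 78))) (.node (nat_lit 59) (.leaf (nat_lit 17)) (.leaf (nat_lit 76))))) (.node (nat_lit 131) (.node (nat_lit 99) (.node (nat_lit 70) (.leaf (nat_lit 1)) (.leaf (nat_lit 64))) (.node (nat_lit 125) (.leaf (nat_lit 27)) (.leaf (nat_lit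 19)))) (.node (nat_lit 135) (.node (nat_lit 132) (.leaf (nat_lit 32)) (.leaf (nat_lit 33))) (.node (nat_lit 164) (.leaf (nat_lit 24)) (.leaf (nat_lit 66)))))) (.node (nat_lit 252) (.node (nat_lit 179) (.node (nat_lit 174) (.leaf (nat_lit 76)) (.node (nat_lit 175) (.leaf (nat_lit 72)) (.leaf (nat_lit 8)))) (.node (nat_lit 202) (.node (nat_lit 188) (.leaf (nat_lit 33)) (.leaf (nat_lit 2))) (.node (nat_lit 220) (.leaf (nat_lit 74)) (.leaf (nat_lit 78))))) (.node (nat_lit 311) (.node (nat_lit 308) (.node (nat_lit 292) (.leaf (nat_lit 72)) (.leaf (nat_lit 26))) (.node (nat_lit 310) (.leaf (nat_lit 12)) (.leaf (nat_lit 9)))) (.node (nat_lit 351) (.node (nat_lit 343) (.leaf (nat_lit 13)) (.leaf (nat_lit 128))) (.node (nat_lit 361) (.leaf (nat_lit 25)) (.leaf (nat_lit 81))))))) (.node (nat_lit 605) (.node (nat_lit 510) (.node (nat_lit 408) (.node (nat_lit 393) (.leaf (nat_lit 92)) (.node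 (nat_lit 395) (.leaf (nat_lit 13)) (.leaf (nat_lit 16)))) (.node (nat_lit 441) (.node (nat_lit 425) (.leaf (nat_lit 32)) (.leaf (nat_lit 84))) (.node (nat_lit 466) (.leaf (nat_lit 34)) (.leaf (nat_lit 93))))) (.node (nat_lit 560) (.node (nat_lit 543) (.node (nat_lit 523) (.leaf (nat_lit 19)) (.leaf (nat_lit 16))) (.node (nat_lit 557) (.leaf (nat_lit 12)) (.leaf (nat_lit 130)))) (.node (nat_lit 600) (.node (nat_lit 573) (.leaf (nat_lit 0)) (.leaf (nat_lit 85))) (.node (nat_lit 603) (.leaf (nat_lit 67)) (.leaf (nat_lit 65)))))) (.node (nat_lit 683) (.node (nat_lit 634) (.node (nat_lit 618) (.leaf (nat_lit 129)) (.node (nat_lit 630) (.leaf (nat_lit 64)) (.leaf (nat_lit 18)))) (.node (nat_lit 679) (.node (nat_lit 664) (.leaf (nat_lit 89)) (.leaf (nat_lit 0))) (.node (nat_lit 682) (.leaf (nat_lit 32)) (.leaf (nat_lit 74))))) (.node (nat_lit 739) (.node (nat_lit 706) (.node (nat_lit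 703) (.leaf (nat_lit 131)) (.leaf (nat_lit 18))) (.node (nat_lit 707) (.leaf (nat_lit 1)) (.leaf (nat_lit 80)))) (.node (nat_lit 794) (.node (nat_lit 791) (.leaf (nat_lit 17)) (.leaf (nat_lit 9))) (.node (nat_lit 809) (.leaf (nat_lit 0)) (.leaf (nat_lit 65))))))))
noncomputable def AP_cl_F : Fm := (.allS AP_lK (.imp (.eq (.mul (.v (nat_lit 0)) (.v (nat_lit 0))) .one) (.or (.qf (.mem (.v (nat_lit 0)) AP_lI)) (.exG AP_lT (fun cs => AP_cl_t0.find (Nat.mod (nth (nat_lit 0) cs (nat_lit 0)) (nat_lit 833))) (.qf (.or (.and (.mem (.v (nat_lit 1)) AP_lKL) (.eq (.mul (.mul (.v (nat_lit 0)) (.v (nat_lit 1))) (.inv (.v (nat_lit 0)))) (.v (nat_lit 13)))) (.or (.and (.mem (.v (nat_lit 1)) AP_lKR) (.eq (.mul (.mul (.v (nat_lit 0)) (.v (nat_lit 1))) (.inv (.v (nat_lit 0)))) (.v (nat_lit 14)))) (.and (.mem (.v (nat_lit 1)) AP_lKJ) (.eq (.mul (.mul (.v (nat_lit 0)) (.v (nat_lit 1))) (.inv (.v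 (nat_lit 0)))) (.mul (.v (nat_lit 13)) (.v (nat_lit 14))))))))))))
theorem AP_cl_chk : Fm.chk AP_o AP_cl_F AP_cs = true := by decide +kernel
theorem AP_cl {G : Type*} [Group G] {R : ℕ → G → Prop} {z u v a b i j k l x y r s t : G}
    (M : Md0 AP_o AP_cs R [z, u, v, a, b, i, j, k, l, x, y, r, s, t]) :
    ∀ g ∈ sp [i, x, y, r, s], g * g = 1 → g ∈ sp [i, j, k, l] ∨ (∃ h ∈ sp [i, x, y], g ∈ sp [i, x, y, r] ∧ h * g * h⁻¹ = r ∨ g ∈ sp [i, x, y, s] ∧ h * g * h⁻¹ = s ∨ g ∈ sp [i, x, y, r * s] ∧ h * g * h⁻¹ = r * s) :=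
  have h : ∀ g, InS R AP_lK g → g * g = 1 → InS R AP_lI (g) ∨ (GoodS R AP_lT → AP_lT ≠ [] → ∃ h, InS R AP_lT h ∧ (InS R AP_lKL (g) ∧ h * g * h⁻¹ = r ∨ InS R AP_lKR (g) ∧ h * g * h⁻¹ = s ∨ InS R AP_lKJ (g) ∧ h * g * h⁻¹ = r * s)) :=
    Fm.sound M.μ AP_cl_F AP_cl_chk M.reps
  (fun g h0 => (fun h1 => (Or.imp (fun h2 => ((AP_lI_E M).iff.1 h2)) (fun h2 => (Exists.imp (fun h h3 => ⟨(AP_lT_E M).iff.1 h3.1, ((or_congr (and_congr (AP_lKL_E M).iff Iff.rfl) (or_congr (and_congr (AP_lKR_E M).iff Iff.rfl) (and_congr (AP_lKJ_E M).iff Iff.rfl))).1 h3.2)⟩) (h2 (AP_lT_E M).good (AP_lT_E M).ne))) ((h g ((AP_lK_E M).iff.2 h0)) h1))))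
noncomputable def AP_cr_t0 : ST := (.node (nat_lit 12754) (.node (nat_lit 6038) (.node (nat_lit 2906) (.node (nat_lit 1158) (.node (nat_lit 639) (.node (nat_lit 349) (.node (nat_lit 124) (.node (nat_lit 104) (.leaf (nat_lit 15)) (.leaf (nat_lit 6))) (.node (nat_lit 276) (.leaf (nat_lit 4)) (.node (nat_lit 300) (.leaf (nat_lit 10)) (.leaf (nat_lit 15))))) (.node (nat_lit 386) (.node (nat_lit 379) (.leaf (nat_lit 0)) (.leaf (nat_lit 3))) (.node (nat_lit 501) (.leaf (nat_lit 15)) (.node (nat_lit 593) (.leaf (nat_lit 9)) (.leaf (nat_lit 6)))))) (.node (nat_lit 975) (.node (nat_lit 716) (.node (nat_lit 661) (.leaf (nat_lit 0)) (.leaf (nat_lit 3))) (.node (nat_lit 868) (.leaf (nat_lit 4)) (.node (nat_lit 969) (.leaf (nat_lit 9)) (.leaf (nat_lit 15))))) (.node (nat_lit 1073) (.node (nat_lit 983) (.leaf (nat_lit 6)) (.leaf (nat_lit 15))) (.node (nat_lit 1140) (.leaf (nat_lit 10)) (.node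 (nat_lit 1146) (.leaf (nat_lit 0)) (.leaf (nat_lit 3))))))) (.node (nat_lit 2034) (.node (nat_lit 1558) (.node (nat_lit 1303) (.node (nat_lit 1270) (.leaf (nat_lit 9)) (.leaf (nat_lit 6))) (.node (nat_lit 1536) (.leaf (nat_lit 15)) (.node (nat_lit 1539) (.leaf (nat_lit 3)) (.leaf (nat_lit 15))))) (.node (nat_lit 1798) (.node (nat_lit 1610) (.leaf (nat_lit 4)) (.leaf (nat_lit 10))) (.node (nat_lit 1813) (.leaf (nat_lit 6)) (.node (nat_lit 1973) (.leaf (nat_lit 0)) (.leaf (nat_lit 6)))))) (.node (nat_lit 2344) (.node (nat_lit 2220) (.node (nat_lit 2132) (.leaf (nat_lit 9)) (.leaf (nat_lit 0))) (.node (nat_lit 2243) (.leaf (nat_lit 15)) (.node (nat_lit 2263) (.leaf (nat_lit 0)) (.leaf (nat_lit 15))))) (.node (nat_lit 2580) (.node (nat_lit 2488) (.leaf (nat_lit 6)) (.node (nat_lit 2493) (.leaf (nat_lit 10)) (.leaf (nat_lit 3)))) (.node (nat_lit 2625) (.leaf (nat_lit 15)) (.node (nat_lit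 2834) (.leaf (nat_lit 9)) (.leaf (nat_lit 10)))))))) (.node (nat_lit 4486) (.node (nat_lit 3569) (.node (nat_lit 3252) (.node (nat_lit 3029) (.node (nat_lit 2919) (.leaf (nat_lit 9)) (.leaf (nat_lit 0))) (.node (nat_lit 3090) (.leaf (nat_lit 15)) (.node (nat_lit 3236) (.leaf (nat_lit 6)) (.leaf (nat_lit 3))))) (.node (nat_lit 3297) (.node (nat_lit 3255) (.leaf (nat_lit 6)) (.leaf (nat_lit 0))) (.node (nat_lit 3298) (.leaf (nat_lit 6)) (.node (nat_lit 3497) (.leaf (nat_lit 15)) (.leaf (nat_lit 9)))))) (.node (nat_lit 4078) (.node (nat_lit 3953) (.node (nat_lit 3682) (.leaf (nat_lit 4)) (.leaf (nat_lit 0))) (.node (nat_lit 3994) (.leaf (nat_lit 4)) (.node (nat_lit 3998) (.leaf (nat_lit 0)) (.leaf (nat_lit 10))))) (.node (nat_lit 4213) (.node (nat_lit 4195) (.leaf (nat_lit 9)) (.node (nat_lit 4212) (.leaf (nat_lit 6)) (.leaf (nat_lit 3)))) (.node (nat_lit 4446) (.leaf (nat_lit 10))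 (.node (nat_lit 4482) (.leaf (nat_lit 3)) (.leaf (nat_lit 0))))))) (.node (nat_lit 4987) (.node (nat_lit 4886) (.node (nat_lit 4771) (.node (nat_lit 4506) (.leaf (nat_lit 9)) (.leaf (nat_lit 0))) (.node (nat_lit 4773) (.leaf (nat_lit 15)) (.node (nat_lit 4802) (.leaf (nat_lit 3)) (.leaf (nat_lit 15))))) (.node (nat_lit 4919) (.node (nat_lit 4912) (.leaf (nat_lit 3)) (.leaf (nat_lit 4))) (.node (nat_lit 4937) (.leaf (nat_lit 9)) (.node (nat_lit 4983) (.leaf (nat_lit 3)) (.leaf (nat_lit 10)))))) (.node (nat_lit 5474) (.node (nat_lit 5184) (.node (nat_lit 5055) (.leaf (nat_lit 0)) (.leaf (nat_lit 9))) (.node (nat_lit 5320) (.leaf (nat_lit 3)) (.node (nat_lit 5408) (.leaf (nat_lit 6)) (.leaf (nat_lit 0))))) (.node (nat_lit 5637) (.node (nat_lit 5543) (.leaf (nat_lit 9)) (.node (nat_lit 5606) (.leaf (nat_lit 3)) (.leaf (nat_lit 15)))) (.node (nat_lit 5756) (.leaf (nat_lit 0)) (.node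 (nat_lit 5805) (.leaf (nat_lit 6)) (.leaf (nat_lit 15))))))))) (.node (nat_lit 9423) (.node (nat_lit 7790) (.node (nat_lit 7155) (.node (nat_lit 6395) (.node (nat_lit 6179) (.node (nat_lit 6173) (.leaf (nat_lit 0)) (.leaf (nat_lit 9))) (.node (nat_lit 6208) (.leaf (nat_lit 4)) (.node (nat_lit 6305) (.leaf (nat_lit 15)) (.leaf (nat_lit 6))))) (.node (nat_lit 6882) (.node (nat_lit 6402) (.leaf (nat_lit 9)) (.leaf (nat_lit 0))) (.node (nat_lit 6929) (.leaf (nat_lit 15)) (.node (nat_lit 7020) (.leaf (nat_lit 10)) (.leaf (nat_lit 4)))))) (.node (nat_lit 7476) (.node (nat_lit 7248) (.node (nat_lit 7176) (.leaf (nat_lit 6)) (.leaf (nat_lit 0))) (.node (nat_lit 7292) (.leaf (nat_lit 10)) (.node (nat_lit 7445) (.leaf (nat_lit 15)) (.leaf (nat_lit 9))))) (.node (nat_lit 7554) (.node (nat_lit 7482) (.leaf (nat_lit 10)) (.leaf (nat_lit 0))) (.node (nat_lit 7564) (.leaf (nat_lit 10)) (.node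 (nat_lit 7691) (.leaf (nat_lit 0)) (.leaf (nat_lit 15))))))) (.node (nat_lit 8746) (.node (nat_lit 8323) (.node (nat_lit 7884) (.node (nat_lit 7877) (.leaf (nat_lit 0)) (.leaf (nat_lit 9))) (.node (nat_lit 7982) (.leaf (nat_lit 0)) (.node (nat_lit 8048) (.leaf (nat_lit 10)) (.leaf (nat_lit 4))))) (.node (nat_lit 8509) (.node (nat_lit 8343) (.leaf (nat_lit 10)) (.leaf (nat_lit 0))) (.node (nat_lit 8590) (.leaf (nat_lit 3)) (.node (nat_lit 8684) (.leaf (nat_lit 15)) (.leaf (nat_lit 6)))))) (.node (nat_lit 9078) (.node (nat_lit 8953) (.node (nat_lit 8871) (.leaf (nat_lit 3)) (.leaf (nat_lit 4))) (.node (nat_lit 8954) (.leaf (nat_lit 3)) (.node (nat_lit 8981) (.leaf (nat_lit 4)) (.leaf (nat_lit 0))))) (.node (nat_lit 9178) (.node (nat_lit 9112) (.leaf (nat_lit 4)) (.node (nat_lit 9122) (.leaf (nat_lit 3)) (.leaf (nat_lit 4)))) (.node (nat_lit 9253) (.leaf (nat_lit 0)) (.node (nat_lit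 9257) (.leaf (nat_lit 6)) (.leaf (nat_lit 9)))))))) (.node (nat_lit 11028) (.node (nat_lit 10118) (.node (nat_lit 9774) (.node (nat_lit 9560) (.node (nat_lit 9474) (.leaf (nat_lit 0)) (.leaf (nat_lit 3))) (.node (nat_lit 9618) (.leaf (nat_lit 9)) (.node (nat_lit 9635) (.leaf (nat_lit 6)) (.leaf (nat_lit 4))))) (.node (nat_lit 9841) (.node (nat_lit 9825) (.leaf (nat_lit 0)) (.leaf (nat_lit 9))) (.node (nat_lit 9865) (.leaf (nat_lit 4)) (.node (nat_lit 10039) (.leaf (nat_lit 10)) (.leaf (nat_lit 6)))))) (.node (nat_lit 10500) (.node (nat_lit 10186) (.node (nat_lit 10145) (.leaf (nat_lit 0)) (.leaf (nat_lit 15))) (.node (nat_lit 10322) (.leaf (nat_lit 6)) (.node (nat_lit 10341) (.leaf (nat_lit 0)) (.leaf (nat_lit 10))))) (.node (nat_lit 10901) (.node (nat_lit 10564) (.leaf (nat_lit 0)) (.node (nat_lit 10664) (.leaf (nat_lit 15)) (.leaf (nat_lit 9)))) (.node (nat_lit 10927) (.leaf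 (nat_lit 0)) (.node (nat_lit 10971) (.leaf (nat_lit 9)) (.leaf (nat_lit 3))))))) (.node (nat_lit 11446) (.node (nat_lit 11148) (.node (nat_lit 11057) (.node (nat_lit 11046) (.leaf (nat_lit 10)) (.leaf (nat_lit 15))) (.node (nat_lit 11066) (.leaf (nat_lit 0)) (.node (nat_lit 11126) (.leaf (nat_lit 9)) (.leaf (nat_lit 15))))) (.node (nat_lit 11199) (.node (nat_lit 11173) (.leaf (nat_lit 0)) (.leaf (nat_lit 9))) (.node (nat_lit 11224) (.leaf (nat_lit 0)) (.node (nat_lit 11332) (.leaf (nat_lit 3)) (.leaf (nat_lit 0)))))) (.node (nat_lit 11891) (.node (nat_lit 11739) (.node (nat_lit 11734) (.leaf (nat_lit 9)) (.leaf (nat_lit 10))) (.node (nat_lit 11762) (.leaf (nat_lit 15)) (.node (nat_lit 11849) (.leaf (nat_lit 0)) (.leaf (nat_lit 10))))) (.node (nat_lit 12042) (.node (nat_lit 11923) (.leaf (nat_lit 4)) (.node (nat_lit 11974) (.leaf (nat_lit 0)) (.leaf (nat_lit 3)))) (.node (nat_lit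 12420) (.leaf (nat_lit 15)) (.node (nat_lit 12563) (.leaf (nat_lit 0)) (.leaf (nat_lit 15)))))))))) (.node (nat_lit 17618) (.node (nat_lit 15335) (.node (nat_lit 14262) (.node (nat_lit 13544) (.node (nat_lit 13015) (.node (nat_lit 12830) (.node (nat_lit 12779) (.leaf (nat_lit 0)) (.leaf (nat_lit 4))) (.node (nat_lit 12970) (.leaf (nat_lit 3)) (.node (nat_lit 12974) (.leaf (nat_lit 0)) (.leaf (nat_lit 15))))) (.node (nat_lit 13140) (.node (nat_lit 13068) (.leaf (nat_lit 6)) (.leaf (nat_lit 9))) (.node (nat_lit 13279) (.leaf (nat_lit 10)) (.node (nat_lit 13490) (.leaf (nat_lit 0)) (.leaf (nat_lit 10)))))) (.node (nat_lit 13972) (.node (nat_lit 13690) (.node (nat_lit 13660) (.leaf (nat_lit 15)) (.leaf (nat_lit 0))) (.node (nat_lit 13759) (.leaf (nat_lit 6)) (.node (nat_lit 13761) (.leaf (nat_lit 3)) (.leaf (nat_lit 4))))) (.node (nat_lit 13983) (.node (nat_lit 13977) (.leaf (nat_lit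 6)) (.leaf (nat_lit 3))) (.node (nat_lit 14055) (.leaf (nat_lit 10)) (.node (nat_lit 14248) (.leaf (nat_lit 4)) (.leaf (nat_lit 9))))))) (.node (nat_lit 14908) (.node (nat_lit 14444) (.node (nat_lit 14296) (.node (nat_lit 14277) (.leaf (nat_lit 15)) (.leaf (nat_lit 10))) (.node (nat_lit 14358) (.leaf (nat_lit 9)) (.node (nat_lit 14430) (.leaf (nat_lit 6)) (.leaf (nat_lit 15))))) (.node (nat_lit 14602) (.node (nat_lit 14559) (.leaf (nat_lit 3)) (.leaf (nat_lit 15))) (.node (nat_lit 14718) (.leaf (nat_lit 6)) (.node (nat_lit 14827) (.leaf (nat_lit 10)) (.leaf (nat_lit 3)))))) (.node (nat_lit 15042) (.node (nat_lit 14980) (.node (nat_lit 14917) (.leaf (nat_lit 0)) (.leaf (nat_lit 10))) (.node (nat_lit 15014) (.leaf (nat_lit 0)) (.node (nat_lit 15015) (.leaf (nat_lit 4)) (.leaf (nat_lit 10))))) (.node (nat_lit 15129) (.node (nat_lit 15048) (.leaf (nat_lit 15)) (.node (nat_lit 15126)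 (.leaf (nat_lit 0)) (.leaf (nat_lit 10)))) (.node (nat_lit 15203) (.leaf (nat_lit 0)) (.node (nat_lit 15214) (.leaf (nat_lit 6)) (.leaf (nat_lit 0)))))))) (.node (nat_lit 16406) (.node (nat_lit 15897) (.node (nat_lit 15609) (.node (nat_lit 15437) (.node (nat_lit 15359) (.leaf (nat_lit 6)) (.leaf (nat_lit 9))) (.node (nat_lit 15469) (.leaf (nat_lit 15)) (.node (nat_lit 15491) (.leaf (nat_lit 0)) (.leaf (nat_lit 3))))) (.node (nat_lit 15675) (.node (nat_lit 15672) (.leaf (nat_lit 0)) (.leaf (nat_lit 10))) (.node (nat_lit 15676) (.leaf (nat_lit 6)) (.node (nat_lit 15798) (.leaf (nat_lit 0)) (.leaf (nat_lit 3)))))) (.node (nat_lit 16072) (.node (nat_lit 15960) (.node (nat_lit 15912) (.leaf (nat_lit 0)) (.leaf (nat_lit 10))) (.node (nat_lit 15995) (.leaf (nat_lit 4)) (.node (nat_lit 16067) (.leaf (nat_lit 3)) (.leaf (nat_lit 4))))) (.node (nat_lit 16297) (.node (nat_lit 16132) (.leaf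 (nat_lit 15)) (.node (nat_lit 16136) (.leaf (nat_lit 0)) (.leaf (nat_lit 3)))) (.node (nat_lit 16310) (.leaf (nat_lit 10)) (.node (nat_lit 16347) (.leaf (nat_lit 4)) (.leaf (nat_lit 0))))))) (.node (nat_lit 16982) (.node (nat_lit 16732) (.node (nat_lit 16480) (.node (nat_lit 16438) (.leaf (nat_lit 9)) (.leaf (nat_lit 4))) (.node (nat_lit 16507) (.leaf (nat_lit 6)) (.node (nat_lit 16585) (.leaf (nat_lit 0)) (.leaf (nat_lit 10))))) (.node (nat_lit 16870) (.node (nat_lit 16756) (.leaf (nat_lit 4)) (.leaf (nat_lit 9))) (.node (nat_lit 16949) (.leaf (nat_lit 3)) (.node (nat_lit 16966) (.leaf (nat_lit 9)) (.leaf (nat_lit 6)))))) (.node (nat_lit 17279) (.node (nat_lit 17243) (.node (nat_lit 17056) (.leaf (nat_lit 10)) (.leaf (nat_lit 15))) (.node (nat_lit 17248) (.leaf (nat_lit 6)) (.node (nat_lit 17264) (.leaf (nat_lit 15)) (.leaf (nat_lit 0))))) (.node (nat_lit 17368) (.node (nat_lit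 17284) (.leaf (nat_lit 10)) (.node (nat_lit 17357) (.leaf (nat_lit 15)) (.leaf (nat_lit 3)))) (.node (nat_lit 17411) (.leaf (nat_lit 10)) (.node (nat_lit 17539) (.leaf (nat_lit 0)) (.leaf (nat_lit 4))))))))) (.node (nat_lit 19774) (.node (nat_lit 18949) (.node (nat_lit 18058) (.node (nat_lit 17795) (.node (nat_lit 17683) (.node (nat_lit 17646) (.leaf (nat_lit 3)) (.leaf (nat_lit 10))) (.node (nat_lit 17684) (.leaf (nat_lit 4)) (.node (nat_lit 17713) (.leaf (nat_lit 9)) (.leaf (nat_lit 6))))) (.node (nat_lit 17922) (.node (nat_lit 17845) (.leaf (nat_lit 0)) (.leaf (nat_lit 3))) (.node (nat_lit 17959) (.leaf (nat_lit 9)) (.node (nat_lit 17971) (.leaf (nat_lit 4)) (.leaf (nat_lit 3)))))) (.node (nat_lit 18543) (.node (nat_lit 18131) (.node (nat_lit 18090) (.leaf (nat_lit 10)) (.leaf (nat_lit 0))) (.node (nat_lit 18394) (.leaf (nat_lit 6)) (.node (nat_lit 18540) (.leaf (nat_lit 10))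 (.leaf (nat_lit 0))))) (.node (nat_lit 18667) (.node (nat_lit 18617) (.leaf (nat_lit 3)) (.leaf (nat_lit 0))) (.node (nat_lit 18768) (.leaf (nat_lit 9)) (.node (nat_lit 18927) (.leaf (nat_lit 0)) (.leaf (nat_lit 3))))))) (.node (nat_lit 19208) (.node (nat_lit 19047) (.node (nat_lit 18969) (.node (nat_lit 18960) (.leaf (nat_lit 4)) (.leaf (nat_lit 9))) (.node (nat_lit 18985) (.leaf (nat_lit 15)) (.node (nat_lit 19028) (.leaf (nat_lit 3)) (.leaf (nat_lit 0))))) (.node (nat_lit 19175) (.node (nat_lit 19068) (.leaf (nat_lit 10)) (.leaf (nat_lit 4))) (.node (nat_lit 19189) (.leaf (nat_lit 9)) (.node (nat_lit 19199) (.leaf (nat_lit 6)) (.leaf (nat_lit 0)))))) (.node (nat_lit 19278) (.node (nat_lit 19210) (.node (nat_lit 19209) (.leaf (nat_lit 15)) (.leaf (nat_lit 6))) (.node (nat_lit 19247) (.leaf (nat_lit 9)) (.node (nat_lit 19260) (.leaf (nat_lit 3)) (.leaf (nat_lit 6))))) (.node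 (nat_lit 19733) (.node (nat_lit 19632) (.leaf (nat_lit 4)) (.node (nat_lit 19676) (.leaf (nat_lit 10)) (.leaf (nat_lit 0)))) (.node (nat_lit 19753) (.leaf (nat_lit 10)) (.node (nat_lit 19773) (.leaf (nat_lit 0)) (.leaf (nat_lit 9)))))))) (.node (nat_lit 21061) (.node (nat_lit 20252) (.node (nat_lit 19931) (.node (nat_lit 19866) (.node (nat_lit 19801) (.leaf (nat_lit 0)) (.leaf (nat_lit 10))) (.node (nat_lit 19874) (.leaf (nat_lit 15)) (.node (nat_lit 19898) (.leaf (nat_lit 6)) (.leaf (nat_lit 3))))) (.node (nat_lit 20018) (.node (nat_lit 19964) (.leaf (nat_lit 10)) (.leaf (nat_lit 3))) (.node (nat_lit 20221) (.leaf (nat_lit 6)) (.node (nat_lit 20232) (.leaf (nat_lit 4)) (.leaf (nat_lit 0)))))) (.node (nat_lit 20390) (.node (nat_lit 20321) (.node (nat_lit 20318) (.leaf (nat_lit 6)) (.leaf (nat_lit 10))) (.node (nat_lit 20346) (.leaf (nat_lit 0)) (.node (nat_lit 20386) (.leaf (nat_lit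 15)) (.leaf (nat_lit 4))))) (.node (nat_lit 20534) (.node (nat_lit 20397) (.leaf (nat_lit 0)) (.node (nat_lit 20529) (.leaf (nat_lit 4)) (.leaf (nat_lit 9)))) (.node (nat_lit 20583) (.leaf (nat_lit 0)) (.node (nat_lit 20612) (.leaf (nat_lit 6)) (.leaf (nat_lit 0))))))) (.node (nat_lit 21723) (.node (nat_lit 21527) (.node (nat_lit 21192) (.node (nat_lit 21119) (.leaf (nat_lit 10)) (.leaf (nat_lit 0))) (.node (nat_lit 21379) (.leaf (nat_lit 4)) (.node (nat_lit 21470) (.leaf (nat_lit 15)) (.leaf (nat_lit 0))))) (.node (nat_lit 21573) (.node (nat_lit 21529) (.leaf (nat_lit 3)) (.leaf (nat_lit 0))) (.node (nat_lit 21583) (.leaf (nat_lit 4)) (.node (nat_lit 21640) (.leaf (nat_lit 0)) (.leaf (nat_lit 6)))))) (.node (nat_lit 21941) (.node (nat_lit 21775) (.node (nat_lit 21742) (.leaf (nat_lit 0)) (.leaf (nat_lit 4))) (.node (nat_lit 21890) (.leaf (nat_lit 0)) (.node (nat_lit 21935) (.leaf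 (nat_lit 4)) (.leaf (nat_lit 0))))) (.node (nat_lit 22023) (.node (nat_lit 21952) (.leaf (nat_lit 10)) (.node (nat_lit 21994) (.leaf (nat_lit 9)) (.leaf (nat_lit 6)))) (.node (nat_lit 22052) (.leaf (nat_lit 9)) (.node (nat_lit 22070) (.leaf (nat_lit 4)) (.leaf (nat_lit 10)))))))))))
noncomputable def AP_cr_F : Fm := (.allS AP_lK (.or (.qf (.mem (.mul (.mul (.mul (.v (nat_lit 0)) (.v (nat_lit 12))) (.inv (.v (nat_lit 0)))) (.inv (.v (nat_lit 12)))) AP_lI)) (.exG AP_lI (fun cs => AP_cr_t0.find (Nat.mod (nth (nat_lit 0) cs (nat_lit 0)) (nat_lit 22089))) (.qf (.or (.eq (.mul (.v (nat_lit 0)) (.mul (.mul (.mul (.v (nat_lit 1)) (.v (nat_lit 13))) (.inv (.v (nat_lit 1)))) (.inv (.v (nat_lit 13))))) (.v (nat_lit 11))) (.eq (.mul (.v (nat_lit 0)) (.mul (.mul (.mul (.v (nat_lit 1)) (.v (nat_lit 13))) (.inv (.v (nat_lit 1)))) (.inv (.v (nat_lit 13))))) (.inv (.v (nat_lit 11)))))))))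
theorem AP_cr_chk : Fm.chk AP_o AP_cr_F AP_cs = true := by decide +kernel
theorem AP_cr {G : Type*} [Group G] {R : ℕ → G → Prop} {z u v a b i j k l x y r s t : G}
    (M : Md0 AP_o AP_cs R [z, u, v, a, b, i, j, k, l, x, y, r, s, t]) :
    ∀ g ∈ sp [i, x, y, r, s], ⁅g, r⁆ ∈ sp [i, j, k, l] ∨ (∃ c ∈ sp [i, j, k, l], c * ⁅g, r⁆ = x ∨ c * ⁅g, r⁆ = x⁻¹) :=
  have h : ∀ g, InS R AP_lK g → InS R AP_lI (⁅g, r⁆) ∨ (GoodS R AP_lI → AP_lI ≠ [] → ∃ c, InS R AP_lI c ∧ (c * ⁅g, r⁆ = x ∨ c * ⁅g, r⁆ = x⁻¹)) :=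
    Fm.sound M.μ AP_cr_F AP_cr_chk M.reps
  (fun g h0 => (Or.imp (fun h1 => ((AP_lI_E M).iff.1 h1)) (fun h1 => (Exists.imp (fun c h2 => ⟨(AP_lI_E M).iff.1 h2.1, h2.2⟩) (h1 (AP_lI_E M).good (AP_lI_E M).ne))) (h g ((AP_lK_E M).iff.2 h0))))
noncomputable def AP_cj_t0 : ST := (.node (nat_lit 92) (.node (nat_lit 52) (.node (nat_lit 30) (.node (nat_lit 21) (.leaf (nat_lit 0)) (.node (nat_lit 28) (.leaf (nat_lit 12)) (.leaf (nat_lit 15)))) (.node (nat_lit 37) (.node (nat_lit 33) (.leaf (nat_lit 0)) (.leaf (nat_lit 7))) (.node (nat_lit 51) (.leaf (nat_lit 9)) (.leaf (nat_lit 4))))) (.node (nat_lit 69) (.node (nat_lit 60) (.node (nat_lit 57) (.leaf (nat_lit 8)) (.leaf (nat_lit 0))) (.node (nat_lit 61) (.leaf (nat_lit 13)) (.leaf (nat_lit 6)))) (.node (nat_lit 79) (.node (nat_lit 70) (.leaf (nat_lit 14)) (.leaf (nat_lit 13))) (.node (nat_lit 80) (.leaf (nat_lit 11)) (.leaf (nat_lit 14))))))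 (.node (nat_lit 130) (.node (nat_lit 117) (.node (nat_lit 100) (.leaf (nat_lit 12)) (.node (nat_lit 101) (.leaf (nat_lit 13)) (.leaf (nat_lit 8)))) (.node (nat_lit 119) (.node (nat_lit 118) (.leaf (nat_lit 14)) (.leaf (nat_lit 10))) (.node (nat_lit 121) (.leaf (nat_lit 5)) (.leaf (nat_lit 0))))) (.node (nat_lit 142) (.node (nat_lit 134) (.node (nat_lit 131) (.leaf (nat_lit 7)) (.leaf (nat_lit 0))) (.node (nat_lit 138) (.leaf (nat_lit 3)) (.leaf (nat_lit 2)))) (.node (nat_lit 149) (.node (nat_lit 147) (.leaf (nat_lit 7)) (.leaf (nat_lit 0))) (.node (nat_lit 153) (.leaf (nat_lit 11)) (.leaf (nat_lit 12)))))))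
noncomputable def AP_cj_F : Fm := (.allS AP_lK (.lt (.mul (.mul (.mul (.v (nat_lit 0)) (.mul (.v (nat_lit 12)) (.v (nat_lit 13)))) (.inv (.v (nat_lit 0)))) (.inv (.mul (.v (nat_lit 12)) (.v (nat_lit 13))))) (.or (.qf (.mem (.v (nat_lit 0)) AP_lI)) (.exG AP_lI (fun cs => AP_cj_t0.find (Nat.mod (nth (nat_lit 0) cs (nat_lit 0)) (nat_lit 161))) (.lt (.mul (.v (nat_lit 0)) (.v (nat_lit 1))) (.qf (.or (.eq (.v (nat_lit 0)) (.v (nat_lit 13))) (.or (.eq (.v (nat_lit 0)) (.inv (.v (nat_lit 13)))) (.or (.eq (.v (nat_lit 0)) (.v (nat_lit 14))) (.or (.eq (.v (nat_lit 0)) (.inv (.v (nat_lit 14)))) (.or (.eq (.v (nat_lit 0)) (.mul (.v (nat_lit 13)) (.v (nat_lit 14)))) (.or (.eq (.v (nat_lit 0)) (.inv (.mul (.v (nat_lit 13)) (.v (nat_lit 14))))) (.or (.eq (.v (nat_lit 0)) (.mul (.v (nat_lit 13)) (.inv (.v (nat_lit 14))))) (.eq (.v (nat_lit 0)) (.inv (.mul (.v (nat_lit 13)) (.inv (.v (nat_lit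 14)))))))))))))))))))
theorem AP_cj_chk : Fm.chk AP_o AP_cj_F AP_cs = true := by decide +kernel
theorem AP_cj {G : Type*} [Group G] {R : ℕ → G → Prop} {z u v a b i j k l x y r s t : G}
    (M : Md0 AP_o AP_cs R [z, u, v, a, b, i, j, k, l, x, y, r, s, t]) :
    ∀ g ∈ sp [i, x, y, r, s], ⁅g, r * s⁆ ∈ sp [i, j, k, l] ∨ (∃ c ∈ sp [i, j, k, l], c * ⁅g, r * s⁆ = x ∨ c * ⁅g, r * s⁆ = x⁻¹ ∨ c * ⁅g, r * s⁆ = y ∨ c * ⁅g, r * s⁆ = y⁻¹ ∨ c * ⁅g, r * s⁆ = x * y ∨ c * ⁅g, r * s⁆ = (x * y)⁻¹ ∨ c * ⁅g, r * s⁆ = x * y⁻¹ ∨ c * ⁅g, r * s⁆ = (x * y⁻¹)⁻¹) :=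
  have h : ∀ g, InS R AP_lK g → InS R AP_lI (⁅g, r * s⁆) ∨ (GoodS R AP_lI → AP_lI ≠ [] → ∃ c, InS R AP_lI c ∧ (c * ⁅g, r * s⁆ = x ∨ c * ⁅g, r * s⁆ = x⁻¹ ∨ c * ⁅g, r * s⁆ = y ∨ c * ⁅g, r * s⁆ = y⁻¹ ∨ c * ⁅g, r * s⁆ = x * y ∨ c * ⁅g, r * s⁆ = (x * y)⁻¹ ∨ c * ⁅g, r * s⁆ = x * y⁻¹ ∨ c * ⁅g, r * s⁆ = (x * y⁻¹)⁻¹)) :=
    Fm.sound M.μ AP_cj_F AP_cj_chk M.reps
  (fun g h0 => (Or.imp (fun h1 => ((AP_lI_E M).iff.1 h1)) (fun h1 => (Exists.imp (fun c h2 => ⟨(AP_lI_E M).iff.1 h2.1, h2.2⟩) (h1 (AP_lI_E M).good (AP_lI_E M).ne))) (h g ((AP_lK_E M).iff.2 h0))))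
noncomputable def AP_cs0_t0 : ST := (.node (nat_lit 20151) (.node (nat_lit 10016) (.node (nat_lit 5171) (.node (nat_lit 2398) (.node (nat_lit 749) (.node (nat_lit 534) (.node (nat_lit 344) (.node (nat_lit 264) (.leaf (nat_lit 9)) (.leaf (nat_lit 5))) (.node (nat_lit 421) (.leaf (nat_lit 10)) (.leaf (nat_lit 4)))) (.node (nat_lit 615) (.node (nat_lit 553) (.leaf (nat_lit 15)) (.leaf (nat_lit 0))) (.node (nat_lit 679) (.leaf (nat_lit 2)) (.node (nat_lit 689) (.leaf (nat_lit 15)) (.leaf (nat_lit 0)))))) (.node (nat_lit 1854) (.node (nat_lit 1199) (.node (nat_lit 1126) (.leaf (nat_lit 4)) (.leaf (nat_lit 15))) (.node (nat_lit 1432) (.leaf (nat_lit 9)) (.node (nat_lit 1721) (.leaf (nat_lit 5)) (.leaf (nat_lit 0))))) (.node (nat_lit 1915) (.node (nat_lit 1885) (.leaf (nat_lit 10)) (.leaf (nat_lit 5))) (.node (nat_lit 2067) (.leaf (nat_lit 9)) (.node (nat_lit 2279) (.leaf (nat_lit 0))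 (.leaf (nat_lit 2))))))) (.node (nat_lit 3322) (.node (nat_lit 2939) (.node (nat_lit 2743) (.node (nat_lit 2681) (.leaf (nat_lit 15)) (.leaf (nat_lit 9))) (.node (nat_lit 2839) (.leaf (nat_lit 4)) (.node (nat_lit 2875) (.leaf (nat_lit 15)) (.leaf (nat_lit 10))))) (.node (nat_lit 3043) (.node (nat_lit 2981) (.leaf (nat_lit 2)) (.leaf (nat_lit 0))) (.node (nat_lit 3205) (.leaf (nat_lit 2)) (.node (nat_lit 3219) (.leaf (nat_lit 15)) (.leaf (nat_lit 4)))))) (.node (nat_lit 4293) (.node (nat_lit 4208) (.node (nat_lit 4158) (.leaf (nat_lit 0)) (.leaf (nat_lit 2))) (.node (nat_lit 4239) (.leaf (nat_lit 10)) (.node (nat_lit 4289) (.leaf (nat_lit 15)) (.leaf (nat_lit 0))))) (.node (nat_lit 4781) (.node (nat_lit 4436) (.leaf (nat_lit 9)) (.leaf (nat_lit 5))) (.node (nat_lit 4963) (.leaf (nat_lit 2)) (.node (nat_lit 5110) (.leaf (nat_lit 10)) (.leaf (nat_lit 0)))))))) (.node (nat_lit 7209)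 (.node (nat_lit 6250) (.node (nat_lit 5744) (.node (nat_lit 5439) (.node (nat_lit 5271) (.leaf (nat_lit 2)) (.leaf (nat_lit 0))) (.node (nat_lit 5621) (.leaf (nat_lit 15)) (.node (nat_lit 5660) (.leaf (nat_lit 5)) (.leaf (nat_lit 2))))) (.node (nat_lit 5891) (.node (nat_lit 5850) (.leaf (nat_lit 10)) (.leaf (nat_lit 5))) (.node (nat_lit 5892) (.leaf (nat_lit 10)) (.node (nat_lit 6182) (.leaf (nat_lit 0)) (.leaf (nat_lit 5)))))) (.node (nat_lit 6685) (.node (nat_lit 6292) (.node (nat_lit 6277) (.leaf (nat_lit 0)) (.leaf (nat_lit 5))) (.node (nat_lit 6361) (.leaf (nat_lit 15)) (.node (nat_lit 6463) (.leaf (nat_lit 0)) (.leaf (nat_lit 10))))) (.node (nat_lit 6958) (.node (nat_lit 6700) (.leaf (nat_lit 5)) (.leaf (nat_lit 15))) (.node (nat_lit 7053) (.leaf (nat_lit 0)) (.node (nat_lit 7119) (.leaf (nat_lit 15)) (.leaf (nat_lit 0))))))) (.node (nat_lit 8815) (.node (nat_lit 8055)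 (.node (nat_lit 7380) (.node (nat_lit 7346) (.leaf (nat_lit 2)) (.leaf (nat_lit 4))) (.node (nat_lit 7727) (.leaf (nat_lit 0)) (.node (nat_lit 7885) (.leaf (nat_lit 2)) (.leaf (nat_lit 5))))) (.node (nat_lit 8434) (.node (nat_lit 8418) (.leaf (nat_lit 2)) (.leaf (nat_lit 9))) (.node (nat_lit 8606) (.leaf (nat_lit 0)) (.node (nat_lit 8607) (.leaf (nat_lit 2)) (.leaf (nat_lit 4)))))) (.node (nat_lit 9666) (.node (nat_lit 8953) (.node (nat_lit 8868) (.leaf (nat_lit 15)) (.leaf (nat_lit 4))) (.node (nat_lit 9290) (.leaf (nat_lit 2)) (.node (nat_lit 9569) (.leaf (nat_lit 5)) (.leaf (nat_lit 2))))) (.node (nat_lit 9717) (.node (nat_lit 9697) (.leaf (nat_lit 10)) (.leaf (nat_lit 5))) (.node (nat_lit 9753) (.leaf (nat_lit 15)) (.node (nat_lit 9988) (.leaf (nat_lit 0)) (.leaf (nat_lit 10))))))))) (.node (nat_lit 15401) (.node (nat_lit 13019) (.node (nat_lit 10863) (.node (nat_lit 10512)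 (.node (nat_lit 10221) (.node (nat_lit 10081) (.leaf (nat_lit 5)) (.leaf (nat_lit 0))) (.node (nat_lit 10295) (.leaf (nat_lit 15)) (.leaf (nat_lit 10)))) (.node (nat_lit 10622) (.node (nat_lit 10599) (.leaf (nat_lit 4)) (.leaf (nat_lit 15))) (.node (nat_lit 10631) (.leaf (nat_lit 0)) (.node (nat_lit 10695) (.leaf (nat_lit 15)) (.leaf (nat_lit 0)))))) (.node (nat_lit 12476) (.node (nat_lit 11070) (.node (nat_lit 10878) (.leaf (nat_lit 4)) (.leaf (nat_lit 0))) (.node (nat_lit 12084) (.leaf (nat_lit 5)) (.node (nat_lit 12394) (.leaf (nat_lit 10)) (.leaf (nat_lit 0))))) (.node (nat_lit 12681) (.node (nat_lit 12549) (.leaf (nat_lit 10)) (.leaf (nat_lit 0))) (.node (nat_lit 12765) (.leaf (nat_lit 4)) (.node (nat_lit 13002) (.leaf (nat_lit 2)) (.leaf (nat_lit 5))))))) (.node (nat_lit 14413) (.node (nat_lit 13419) (.node (nat_lit 13141) (.node (nat_lit 13042) (.leaf (nat_lit 2)) (.leaf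 (nat_lit 9))) (.node (nat_lit 13324) (.leaf (nat_lit 4)) (.node (nat_lit 13347) (.leaf (nat_lit 15)) (.leaf (nat_lit 10))))) (.node (nat_lit 13766) (.node (nat_lit 13518) (.leaf (nat_lit 9)) (.leaf (nat_lit 15))) (.node (nat_lit 13826) (.leaf (nat_lit 5)) (.node (nat_lit 14046) (.leaf (nat_lit 15)) (.leaf (nat_lit 9)))))) (.node (nat_lit 14974) (.node (nat_lit 14731) (.node (nat_lit 14484) (.leaf (nat_lit 15)) (.leaf (nat_lit 0))) (.node (nat_lit 14783) (.leaf (nat_lit 5)) (.node (nat_lit 14845) (.leaf (nat_lit 0)) (.leaf (nat_lit 4))))) (.node (nat_lit 14984) (.node (nat_lit 14979) (.leaf (nat_lit 0)) (.leaf (nat_lit 9))) (.node (nat_lit 15138) (.leaf (nat_lit 0)) (.node (nat_lit 15308) (.leaf (nat_lit 9)) (.leaf (nat_lit 0)))))))) (.node (nat_lit 17685) (.node (nat_lit 16587) (.node (nat_lit 15908) (.node (nat_lit 15495) (.node (nat_lit 15468) (.leaf (nat_lit 4)) (.leaf (nat_lit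 5))) (.node (nat_lit 15545) (.leaf (nat_lit 2)) (.node (nat_lit 15672) (.leaf (nat_lit 15)) (.leaf (nat_lit 0))))) (.node (nat_lit 16239) (.node (nat_lit 15909) (.leaf (nat_lit 10)) (.leaf (nat_lit 9))) (.node (nat_lit 16259) (.leaf (nat_lit 0)) (.node (nat_lit 16563) (.leaf (nat_lit 9)) (.leaf (nat_lit 2)))))) (.node (nat_lit 17306) (.node (nat_lit 16813) (.node (nat_lit 16810) (.leaf (nat_lit 9)) (.leaf (nat_lit 15))) (.node (nat_lit 17067) (.leaf (nat_lit 2)) (.node (nat_lit 17080) (.leaf (nat_lit 9)) (.leaf (nat_lit 4))))) (.node (nat_lit 17404) (.node (nat_lit 17367) (.leaf (nat_lit 10)) (.leaf (nat_lit 9))) (.node (nat_lit 17531) (.leaf (nat_lit 0)) (.node (nat_lit 17592) (.leaf (nat_lit 2)) (.leaf (nat_lit 9))))))) (.node (nat_lit 18850) (.node (nat_lit 18471) (.node (nat_lit 17965) (.node (nat_lit 17808) (.leaf (nat_lit 5)) (.leaf (nat_lit 4))) (.node (nat_lit 17973)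 (.leaf (nat_lit 9)) (.node (nat_lit 18327) (.leaf (nat_lit 0)) (.leaf (nat_lit 5))))) (.node (nat_lit 18760) (.node (nat_lit 18746) (.leaf (nat_lit 4)) (.leaf (nat_lit 10))) (.node (nat_lit 18780) (.leaf (nat_lit 9)) (.node (nat_lit 18838) (.leaf (nat_lit 0)) (.leaf (nat_lit 10)))))) (.node (nat_lit 19661) (.node (nat_lit 19240) (.node (nat_lit 19230) (.leaf (nat_lit 9)) (.leaf (nat_lit 10))) (.node (nat_lit 19290) (.leaf (nat_lit 5)) (.node (nat_lit 19355) (.leaf (nat_lit 4)) (.leaf (nat_lit 2))))) (.node (nat_lit 19898) (.node (nat_lit 19671) (.leaf (nat_lit 0)) (.leaf (nat_lit 4))) (.node (nat_lit 19906) (.leaf (nat_lit 0)) (.node (nat_lit 19986) (.leaf (nat_lit 2)) (.leaf (nat_lit 9)))))))))) (.node (nat_lit 27097) (.node (nat_lit 23835) (.node (nat_lit 22619) (.node (nat_lit 21062) (.node (nat_lit 20674) (.node (nat_lit 20489) (.node (nat_lit 20328) (.leaf (nat_lit 5)) (.leaf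 (nat_lit 9))) (.node (nat_lit 20646) (.leaf (nat_lit 2)) (.leaf (nat_lit 4)))) (.node (nat_lit 20724) (.node (nat_lit 20717) (.leaf (nat_lit 9)) (.leaf (nat_lit 5))) (.node (nat_lit 20882) (.leaf (nat_lit 9)) (.node (nat_lit 21036) (.leaf (nat_lit 10)) (.leaf (nat_lit 9)))))) (.node (nat_lit 22098) (.node (nat_lit 21440) (.node (nat_lit 21152) (.leaf (nat_lit 0)) (.leaf (nat_lit 2))) (.node (nat_lit 21467) (.leaf (nat_lit 15)) (.node (nat_lit 21477) (.leaf (nat_lit 4)) (.leaf (nat_lit 5))))) (.node (nat_lit 22416) (.node (nat_lit 22167) (.leaf (nat_lit 10)) (.leaf (nat_lit 0))) (.node (nat_lit 22421) (.leaf (nat_lit 4)) (.node (nat_lit 22580) (.leaf (nat_lit 10)) (.leaf (nat_lit 2))))))) (.node (nat_lit 23177) (.node (nat_lit 22969) (.node (nat_lit 22657) (.node (nat_lit 22652) (.leaf (nat_lit 4)) (.leaf (nat_lit 15))) (.node (nat_lit 22738) (.leaf (nat_lit 0)) (.node (nat_lit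 22918) (.leaf (nat_lit 2)) (.leaf (nat_lit 5))))) (.node (nat_lit 23045) (.node (nat_lit 23008) (.leaf (nat_lit 0)) (.leaf (nat_lit 4))) (.node (nat_lit 23047) (.leaf (nat_lit 9)) (.node (nat_lit 23114) (.leaf (nat_lit 10)) (.leaf (nat_lit 4)))))) (.node (nat_lit 23638) (.node (nat_lit 23344) (.node (nat_lit 23183) (.leaf (nat_lit 9)) (.leaf (nat_lit 2))) (.node (nat_lit 23361) (.leaf (nat_lit 9)) (.node (nat_lit 23391) (.leaf (nat_lit 5)) (.leaf (nat_lit 9))))) (.node (nat_lit 23682) (.node (nat_lit 23677) (.leaf (nat_lit 5)) (.leaf (nat_lit 15))) (.node (nat_lit 23696) (.leaf (nat_lit 9)) (.node (nat_lit 23817) (.leaf (nat_lit 4)) (.leaf (nat_lit 10)))))))) (.node (nat_lit 25708) (.node (nat_lit 24519) (.node (nat_lit 24059) (.node (nat_lit 23962) (.node (nat_lit 23919) (.leaf (nat_lit 15)) (.leaf (nat_lit 4))) (.node (nat_lit 24047) (.leaf (nat_lit 0)) (.node (nat_lit 24053)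 (.leaf (nat_lit 2)) (.leaf (nat_lit 0))))) (.node (nat_lit 24341) (.node (nat_lit 24139) (.leaf (nat_lit 10)) (.leaf (nat_lit 0))) (.node (nat_lit 24367) (.leaf (nat_lit 4)) (.node (nat_lit 24400) (.leaf (nat_lit 2)) (.leaf (nat_lit 0)))))) (.node (nat_lit 25306) (.node (nat_lit 24684) (.node (nat_lit 24679) (.leaf (nat_lit 10)) (.leaf (nat_lit 0))) (.node (nat_lit 24833) (.leaf (nat_lit 5)) (.node (nat_lit 25171) (.leaf (nat_lit 15)) (.leaf (nat_lit 4))))) (.node (nat_lit 25474) (.node (nat_lit 25313) (.leaf (nat_lit 15)) (.leaf (nat_lit 0))) (.node (nat_lit 25505) (.leaf (nat_lit 10)) (.node (nat_lit 25559) (.leaf (nat_lit 0)) (.leaf (nat_lit 4))))))) (.node (nat_lit 26441) (.node (nat_lit 26309) (.node (nat_lit 26103) (.node (nat_lit 25987) (.leaf (nat_lit 0)) (.leaf (nat_lit 15))) (.node (nat_lit 26145) (.leaf (nat_lit 0)) (.node (nat_lit 26191) (.leaf (nat_lit 9)) (.leaf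 (nat_lit 10))))) (.node (nat_lit 26385) (.node (nat_lit 26370) (.leaf (nat_lit 2)) (.leaf (nat_lit 4))) (.node (nat_lit 26412) (.leaf (nat_lit 15)) (.node (nat_lit 26417) (.leaf (nat_lit 5)) (.leaf (nat_lit 15)))))) (.node (nat_lit 26740) (.node (nat_lit 26498) (.node (nat_lit 26471) (.leaf (nat_lit 4)) (.leaf (nat_lit 10))) (.node (nat_lit 26636) (.leaf (nat_lit 9)) (.node (nat_lit 26738) (.leaf (nat_lit 5)) (.leaf (nat_lit 2))))) (.node (nat_lit 26927) (.node (nat_lit 26920) (.leaf (nat_lit 5)) (.leaf (nat_lit 0))) (.node (nat_lit 26991) (.leaf (nat_lit 15)) (.node (nat_lit 27049) (.leaf (nat_lit 0)) (.leaf (nat_lit 9))))))))) (.node (nat_lit 30985) (.node (nat_lit 29268) (.node (nat_lit 27937) (.node (nat_lit 27384) (.node (nat_lit 27118) (.node (nat_lit 27101) (.leaf (nat_lit 0)) (.leaf (nat_lit 10))) (.node (nat_lit 27172) (.leaf (nat_lit 2)) (.node (nat_lit 27180) (.leaf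 (nat_lit 0)) (.leaf (nat_lit 9))))) (.node (nat_lit 27422) (.node (nat_lit 27401) (.leaf (nat_lit 4)) (.leaf (nat_lit 10))) (.node (nat_lit 27431) (.leaf (nat_lit 9)) (.node (nat_lit 27894) (.leaf (nat_lit 10)) (.leaf (nat_lit 0)))))) (.node (nat_lit 28736) (.node (nat_lit 28089) (.node (nat_lit 27964) (.leaf (nat_lit 15)) (.leaf (nat_lit 9))) (.node (nat_lit 28347) (.leaf (nat_lit 2)) (.node (nat_lit 28446) (.leaf (nat_lit 0)) (.leaf (nat_lit 4))))) (.node (nat_lit 29135) (.node (nat_lit 28821) (.leaf (nat_lit 0)) (.leaf (nat_lit 9))) (.node (nat_lit 29138) (.leaf (nat_lit 15)) (.node (nat_lit 29154) (.leaf (nat_lit 4)) (.leaf (nat_lit 10))))))) (.node (nat_lit 30211) (.node (nat_lit 29727) (.node (nat_lit 29458) (.node (nat_lit 29430) (.leaf (nat_lit 15)) (.leaf (nat_lit 5))) (.node (nat_lit 29476) (.leaf (nat_lit 15)) (.node (nat_lit 29677) (.leaf (nat_lit 9)) (.leaf (nat_lit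 0))))) (.node (nat_lit 29819) (.node (nat_lit 29732) (.leaf (nat_lit 10)) (.leaf (nat_lit 2))) (.node (nat_lit 29864) (.leaf (nat_lit 5)) (.node (nat_lit 29982) (.leaf (nat_lit 15)) (.leaf (nat_lit 0)))))) (.node (nat_lit 30587) (.node (nat_lit 30330) (.node (nat_lit 30260) (.leaf (nat_lit 9)) (.leaf (nat_lit 10))) (.node (nat_lit 30372) (.leaf (nat_lit 4)) (.node (nat_lit 30564) (.leaf (nat_lit 0)) (.leaf (nat_lit 10))))) (.node (nat_lit 30750) (.node (nat_lit 30712) (.leaf (nat_lit 2)) (.leaf (nat_lit 15))) (.node (nat_lit 30765) (.leaf (nat_lit 5)) (.node (nat_lit 30806) (.leaf (nat_lit 15)) (.leaf (nat_lit 10)))))))) (.node (nat_lit 33596) (.node (nat_lit 31686) (.node (nat_lit 31317) (.node (nat_lit 31063) (.node (nat_lit 30991) (.leaf (nat_lit 2)) (.leaf (nat_lit 9))) (.node (nat_lit 31240) (.leaf (nat_lit 4)) (.node (nat_lit 31263) (.leaf (nat_lit 10)) (.leaf (nat_lit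 0))))) (.node (nat_lit 31487) (.node (nat_lit 31377) (.leaf (nat_lit 15)) (.leaf (nat_lit 9))) (.node (nat_lit 31506) (.leaf (nat_lit 2)) (.node (nat_lit 31621) (.leaf (nat_lit 0)) (.leaf (nat_lit 2)))))) (.node (nat_lit 33001) (.node (nat_lit 31999) (.node (nat_lit 31897) (.leaf (nat_lit 5)) (.leaf (nat_lit 9))) (.node (nat_lit 32437) (.leaf (nat_lit 4)) (.node (nat_lit 32684) (.leaf (nat_lit 5)) (.leaf (nat_lit 2))))) (.node (nat_lit 33156) (.node (nat_lit 33069) (.leaf (nat_lit 0)) (.leaf (nat_lit 10))) (.node (nat_lit 33389) (.leaf (nat_lit 5)) (.node (nat_lit 33447) (.leaf (nat_lit 0)) (.leaf (nat_lit 2))))))) (.node (nat_lit 34256) (.node (nat_lit 33904) (.node (nat_lit 33681) (.node (nat_lit 33600) (.leaf (nat_lit 0)) (.leaf (nat_lit 15))) (.node (nat_lit 33745) (.leaf (nat_lit 4)) (.node (nat_lit 33887) (.leaf (nat_lit 15)) (.leaf (nat_lit 2))))) (.node (nat_lit 33986)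 (.node (nat_lit 33942) (.leaf (nat_lit 0)) (.leaf (nat_lit 15))) (.node (nat_lit 33987) (.leaf (nat_lit 10)) (.node (nat_lit 34011) (.leaf (nat_lit 0)) (.leaf (nat_lit 9)))))) (.node (nat_lit 34664) (.node (nat_lit 34330) (.node (nat_lit 34300) (.leaf (nat_lit 0)) (.leaf (nat_lit 2))) (.node (nat_lit 34353) (.leaf (nat_lit 5)) (.node (nat_lit 34509) (.leaf (nat_lit 4)) (.leaf (nat_lit 9))))) (.node (nat_lit 35226) (.node (nat_lit 34804) (.leaf (nat_lit 4)) (.leaf (nat_lit 0))) (.node (nat_lit 35365) (.leaf (nat_lit 15)) (.node (nat_lit 35378) (.leaf (nat_lit 0)) (.leaf (nat_lit 5)))))))))))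
noncomputable def AP_cs0_F : Fm := (.allS AP_lK (.or (.qf (.mem (.mul (.mul (.mul (.v (nat_lit 0)) (.v (nat_lit 13))) (.inv (.v (nat_lit 0)))) (.inv (.v (nat_lit 13)))) AP_lI)) (.exG AP_lI (fun cs => AP_cs0_t0.find (Nat.mod (nth (nat_lit 0) cs (nat_lit 0)) (nat_lit 35767))) (.qf (.or (.eq (.mul (.v (nat_lit 0)) (.mul (.mul (.mul (.v (nat_lit 1)) (.v (nat_lit 14))) (.inv (.v (nat_lit 1)))) (.inv (.v (nat_lit 14))))) (.v (nat_lit 12))) (.eq (.mul (.v (nat_lit 0)) (.mul (.mul (.mul (.v (nat_lit 1)) (.v (nat_lit 14))) (.inv (.v (nat_lit 1)))) (.inv (.v (nat_lit 14))))) (.inv (.v (nat_lit 12)))))))))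
theorem AP_cs0_chk : Fm.chk AP_o AP_cs0_F AP_cs = true := by decide +kernel
theorem AP_cs0 {G : Type*} [Group G] {R : ℕ → G → Prop} {z u v a b i j k l x y r s t : G}
    (M : Md0 AP_o AP_cs R [z, u, v, a, b, i, j, k, l, x, y, r, s, t]) :
    ∀ g ∈ sp [i, x, y, r, s], ⁅g, s⁆ ∈ sp [i, j, k, l] ∨ (∃ c ∈ sp [i, j, k, l], c * ⁅g, s⁆ = y ∨ c * ⁅g, s⁆ = y⁻¹) :=
  have h : ∀ g, InS R AP_lK g → InS R AP_lI (⁅g, s⁆) ∨ (GoodS R AP_lI → AP_lI ≠ [] → ∃ c, InS R AP_lI c ∧ (c * ⁅g, s⁆ = y ∨ c * ⁅g, s⁆ = y⁻¹)) :=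
    Fm.sound M.μ AP_cs0_F AP_cs0_chk M.reps
  (fun g h0 => (Or.imp (fun h1 => ((AP_lI_E M).iff.1 h1)) (fun h1 => (Exists.imp (fun c h2 => ⟨(AP_lI_E M).iff.1 h2.1, h2.2⟩) (h1 (AP_lI_E M).good (AP_lI_E M).ne))) (h g ((AP_lK_E M).iff.2 h0))))
noncomputable def AP_cs1_t0 : ST := (.node (nat_lit 12651) (.node (nat_lit 6521) (.node (nat_lit 3385) (.node (nat_lit 1526) (.node (nat_lit 969) (.node (nat_lit 527) (.node (nat_lit 357) (.node (nat_lit 338) (.leaf (nat_lit 5)) (.leaf (nat_lit 15))) (.node (nat_lit 427) (.leaf (nat_lit 0)) (.node (nat_lit 468) (.leaf (nat_lit 10)) (.leaf (nat_lit 3))))) (.node (nat_lit 582) (.node (nat_lit 555) (.leaf (nat_lit 0)) (.leaf (nat_lit 5))) (.node (nat_lit 765) (.leaf (nat_lit 3)) (.node (nat_lit 817) (.leaf (nat_lit 6)) (.leaf (nat_lit 0)))))) (.node (nat_lit 1205) (.node (nat_lit 1019) (.node (nat_lit 999) (.leaf (nat_lit 3)) (.leaf (nat_lit 10)))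 (.node (nat_lit 1098) (.leaf (nat_lit 3)) (.node (nat_lit 1104) (.leaf (nat_lit 0)) (.leaf (nat_lit 6))))) (.node (nat_lit 1376) (.node (nat_lit 1266) (.leaf (nat_lit 3)) (.leaf (nat_lit 6))) (.node (nat_lit 1389) (.leaf (nat_lit 0)) (.node (nat_lit 1447) (.leaf (nat_lit 15)) (.leaf (nat_lit 5))))))) (.node (nat_lit 2049) (.node (nat_lit 1653) (.node (nat_lit 1585) (.node (nat_lit 1541) (.leaf (nat_lit 0)) (.leaf (nat_lit 5))) (.node (nat_lit 1627) (.leaf (nat_lit 1)) (.node (nat_lit 1629) (.leaf (nat_lit 0)) (.leaf (nat_lit 3))))) (.node (nat_lit 1880) (.node (nat_lit 1811) (.leaf (nat_lit 15)) (.leaf (nat_lit 10))) (.node (nat_lit 1888) (.leaf (nat_lit 15)) (.node (nat_lit 2007) (.leaf (nat_lit 10)) (.leaf (nat_lit 0)))))) (.node (nat_lit 2695) (.node (nat_lit 2457) (.node (nat_lit 2094) (.leaf (nat_lit 3)) (.leaf (nat_lit 0))) (.node (nat_lit 2542) (.leaf (nat_lit 15)) (.node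 (nat_lit 2585) (.leaf (nat_lit 1)) (.leaf (nat_lit 0))))) (.node (nat_lit 2800) (.node (nat_lit 2764) (.leaf (nat_lit 3)) (.leaf (nat_lit 15))) (.node (nat_lit 3026) (.leaf (nat_lit 0)) (.node (nat_lit 3050) (.leaf (nat_lit 1)) (.leaf (nat_lit 0)))))))) (.node (nat_lit 4811) (.node (nat_lit 3991) (.node (nat_lit 3727) (.node (nat_lit 3430) (.node (nat_lit 3413) (.leaf (nat_lit 6)) (.leaf (nat_lit 15))) (.node (nat_lit 3490) (.leaf (nat_lit 10)) (.node (nat_lit 3704) (.leaf (nat_lit 15)) (.leaf (nat_lit 6))))) (.node (nat_lit 3829) (.node (nat_lit 3732) (.leaf (nat_lit 15)) (.leaf (nat_lit 6))) (.node (nat_lit 3848) (.leaf (nat_lit 15)) (.node (nat_lit 3915) (.leaf (nat_lit 10)) (.leaf (nat_lit 0)))))) (.node (nat_lit 4407) (.node (nat_lit 4237) (.node (nat_lit 4223) (.leaf (nat_lit 3)) (.leaf (nat_lit 6))) (.node (nat_lit 4296) (.leaf (nat_lit 0)) (.node (nat_lit 4388) (.leaf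 (nat_lit 15)) (.leaf (nat_lit 1))))) (.node (nat_lit 4589) (.node (nat_lit 4549) (.leaf (nat_lit 0)) (.leaf (nat_lit 1))) (.node (nat_lit 4618) (.leaf (nat_lit 3)) (.node (nat_lit 4802) (.leaf (nat_lit 0)) (.leaf (nat_lit 3))))))) (.node (nat_lit 5382) (.node (nat_lit 5074) (.node (nat_lit 4961) (.node (nat_lit 4841) (.leaf (nat_lit 15)) (.leaf (nat_lit 5))) (.node (nat_lit 4982) (.leaf (nat_lit 0)) (.node (nat_lit 5037) (.leaf (nat_lit 5)) (.leaf (nat_lit 3))))) (.node (nat_lit 5218) (.node (nat_lit 5153) (.leaf (nat_lit 1)) (.leaf (nat_lit 5))) (.node (nat_lit 5280) (.leaf (nat_lit 0)) (.node (nat_lit 5325) (.leaf (nat_lit 15)) (.leaf (nat_lit 3)))))) (.node (nat_lit 5630) (.node (nat_lit 5440) (.node (nat_lit 5428) (.leaf (nat_lit 6)) (.leaf (nat_lit 3))) (.node (nat_lit 5590) (.leaf (nat_lit 6)) (.node (nat_lit 5600) (.leaf (nat_lit 10)) (.leaf (nat_lit 1))))) (.node (nat_lit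 6159) (.node (nat_lit 5821) (.leaf (nat_lit 3)) (.node (nat_lit 5999) (.leaf (nat_lit 10)) (.leaf (nat_lit 5)))) (.node (nat_lit 6225) (.leaf (nat_lit 6)) (.node (nat_lit 6500) (.leaf (nat_lit 10)) (.leaf (nat_lit 1))))))))) (.node (nat_lit 8645) (.node (nat_lit 7427) (.node (nat_lit 7032) (.node (nat_lit 6836) (.node (nat_lit 6669) (.node (nat_lit 6533) (.leaf (nat_lit 3)) (.leaf (nat_lit 1))) (.node (nat_lit 6739) (.leaf (nat_lit 5)) (.node (nat_lit 6751) (.leaf (nat_lit 0)) (.leaf (nat_lit 5))))) (.node (nat_lit 6903) (.node (nat_lit 6855) (.leaf (nat_lit 15)) (.leaf (nat_lit 3))) (.node (nat_lit 6985) (.leaf (nat_lit 1)) (.node (nat_lit 7027) (.leaf (nat_lit 6)) (.leaf (nat_lit 5)))))) (.node (nat_lit 7317) (.node (nat_lit 7160) (.node (nat_lit 7120) (.leaf (nat_lit 10)) (.leaf (nat_lit 0))) (.node (nat_lit 7202) (.leaf (nat_lit 10)) (.node (nat_lit 7221) (.leaf (nat_lit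 5)) (.leaf (nat_lit 0))))) (.node (nat_lit 7368) (.node (nat_lit 7352) (.leaf (nat_lit 3)) (.leaf (nat_lit 1))) (.node (nat_lit 7391) (.leaf (nat_lit 0)) (.node (nat_lit 7423) (.leaf (nat_lit 3)) (.leaf (nat_lit 5))))))) (.node (nat_lit 8088) (.node (nat_lit 7806) (.node (nat_lit 7503) (.node (nat_lit 7497) (.leaf (nat_lit 0)) (.leaf (nat_lit 1))) (.node (nat_lit 7661) (.leaf (nat_lit 0)) (.node (nat_lit 7731) (.leaf (nat_lit 5)) (.leaf (nat_lit 10))))) (.node (nat_lit 7944) (.node (nat_lit 7821) (.leaf (nat_lit 3)) (.leaf (nat_lit 0))) (.node (nat_lit 8012) (.leaf (nat_lit 6)) (.node (nat_lit 8034) (.leaf (nat_lit 10)) (.leaf (nat_lit 0)))))) (.node (nat_lit 8407) (.node (nat_lit 8298) (.node (nat_lit 8121) (.leaf (nat_lit 15)) (.leaf (nat_lit 1))) (.node (nat_lit 8392) (.leaf (nat_lit 5)) (.node (nat_lit 8406) (.leaf (nat_lit 15)) (.leaf (nat_lit 0))))) (.node (nat_lit 8615)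 (.node (nat_lit 8426) (.leaf (nat_lit 6)) (.node (nat_lit 8598) (.leaf (nat_lit 15)) (.leaf (nat_lit 0)))) (.node (nat_lit 8626) (.leaf (nat_lit 10)) (.node (nat_lit 8643) (.leaf (nat_lit 6)) (.leaf (nat_lit 5)))))))) (.node (nat_lit 10597) (.node (nat_lit 9640) (.node (nat_lit 9107) (.node (nat_lit 8779) (.node (nat_lit 8691) (.leaf (nat_lit 1)) (.leaf (nat_lit 0))) (.node (nat_lit 8965) (.leaf (nat_lit 6)) (.node (nat_lit 9085) (.leaf (nat_lit 15)) (.leaf (nat_lit 0))))) (.node (nat_lit 9225) (.node (nat_lit 9216) (.leaf (nat_lit 1)) (.leaf (nat_lit 0))) (.node (nat_lit 9339) (.leaf (nat_lit 5)) (.node (nat_lit 9572) (.leaf (nat_lit 0)) (.leaf (nat_lit 5)))))) (.node (nat_lit 10168) (.node (nat_lit 9800) (.node (nat_lit 9668) (.leaf (nat_lit 6)) (.leaf (nat_lit 1))) (.node (nat_lit 10067) (.leaf (nat_lit 15)) (.node (nat_lit 10105) (.leaf (nat_lit 10)) (.leaf (nat_lit 3)))))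 (.node (nat_lit 10254) (.node (nat_lit 10199) (.leaf (nat_lit 0)) (.leaf (nat_lit 10))) (.node (nat_lit 10300) (.leaf (nat_lit 3)) (.node (nat_lit 10434) (.leaf (nat_lit 5)) (.leaf (nat_lit 10))))))) (.node (nat_lit 11553) (.node (nat_lit 11218) (.node (nat_lit 10790) (.node (nat_lit 10666) (.leaf (nat_lit 15)) (.leaf (nat_lit 6))) (.node (nat_lit 10943) (.leaf (nat_lit 0)) (.node (nat_lit 10972) (.leaf (nat_lit 3)) (.leaf (nat_lit 10))))) (.node (nat_lit 11318) (.node (nat_lit 11291) (.leaf (nat_lit 0)) (.leaf (nat_lit 10))) (.node (nat_lit 11332) (.leaf (nat_lit 5)) (.node (nat_lit 11511) (.leaf (nat_lit 0)) (.leaf (nat_lit 6)))))) (.node (nat_lit 12017) (.node (nat_lit 11679) (.node (nat_lit 11628) (.leaf (nat_lit 10)) (.leaf (nat_lit 5))) (.node (nat_lit 11763) (.leaf (nat_lit 15)) (.node (nat_lit 11803) (.leaf (nat_lit 3)) (.leaf (nat_lit 6))))) (.node (nat_lit 12315) (.node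 (nat_lit 12099) (.leaf (nat_lit 3)) (.node (nat_lit 12304) (.leaf (nat_lit 15)) (.leaf (nat_lit 0)))) (.node (nat_lit 12377) (.leaf (nat_lit 10)) (.node (nat_lit 12560) (.leaf (nat_lit 0)) (.leaf (nat_lit 6)))))))))) (.node (nat_lit 18833) (.node (nat_lit 16094) (.node (nat_lit 14226) (.node (nat_lit 13637) (.node (nat_lit 12956) (.node (nat_lit 12701) (.node (nat_lit 12666) (.leaf (nat_lit 10)) (.leaf (nat_lit 0))) (.node (nat_lit 12878) (.leaf (nat_lit 3)) (.node (nat_lit 12935) (.leaf (nat_lit 0)) (.leaf (nat_lit 6))))) (.node (nat_lit 13194) (.node (nat_lit 13068) (.leaf (nat_lit 1)) (.leaf (nat_lit 10))) (.node (nat_lit 13337) (.leaf (nat_lit 3)) (.node (nat_lit 13631) (.leaf (nat_lit 1)) (.leaf (nat_lit 6)))))) (.node (nat_lit 14020) (.node (nat_lit 13742) (.node (nat_lit 13736) (.leaf (nat_lit 0)) (.leaf (nat_lit 15))) (.node (nat_lit 13744) (.leaf (nat_lit 3)) (.node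 (nat_lit 13841) (.leaf (nat_lit 5)) (.leaf (nat_lit 6))))) (.node (nat_lit 14081) (.node (nat_lit 14066) (.leaf (nat_lit 1)) (.leaf (nat_lit 10))) (.node (nat_lit 14107) (.leaf (nat_lit 1)) (.node (nat_lit 14141) (.leaf (nat_lit 10)) (.leaf (nat_lit 0))))))) (.node (nat_lit 15200) (.node (nat_lit 14768) (.node (nat_lit 14462) (.node (nat_lit 14296) (.leaf (nat_lit 6)) (.leaf (nat_lit 0))) (.node (nat_lit 14471) (.leaf (nat_lit 3)) (.node (nat_lit 14718) (.leaf (nat_lit 6)) (.leaf (nat_lit 0))))) (.node (nat_lit 14997) (.node (nat_lit 14780) (.leaf (nat_lit 1)) (.leaf (nat_lit 0))) (.node (nat_lit 15142) (.leaf (nat_lit 1)) (.node (nat_lit 15174) (.leaf (nat_lit 0)) (.leaf (nat_lit 3)))))) (.node (nat_lit 15775) (.node (nat_lit 15225) (.node (nat_lit 15213) (.leaf (nat_lit 10)) (.leaf (nat_lit 6))) (.node (nat_lit 15420) (.leaf (nat_lit 10)) (.node (nat_lit 15496) (.leaf (nat_lit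 0)) (.leaf (nat_lit 6))))) (.node (nat_lit 15861) (.node (nat_lit 15785) (.leaf (nat_lit 15)) (.leaf (nat_lit 5))) (.node (nat_lit 16026) (.leaf (nat_lit 1)) (.node (nat_lit 16088) (.leaf (nat_lit 5)) (.leaf (nat_lit 1)))))))) (.node (nat_lit 17558) (.node (nat_lit 16734) (.node (nat_lit 16472) (.node (nat_lit 16275) (.node (nat_lit 16131) (.leaf (nat_lit 5)) (.leaf (nat_lit 10))) (.node (nat_lit 16297) (.leaf (nat_lit 15)) (.node (nat_lit 16384) (.leaf (nat_lit 5)) (.leaf (nat_lit 15))))) (.node (nat_lit 16583) (.node (nat_lit 16538) (.leaf (nat_lit 5)) (.leaf (nat_lit 15))) (.node (nat_lit 16692) (.leaf (nat_lit 10)) (.node (nat_lit 16721) (.leaf (nat_lit 3)) (.leaf (nat_lit 6)))))) (.node (nat_lit 17021) (.node (nat_lit 16853) (.node (nat_lit 16823) (.leaf (nat_lit 15)) (.leaf (nat_lit 10))) (.node (nat_lit 16882) (.leaf (nat_lit 3)) (.node (nat_lit 16899) (.leaf (nat_lit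 0)) (.leaf (nat_lit 15))))) (.node (nat_lit 17203) (.node (nat_lit 17046) (.leaf (nat_lit 6)) (.leaf (nat_lit 0))) (.node (nat_lit 17313) (.leaf (nat_lit 10)) (.node (nat_lit 17397) (.leaf (nat_lit 1)) (.leaf (nat_lit 6))))))) (.node (nat_lit 18233) (.node (nat_lit 17905) (.node (nat_lit 17626) (.node (nat_lit 17592) (.leaf (nat_lit 0)) (.leaf (nat_lit 15))) (.node (nat_lit 17671) (.leaf (nat_lit 0)) (.node (nat_lit 17697) (.leaf (nat_lit 1)) (.leaf (nat_lit 3))))) (.node (nat_lit 18054) (.node (nat_lit 17979) (.leaf (nat_lit 0)) (.leaf (nat_lit 5))) (.node (nat_lit 18067) (.leaf (nat_lit 6)) (.node (nat_lit 18201) (.leaf (nat_lit 3)) (.leaf (nat_lit 10)))))) (.node (nat_lit 18486) (.node (nat_lit 18335) (.node (nat_lit 18248) (.leaf (nat_lit 6)) (.leaf (nat_lit 10))) (.node (nat_lit 18445) (.leaf (nat_lit 0)) (.node (nat_lit 18463) (.leaf (nat_lit 15)) (.leaf (nat_lit 3)))))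 (.node (nat_lit 18667) (.node (nat_lit 18623) (.leaf (nat_lit 10)) (.node (nat_lit 18665) (.leaf (nat_lit 6)) (.leaf (nat_lit 3)))) (.node (nat_lit 18722) (.leaf (nat_lit 1)) (.node (nat_lit 18797) (.leaf (nat_lit 10)) (.leaf (nat_lit 15))))))))) (.node (nat_lit 21932) (.node (nat_lit 20171) (.node (nat_lit 19543) (.node (nat_lit 19156) (.node (nat_lit 19095) (.node (nat_lit 19062) (.leaf (nat_lit 0)) (.leaf (nat_lit 15))) (.node (nat_lit 19110) (.leaf (nat_lit 1)) (.node (nat_lit 19150) (.leaf (nat_lit 0)) (.leaf (nat_lit 5))))) (.node (nat_lit 19270) (.node (nat_lit 19218) (.leaf (nat_lit 3)) (.leaf (nat_lit 0))) (.node (nat_lit 19339) (.leaf (nat_lit 10)) (.node (nat_lit 19439) (.leaf (nat_lit 6)) (.leaf (nat_lit 0)))))) (.node (nat_lit 19750) (.node (nat_lit 19631) (.node (nat_lit 19587) (.leaf (nat_lit 5)) (.leaf (nat_lit 1))) (.node (nat_lit 19634) (.leaf (nat_lit 6)) (.node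 (nat_lit 19685) (.leaf (nat_lit 15)) (.leaf (nat_lit 1))))) (.node (nat_lit 20046) (.node (nat_lit 19802) (.leaf (nat_lit 0)) (.leaf (nat_lit 15))) (.node (nat_lit 20102) (.leaf (nat_lit 1)) (.node (nat_lit 20112) (.leaf (nat_lit 15)) (.leaf (nat_lit 0))))))) (.node (nat_lit 20922) (.node (nat_lit 20358) (.node (nat_lit 20251) (.node (nat_lit 20234) (.leaf (nat_lit 1)) (.leaf (nat_lit 10))) (.node (nat_lit 20326) (.leaf (nat_lit 6)) (.node (nat_lit 20342) (.leaf (nat_lit 10)) (.leaf (nat_lit 5))))) (.node (nat_lit 20676) (.node (nat_lit 20567) (.leaf (nat_lit 0)) (.leaf (nat_lit 6))) (.node (nat_lit 20799) (.leaf (nat_lit 0)) (.node (nat_lit 20893) (.leaf (nat_lit 6)) (.leaf (nat_lit 1)))))) (.node (nat_lit 21540) (.node (nat_lit 21147) (.node (nat_lit 20980) (.leaf (nat_lit 5)) (.leaf (nat_lit 15))) (.node (nat_lit 21370) (.leaf (nat_lit 5)) (.node (nat_lit 21502) (.leaf (nat_lit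 3)) (.leaf (nat_lit 1))))) (.node (nat_lit 21828) (.node (nat_lit 21605) (.leaf (nat_lit 6)) (.node (nat_lit 21780) (.leaf (nat_lit 5)) (.leaf (nat_lit 1)))) (.node (nat_lit 21861) (.leaf (nat_lit 15)) (.node (nat_lit 21893) (.leaf (nat_lit 1)) (.leaf (nat_lit 0)))))))) (.node (nat_lit 23681) (.node (nat_lit 23037) (.node (nat_lit 22583) (.node (nat_lit 22139) (.node (nat_lit 22098) (.leaf (nat_lit 15)) (.leaf (nat_lit 1))) (.node (nat_lit 22376) (.leaf (nat_lit 10)) (.node (nat_lit 22390) (.leaf (nat_lit 15)) (.leaf (nat_lit 5))))) (.node (nat_lit 22673) (.node (nat_lit 22607) (.leaf (nat_lit 1)) (.leaf (nat_lit 10))) (.node (nat_lit 22952) (.leaf (nat_lit 0)) (.node (nat_lit 23008) (.leaf (nat_lit 5)) (.leaf (nat_lit 6)))))) (.node (nat_lit 23470) (.node (nat_lit 23308) (.node (nat_lit 23060) (.leaf (nat_lit 1)) (.leaf (nat_lit 0))) (.node (nat_lit 23403) (.leaf (nat_lit 1))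 (.node (nat_lit 23430) (.leaf (nat_lit 0)) (.leaf (nat_lit 10))))) (.node (nat_lit 23548) (.node (nat_lit 23512) (.leaf (nat_lit 1)) (.leaf (nat_lit 3))) (.node (nat_lit 23562) (.leaf (nat_lit 0)) (.node (nat_lit 23608) (.leaf (nat_lit 3)) (.leaf (nat_lit 0))))))) (.node (nat_lit 24811) (.node (nat_lit 24383) (.node (nat_lit 23963) (.node (nat_lit 23698) (.leaf (nat_lit 5)) (.leaf (nat_lit 1))) (.node (nat_lit 23980) (.leaf (nat_lit 10)) (.node (nat_lit 24242) (.leaf (nat_lit 6)) (.leaf (nat_lit 0))))) (.node (nat_lit 24792) (.node (nat_lit 24612) (.leaf (nat_lit 5)) (.leaf (nat_lit 3))) (.node (nat_lit 24796) (.leaf (nat_lit 6)) (.node (nat_lit 24800) (.leaf (nat_lit 5)) (.leaf (nat_lit 3)))))) (.node (nat_lit 25259) (.node (nat_lit 24867) (.node (nat_lit 24829) (.leaf (nat_lit 10)) (.leaf (nat_lit 5))) (.node (nat_lit 24916) (.leaf (nat_lit 15)) (.node (nat_lit 24992) (.leaf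 (nat_lit 3)) (.leaf (nat_lit 10))))) (.node (nat_lit 25409) (.node (nat_lit 25260) (.leaf (nat_lit 0)) (.node (nat_lit 25394) (.leaf (nat_lit 6)) (.leaf (nat_lit 3)))) (.node (nat_lit 25538) (.leaf (nat_lit 1)) (.node (nat_lit 25591) (.leaf (nat_lit 10)) (.leaf (nat_lit 5)))))))))))
noncomputable def AP_cs1_F : Fm := (.allS AP_lK (.or (.qf (.mem (.mul (.mul (.mul (.v (nat_lit 0)) (.mul (.v (nat_lit 13)) (.v (nat_lit 11)))) (.inv (.v (nat_lit 0)))) (.inv (.mul (.v (nat_lit 13)) (.v (nat_lit 11))))) AP_lI)) (.exG AP_lI (fun cs => AP_cs1_t0.find (Nat.mod (nth (nat_lit 0) cs (nat_lit 0)) (nat_lit 25679))) (.qf (.or (.eq (.mul (.v (nat_lit 0)) (.mul (.mul (.mul (.v (nat_lit 1)) (.mul (.v (nat_lit 14)) (.v (nat_lit 12)))) (.inv (.v (nat_lit 1)))) (.inv (.mul (.v (nat_lit 14)) (.v (nat_lit 12)))))) (.v (nat_lit 12))) (.eq (.mul (.v (nat_lit 0)) (.mul (.mul (.mul (.v (nat_lit 1)) (.mul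 (.v (nat_lit 14)) (.v (nat_lit 12)))) (.inv (.v (nat_lit 1)))) (.inv (.mul (.v (nat_lit 14)) (.v (nat_lit 12)))))) (.inv (.v (nat_lit 12)))))))))
theorem AP_cs1_chk : Fm.chk AP_o AP_cs1_F AP_cs = true := by decide +kernel
theorem AP_cs1 {G : Type*} [Group G] {R : ℕ → G → Prop} {z u v a b i j k l x y r s t : G}
    (M : Md0 AP_o AP_cs R [z, u, v, a, b, i, j, k, l, x, y, r, s, t]) :
    ∀ g ∈ sp [i, x, y, r, s], ⁅g, s * y⁆ ∈ sp [i, j, k, l] ∨ (∃ c ∈ sp [i, j, k, l], c * ⁅g, s * y⁆ = y ∨ c * ⁅g, s * y⁆ = y⁻¹) :=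
  have h : ∀ g, InS R AP_lK g → InS R AP_lI (⁅g, s * y⁆) ∨ (GoodS R AP_lI → AP_lI ≠ [] → ∃ c, InS R AP_lI c ∧ (c * ⁅g, s * y⁆ = y ∨ c * ⁅g, s * y⁆ = y⁻¹)) :=
    Fm.sound M.μ AP_cs1_F AP_cs1_chk M.reps
  (fun g h0 => (Or.imp (fun h1 => ((AP_lI_E M).iff.1 h1)) (fun h1 => (Exists.imp (fun c h2 => ⟨(AP_lI_E M).iff.1 h2.1, h2.2⟩) (h1 (AP_lI_E M).good (AP_lI_E M).ne))) (h g ((AP_lK_E M).iff.2 h0))))
noncomputable def AP_cs2_t0 : ST := (.node (nat_lit 9491) (.node (nat_lit 4666) (.node (nat_lit 2850) (.node (nat_lit 1076) (.node (nat_lit 346) (.node (nat_lit 204) (.node (nat_lit 22) (.node (nat_lit 18) (.leaf (nat_lit 0)) (.leaf (nat_lit 2))) (.node (nat_lit 156) (.leaf (nat_lit 3)) (.node (nat_lit 164) (.leaf (nat_lit 9)) (.leaf (nat_lit 3))))) (.node (nat_lit 292) (.node (nat_lit 247) (.leaf (nat_lit 2)) (.leaf (nat_lit 6))) (.node (nat_lit 303) (.leaf (nat_lit 9)) (.node (nat_lit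 324) (.leaf (nat_lit 4)) (.leaf (nat_lit 3)))))) (.node (nat_lit 788) (.node (nat_lit 424) (.node (nat_lit 347) (.leaf (nat_lit 2)) (.leaf (nat_lit 0))) (.node (nat_lit 473) (.leaf (nat_lit 2)) (.node (nat_lit 549) (.leaf (nat_lit 6)) (.leaf (nat_lit 0))))) (.node (nat_lit 874) (.node (nat_lit 798) (.leaf (nat_lit 4)) (.node (nat_lit 824) (.leaf (nat_lit 0)) (.leaf (nat_lit 1)))) (.node (nat_lit 1027) (.leaf (nat_lit 0)) (.node (nat_lit 1042) (.leaf (nat_lit 6)) (.leaf (nat_lit 3))))))) (.node (nat_lit 1695) (.node (nat_lit 1259) (.node (nat_lit 1188) (.node (nat_lit 1131) (.leaf (nat_lit 6)) (.leaf (nat_lit 1))) (.node (nat_lit 1189) (.leaf (nat_lit 2)) (.node (nat_lit 1244) (.leaf (nat_lit 6)) (.leaf (nat_lit 2))))) (.node (nat_lit 1486) (.node (nat_lit 1413) (.leaf (nat_lit 0)) (.leaf (nat_lit 9))) (.node (nat_lit 1540) (.leaf (nat_lit 6)) (.node (nat_lit 1628) (.leaf (nat_lit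 0)) (.leaf (nat_lit 2)))))) (.node (nat_lit 2490) (.node (nat_lit 2181) (.node (nat_lit 2067) (.leaf (nat_lit 1)) (.leaf (nat_lit 9))) (.node (nat_lit 2254) (.leaf (nat_lit 6)) (.node (nat_lit 2445) (.leaf (nat_lit 1)) (.leaf (nat_lit 6))))) (.node (nat_lit 2709) (.node (nat_lit 2542) (.leaf (nat_lit 1)) (.node (nat_lit 2689) (.leaf (nat_lit 6)) (.leaf (nat_lit 9)))) (.node (nat_lit 2751) (.leaf (nat_lit 0)) (.node (nat_lit 2811) (.leaf (nat_lit 4)) (.leaf (nat_lit 3)))))))) (.node (nat_lit 3768) (.node (nat_lit 3113) (.node (nat_lit 3025) (.node (nat_lit 2981) (.node (nat_lit 2878) (.leaf (nat_lit 1)) (.leaf (nat_lit 4))) (.node (nat_lit 2997) (.leaf (nat_lit 9)) (.node (nat_lit 2999) (.leaf (nat_lit 4)) (.leaf (nat_lit 6))))) (.node (nat_lit 3079) (.node (nat_lit 3074) (.leaf (nat_lit 0)) (.leaf (nat_lit 4))) (.node (nat_lit 3087) (.leaf (nat_lit 3)) (.node (nat_lit 3108) (.leaf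 (nat_lit 1)) (.leaf (nat_lit 4)))))) (.node (nat_lit 3483) (.node (nat_lit 3249) (.node (nat_lit 3236) (.leaf (nat_lit 0)) (.leaf (nat_lit 2))) (.node (nat_lit 3321) (.leaf (nat_lit 1)) (.node (nat_lit 3462) (.leaf (nat_lit 6)) (.leaf (nat_lit 0))))) (.node (nat_lit 3583) (.node (nat_lit 3505) (.leaf (nat_lit 4)) (.node (nat_lit 3543) (.leaf (nat_lit 6)) (.leaf (nat_lit 0)))) (.node (nat_lit 3683) (.leaf (nat_lit 3)) (.node (nat_lit 3749) (.leaf (nat_lit 6)) (.leaf (nat_lit 2))))))) (.node (nat_lit 4152) (.node (nat_lit 3969) (.node (nat_lit 3785) (.node (nat_lit 3782) (.leaf (nat_lit 0)) (.leaf (nat_lit 2))) (.node (nat_lit 3851) (.leaf (nat_lit 1)) (.node (nat_lit 3913) (.leaf (nat_lit 6)) (.leaf (nat_lit 9))))) (.node (nat_lit 4019) (.node (nat_lit 3970) (.leaf (nat_lit 3)) (.leaf (nat_lit 1))) (.node (nat_lit 4051) (.leaf (nat_lit 4)) (.node (nat_lit 4150) (.leaf (nat_lit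 1)) (.leaf (nat_lit 0)))))) (.node (nat_lit 4449) (.node (nat_lit 4321) (.node (nat_lit 4288) (.leaf (nat_lit 4)) (.leaf (nat_lit 9))) (.node (nat_lit 4384) (.leaf (nat_lit 0)) (.node (nat_lit 4437) (.leaf (nat_lit 1)) (.leaf (nat_lit 4))))) (.node (nat_lit 4645) (.node (nat_lit 4537) (.leaf (nat_lit 2)) (.node (nat_lit 4538) (.leaf (nat_lit 9)) (.leaf (nat_lit 0)))) (.node (nat_lit 4647) (.leaf (nat_lit 3)) (.node (nat_lit 4658) (.leaf (nat_lit 2)) (.leaf (nat_lit 4))))))))) (.node (nat_lit 6948) (.node (nat_lit 5821) (.node (nat_lit 5223) (.node (nat_lit 4977) (.node (nat_lit 4810) (.node (nat_lit 4674) (.leaf (nat_lit 6)) (.leaf (nat_lit 0))) (.node (nat_lit 4848) (.leaf (nat_lit 3)) (.node (nat_lit 4919) (.leaf (nat_lit 9)) (.leaf (nat_lit 2))))) (.node (nat_lit 5020) (.node (nat_lit 4995) (.leaf (nat_lit 1)) (.leaf (nat_lit 0))) (.node (nat_lit 5040) (.leaf (nat_lit 4))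 (.node (nat_lit 5093) (.leaf (nat_lit 9)) (.leaf (nat_lit 2)))))) (.node (nat_lit 5446) (.node (nat_lit 5238) (.node (nat_lit 5225) (.leaf (nat_lit 6)) (.leaf (nat_lit 0))) (.node (nat_lit 5382) (.leaf (nat_lit 2)) (.node (nat_lit 5429) (.leaf (nat_lit 6)) (.leaf (nat_lit 2))))) (.node (nat_lit 5702) (.node (nat_lit 5563) (.leaf (nat_lit 0)) (.node (nat_lit 5613) (.leaf (nat_lit 1)) (.leaf (nat_lit 4)))) (.node (nat_lit 5723) (.leaf (nat_lit 6)) (.node (nat_lit 5759) (.leaf (nat_lit 0)) (.leaf (nat_lit 3))))))) (.node (nat_lit 6178) (.node (nat_lit 6070) (.node (nat_lit 5868) (.node (nat_lit 5851) (.leaf (nat_lit 1)) (.leaf (nat_lit 0))) (.node (nat_lit 5955) (.leaf (nat_lit 2)) (.node (nat_lit 6049) (.leaf (nat_lit 0)) (.leaf (nat_lit 1))))) (.node (nat_lit 6096) (.node (nat_lit 6088) (.leaf (nat_lit 0)) (.leaf (nat_lit 4))) (.node (nat_lit 6122) (.leaf (nat_lit 0)) (.node (nat_lit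 6137) (.leaf (nat_lit 6)) (.leaf (nat_lit 0)))))) (.node (nat_lit 6593) (.node (nat_lit 6336) (.node (nat_lit 6210) (.leaf (nat_lit 2)) (.leaf (nat_lit 3))) (.node (nat_lit 6499) (.leaf (nat_lit 0)) (.node (nat_lit 6549) (.leaf (nat_lit 1)) (.leaf (nat_lit 9))))) (.node (nat_lit 6704) (.node (nat_lit 6626) (.leaf (nat_lit 4)) (.node (nat_lit 6689) (.leaf (nat_lit 9)) (.leaf (nat_lit 1)))) (.node (nat_lit 6717) (.leaf (nat_lit 9)) (.node (nat_lit 6857) (.leaf (nat_lit 3)) (.leaf (nat_lit 1)))))))) (.node (nat_lit 8579) (.node (nat_lit 7816) (.node (nat_lit 7231) (.node (nat_lit 7058) (.node (nat_lit 7001) (.leaf (nat_lit 3)) (.leaf (nat_lit 6))) (.node (nat_lit 7113) (.leaf (nat_lit 4)) (.node (nat_lit 7136) (.leaf (nat_lit 6)) (.leaf (nat_lit 2))))) (.node (nat_lit 7626) (.node (nat_lit 7577) (.leaf (nat_lit 9)) (.leaf (nat_lit 0))) (.node (nat_lit 7644) (.leaf (nat_lit 2)) (.node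 (nat_lit 7670) (.leaf (nat_lit 9)) (.leaf (nat_lit 6)))))) (.node (nat_lit 8131) (.node (nat_lit 7847) (.node (nat_lit 7825) (.leaf (nat_lit 0)) (.leaf (nat_lit 9))) (.node (nat_lit 7854) (.leaf (nat_lit 2)) (.node (nat_lit 8050) (.leaf (nat_lit 0)) (.leaf (nat_lit 9))))) (.node (nat_lit 8404) (.node (nat_lit 8203) (.leaf (nat_lit 4)) (.node (nat_lit 8298) (.leaf (nat_lit 9)) (.leaf (nat_lit 4)))) (.node (nat_lit 8413) (.leaf (nat_lit 0)) (.node (nat_lit 8480) (.leaf (nat_lit 9)) (.leaf (nat_lit 0))))))) (.node (nat_lit 9084) (.node (nat_lit 8842) (.node (nat_lit 8656) (.node (nat_lit 8630) (.leaf (nat_lit 4)) (.leaf (nat_lit 9))) (.node (nat_lit 8762) (.leaf (nat_lit 1)) (.node (nat_lit 8773) (.leaf (nat_lit 9)) (.leaf (nat_lit 1))))) (.node (nat_lit 8910) (.node (nat_lit 8847) (.leaf (nat_lit 4)) (.leaf (nat_lit 0))) (.node (nat_lit 8916) (.leaf (nat_lit 3)) (.node (nat_lit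 9000) (.leaf (nat_lit 1)) (.leaf (nat_lit 0)))))) (.node (nat_lit 9312) (.node (nat_lit 9208) (.node (nat_lit 9168) (.leaf (nat_lit 9)) (.leaf (nat_lit 2))) (.node (nat_lit 9213) (.leaf (nat_lit 1)) (.node (nat_lit 9222) (.leaf (nat_lit 0)) (.leaf (nat_lit 6))))) (.node (nat_lit 9405) (.node (nat_lit 9335) (.leaf (nat_lit 0)) (.node (nat_lit 9373) (.leaf (nat_lit 6)) (.leaf (nat_lit 0)))) (.node (nat_lit 9424) (.leaf (nat_lit 3)) (.node (nat_lit 9431) (.leaf (nat_lit 4)) (.leaf (nat_lit 2)))))))))) (.node (nat_lit 13993) (.node (nat_lit 11725) (.node (nat_lit 10474) (.node (nat_lit 10110) (.node (nat_lit 9852) (.node (nat_lit 9662) (.node (nat_lit 9539) (.leaf (nat_lit 9)) (.leaf (nat_lit 6))) (.node (nat_lit 9667) (.leaf (nat_lit 3)) (.node (nat_lit 9677) (.leaf (nat_lit 1)) (.leaf (nat_lit 0))))) (.node (nat_lit 10068) (.node (nat_lit 10010) (.leaf (nat_lit 4)) (.leaf (nat_lit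 0))) (.node (nat_lit 10072) (.leaf (nat_lit 3)) (.node (nat_lit 10083) (.leaf (nat_lit 1)) (.leaf (nat_lit 9)))))) (.node (nat_lit 10220) (.node (nat_lit 10145) (.node (nat_lit 10129) (.leaf (nat_lit 4)) (.leaf (nat_lit 0))) (.node (nat_lit 10170) (.leaf (nat_lit 3)) (.node (nat_lit 10185) (.leaf (nat_lit 1)) (.leaf (nat_lit 2))))) (.node (nat_lit 10380) (.node (nat_lit 10225) (.leaf (nat_lit 3)) (.node (nat_lit 10337) (.leaf (nat_lit 0)) (.leaf (nat_lit 3)))) (.node (nat_lit 10431) (.leaf (nat_lit 0)) (.node (nat_lit 10463) (.leaf (nat_lit 9)) (.leaf (nat_lit 6))))))) (.node (nat_lit 11142) (.node (nat_lit 10755) (.node (nat_lit 10529) (.node (nat_lit 10506) (.leaf (nat_lit 4)) (.leaf (nat_lit 3))) (.node (nat_lit 10586) (.leaf (nat_lit 9)) (.node (nat_lit 10656) (.leaf (nat_lit 3)) (.leaf (nat_lit 2))))) (.node (nat_lit 10980) (.node (nat_lit 10907) (.leaf (nat_lit 9)) (.leaf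 (nat_lit 2))) (.node (nat_lit 11050) (.leaf (nat_lit 4)) (.node (nat_lit 11091) (.leaf (nat_lit 3)) (.leaf (nat_lit 6)))))) (.node (nat_lit 11367) (.node (nat_lit 11300) (.node (nat_lit 11153) (.leaf (nat_lit 9)) (.leaf (nat_lit 6))) (.node (nat_lit 11307) (.leaf (nat_lit 4)) (.node (nat_lit 11340) (.leaf (nat_lit 0)) (.leaf (nat_lit 3))))) (.node (nat_lit 11524) (.node (nat_lit 11383) (.leaf (nat_lit 4)) (.node (nat_lit 11469) (.leaf (nat_lit 0)) (.leaf (nat_lit 1)))) (.node (nat_lit 11571) (.leaf (nat_lit 2)) (.node (nat_lit 11708) (.leaf (nat_lit 0)) (.leaf (nat_lit 4)))))))) (.node (nat_lit 12726) (.node (nat_lit 12089) (.node (nat_lit 11908) (.node (nat_lit 11806) (.node (nat_lit 11802) (.leaf (nat_lit 1)) (.leaf (nat_lit 4))) (.node (nat_lit 11887) (.leaf (nat_lit 0)) (.node (nat_lit 11900) (.leaf (nat_lit 6)) (.leaf (nat_lit 1))))) (.node (nat_lit 11938) (.node (nat_lit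 11924) (.leaf (nat_lit 9)) (.leaf (nat_lit 2))) (.node (nat_lit 12001) (.leaf (nat_lit 1)) (.node (nat_lit 12075) (.leaf (nat_lit 0)) (.leaf (nat_lit 2)))))) (.node (nat_lit 12247) (.node (nat_lit 12135) (.node (nat_lit 12134) (.leaf (nat_lit 6)) (.leaf (nat_lit 4))) (.node (nat_lit 12170) (.leaf (nat_lit 6)) (.node (nat_lit 12204) (.leaf (nat_lit 4)) (.leaf (nat_lit 0))))) (.node (nat_lit 12531) (.node (nat_lit 12355) (.leaf (nat_lit 9)) (.node (nat_lit 12441) (.leaf (nat_lit 4)) (.leaf (nat_lit 3)))) (.node (nat_lit 12556) (.leaf (nat_lit 4)) (.node (nat_lit 12680) (.leaf (nat_lit 1)) (.leaf (nat_lit 0))))))) (.node (nat_lit 13133) (.node (nat_lit 12924) (.node (nat_lit 12809) (.node (nat_lit 12751) (.leaf (nat_lit 1)) (.leaf (nat_lit 3))) (.node (nat_lit 12903) (.leaf (nat_lit 4)) (.node (nat_lit 12917) (.leaf (nat_lit 0)) (.leaf (nat_lit 6))))) (.node (nat_lit 13077) (.node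 (nat_lit 13030) (.leaf (nat_lit 3)) (.leaf (nat_lit 6))) (.node (nat_lit 13114) (.leaf (nat_lit 9)) (.node (nat_lit 13128) (.leaf (nat_lit 3)) (.leaf (nat_lit 1)))))) (.node (nat_lit 13372) (.node (nat_lit 13184) (.node (nat_lit 13176) (.leaf (nat_lit 0)) (.leaf (nat_lit 1))) (.node (nat_lit 13266) (.leaf (nat_lit 6)) (.node (nat_lit 13308) (.leaf (nat_lit 0)) (.leaf (nat_lit 4))))) (.node (nat_lit 13491) (.node (nat_lit 13432) (.leaf (nat_lit 0)) (.node (nat_lit 13439) (.leaf (nat_lit 2)) (.leaf (nat_lit 1)))) (.node (nat_lit 13601) (.leaf (nat_lit 3)) (.node (nat_lit 13942) (.leaf (nat_lit 1)) (.leaf (nat_lit 3))))))))) (.node (nat_lit 16842) (.node (nat_lit 15330) (.node (nat_lit 14738) (.node (nat_lit 14540) (.node (nat_lit 14113) (.node (nat_lit 14109) (.leaf (nat_lit 9)) (.leaf (nat_lit 0))) (.node (nat_lit 14437) (.leaf (nat_lit 3)) (.node (nat_lit 14513) (.leaf (nat_lit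 2)) (.leaf (nat_lit 4))))) (.node (nat_lit 14626) (.node (nat_lit 14604) (.leaf (nat_lit 6)) (.leaf (nat_lit 1))) (.node (nat_lit 14694) (.leaf (nat_lit 3)) (.node (nat_lit 14725) (.leaf (nat_lit 9)) (.leaf (nat_lit 4)))))) (.node (nat_lit 14920) (.node (nat_lit 14846) (.node (nat_lit 14820) (.leaf (nat_lit 2)) (.leaf (nat_lit 6))) (.node (nat_lit 14850) (.leaf (nat_lit 0)) (.node (nat_lit 14917) (.leaf (nat_lit 4)) (.leaf (nat_lit 3))))) (.node (nat_lit 14993) (.node (nat_lit 14948) (.leaf (nat_lit 0)) (.node (nat_lit 14985) (.leaf (nat_lit 9)) (.leaf (nat_lit 0)))) (.node (nat_lit 15129) (.leaf (nat_lit 6)) (.node (nat_lit 15211) (.leaf (nat_lit 0)) (.leaf (nat_lit 2))))))) (.node (nat_lit 15742) (.node (nat_lit 15599) (.node (nat_lit 15488) (.node (nat_lit 15403) (.leaf (nat_lit 1)) (.leaf (nat_lit 4))) (.node (nat_lit 15558) (.leaf (nat_lit 0)) (.node (nat_lit 15581) (.leaf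 (nat_lit 6)) (.leaf (nat_lit 0))))) (.node (nat_lit 15668) (.node (nat_lit 15663) (.leaf (nat_lit 2)) (.leaf (nat_lit 0))) (.node (nat_lit 15685) (.leaf (nat_lit 3)) (.node (nat_lit 15711) (.leaf (nat_lit 0)) (.leaf (nat_lit 2)))))) (.node (nat_lit 15956) (.node (nat_lit 15820) (.node (nat_lit 15772) (.leaf (nat_lit 0)) (.leaf (nat_lit 3))) (.node (nat_lit 15896) (.leaf (nat_lit 0)) (.node (nat_lit 15904) (.leaf (nat_lit 6)) (.leaf (nat_lit 3))))) (.node (nat_lit 16367) (.node (nat_lit 16272) (.leaf (nat_lit 0)) (.node (nat_lit 16319) (.leaf (nat_lit 4)) (.leaf (nat_lit 1)))) (.node (nat_lit 16508) (.leaf (nat_lit 0)) (.node (nat_lit 16760) (.leaf (nat_lit 9)) (.leaf (nat_lit 6)))))))) (.node (nat_lit 17768) (.node (nat_lit 17201) (.node (nat_lit 17042) (.node (nat_lit 16880) (.node (nat_lit 16855) (.leaf (nat_lit 0)) (.leaf (nat_lit 4))) (.node (nat_lit 16934) (.leaf (nat_lit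 1)) (.node (nat_lit 16994) (.leaf (nat_lit 2)) (.leaf (nat_lit 3))))) (.node (nat_lit 17060) (.node (nat_lit 17053) (.leaf (nat_lit 1)) (.leaf (nat_lit 4))) (.node (nat_lit 17067) (.leaf (nat_lit 0)) (.node (nat_lit 17150) (.leaf (nat_lit 2)) (.leaf (nat_lit 6)))))) (.node (nat_lit 17438) (.node (nat_lit 17320) (.node (nat_lit 17265) (.leaf (nat_lit 9)) (.leaf (nat_lit 1))) (.node (nat_lit 17325) (.leaf (nat_lit 4)) (.node (nat_lit 17399) (.leaf (nat_lit 6)) (.leaf (nat_lit 0))))) (.node (nat_lit 17629) (.node (nat_lit 17465) (.leaf (nat_lit 4)) (.node (nat_lit 17470) (.leaf (nat_lit 0)) (.leaf (nat_lit 4)))) (.node (nat_lit 17678) (.leaf (nat_lit 3)) (.node (nat_lit 17748) (.leaf (nat_lit 9)) (.leaf (nat_lit 6))))))) (.node (nat_lit 18250) (.node (nat_lit 18022) (.node (nat_lit 17835) (.node (nat_lit 17773) (.leaf (nat_lit 3)) (.leaf (nat_lit 2))) (.node (nat_lit 17854) (.leaf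 (nat_lit 1)) (.node (nat_lit 17877) (.leaf (nat_lit 0)) (.leaf (nat_lit 2))))) (.node (nat_lit 18109) (.node (nat_lit 18063) (.leaf (nat_lit 1)) (.leaf (nat_lit 2))) (.node (nat_lit 18115) (.leaf (nat_lit 6)) (.node (nat_lit 18126) (.leaf (nat_lit 3)) (.leaf (nat_lit 2)))))) (.node (nat_lit 18695) (.node (nat_lit 18283) (.node (nat_lit 18267) (.leaf (nat_lit 0)) (.leaf (nat_lit 3))) (.node (nat_lit 18345) (.leaf (nat_lit 0)) (.node (nat_lit 18354) (.leaf (nat_lit 2)) (.leaf (nat_lit 0))))) (.node (nat_lit 18881) (.node (nat_lit 18729) (.leaf (nat_lit 3)) (.node (nat_lit 18791) (.leaf (nat_lit 1)) (.leaf (nat_lit 9)))) (.node (nat_lit 18905) (.leaf (nat_lit 2)) (.node (nat_lit 18924) (.leaf (nat_lit 4)) (.leaf (nat_lit 6)))))))))))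
noncomputable def AP_cs2_F : Fm := (.allS AP_lK (.or (.qf (.mem (.mul (.mul (.mul (.v (nat_lit 0)) (.mul (.v (nat_lit 13)) (.inv (.v (nat_lit 11))))) (.inv (.v (nat_lit 0)))) (.inv (.mul (.v (nat_lit 13)) (.inv (.v (nat_lit 11)))))) AP_lI)) (.exG AP_lI (fun cs => AP_cs2_t0.find (Nat.mod (nth (nat_lit 0) cs (nat_lit 0)) (nat_lit 19051))) (.qf (.or (.eq (.mul (.v (nat_lit 0)) (.mul (.mul (.mul (.v (nat_lit 1)) (.mul (.v (nat_lit 14)) (.inv (.v (nat_lit 12))))) (.inv (.v (nat_lit 1)))) (.inv (.mul (.v (nat_lit 14)) (.inv (.v (nat_lit 12))))))) (.v (nat_lit 12))) (.eq (.mul (.v (nat_lit 0)) (.mul (.mul (.mul (.v (nat_lit 1)) (.mul (.v (nat_lit 14)) (.inv (.v (nat_lit 12))))) (.inv (.v (nat_lit 1)))) (.inv (.mul (.v (nat_lit 14)) (.inv (.v (nat_lit 12))))))) (.inv (.v (nat_lit 12)))))))))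
theorem AP_cs2_chk : Fm.chk AP_o AP_cs2_F AP_cs = true := by decide +kernel
theorem AP_cs2 {G : Type*} [Group G] {R : ℕ → G → Prop} {z u v a b i j k l x y r s t : G}
    (M : Md0 AP_o AP_cs R [z, u, v, a, b, i, j, k, l, x, y, r, s, t]) :
    ∀ g ∈ sp [i, x, y, r, s], ⁅g, s * y⁻¹⁆ ∈ sp [i, j, k, l] ∨ (∃ c ∈ sp [i, j, k, l], c * ⁅g, s * y⁻¹⁆ = y ∨ c * ⁅g, s * y⁻¹⁆ = y⁻¹) :=
  have h : ∀ g, InS R AP_lK g → InS R AP_lI (⁅g, s * y⁻¹⁆) ∨ (GoodS R AP_lI → AP_lI ≠ [] → ∃ c, InS R AP_lI c ∧ (c * ⁅g, s * y⁻¹⁆ = y ∨ c * ⁅g, s * y⁻¹⁆ = y⁻¹)) :=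
    Fm.sound M.μ AP_cs2_F AP_cs2_chk M.reps
  (fun g h0 => (Or.imp (fun h1 => ((AP_lI_E M).iff.1 h1)) (fun h1 => (Exists.imp (fun c h2 => ⟨(AP_lI_E M).iff.1 h2.1, h2.2⟩) (h1 (AP_lI_E M).good (AP_lI_E M).ne))) (h g ((AP_lK_E M).iff.2 h0))))
noncomputable def AP_Mr_t0 : ST := (.node (nat_lit 28330) (.node (nat_lit 15285) (.node (nat_lit 7286) (.node (nat_lit 2727) (.node (nat_lit 1368) (.node (nat_lit 774) (.node (nat_lit 362) (.node (nat_lit 144) (.leaf (nat_lit 3)) (.node (nat_lit 320) (.leaf (nat_lit 18)) (.leaf (nat_lit 50)))) (.node (nat_lit 464) (.node (nat_lit 393) (.leaf (nat_lit 64)) (.leaf (nat_lit 51))) (.node (nat_lit 750) (.leaf (nat_lit 8)) (.leaf (nat_lit 9))))) (.node (nat_lit 908) (.node (nat_lit 863) (.leaf (nat_lit 13)) (.node (nat_lit 901) (.leaf (nat_lit 21)) (.leaf (nat_lit 10)))) (.node (nat_lit 1281) (.node (nat_lit 1143) (.leaf (nat_lit 57)) (.leaf (nat_lit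 72))) (.node (nat_lit 1310) (.leaf (nat_lit 90)) (.leaf (nat_lit 52)))))) (.node (nat_lit 1828) (.node (nat_lit 1568) (.node (nat_lit 1481) (.leaf (nat_lit 95)) (.node (nat_lit 1549) (.leaf (nat_lit 14)) (.leaf (nat_lit 63)))) (.node (nat_lit 1738) (.node (nat_lit 1695) (.leaf (nat_lit 89)) (.leaf (nat_lit 82))) (.node (nat_lit 1786) (.leaf (nat_lit 42)) (.leaf (nat_lit 76))))) (.node (nat_lit 2227) (.node (nat_lit 2156) (.node (nat_lit 1936) (.leaf (nat_lit 61)) (.leaf (nat_lit 64))) (.node (nat_lit 2213) (.leaf (nat_lit 70)) (.leaf (nat_lit 63)))) (.node (nat_lit 2402) (.node (nat_lit 2252) (.leaf (nat_lit 54)) (.leaf (nat_lit 14))) (.node (nat_lit 2452) (.leaf (nat_lit 79)) (.leaf (nat_lit 8))))))) (.node (nat_lit 5438) (.node (nat_lit 3802) (.node (nat_lit 3256) (.node (nat_lit 2835) (.leaf (nat_lit 48)) (.node (nat_lit 3124) (.leaf (nat_lit 2)) (.leaf (nat_lit 21)))) (.node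 (nat_lit 3325) (.node (nat_lit 3322) (.leaf (nat_lit 60)) (.leaf (nat_lit 49))) (.node (nat_lit 3599) (.leaf (nat_lit 45)) (.leaf (nat_lit 69))))) (.node (nat_lit 4138) (.node (nat_lit 4015) (.node (nat_lit 3881) (.leaf (nat_lit 81)) (.leaf (nat_lit 87))) (.node (nat_lit 4058) (.leaf (nat_lit 39)) (.leaf (nat_lit 42)))) (.node (nat_lit 4741) (.node (nat_lit 4446) (.leaf (nat_lit 84)) (.leaf (nat_lit 76))) (.node (nat_lit 5066) (.leaf (nat_lit 48)) (.leaf (nat_lit 53)))))) (.node (nat_lit 6457) (.node (nat_lit 5938) (.node (nat_lit 5522) (.leaf (nat_lit 69)) (.node (nat_lit 5861) (.leaf (nat_lit 61)) (.leaf (nat_lit 51)))) (.node (nat_lit 6073) (.node (nat_lit 5990) (.leaf (nat_lit 49)) (.leaf (nat_lit 20))) (.node (nat_lit 6178) (.leaf (nat_lit 47)) (.leaf (nat_lit 83))))) (.node (nat_lit 7087) (.node (nat_lit 6549) (.node (nat_lit 6547) (.leaf (nat_lit 12)) (.leaf (nat_lit 53)))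 (.node (nat_lit 7086) (.leaf (nat_lit 95)) (.leaf (nat_lit 64)))) (.node (nat_lit 7227) (.node (nat_lit 7225) (.leaf (nat_lit 33)) (.leaf (nat_lit 43))) (.node (nat_lit 7238) (.leaf (nat_lit 4)) (.leaf (nat_lit 10)))))))) (.node (nat_lit 11230) (.node (nat_lit 9133) (.node (nat_lit 8114) (.node (nat_lit 7533) (.node (nat_lit 7303) (.leaf (nat_lit 94)) (.node (nat_lit 7463) (.leaf (nat_lit 38)) (.leaf (nat_lit 52)))) (.node (nat_lit 7678) (.node (nat_lit 7660) (.leaf (nat_lit 58)) (.leaf (nat_lit 63))) (.node (nat_lit 8081) (.leaf (nat_lit 16)) (.leaf (nat_lit 64))))) (.node (nat_lit 8220) (.node (nat_lit 8138) (.node (nat_lit 8115) (.leaf (nat_lit 71)) (.leaf (nat_lit 44))) (.node (nat_lit 8183) (.leaf (nat_lit 41)) (.leaf (nat_lit 44)))) (.node (nat_lit 8649) (.node (nat_lit 8521) (.leaf (nat_lit 56)) (.leaf (nat_lit 8))) (.node (nat_lit 8935) (.leaf (nat_lit 46)) (.leaf (nat_lit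 89)))))) (.node (nat_lit 9864) (.node (nat_lit 9317) (.node (nat_lit 9196) (.leaf (nat_lit 46)) (.node (nat_lit 9267) (.leaf (nat_lit 28)) (.leaf (nat_lit 56)))) (.node (nat_lit 9584) (.node (nat_lit 9418) (.leaf (nat_lit 92)) (.leaf (nat_lit 30))) (.node (nat_lit 9701) (.leaf (nat_lit 82)) (.leaf (nat_lit 11))))) (.node (nat_lit 10783) (.node (nat_lit 10078) (.node (nat_lit 9949) (.leaf (nat_lit 4)) (.leaf (nat_lit 75))) (.node (nat_lit 10462) (.leaf (nat_lit 32)) (.leaf (nat_lit 76)))) (.node (nat_lit 10842) (.node (nat_lit 10803) (.leaf (nat_lit 5)) (.leaf (nat_lit 58))) (.node (nat_lit 11209) (.leaf (nat_lit 3)) (.leaf (nat_lit 32))))))) (.node (nat_lit 12741) (.node (nat_lit 11932) (.node (nat_lit 11539) (.node (nat_lit 11305) (.leaf (nat_lit 0)) (.node (nat_lit 11531) (.leaf (nat_lit 65)) (.leaf (nat_lit 10)))) (.node (nat_lit 11727) (.node (nat_lit 11646) (.leaf (nat_lit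 45)) (.leaf (nat_lit 92))) (.node (nat_lit 11801) (.leaf (nat_lit 87)) (.leaf (nat_lit 80))))) (.node (nat_lit 12412) (.node (nat_lit 12043) (.node (nat_lit 11990) (.leaf (nat_lit 2)) (.leaf (nat_lit 19))) (.node (nat_lit 12187) (.leaf (nat_lit 41)) (.leaf (nat_lit 12)))) (.node (nat_lit 12491) (.node (nat_lit 12431) (.leaf (nat_lit 34)) (.leaf (nat_lit 38))) (.node (nat_lit 12629) (.leaf (nat_lit 19)) (.leaf (nat_lit 62)))))) (.node (nat_lit 13953) (.node (nat_lit 12900) (.node (nat_lit 12810) (.leaf (nat_lit 5)) (.node (nat_lit 12834) (.leaf (nat_lit 33)) (.leaf (nat_lit 59)))) (.node (nat_lit 13589) (.node (nat_lit 13395) (.leaf (nat_lit 67)) (.leaf (nat_lit 48))) (.node (nat_lit 13610) (.leaf (nat_lit 1)) (.leaf (nat_lit 34))))) (.node (nat_lit 14639) (.node (nat_lit 14404) (.node (nat_lit 14223) (.leaf (nat_lit 73)) (.leaf (nat_lit 31))) (.node (nat_lit 14582) (.leaf (nat_lit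 19)) (.leaf (nat_lit 22)))) (.node (nat_lit 15013) (.node (nat_lit 14748) (.leaf (nat_lit 90)) (.leaf (nat_lit 61))) (.node (nat_lit 15243) (.leaf (nat_lit 37)) (.leaf (nat_lit 85))))))))) (.node (nat_lit 20707) (.node (nat_lit 18336) (.node (nat_lit 17085) (.node (nat_lit 15969) (.node (nat_lit 15398) (.node (nat_lit 15334) (.leaf (nat_lit 3)) (.node (nat_lit 15395) (.leaf (nat_lit 57)) (.leaf (nat_lit 71)))) (.node (nat_lit 15810) (.node (nat_lit 15580) (.leaf (nat_lit 1)) (.leaf (nat_lit 50))) (.node (nat_lit 15967) (.leaf (nat_lit 92)) (.leaf (nat_lit 76))))) (.node (nat_lit 16813) (.node (nat_lit 16139) (.leaf (nat_lit 85)) (.node (nat_lit 16714) (.leaf (nat_lit 77)) (.leaf (nat_lit 74)))) (.node (nat_lit 17016) (.node (nat_lit 16952) (.leaf (nat_lit 51)) (.leaf (nat_lit 1))) (.node (nat_lit 17057) (.leaf (nat_lit 89)) (.leaf (nat_lit 40)))))) (.node (nat_lit 17754) (.node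 (nat_lit 17377) (.node (nat_lit 17158) (.leaf (nat_lit 87)) (.node (nat_lit 17296) (.leaf (nat_lit 11)) (.leaf (nat_lit 29)))) (.node (nat_lit 17505) (.node (nat_lit 17458) (.leaf (nat_lit 40)) (.leaf (nat_lit 80))) (.node (nat_lit 17569) (.leaf (nat_lit 63)) (.leaf (nat_lit 17))))) (.node (nat_lit 18231) (.node (nat_lit 17791) (.node (nat_lit 17778) (.leaf (nat_lit 55)) (.leaf (nat_lit 68))) (.node (nat_lit 18049) (.leaf (nat_lit 4)) (.leaf (nat_lit 2)))) (.node (nat_lit 18260) (.node (nat_lit 18249) (.leaf (nat_lit 62)) (.leaf (nat_lit 1))) (.node (nat_lit 18266) (.leaf (nat_lit 47)) (.leaf (nat_lit 77))))))) (.node (nat_lit 19753) (.node (nat_lit 19102) (.node (nat_lit 18829) (.node (nat_lit 18395) (.leaf (nat_lit 63)) (.node (nat_lit 18430) (.leaf (nat_lit 66)) (.leaf (nat_lit 79)))) (.node (nat_lit 18895) (.node (nat_lit 18850) (.leaf (nat_lit 46)) (.leaf (nat_lit 22)))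 (.node (nat_lit 19035) (.leaf (nat_lit 93)) (.leaf (nat_lit 26))))) (.node (nat_lit 19586) (.node (nat_lit 19326) (.node (nat_lit 19237) (.leaf (nat_lit 87)) (.leaf (nat_lit 9))) (.node (nat_lit 19559) (.leaf (nat_lit 45)) (.leaf (nat_lit 72)))) (.node (nat_lit 19610) (.node (nat_lit 19601) (.leaf (nat_lit 91)) (.leaf (nat_lit 23))) (.node (nat_lit 19684) (.leaf (nat_lit 12)) (.leaf (nat_lit 81)))))) (.node (nat_lit 20084) (.node (nat_lit 19801) (.node (nat_lit 19780) (.leaf (nat_lit 84)) (.node (nat_lit 19792) (.leaf (nat_lit 55)) (.leaf (nat_lit 17)))) (.node (nat_lit 19964) (.node (nat_lit 19830) (.leaf (nat_lit 93)) (.leaf (nat_lit 45))) (.node (nat_lit 19973) (.leaf (nat_lit 94)) (.leaf (nat_lit 4))))) (.node (nat_lit 20507) (.node (nat_lit 20228) (.node (nat_lit 20216) (.leaf (nat_lit 95)) (.leaf (nat_lit 75))) (.node (nat_lit 20460) (.leaf (nat_lit 51)) (.leaf (nat_lit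 60)))) (.node (nat_lit 20573) (.node (nat_lit 20526) (.leaf (nat_lit 82)) (.leaf (nat_lit 35))) (.node (nat_lit 20667) (.leaf (nat_lit 21)) (.leaf (nat_lit 68)))))))) (.node (nat_lit 24076) (.node (nat_lit 22066) (.node (nat_lit 21325) (.node (nat_lit 20873) (.node (nat_lit 20759) (.leaf (nat_lit 61)) (.node (nat_lit 20803) (.leaf (nat_lit 60)) (.leaf (nat_lit 88)))) (.node (nat_lit 20924) (.node (nat_lit 20909) (.leaf (nat_lit 89)) (.leaf (nat_lit 31))) (.node (nat_lit 20945) (.leaf (nat_lit 53)) (.leaf (nat_lit 48))))) (.node (nat_lit 21888) (.node (nat_lit 21647) (.node (nat_lit 21379) (.leaf (nat_lit 34)) (.leaf (nat_lit 60))) (.node (nat_lit 21841) (.leaf (nat_lit 36)) (.leaf (nat_lit 37)))) (.node (nat_lit 22015) (.node (nat_lit 21951) (.leaf (nat_lit 19)) (.leaf (nat_lit 38))) (.node (nat_lit 22031) (.leaf (nat_lit 14)) (.leaf (nat_lit 84)))))) (.node (nat_lit 22634) (.node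 (nat_lit 22298) (.node (nat_lit 22093) (.leaf (nat_lit 89)) (.node (nat_lit 22223) (.leaf (nat_lit 73)) (.leaf (nat_lit 75)))) (.node (nat_lit 22474) (.node (nat_lit 22301) (.leaf (nat_lit 36)) (.leaf (nat_lit 28))) (.node (nat_lit 22571) (.leaf (nat_lit 16)) (.leaf (nat_lit 56))))) (.node (nat_lit 23228) (.node (nat_lit 23164) (.node (nat_lit 22956) (.leaf (nat_lit 39)) (.leaf (nat_lit 80))) (.node (nat_lit 23173) (.leaf (nat_lit 39)) (.leaf (nat_lit 65)))) (.node (nat_lit 23407) (.node (nat_lit 23314) (.leaf (nat_lit 49)) (.leaf (nat_lit 32))) (.node (nat_lit 23563) (.leaf (nat_lit 78)) (.leaf (nat_lit 6))))))) (.node (nat_lit 26593) (.node (nat_lit 24991) (.node (nat_lit 24147) (.node (nat_lit 24092) (.leaf (nat_lit 50)) (.node (nat_lit 24108) (.leaf (nat_lit 57)) (.leaf (nat_lit 83)))) (.node (nat_lit 24884) (.node (nat_lit 24338) (.leaf (nat_lit 93)) (.leaf (nat_lit 39)))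 (.node (nat_lit 24989) (.leaf (nat_lit 27)) (.leaf (nat_lit 34))))) (.node (nat_lit 26056) (.node (nat_lit 25468) (.node (nat_lit 25182) (.leaf (nat_lit 21)) (.leaf (nat_lit 27))) (.node (nat_lit 25504) (.leaf (nat_lit 9)) (.leaf (nat_lit 35)))) (.node (nat_lit 26346) (.node (nat_lit 26191) (.leaf (nat_lit 36)) (.leaf (nat_lit 41))) (.node (nat_lit 26355) (.leaf (nat_lit 39)) (.leaf (nat_lit 40)))))) (.node (nat_lit 27625) (.node (nat_lit 27134) (.node (nat_lit 26594) (.leaf (nat_lit 52)) (.node (nat_lit 26951) (.leaf (nat_lit 28)) (.leaf (nat_lit 83)))) (.node (nat_lit 27423) (.node (nat_lit 27162) (.leaf (nat_lit 33)) (.leaf (nat_lit 94))) (.node (nat_lit 27585) (.leaf (nat_lit 20)) (.leaf (nat_lit 29))))) (.node (nat_lit 27969) (.node (nat_lit 27849) (.node (nat_lit 27696) (.leaf (nat_lit 5)) (.leaf (nat_lit 33))) (.node (nat_lit 27916) (.leaf (nat_lit 69)) (.leaf (nat_lit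 12)))) (.node (nat_lit 28170) (.node (nat_lit 28148) (.leaf (nat_lit 95)) (.leaf (nat_lit 72))) (.node (nat_lit 28178) (.leaf (nat_lit 0)) (.leaf (nat_lit 55)))))))))) (.node (nat_lit 42450) (.node (nat_lit 35385) (.node (nat_lit 31338) (.node (nat_lit 30387) (.node (nat_lit 29511) (.node (nat_lit 29179) (.node (nat_lit 28338) (.leaf (nat_lit 58)) (.node (nat_lit 29026) (.leaf (nat_lit 93)) (.leaf (nat_lit 35)))) (.node (nat_lit 29241) (.node (nat_lit 29221) (.leaf (nat_lit 51)) (.leaf (nat_lit 80))) (.node (nat_lit 29421) (.leaf (nat_lit 6)) (.leaf (nat_lit 90))))) (.node (nat_lit 30201) (.node (nat_lit 29894) (.leaf (nat_lit 21)) (.node (nat_lit 30096) (.leaf (nat_lit 50)) (.leaf (nat_lit 13)))) (.node (nat_lit 30239) (.node (nat_lit 30204) (.leaf (nat_lit 52)) (.leaf (nat_lit 64))) (.node (nat_lit 30279) (.leaf (nat_lit 6)) (.leaf (nat_lit 31)))))) (.node (nat_lit 30668) (.node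 (nat_lit 30468) (.node (nat_lit 30441) (.leaf (nat_lit 77)) (.node (nat_lit 30453) (.leaf (nat_lit 48)) (.leaf (nat_lit 59)))) (.node (nat_lit 30605) (.node (nat_lit 30572) (.leaf (nat_lit 94)) (.leaf (nat_lit 24))) (.node (nat_lit 30629) (.leaf (nat_lit 44)) (.leaf (nat_lit 78))))) (.node (nat_lit 30972) (.node (nat_lit 30725) (.node (nat_lit 30691) (.leaf (nat_lit 15)) (.leaf (nat_lit 81))) (.node (nat_lit 30922) (.leaf (nat_lit 88)) (.leaf (nat_lit 6)))) (.node (nat_lit 31076) (.node (nat_lit 30992) (.leaf (nat_lit 30)) (.leaf (nat_lit 82))) (.node (nat_lit 31148) (.leaf (nat_lit 29)) (.leaf (nat_lit 79))))))) (.node (nat_lit 33640) (.node (nat_lit 32297) (.node (nat_lit 31827) (.node (nat_lit 31460) (.leaf (nat_lit 2)) (.node (nat_lit 31592) (.leaf (nat_lit 79)) (.leaf (nat_lit 93)))) (.node (nat_lit 32146) (.node (nat_lit 31869) (.leaf (nat_lit 47)) (.leaf (nat_lit 86)))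 (.node (nat_lit 32244) (.leaf (nat_lit 37)) (.leaf (nat_lit 69))))) (.node (nat_lit 32793) (.node (nat_lit 32532) (.node (nat_lit 32308) (.leaf (nat_lit 53)) (.leaf (nat_lit 7))) (.node (nat_lit 32647) (.leaf (nat_lit 47)) (.leaf (nat_lit 28)))) (.node (nat_lit 33210) (.node (nat_lit 32950) (.leaf (nat_lit 67)) (.leaf (nat_lit 11))) (.node (nat_lit 33543) (.leaf (nat_lit 30)) (.leaf (nat_lit 27)))))) (.node (nat_lit 34846) (.node (nat_lit 34226) (.node (nat_lit 33837) (.leaf (nat_lit 43)) (.node (nat_lit 33886) (.leaf (nat_lit 67)) (.leaf (nat_lit 66)))) (.node (nat_lit 34665) (.node (nat_lit 34438) (.leaf (nat_lit 58)) (.leaf (nat_lit 31))) (.node (nat_lit 34832) (.leaf (nat_lit 71)) (.leaf (nat_lit 23))))) (.node (nat_lit 35154) (.node (nat_lit 34944) (.node (nat_lit 34848) (.leaf (nat_lit 12)) (.leaf (nat_lit 88))) (.node (nat_lit 35151) (.leaf (nat_lit 28)) (.leaf (nat_lit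 42)))) (.node (nat_lit 35215) (.node (nat_lit 35158) (.leaf (nat_lit 0)) (.leaf (nat_lit 19))) (.node (nat_lit 35318) (.leaf (nat_lit 92)) (.leaf (nat_lit 25)))))))) (.node (nat_lit 38874) (.node (nat_lit 37009) (.node (nat_lit 36006) (.node (nat_lit 35510) (.node (nat_lit 35443) (.leaf (nat_lit 14)) (.node (nat_lit 35486) (.leaf (nat_lit 90)) (.leaf (nat_lit 52)))) (.node (nat_lit 35614) (.node (nat_lit 35557) (.leaf (nat_lit 32)) (.leaf (nat_lit 16))) (.node (nat_lit 35925) (.leaf (nat_lit 26)) (.leaf (nat_lit 91))))) (.node (nat_lit 36450) (.node (nat_lit 36199) (.node (nat_lit 36125) (.leaf (nat_lit 5)) (.leaf (nat_lit 55))) (.node (nat_lit 36261) (.leaf (nat_lit 49)) (.leaf (nat_lit 70)))) (.node (nat_lit 36855) (.node (nat_lit 36581) (.leaf (nat_lit 68)) (.leaf (nat_lit 1))) (.node (nat_lit 36963) (.leaf (nat_lit 73)) (.leaf (nat_lit 83)))))) (.node (nat_lit 37950) (.node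 (nat_lit 37457) (.node (nat_lit 37075) (.leaf (nat_lit 94)) (.node (nat_lit 37147) (.leaf (nat_lit 54)) (.leaf (nat_lit 24)))) (.node (nat_lit 37868) (.node (nat_lit 37546) (.leaf (nat_lit 72)) (.leaf (nat_lit 20))) (.node (nat_lit 37915) (.leaf (nat_lit 88)) (.leaf (nat_lit 4))))) (.node (nat_lit 38640) (.node (nat_lit 38330) (.node (nat_lit 38084) (.leaf (nat_lit 37)) (.leaf (nat_lit 62))) (.node (nat_lit 38490) (.leaf (nat_lit 26)) (.leaf (nat_lit 60)))) (.node (nat_lit 38775) (.node (nat_lit 38673) (.leaf (nat_lit 40)) (.leaf (nat_lit 25))) (.node (nat_lit 38789) (.leaf (nat_lit 77)) (.leaf (nat_lit 33))))))) (.node (nat_lit 40253) (.node (nat_lit 39455) (.node (nat_lit 39141) (.node (nat_lit 39039) (.leaf (nat_lit 45)) (.node (nat_lit 39100) (.leaf (nat_lit 13)) (.leaf (nat_lit 74)))) (.node (nat_lit 39431) (.node (nat_lit 39158) (.leaf (nat_lit 69)) (.leaf (nat_lit 41)))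 (.node (nat_lit 39448) (.leaf (nat_lit 85)) (.leaf (nat_lit 7))))) (.node (nat_lit 39954) (.node (nat_lit 39528) (.node (nat_lit 39486) (.leaf (nat_lit 86)) (.leaf (nat_lit 40))) (.node (nat_lit 39767) (.leaf (nat_lit 17)) (.leaf (nat_lit 85)))) (.node (nat_lit 40207) (.node (nat_lit 40045) (.leaf (nat_lit 91)) (.leaf (nat_lit 78))) (.node (nat_lit 40213) (.leaf (nat_lit 49)) (.leaf (nat_lit 86)))))) (.node (nat_lit 41312) (.node (nat_lit 40494) (.node (nat_lit 40414) (.leaf (nat_lit 66)) (.node (nat_lit 40464) (.leaf (nat_lit 70)) (.leaf (nat_lit 62)))) (.node (nat_lit 41046) (.node (nat_lit 40568) (.leaf (nat_lit 38)) (.leaf (nat_lit 71))) (.node (nat_lit 41112) (.leaf (nat_lit 15)) (.leaf (nat_lit 25))))) (.node (nat_lit 41925) (.node (nat_lit 41715) (.node (nat_lit 41445) (.leaf (nat_lit 68)) (.leaf (nat_lit 8))) (.node (nat_lit 41849) (.leaf (nat_lit 75)) (.leaf (nat_lit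 58)))) (.node (nat_lit 42097) (.node (nat_lit 42058) (.leaf (nat_lit 27)) (.leaf (nat_lit 7))) (.node (nat_lit 42396) (.leaf (nat_lit 24)) (.leaf (nat_lit 18))))))))) (.node (nat_lit 49181) (.node (nat_lit 45733) (.node (nat_lit 43908) (.node (nat_lit 43043) (.node (nat_lit 42741) (.node (nat_lit 42464) (.leaf (nat_lit 70)) (.node (nat_lit 42696) (.leaf (nat_lit 44)) (.leaf (nat_lit 30)))) (.node (nat_lit 42882) (.node (nat_lit 42782) (.leaf (nat_lit 43)) (.leaf (nat_lit 47))) (.node (nat_lit 42883) (.leaf (nat_lit 66)) (.leaf (nat_lit 2))))) (.node (nat_lit 43362) (.node (nat_lit 43276) (.node (nat_lit 43220) (.leaf (nat_lit 81)) (.leaf (nat_lit 75))) (.node (nat_lit 43294) (.leaf (nat_lit 57)) (.leaf (nat_lit 9)))) (.node (nat_lit 43770) (.node (nat_lit 43542) (.leaf (nat_lit 18)) (.leaf (nat_lit 6))) (.node (nat_lit 43904) (.leaf (nat_lit 37)) (.leaf (nat_lit 25)))))) (.node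 (nat_lit 44734) (.node (nat_lit 44563) (.node (nat_lit 44182) (.leaf (nat_lit 66)) (.node (nat_lit 44237) (.leaf (nat_lit 27)) (.leaf (nat_lit 81)))) (.node (nat_lit 44619) (.node (nat_lit 44571) (.leaf (nat_lit 90)) (.leaf (nat_lit 24))) (.node (nat_lit 44716) (.leaf (nat_lit 43)) (.leaf (nat_lit 83))))) (.node (nat_lit 45529) (.node (nat_lit 44872) (.node (nat_lit 44753) (.leaf (nat_lit 46)) (.leaf (nat_lit 61))) (.node (nat_lit 45338) (.leaf (nat_lit 87)) (.leaf (nat_lit 79)))) (.node (nat_lit 45711) (.node (nat_lit 45568) (.leaf (nat_lit 20)) (.leaf (nat_lit 68))) (.node (nat_lit 45718) (.leaf (nat_lit 31)) (.leaf (nat_lit 55))))))) (.node (nat_lit 47968) (.node (nat_lit 46618) (.node (nat_lit 45911) (.node (nat_lit 45814) (.leaf (nat_lit 22)) (.node (nat_lit 45861) (.leaf (nat_lit 65)) (.leaf (nat_lit 17)))) (.node (nat_lit 46434) (.node (nat_lit 46003) (.leaf (nat_lit 14))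 (.leaf (nat_lit 72))) (.node (nat_lit 46509) (.leaf (nat_lit 22)) (.leaf (nat_lit 84))))) (.node (nat_lit 46994) (.node (nat_lit 46851) (.node (nat_lit 46796) (.leaf (nat_lit 78)) (.leaf (nat_lit 59))) (.node (nat_lit 46912) (.leaf (nat_lit 74)) (.leaf (nat_lit 0)))) (.node (nat_lit 47632) (.node (nat_lit 47077) (.leaf (nat_lit 23)) (.leaf (nat_lit 22))) (.node (nat_lit 47791) (.leaf (nat_lit 86)) (.leaf (nat_lit 25)))))) (.node (nat_lit 48548) (.node (nat_lit 48308) (.node (nat_lit 47991) (.leaf (nat_lit 44)) (.node (nat_lit 48069) (.leaf (nat_lit 3)) (.leaf (nat_lit 56)))) (.node (nat_lit 48444) (.node (nat_lit 48330) (.leaf (nat_lit 11)) (.leaf (nat_lit 77))) (.node (nat_lit 48468) (.leaf (nat_lit 43)) (.leaf (nat_lit 35))))) (.node (nat_lit 48799) (.node (nat_lit 48752) (.node (nat_lit 48582) (.leaf (nat_lit 9)) (.leaf (nat_lit 84))) (.node (nat_lit 48758) (.leaf (nat_lit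 18)) (.leaf (nat_lit 54)))) (.node (nat_lit 49054) (.node (nat_lit 48889) (.leaf (nat_lit 11)) (.leaf (nat_lit 53))) (.node (nat_lit 49143) (.leaf (nat_lit 42)) (.leaf (nat_lit 54)))))))) (.node (nat_lit 53276) (.node (nat_lit 51304) (.node (nat_lit 50429) (.node (nat_lit 50047) (.node (nat_lit 49464) (.leaf (nat_lit 65)) (.node (nat_lit 49571) (.leaf (nat_lit 0)) (.leaf (nat_lit 15)))) (.node (nat_lit 50147) (.node (nat_lit 50075) (.leaf (nat_lit 5)) (.leaf (nat_lit 95))) (.node (nat_lit 50186) (.leaf (nat_lit 26)) (.leaf (nat_lit 35))))) (.node (nat_lit 50524) (.node (nat_lit 50453) (.node (nat_lit 50448) (.leaf (nat_lit 80)) (.leaf (nat_lit 42))) (.node (nat_lit 50496) (.leaf (nat_lit 23)) (.leaf (nat_lit 67)))) (.node (nat_lit 51144) (.node (nat_lit 50952) (.leaf (nat_lit 30)) (.leaf (nat_lit 24))) (.node (nat_lit 51278) (.leaf (nat_lit 36)) (.leaf (nat_lit 17)))))) (.node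 (nat_lit 52234) (.node (nat_lit 51545) (.node (nat_lit 51334) (.leaf (nat_lit 59)) (.node (nat_lit 51509) (.leaf (nat_lit 88)) (.leaf (nat_lit 50)))) (.node (nat_lit 51698) (.node (nat_lit 51584) (.leaf (nat_lit 46)) (.leaf (nat_lit 16))) (.node (nat_lit 51748) (.leaf (nat_lit 38)) (.leaf (nat_lit 18))))) (.node (nat_lit 52449) (.node (nat_lit 52353) (.node (nat_lit 52249) (.leaf (nat_lit 34)) (.leaf (nat_lit 20))) (.node (nat_lit 52378) (.leaf (nat_lit 56)) (.leaf (nat_lit 73)))) (.node (nat_lit 52684) (.node (nat_lit 52538) (.leaf (nat_lit 36)) (.leaf (nat_lit 65))) (.node (nat_lit 53204) (.leaf (nat_lit 74)) (.leaf (nat_lit 13))))))) (.node (nat_lit 54689) (.node (nat_lit 53702) (.node (nat_lit 53639) (.node (nat_lit 53558) (.leaf (nat_lit 29)) (.node (nat_lit 53621) (.leaf (nat_lit 67)) (.leaf (nat_lit 7)))) (.node (nat_lit 53648) (.node (nat_lit 53643) (.leaf (nat_lit 59))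 (.leaf (nat_lit 70))) (.node (nat_lit 53674) (.leaf (nat_lit 3)) (.leaf (nat_lit 15))))) (.node (nat_lit 54117) (.node (nat_lit 53959) (.node (nat_lit 53899) (.leaf (nat_lit 54)) (.leaf (nat_lit 74))) (.node (nat_lit 53986) (.leaf (nat_lit 92)) (.leaf (nat_lit 71)))) (.node (nat_lit 54606) (.node (nat_lit 54232) (.leaf (nat_lit 10)) (.leaf (nat_lit 76))) (.node (nat_lit 54639) (.leaf (nat_lit 32)) (.leaf (nat_lit 16)))))) (.node (nat_lit 55039) (.node (nat_lit 54940) (.node (nat_lit 54793) (.leaf (nat_lit 41)) (.node (nat_lit 54812) (.leaf (nat_lit 13)) (.leaf (nat_lit 23)))) (.node (nat_lit 54975) (.node (nat_lit 54960) (.leaf (nat_lit 86)) (.leaf (nat_lit 91))) (.node (nat_lit 55019) (.leaf (nat_lit 10)) (.leaf (nat_lit 91))))) (.node (nat_lit 55655) (.node (nat_lit 55558) (.node (nat_lit 55223) (.leaf (nat_lit 26)) (.leaf (nat_lit 29))) (.node (nat_lit 55577) (.leaf (nat_lit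 7)) (.leaf (nat_lit 82)))) (.node (nat_lit 56151) (.node (nat_lit 55759) (.leaf (nat_lit 78)) (.leaf (nat_lit 73))) (.node (nat_lit 56152) (.leaf (nat_lit 57)) (.leaf (nat_lit 15)))))))))))
noncomputable def AP_Mr_F : Fm := (.allS AP_lK (.or (.qf (.mem (.v (nat_lit 0)) AP_lMr)) (.exG AP_lMr (fun cs => AP_Mr_t0.find (Nat.mod (nth (nat_lit 0) cs (nat_lit 0)) (nat_lit 56445))) (.qf (.or (.eq (.mul (.v (nat_lit 0)) (.v (nat_lit 1))) (.v (nat_lit 12))) (.or (.eq (.mul (.v (nat_lit 0)) (.v (nat_lit 1))) (.inv (.v (nat_lit 12)))) (.or (.eq (.mul (.v (nat_lit 0)) (.v (nat_lit 1))) (.v (nat_lit 14))) (.or (.eq (.mul (.v (nat_lit 0)) (.v (nat_lit 1))) (.mul (.v (nat_lit 14)) (.v (nat_lit 12)))) (.eq (.mul (.v (nat_lit 0)) (.v (nat_lit 1))) (.mul (.v (nat_lit 14)) (.inv (.v (nat_lit 12)))))))))))))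
theorem AP_Mr_chk : Fm.chk AP_o AP_Mr_F AP_cs = true := by decide +kernel
theorem AP_Mr {G : Type*} [Group G] {R : ℕ → G → Prop} {z u v a b i j k l x y r s t : G}
    (M : Md0 AP_o AP_cs R [z, u, v, a, b, i, j, k, l, x, y, r, s, t]) :
    ∀ g ∈ sp [i, x, y, r, s], g ∈ sp [i, j, k, l, x, r] ∨ (∃ c ∈ sp [i, j, k, l, x, r], c * g = y ∨ c * g = y⁻¹ ∨ c * g = s ∨ c * g = s * y ∨ c * g = s * y⁻¹) :=
  have h : ∀ g, InS R AP_lK g → InS R AP_lMr (g) ∨ (GoodS R AP_lMr → AP_lMr ≠ [] → ∃ c, InS R AP_lMr c ∧ (c * g = y ∨ c * g = y⁻¹ ∨ c * g = s ∨ c * g = s * y ∨ c * g = s * y⁻¹)) :=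
    Fm.sound M.μ AP_Mr_F AP_Mr_chk M.reps
  (fun g h0 => (Or.imp (fun h1 => ((AP_lMr_E M).iff.1 h1)) (fun h1 => (Exists.imp (fun c h2 => ⟨(AP_lMr_E M).iff.1 h2.1, h2.2⟩) (h1 (AP_lMr_E M).good (AP_lMr_E M).ne))) (h g ((AP_lK_E M).iff.2 h0))))
noncomputable def AP_Mj_t0 : ST := (.node (nat_lit 51409) (.node (nat_lit 24195) (.node (nat_lit 12782) (.node (nat_lit 6244) (.node (nat_lit 3897) (.node (nat_lit 1308) (.node (nat_lit 771) (.node (nat_lit 219) (.leaf (nat_lit 64)) (.node (nat_lit 396) (.leaf (nat_lit 43)) (.leaf (nat_lit 59)))) (.node (nat_lit 862) (.node (nat_lit 788) (.leaf (nat_lit 3)) (.leaf (nat_lit 33))) (.node (nat_lit 1007) (.leaf (nat_lit 12)) (.leaf (nat_lit 59))))) (.node (nat_lit 2826) (.node (nat_lit 1553) (.leaf (nat_lit 58)) (.node (nat_lit 2573) (.leaf (nat_lit 55)) (.leaf (nat_lit 22)))) (.node (nat_lit 3510) (.node (nat_lit 3157) (.leaf (nat_lit 5)) (.leaf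 (nat_lit 68))) (.node (nat_lit 3587) (.leaf (nat_lit 6)) (.leaf (nat_lit 53)))))) (.node (nat_lit 5285) (.node (nat_lit 4461) (.node (nat_lit 4074) (.leaf (nat_lit 71)) (.node (nat_lit 4146) (.leaf (nat_lit 83)) (.leaf (nat_lit 75)))) (.node (nat_lit 4816) (.node (nat_lit 4798) (.leaf (nat_lit 71)) (.leaf (nat_lit 7))) (.node (nat_lit 4850) (.leaf (nat_lit 73)) (.leaf (nat_lit 84))))) (.node (nat_lit 5632) (.node (nat_lit 5352) (.node (nat_lit 5311) (.leaf (nat_lit 14)) (.leaf (nat_lit 7))) (.node (nat_lit 5509) (.leaf (nat_lit 5)) (.leaf (nat_lit 80)))) (.node (nat_lit 6110) (.node (nat_lit 5682) (.leaf (nat_lit 77)) (.leaf (nat_lit 28))) (.node (nat_lit 6230) (.leaf (nat_lit 82)) (.leaf (nat_lit 19))))))) (.node (nat_lit 8481) (.node (nat_lit 7076) (.node (nat_lit 6486) (.node (nat_lit 6287) (.leaf (nat_lit 6)) (.node (nat_lit 6311) (.leaf (nat_lit 75)) (.leaf (nat_lit 60))))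 (.node (nat_lit 6606) (.node (nat_lit 6550) (.leaf (nat_lit 83)) (.leaf (nat_lit 0))) (.node (nat_lit 6796) (.leaf (nat_lit 95)) (.leaf (nat_lit 71))))) (.node (nat_lit 7733) (.node (nat_lit 7520) (.node (nat_lit 7343) (.leaf (nat_lit 2)) (.leaf (nat_lit 59))) (.node (nat_lit 7670) (.leaf (nat_lit 31)) (.leaf (nat_lit 22)))) (.node (nat_lit 8204) (.node (nat_lit 7746) (.leaf (nat_lit 94)) (.leaf (nat_lit 21))) (.node (nat_lit 8474) (.leaf (nat_lit 41)) (.leaf (nat_lit 44)))))) (.node (nat_lit 10075) (.node (nat_lit 8934) (.node (nat_lit 8488) (.leaf (nat_lit 13)) (.node (nat_lit 8929) (.leaf (nat_lit 65)) (.leaf (nat_lit 68)))) (.node (nat_lit 9179) (.node (nat_lit 9020) (.leaf (nat_lit 8)) (.leaf (nat_lit 2))) (.node (nat_lit 9970) (.leaf (nat_lit 83)) (.leaf (nat_lit 14))))) (.node (nat_lit 11185) (.node (nat_lit 11069) (.node (nat_lit 10810) (.leaf (nat_lit 54)) (.leaf (nat_lit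 80))) (.node (nat_lit 11070) (.leaf (nat_lit 65)) (.leaf (nat_lit 31)))) (.node (nat_lit 11713) (.node (nat_lit 11295) (.leaf (nat_lit 92)) (.leaf (nat_lit 91))) (.node (nat_lit 12684) (.leaf (nat_lit 73)) (.leaf (nat_lit 11)))))))) (.node (nat_lit 19168) (.node (nat_lit 15210) (.node (nat_lit 14183) (.node (nat_lit 13338) (.node (nat_lit 12967) (.leaf (nat_lit 63)) (.node (nat_lit 13021) (.leaf (nat_lit 90)) (.leaf (nat_lit 67)))) (.node (nat_lit 13698) (.node (nat_lit 13684) (.leaf (nat_lit 5)) (.leaf (nat_lit 36))) (.node (nat_lit 13785) (.leaf (nat_lit 90)) (.leaf (nat_lit 21))))) (.node (nat_lit 14660) (.node (nat_lit 14453) (.leaf (nat_lit 24)) (.node (nat_lit 14600) (.leaf (nat_lit 63)) (.leaf (nat_lit 40)))) (.node (nat_lit 14803) (.node (nat_lit 14786) (.leaf (nat_lit 82)) (.leaf (nat_lit 54))) (.node (nat_lit 14961) (.leaf (nat_lit 48)) (.leaf (nat_lit 87)))))) (.node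 (nat_lit 16869) (.node (nat_lit 16035) (.node (nat_lit 15396) (.leaf (nat_lit 13)) (.node (nat_lit 15922) (.leaf (nat_lit 83)) (.leaf (nat_lit 87)))) (.node (nat_lit 16441) (.node (nat_lit 16224) (.leaf (nat_lit 77)) (.leaf (nat_lit 10))) (.node (nat_lit 16468) (.leaf (nat_lit 70)) (.leaf (nat_lit 2))))) (.node (nat_lit 17654) (.node (nat_lit 17240) (.node (nat_lit 16949) (.leaf (nat_lit 85)) (.leaf (nat_lit 61))) (.node (nat_lit 17489) (.leaf (nat_lit 18)) (.leaf (nat_lit 12)))) (.node (nat_lit 18459) (.node (nat_lit 17675) (.leaf (nat_lit 38)) (.leaf (nat_lit 21))) (.node (nat_lit 18891) (.leaf (nat_lit 29)) (.leaf (nat_lit 67))))))) (.node (nat_lit 21937) (.node (nat_lit 20424) (.node (nat_lit 20027) (.node (nat_lit 19863) (.leaf (nat_lit 6)) (.node (nat_lit 19949) (.leaf (nat_lit 66)) (.leaf (nat_lit 41)))) (.node (nat_lit 20326) (.node (nat_lit 20231) (.leaf (nat_lit 44))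 (.leaf (nat_lit 18))) (.node (nat_lit 20387) (.leaf (nat_lit 42)) (.leaf (nat_lit 58))))) (.node (nat_lit 20902) (.node (nat_lit 20642) (.node (nat_lit 20641) (.leaf (nat_lit 35)) (.leaf (nat_lit 50))) (.node (nat_lit 20663) (.leaf (nat_lit 26)) (.leaf (nat_lit 32)))) (.node (nat_lit 21346) (.node (nat_lit 21318) (.leaf (nat_lit 79)) (.leaf (nat_lit 26))) (.node (nat_lit 21399) (.leaf (nat_lit 22)) (.leaf (nat_lit 10)))))) (.node (nat_lit 23268) (.node (nat_lit 22717) (.node (nat_lit 21986) (.leaf (nat_lit 36)) (.node (nat_lit 22294) (.leaf (nat_lit 54)) (.leaf (nat_lit 78)))) (.node (nat_lit 23084) (.node (nat_lit 22987) (.leaf (nat_lit 11)) (.leaf (nat_lit 62))) (.node (nat_lit 23164) (.leaf (nat_lit 74)) (.leaf (nat_lit 25))))) (.node (nat_lit 23611) (.node (nat_lit 23351) (.node (nat_lit 23303) (.leaf (nat_lit 92)) (.leaf (nat_lit 86))) (.node (nat_lit 23593) (.leaf (nat_lit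 39)) (.leaf (nat_lit 8)))) (.node (nat_lit 23777) (.node (nat_lit 23644) (.leaf (nat_lit 4)) (.leaf (nat_lit 3))) (.node (nat_lit 24053) (.leaf (nat_lit 35)) (.leaf (nat_lit 94))))))))) (.node (nat_lit 36496) (.node (nat_lit 29859) (.node (nat_lit 25676) (.node (nat_lit 24866) (.node (nat_lit 24564) (.node (nat_lit 24432) (.leaf (nat_lit 37)) (.node (nat_lit 24469) (.leaf (nat_lit 49)) (.leaf (nat_lit 86)))) (.node (nat_lit 24845) (.node (nat_lit 24790) (.leaf (nat_lit 37)) (.leaf (nat_lit 0))) (.node (nat_lit 24858) (.leaf (nat_lit 92)) (.leaf (nat_lit 43))))) (.node (nat_lit 25238) (.node (nat_lit 25118) (.leaf (nat_lit 14)) (.node (nat_lit 25148) (.leaf (nat_lit 9)) (.leaf (nat_lit 47)))) (.node (nat_lit 25327) (.node (nat_lit 25283) (.leaf (nat_lit 81)) (.leaf (nat_lit 35))) (.node (nat_lit 25663) (.leaf (nat_lit 23)) (.leaf (nat_lit 53)))))) (.node (nat_lit 27718) (.node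 (nat_lit 26517) (.node (nat_lit 25755) (.leaf (nat_lit 23)) (.node (nat_lit 26180) (.leaf (nat_lit 50)) (.leaf (nat_lit 63)))) (.node (nat_lit 26793) (.node (nat_lit 26552) (.leaf (nat_lit 56)) (.leaf (nat_lit 60))) (.node (nat_lit 27117) (.leaf (nat_lit 33)) (.leaf (nat_lit 58))))) (.node (nat_lit 29210) (.node (nat_lit 28604) (.node (nat_lit 27873) (.leaf (nat_lit 11)) (.leaf (nat_lit 57))) (.node (nat_lit 29014) (.leaf (nat_lit 38)) (.leaf (nat_lit 12)))) (.node (nat_lit 29329) (.node (nat_lit 29245) (.leaf (nat_lit 31)) (.leaf (nat_lit 52))) (.node (nat_lit 29425) (.leaf (nat_lit 65)) (.leaf (nat_lit 80))))))) (.node (nat_lit 33298) (.node (nat_lit 30974) (.node (nat_lit 30108) (.node (nat_lit 29989) (.leaf (nat_lit 56)) (.node (nat_lit 29999) (.leaf (nat_lit 76)) (.leaf (nat_lit 52)))) (.node (nat_lit 30206) (.node (nat_lit 30114) (.leaf (nat_lit 82)) (.leaf (nat_lit 88)))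 (.node (nat_lit 30844) (.leaf (nat_lit 17)) (.leaf (nat_lit 61))))) (.node (nat_lit 32640) (.node (nat_lit 31736) (.node (nat_lit 31395) (.leaf (nat_lit 28)) (.leaf (nat_lit 15))) (.node (nat_lit 32583) (.leaf (nat_lit 62)) (.leaf (nat_lit 8)))) (.node (nat_lit 32980) (.node (nat_lit 32963) (.leaf (nat_lit 23)) (.leaf (nat_lit 29))) (.node (nat_lit 33197) (.leaf (nat_lit 68)) (.leaf (nat_lit 38)))))) (.node (nat_lit 34678) (.node (nat_lit 33645) (.node (nat_lit 33405) (.leaf (nat_lit 40)) (.node (nat_lit 33490) (.leaf (nat_lit 86)) (.leaf (nat_lit 17)))) (.node (nat_lit 33858) (.node (nat_lit 33699) (.leaf (nat_lit 44)) (.leaf (nat_lit 73))) (.node (nat_lit 34004) (.leaf (nat_lit 65)) (.leaf (nat_lit 24))))) (.node (nat_lit 35388) (.node (nat_lit 34830) (.node (nat_lit 34810) (.leaf (nat_lit 51)) (.leaf (nat_lit 45))) (.node (nat_lit 35039) (.leaf (nat_lit 10)) (.leaf (nat_lit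 6)))) (.node (nat_lit 36434) (.node (nat_lit 35504) (.leaf (nat_lit 1)) (.leaf (nat_lit 20))) (.node (nat_lit 36439) (.leaf (nat_lit 24)) (.leaf (nat_lit 72)))))))) (.node (nat_lit 43506) (.node (nat_lit 40570) (.node (nat_lit 38367) (.node (nat_lit 37143) (.node (nat_lit 36633) (.leaf (nat_lit 89)) (.node (nat_lit 36818) (.leaf (nat_lit 44)) (.leaf (nat_lit 55)))) (.node (nat_lit 37870) (.node (nat_lit 37719) (.leaf (nat_lit 70)) (.leaf (nat_lit 90))) (.node (nat_lit 37970) (.leaf (nat_lit 89)) (.leaf (nat_lit 3))))) (.node (nat_lit 39898) (.node (nat_lit 38944) (.node (nat_lit 38735) (.leaf (nat_lit 15)) (.leaf (nat_lit 70))) (.node (nat_lit 39672) (.leaf (nat_lit 50)) (.leaf (nat_lit 12)))) (.node (nat_lit 40385) (.node (nat_lit 40325) (.leaf (nat_lit 69)) (.leaf (nat_lit 61))) (.node (nat_lit 40489) (.leaf (nat_lit 6)) (.leaf (nat_lit 16)))))) (.node (nat_lit 42450) (.node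 (nat_lit 41160) (.node (nat_lit 40940) (.leaf (nat_lit 5)) (.node (nat_lit 41057) (.leaf (nat_lit 77)) (.leaf (nat_lit 49)))) (.node (nat_lit 41986) (.node (nat_lit 41529) (.leaf (nat_lit 85)) (.leaf (nat_lit 62))) (.node (nat_lit 42402) (.leaf (nat_lit 75)) (.leaf (nat_lit 36))))) (.node (nat_lit 42947) (.node (nat_lit 42760) (.node (nat_lit 42626) (.leaf (nat_lit 57)) (.leaf (nat_lit 9))) (.node (nat_lit 42918) (.leaf (nat_lit 92)) (.leaf (nat_lit 88)))) (.node (nat_lit 43085) (.node (nat_lit 42992) (.leaf (nat_lit 58)) (.leaf (nat_lit 48))) (.node (nat_lit 43220) (.leaf (nat_lit 88)) (.leaf (nat_lit 79))))))) (.node (nat_lit 46953) (.node (nat_lit 44980) (.node (nat_lit 43960) (.node (nat_lit 43569) (.leaf (nat_lit 30)) (.node (nat_lit 43880) (.leaf (nat_lit 13)) (.leaf (nat_lit 22)))) (.node (nat_lit 44520) (.node (nat_lit 44252) (.leaf (nat_lit 17)) (.leaf (nat_lit 36)))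 (.node (nat_lit 44594) (.leaf (nat_lit 93)) (.leaf (nat_lit 41))))) (.node (nat_lit 46279) (.node (nat_lit 45754) (.node (nat_lit 45684) (.leaf (nat_lit 57)) (.leaf (nat_lit 26))) (.node (nat_lit 45873) (.leaf (nat_lit 75)) (.leaf (nat_lit 89)))) (.node (nat_lit 46407) (.node (nat_lit 46284) (.leaf (nat_lit 80)) (.leaf (nat_lit 74))) (.node (nat_lit 46412) (.leaf (nat_lit 20)) (.leaf (nat_lit 76)))))) (.node (nat_lit 48352) (.node (nat_lit 47611) (.node (nat_lit 47486) (.leaf (nat_lit 0)) (.node (nat_lit 47526) (.leaf (nat_lit 28)) (.leaf (nat_lit 21)))) (.node (nat_lit 48244) (.node (nat_lit 48050) (.leaf (nat_lit 74)) (.leaf (nat_lit 91))) (.node (nat_lit 48257) (.leaf (nat_lit 80)) (.leaf (nat_lit 20))))) (.node (nat_lit 50151) (.node (nat_lit 49577) (.node (nat_lit 49383) (.leaf (nat_lit 7)) (.leaf (nat_lit 90))) (.node (nat_lit 50050) (.leaf (nat_lit 24)) (.leaf (nat_lit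 18)))) (.node (nat_lit 50906) (.node (nat_lit 50513) (.leaf (nat_lit 39)) (.leaf (nat_lit 93))) (.node (nat_lit 51010) (.leaf (nat_lit 78)) (.leaf (nat_lit 7)))))))))) (.node (nat_lit 75225) (.node (nat_lit 63877) (.node (nat_lit 57552) (.node (nat_lit 54482) (.node (nat_lit 52508) (.node (nat_lit 51798) (.node (nat_lit 51413) (.leaf (nat_lit 95)) (.node (nat_lit 51709) (.leaf (nat_lit 79)) (.leaf (nat_lit 9)))) (.node (nat_lit 52192) (.node (nat_lit 52109) (.leaf (nat_lit 94)) (.leaf (nat_lit 16))) (.node (nat_lit 52450) (.leaf (nat_lit 85)) (.leaf (nat_lit 86))))) (.node (nat_lit 52947) (.node (nat_lit 52681) (.leaf (nat_lit 19)) (.node (nat_lit 52708) (.leaf (nat_lit 20)) (.leaf (nat_lit 27)))) (.node (nat_lit 54398) (.node (nat_lit 53883) (.leaf (nat_lit 1)) (.leaf (nat_lit 64))) (.node (nat_lit 54422) (.leaf (nat_lit 56)) (.leaf (nat_lit 13)))))) (.node (nat_lit 56276) (.node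 (nat_lit 55179) (.node (nat_lit 55036) (.leaf (nat_lit 5)) (.node (nat_lit 55088) (.leaf (nat_lit 50)) (.leaf (nat_lit 55)))) (.node (nat_lit 56021) (.node (nat_lit 55267) (.leaf (nat_lit 16)) (.leaf (nat_lit 30))) (.node (nat_lit 56031) (.leaf (nat_lit 67)) (.leaf (nat_lit 60))))) (.node (nat_lit 57074) (.node (nat_lit 56843) (.node (nat_lit 56415) (.leaf (nat_lit 47)) (.leaf (nat_lit 14))) (.node (nat_lit 56894) (.leaf (nat_lit 83)) (.leaf (nat_lit 67)))) (.node (nat_lit 57260) (.node (nat_lit 57203) (.leaf (nat_lit 71)) (.leaf (nat_lit 44))) (.node (nat_lit 57407) (.leaf (nat_lit 51)) (.leaf (nat_lit 4))))))) (.node (nat_lit 60021) (.node (nat_lit 58602) (.node (nat_lit 57783) (.node (nat_lit 57734) (.leaf (nat_lit 85)) (.node (nat_lit 57743) (.leaf (nat_lit 60)) (.leaf (nat_lit 19)))) (.node (nat_lit 58385) (.node (nat_lit 58062) (.leaf (nat_lit 91)) (.leaf (nat_lit 49)))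 (.node (nat_lit 58551) (.leaf (nat_lit 52)) (.leaf (nat_lit 30))))) (.node (nat_lit 59439) (.node (nat_lit 58837) (.node (nat_lit 58821) (.leaf (nat_lit 84)) (.leaf (nat_lit 70))) (.node (nat_lit 59035) (.leaf (nat_lit 37)) (.leaf (nat_lit 69)))) (.node (nat_lit 59621) (.node (nat_lit 59513) (.leaf (nat_lit 74)) (.leaf (nat_lit 42))) (.node (nat_lit 59695) (.leaf (nat_lit 1)) (.leaf (nat_lit 59)))))) (.node (nat_lit 61577) (.node (nat_lit 61097) (.node (nat_lit 60463) (.leaf (nat_lit 55)) (.node (nat_lit 61058) (.leaf (nat_lit 51)) (.leaf (nat_lit 72)))) (.node (nat_lit 61494) (.node (nat_lit 61460) (.leaf (nat_lit 66)) (.leaf (nat_lit 71))) (.node (nat_lit 61518) (.leaf (nat_lit 26)) (.leaf (nat_lit 51))))) (.node (nat_lit 62701) (.node (nat_lit 61976) (.node (nat_lit 61887) (.leaf (nat_lit 81)) (.leaf (nat_lit 35))) (.node (nat_lit 62508) (.leaf (nat_lit 66)) (.leaf (nat_lit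 2)))) (.node (nat_lit 62826) (.node (nat_lit 62790) (.leaf (nat_lit 74)) (.leaf (nat_lit 2))) (.node (nat_lit 63008) (.leaf (nat_lit 32)) (.leaf (nat_lit 11)))))))) (.node (nat_lit 69282) (.node (nat_lit 65907) (.node (nat_lit 64946) (.node (nat_lit 64436) (.node (nat_lit 63887) (.leaf (nat_lit 62)) (.node (nat_lit 64023) (.leaf (nat_lit 18)) (.leaf (nat_lit 43)))) (.node (nat_lit 64682) (.node (nat_lit 64448) (.leaf (nat_lit 25)) (.leaf (nat_lit 23))) (.node (nat_lit 64871) (.leaf (nat_lit 1)) (.leaf (nat_lit 92))))) (.node (nat_lit 65447) (.node (nat_lit 65238) (.node (nat_lit 65054) (.leaf (nat_lit 26)) (.leaf (nat_lit 22))) (.node (nat_lit 65359) (.leaf (nat_lit 62)) (.leaf (nat_lit 53)))) (.node (nat_lit 65531) (.node (nat_lit 65526) (.leaf (nat_lit 19)) (.leaf (nat_lit 13))) (.node (nat_lit 65555) (.leaf (nat_lit 47)) (.leaf (nat_lit 61)))))) (.node (nat_lit 66981) (.node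 (nat_lit 66411) (.node (nat_lit 65909) (.leaf (nat_lit 33)) (.node (nat_lit 66178) (.leaf (nat_lit 49)) (.leaf (nat_lit 72)))) (.node (nat_lit 66669) (.node (nat_lit 66546) (.leaf (nat_lit 87)) (.leaf (nat_lit 17))) (.node (nat_lit 66884) (.leaf (nat_lit 63)) (.leaf (nat_lit 66))))) (.node (nat_lit 67781) (.node (nat_lit 67167) (.node (nat_lit 67005) (.leaf (nat_lit 45)) (.leaf (nat_lit 8))) (.node (nat_lit 67517) (.leaf (nat_lit 32)) (.leaf (nat_lit 39)))) (.node (nat_lit 68052) (.node (nat_lit 67953) (.leaf (nat_lit 18)) (.leaf (nat_lit 81))) (.node (nat_lit 68992) (.leaf (nat_lit 94)) (.leaf (nat_lit 66))))))) (.node (nat_lit 72591) (.node (nat_lit 70793) (.node (nat_lit 70089) (.node (nat_lit 69365) (.leaf (nat_lit 76)) (.node (nat_lit 69614) (.leaf (nat_lit 41)) (.leaf (nat_lit 63)))) (.node (nat_lit 70261) (.node (nat_lit 70128) (.leaf (nat_lit 34)) (.leaf (nat_lit 69)))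 (.node (nat_lit 70790) (.leaf (nat_lit 42)) (.leaf (nat_lit 79))))) (.node (nat_lit 72253) (.node (nat_lit 71856) (.node (nat_lit 71221) (.leaf (nat_lit 3)) (.leaf (nat_lit 72))) (.node (nat_lit 71950) (.leaf (nat_lit 49)) (.leaf (nat_lit 82)))) (.node (nat_lit 72435) (.node (nat_lit 72283) (.leaf (nat_lit 8)) (.leaf (nat_lit 73))) (.node (nat_lit 72568) (.leaf (nat_lit 58)) (.leaf (nat_lit 40)))))) (.node (nat_lit 74089) (.node (nat_lit 73007) (.node (nat_lit 72704) (.leaf (nat_lit 75)) (.node (nat_lit 72724) (.leaf (nat_lit 78)) (.leaf (nat_lit 90)))) (.node (nat_lit 73719) (.node (nat_lit 73441) (.leaf (nat_lit 84)) (.leaf (nat_lit 9))) (.node (nat_lit 73944) (.leaf (nat_lit 34)) (.leaf (nat_lit 88))))) (.node (nat_lit 75021) (.node (nat_lit 74633) (.node (nat_lit 74273) (.leaf (nat_lit 28)) (.leaf (nat_lit 27))) (.node (nat_lit 74798) (.leaf (nat_lit 52)) (.leaf (nat_lit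 64)))) (.node (nat_lit 75081) (.node (nat_lit 75053) (.leaf (nat_lit 72)) (.leaf (nat_lit 87))) (.node (nat_lit 75202) (.leaf (nat_lit 29)) (.leaf (nat_lit 48))))))))) (.node (nat_lit 86607) (.node (nat_lit 78989) (.node (nat_lit 77056) (.node (nat_lit 76632) (.node (nat_lit 75698) (.node (nat_lit 75230) (.leaf (nat_lit 30)) (.node (nat_lit 75656) (.leaf (nat_lit 45)) (.leaf (nat_lit 36)))) (.node (nat_lit 76240) (.node (nat_lit 75707) (.leaf (nat_lit 42)) (.leaf (nat_lit 31))) (.node (nat_lit 76616) (.leaf (nat_lit 42)) (.leaf (nat_lit 15))))) (.node (nat_lit 76696) (.node (nat_lit 76668) (.leaf (nat_lit 1)) (.node (nat_lit 76694) (.leaf (nat_lit 14)) (.leaf (nat_lit 10)))) (.node (nat_lit 76924) (.node (nat_lit 76908) (.leaf (nat_lit 46)) (.leaf (nat_lit 25))) (.node (nat_lit 76989) (.leaf (nat_lit 87)) (.leaf (nat_lit 33)))))) (.node (nat_lit 77789) (.node (nat_lit 77185)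 (.node (nat_lit 77095) (.leaf (nat_lit 85)) (.node (nat_lit 77177) (.leaf (nat_lit 91)) (.leaf (nat_lit 68)))) (.node (nat_lit 77465) (.node (nat_lit 77198) (.leaf (nat_lit 27)) (.leaf (nat_lit 38))) (.node (nat_lit 77508) (.leaf (nat_lit 76)) (.leaf (nat_lit 10))))) (.node (nat_lit 78372) (.node (nat_lit 78061) (.node (nat_lit 78007) (.leaf (nat_lit 46)) (.leaf (nat_lit 54))) (.node (nat_lit 78179) (.leaf (nat_lit 25)) (.leaf (nat_lit 86)))) (.node (nat_lit 78795) (.node (nat_lit 78642) (.leaf (nat_lit 46)) (.leaf (nat_lit 95))) (.node (nat_lit 78920) (.leaf (nat_lit 77)) (.leaf (nat_lit 95))))))) (.node (nat_lit 82530) (.node (nat_lit 80574) (.node (nat_lit 79584) (.node (nat_lit 79013) (.leaf (nat_lit 17)) (.node (nat_lit 79067) (.leaf (nat_lit 47)) (.leaf (nat_lit 38)))) (.node (nat_lit 79795) (.node (nat_lit 79791) (.leaf (nat_lit 41)) (.leaf (nat_lit 93))) (.node (nat_lit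 80047) (.leaf (nat_lit 65)) (.leaf (nat_lit 21))))) (.node (nat_lit 81243) (.node (nat_lit 80739) (.node (nat_lit 80674) (.leaf (nat_lit 78)) (.leaf (nat_lit 15))) (.node (nat_lit 81125) (.leaf (nat_lit 4)) (.leaf (nat_lit 53)))) (.node (nat_lit 81649) (.node (nat_lit 81620) (.leaf (nat_lit 67)) (.leaf (nat_lit 76))) (.node (nat_lit 82464) (.leaf (nat_lit 16)) (.leaf (nat_lit 45)))))) (.node (nat_lit 83932) (.node (nat_lit 82867) (.node (nat_lit 82587) (.leaf (nat_lit 95)) (.node (nat_lit 82807) (.leaf (nat_lit 59)) (.leaf (nat_lit 79)))) (.node (nat_lit 83739) (.node (nat_lit 83131) (.leaf (nat_lit 52)) (.leaf (nat_lit 20))) (.node (nat_lit 83855) (.leaf (nat_lit 51)) (.leaf (nat_lit 40))))) (.node (nat_lit 84930) (.node (nat_lit 84456) (.node (nat_lit 84124) (.leaf (nat_lit 28)) (.leaf (nat_lit 40))) (.node (nat_lit 84484) (.leaf (nat_lit 29)) (.leaf (nat_lit 64)))) (.node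 (nat_lit 85080) (.node (nat_lit 85073) (.leaf (nat_lit 54)) (.leaf (nat_lit 4))) (.node (nat_lit 86133) (.leaf (nat_lit 48)) (.leaf (nat_lit 69)))))))) (.node (nat_lit 93233) (.node (nat_lit 90539) (.node (nat_lit 88801) (.node (nat_lit 87818) (.node (nat_lit 87295) (.leaf (nat_lit 19)) (.node (nat_lit 87379) (.leaf (nat_lit 9)) (.leaf (nat_lit 34)))) (.node (nat_lit 88185) (.node (nat_lit 87850) (.leaf (nat_lit 16)) (.leaf (nat_lit 7))) (.node (nat_lit 88551) (.leaf (nat_lit 84)) (.leaf (nat_lit 29))))) (.node (nat_lit 89619) (.node (nat_lit 89184) (.node (nat_lit 89099) (.leaf (nat_lit 55)) (.leaf (nat_lit 47))) (.node (nat_lit 89475) (.leaf (nat_lit 50)) (.leaf (nat_lit 37)))) (.node (nat_lit 90117) (.node (nat_lit 89701) (.leaf (nat_lit 39)) (.leaf (nat_lit 11))) (.node (nat_lit 90137) (.leaf (nat_lit 53)) (.leaf (nat_lit 91)))))) (.node (nat_lit 91845) (.node (nat_lit 91131)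 (.node (nat_lit 90542) (.leaf (nat_lit 3)) (.node (nat_lit 90830) (.leaf (nat_lit 4)) (.leaf (nat_lit 89)))) (.node (nat_lit 91630) (.node (nat_lit 91523) (.leaf (nat_lit 82)) (.leaf (nat_lit 60))) (.node (nat_lit 91790) (.leaf (nat_lit 48)) (.leaf (nat_lit 32))))) (.node (nat_lit 92899) (.node (nat_lit 92365) (.node (nat_lit 91994) (.leaf (nat_lit 73)) (.leaf (nat_lit 43))) (.node (nat_lit 92698) (.leaf (nat_lit 27)) (.leaf (nat_lit 46)))) (.node (nat_lit 93147) (.node (nat_lit 92933) (.leaf (nat_lit 0)) (.leaf (nat_lit 78))) (.node (nat_lit 93214) (.leaf (nat_lit 89)) (.leaf (nat_lit 30))))))) (.node (nat_lit 95753) (.node (nat_lit 95002) (.node (nat_lit 93943) (.node (nat_lit 93355) (.leaf (nat_lit 93)) (.node (nat_lit 93364) (.leaf (nat_lit 35)) (.leaf (nat_lit 37)))) (.node (nat_lit 94621) (.node (nat_lit 94566) (.leaf (nat_lit 32)) (.leaf (nat_lit 77))) (.node (nat_lit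 94657) (.leaf (nat_lit 69)) (.leaf (nat_lit 23))))) (.node (nat_lit 95493) (.node (nat_lit 95366) (.node (nat_lit 95242) (.leaf (nat_lit 39)) (.leaf (nat_lit 27))) (.node (nat_lit 95413) (.leaf (nat_lit 70)) (.leaf (nat_lit 94)))) (.node (nat_lit 95545) (.node (nat_lit 95543) (.leaf (nat_lit 81)) (.leaf (nat_lit 15))) (.node (nat_lit 95677) (.leaf (nat_lit 33)) (.leaf (nat_lit 56)))))) (.node (nat_lit 97580) (.node (nat_lit 96978) (.node (nat_lit 96270) (.leaf (nat_lit 61)) (.node (nat_lit 96391) (.leaf (nat_lit 56)) (.leaf (nat_lit 46)))) (.node (nat_lit 97267) (.node (nat_lit 97064) (.leaf (nat_lit 12)) (.leaf (nat_lit 0))) (.node (nat_lit 97446) (.leaf (nat_lit 34)) (.leaf (nat_lit 24))))) (.node (nat_lit 98403) (.node (nat_lit 97914) (.node (nat_lit 97899) (.leaf (nat_lit 45)) (.leaf (nat_lit 81))) (.node (nat_lit 98275) (.leaf (nat_lit 25)) (.leaf (nat_lit 88)))) (.node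 (nat_lit 98558) (.node (nat_lit 98423) (.leaf (nat_lit 84)) (.leaf (nat_lit 64))) (.node (nat_lit 98688) (.leaf (nat_lit 31)) (.leaf (nat_lit 34)))))))))))
noncomputable def AP_Mj_F : Fm := (.allS AP_lK (.or (.qf (.mem (.v (nat_lit 0)) AP_lMj)) (.exG AP_lMj (fun cs => AP_Mj_t0.find (Nat.mod (nth (nat_lit 0) cs (nat_lit 0)) (nat_lit 98711))) (.qf (.or (.eq (.mul (.v (nat_lit 0)) (.v (nat_lit 1))) (.v (nat_lit 12))) (.or (.eq (.mul (.v (nat_lit 0)) (.v (nat_lit 1))) (.inv (.v (nat_lit 12)))) (.or (.eq (.mul (.v (nat_lit 0)) (.v (nat_lit 1))) (.v (nat_lit 14))) (.or (.eq (.mul (.v (nat_lit 0)) (.v (nat_lit 1))) (.mul (.v (nat_lit 14)) (.v (nat_lit 12)))) (.eq (.mul (.v (nat_lit 0)) (.v (nat_lit 1))) (.mul (.v (nat_lit 14)) (.inv (.v (nat_lit 12)))))))))))))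
theorem AP_Mj_chk : Fm.chk AP_o AP_Mj_F AP_cs = true := by decide +kernel
theorem AP_Mj {G : Type*} [Group G] {R : ℕ → G → Prop} {z u v a b i j k l x y r s t : G}
    (M : Md0 AP_o AP_cs R [z, u, v, a, b, i, j, k, l, x, y, r, s, t]) :
    ∀ g ∈ sp [i, x, y, r, s], g ∈ sp [i, j, k, l, x, r * s] ∨ (∃ c ∈ sp [i, j, k, l, x, r * s], c * g = y ∨ c * g = y⁻¹ ∨ c * g = s ∨ c * g = s * y ∨ c * g = s * y⁻¹) :=
  have h : ∀ g, InS R AP_lK g → InS R AP_lMj (g) ∨ (GoodS R AP_lMj → AP_lMj ≠ [] → ∃ c, InS R AP_lMj c ∧ (c * g = y ∨ c * g = y⁻¹ ∨ c * g = s ∨ c * g = s * y ∨ c * g = s * y⁻¹)) :=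
    Fm.sound M.μ AP_Mj_F AP_Mj_chk M.reps
  (fun g h0 => (Or.imp (fun h1 => ((AP_lMj_E M).iff.1 h1)) (fun h1 => (Exists.imp (fun c h2 => ⟨(AP_lMj_E M).iff.1 h2.1, h2.2⟩) (h1 (AP_lMj_E M).good (AP_lMj_E M).ne))) (h g ((AP_lK_E M).iff.2 h0))))
noncomputable def AP_Mc_t0 : ST := (.node (nat_lit 23652) (.node (nat_lit 13070) (.node (nat_lit 6321) (.node (nat_lit 2739) (.node (nat_lit 1489) (.node (nat_lit 966) (.node (nat_lit 434) (.node (nat_lit 97) (.leaf (nat_lit 5)) (.node (nat_lit 402) (.leaf (nat_lit 45)) (.leaf (nat_lit 24)))) (.node (nat_lit 611) (.node (nat_lit 559) (.leaf (nat_lit 81)) (.leaf (nat_lit 28))) (.node (nat_lit 901) (.leaf (nat_lit 86)) (.leaf (nat_lit 94))))) (.node (nat_lit 1247) (.node (nat_lit 1044) (.leaf (nat_lit 5)) (.node (nat_lit 1105) (.leaf (nat_lit 81)) (.leaf (nat_lit 5)))) (.node (nat_lit 1458) (.node (nat_lit 1383) (.leaf (nat_lit 74)) (.leaf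 (nat_lit 40))) (.node (nat_lit 1467) (.leaf (nat_lit 86)) (.leaf (nat_lit 4)))))) (.node (nat_lit 1987) (.node (nat_lit 1620) (.node (nat_lit 1528) (.leaf (nat_lit 17)) (.node (nat_lit 1593) (.leaf (nat_lit 86)) (.leaf (nat_lit 65)))) (.node (nat_lit 1906) (.node (nat_lit 1683) (.leaf (nat_lit 86)) (.leaf (nat_lit 82))) (.node (nat_lit 1918) (.leaf (nat_lit 41)) (.leaf (nat_lit 49))))) (.node (nat_lit 2578) (.node (nat_lit 2237) (.leaf (nat_lit 41)) (.node (nat_lit 2326) (.leaf (nat_lit 32)) (.leaf (nat_lit 6)))) (.node (nat_lit 2671) (.node (nat_lit 2645) (.leaf (nat_lit 39)) (.leaf (nat_lit 7))) (.node (nat_lit 2737) (.leaf (nat_lit 81)) (.leaf (nat_lit 43))))))) (.node (nat_lit 5036) (.node (nat_lit 4099) (.node (nat_lit 3187) (.node (nat_lit 2923) (.leaf (nat_lit 45)) (.node (nat_lit 2930) (.leaf (nat_lit 81)) (.leaf (nat_lit 82)))) (.node (nat_lit 3688) (.node (nat_lit 3494)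 (.leaf (nat_lit 26)) (.leaf (nat_lit 86))) (.node (nat_lit 3858) (.leaf (nat_lit 24)) (.leaf (nat_lit 10))))) (.node (nat_lit 4324) (.node (nat_lit 4236) (.leaf (nat_lit 5)) (.node (nat_lit 4274) (.leaf (nat_lit 31)) (.leaf (nat_lit 81)))) (.node (nat_lit 4720) (.node (nat_lit 4581) (.leaf (nat_lit 69)) (.leaf (nat_lit 45))) (.node (nat_lit 4844) (.leaf (nat_lit 5)) (.leaf (nat_lit 86)))))) (.node (nat_lit 5738) (.node (nat_lit 5344) (.node (nat_lit 5042) (.leaf (nat_lit 63)) (.node (nat_lit 5340) (.leaf (nat_lit 59)) (.leaf (nat_lit 86)))) (.node (nat_lit 5611) (.node (nat_lit 5364) (.leaf (nat_lit 65)) (.leaf (nat_lit 86))) (.node (nat_lit 5736) (.leaf (nat_lit 45)) (.leaf (nat_lit 81))))) (.node (nat_lit 5968) (.node (nat_lit 5924) (.node (nat_lit 5886) (.leaf (nat_lit 24)) (.leaf (nat_lit 82))) (.node (nat_lit 5931) (.leaf (nat_lit 9)) (.leaf (nat_lit 41)))) (.node (nat_lit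 6046) (.node (nat_lit 6034) (.leaf (nat_lit 54)) (.leaf (nat_lit 45))) (.node (nat_lit 6268) (.leaf (nat_lit 57)) (.leaf (nat_lit 86)))))))) (.node (nat_lit 10108) (.node (nat_lit 8343) (.node (nat_lit 7233) (.node (nat_lit 6556) (.node (nat_lit 6373) (.leaf (nat_lit 24)) (.node (nat_lit 6523) (.leaf (nat_lit 32)) (.leaf (nat_lit 16)))) (.node (nat_lit 6726) (.node (nat_lit 6711) (.leaf (nat_lit 81)) (.leaf (nat_lit 90))) (.node (nat_lit 7001) (.leaf (nat_lit 93)) (.leaf (nat_lit 41))))) (.node (nat_lit 7698) (.node (nat_lit 7400) (.leaf (nat_lit 45)) (.node (nat_lit 7509) (.leaf (nat_lit 35)) (.leaf (nat_lit 10)))) (.node (nat_lit 8072) (.node (nat_lit 7764) (.leaf (nat_lit 75)) (.leaf (nat_lit 24))) (.node (nat_lit 8099) (.leaf (nat_lit 81)) (.leaf (nat_lit 24)))))) (.node (nat_lit 9044) (.node (nat_lit 8585) (.node (nat_lit 8455) (.leaf (nat_lit 23)) (.node (nat_lit 8494)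 (.leaf (nat_lit 50)) (.leaf (nat_lit 13)))) (.node (nat_lit 8814) (.node (nat_lit 8779) (.leaf (nat_lit 82)) (.leaf (nat_lit 41))) (.node (nat_lit 8965) (.leaf (nat_lit 0)) (.leaf (nat_lit 87))))) (.node (nat_lit 9864) (.node (nat_lit 9537) (.node (nat_lit 9114) (.leaf (nat_lit 54)) (.leaf (nat_lit 40))) (.node (nat_lit 9745) (.leaf (nat_lit 86)) (.leaf (nat_lit 54)))) (.node (nat_lit 9990) (.node (nat_lit 9895) (.leaf (nat_lit 45)) (.leaf (nat_lit 82))) (.node (nat_lit 10044) (.leaf (nat_lit 54)) (.leaf (nat_lit 67))))))) (.node (nat_lit 11459) (.node (nat_lit 10481) (.node (nat_lit 10228) (.node (nat_lit 10147) (.leaf (nat_lit 82)) (.node (nat_lit 10220) (.leaf (nat_lit 86)) (.leaf (nat_lit 82)))) (.node (nat_lit 10349) (.node (nat_lit 10329) (.leaf (nat_lit 84)) (.leaf (nat_lit 24))) (.node (nat_lit 10408) (.leaf (nat_lit 41)) (.leaf (nat_lit 20))))) (.node (nat_lit 10629)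 (.node (nat_lit 10543) (.leaf (nat_lit 39)) (.node (nat_lit 10581) (.leaf (nat_lit 72)) (.leaf (nat_lit 56)))) (.node (nat_lit 11072) (.node (nat_lit 10758) (.leaf (nat_lit 34)) (.leaf (nat_lit 45))) (.node (nat_lit 11394) (.leaf (nat_lit 51)) (.leaf (nat_lit 82)))))) (.node (nat_lit 12255) (.node (nat_lit 11998) (.node (nat_lit 11490) (.leaf (nat_lit 45)) (.node (nat_lit 11713) (.leaf (nat_lit 92)) (.leaf (nat_lit 30)))) (.node (nat_lit 12118) (.node (nat_lit 12040) (.leaf (nat_lit 50)) (.leaf (nat_lit 86))) (.node (nat_lit 12169) (.leaf (nat_lit 84)) (.leaf (nat_lit 27))))) (.node (nat_lit 12442) (.node (nat_lit 12378) (.node (nat_lit 12323) (.leaf (nat_lit 54)) (.leaf (nat_lit 68))) (.node (nat_lit 12426) (.leaf (nat_lit 34)) (.leaf (nat_lit 24)))) (.node (nat_lit 12916) (.node (nat_lit 12618) (.leaf (nat_lit 86)) (.leaf (nat_lit 41))) (.node (nat_lit 13045) (.leaf (nat_lit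 82)) (.leaf (nat_lit 55))))))))) (.node (nat_lit 18627) (.node (nat_lit 15894) (.node (nat_lit 14939) (.node (nat_lit 14156) (.node (nat_lit 13668) (.node (nat_lit 13268) (.leaf (nat_lit 80)) (.node (nat_lit 13402) (.leaf (nat_lit 45)) (.leaf (nat_lit 60)))) (.node (nat_lit 13983) (.node (nat_lit 13747) (.leaf (nat_lit 73)) (.leaf (nat_lit 86))) (.node (nat_lit 14002) (.leaf (nat_lit 81)) (.leaf (nat_lit 41))))) (.node (nat_lit 14546) (.node (nat_lit 14219) (.leaf (nat_lit 45)) (.node (nat_lit 14490) (.leaf (nat_lit 12)) (.leaf (nat_lit 45)))) (.node (nat_lit 14694) (.node (nat_lit 14602) (.leaf (nat_lit 29)) (.leaf (nat_lit 41))) (.node (nat_lit 14938) (.leaf (nat_lit 77)) (.leaf (nat_lit 45)))))) (.node (nat_lit 15430) (.node (nat_lit 15144) (.node (nat_lit 15034) (.leaf (nat_lit 55)) (.node (nat_lit 15139) (.leaf (nat_lit 41)) (.leaf (nat_lit 54)))) (.node (nat_lit 15343)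 (.node (nat_lit 15239) (.leaf (nat_lit 45)) (.leaf (nat_lit 24))) (.node (nat_lit 15392) (.leaf (nat_lit 88)) (.leaf (nat_lit 82))))) (.node (nat_lit 15534) (.node (nat_lit 15507) (.leaf (nat_lit 22)) (.node (nat_lit 15516) (.leaf (nat_lit 24)) (.leaf (nat_lit 41)))) (.node (nat_lit 15575) (.node (nat_lit 15552) (.leaf (nat_lit 19)) (.leaf (nat_lit 86))) (.node (nat_lit 15871) (.leaf (nat_lit 81)) (.leaf (nat_lit 82))))))) (.node (nat_lit 17243) (.node (nat_lit 16291) (.node (nat_lit 15992) (.node (nat_lit 15905) (.leaf (nat_lit 86)) (.node (nat_lit 15942) (.leaf (nat_lit 82)) (.leaf (nat_lit 22)))) (.node (nat_lit 16174) (.node (nat_lit 16088) (.leaf (nat_lit 46)) (.leaf (nat_lit 81))) (.node (nat_lit 16230) (.leaf (nat_lit 75)) (.leaf (nat_lit 5))))) (.node (nat_lit 16747) (.node (nat_lit 16479) (.leaf (nat_lit 18)) (.node (nat_lit 16741) (.leaf (nat_lit 81)) (.leaf (nat_lit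 37)))) (.node (nat_lit 16793) (.node (nat_lit 16766) (.leaf (nat_lit 59)) (.leaf (nat_lit 41))) (.node (nat_lit 16926) (.leaf (nat_lit 61)) (.leaf (nat_lit 37)))))) (.node (nat_lit 17667) (.node (nat_lit 17397) (.node (nat_lit 17305) (.leaf (nat_lit 45)) (.node (nat_lit 17324) (.leaf (nat_lit 43)) (.leaf (nat_lit 68)))) (.node (nat_lit 17532) (.node (nat_lit 17437) (.leaf (nat_lit 86)) (.leaf (nat_lit 45))) (.node (nat_lit 17615) (.leaf (nat_lit 41)) (.leaf (nat_lit 82))))) (.node (nat_lit 17953) (.node (nat_lit 17800) (.node (nat_lit 17699) (.leaf (nat_lit 16)) (.leaf (nat_lit 45))) (.node (nat_lit 17941) (.leaf (nat_lit 1)) (.leaf (nat_lit 24)))) (.node (nat_lit 18229) (.node (nat_lit 18091) (.leaf (nat_lit 81)) (.leaf (nat_lit 21))) (.node (nat_lit 18506) (.leaf (nat_lit 41)) (.leaf (nat_lit 82)))))))) (.node (nat_lit 20825) (.node (nat_lit 19997) (.node (nat_lit 19395) (.node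 (nat_lit 18987) (.node (nat_lit 18630) (.leaf (nat_lit 54)) (.node (nat_lit 18900) (.leaf (nat_lit 45)) (.leaf (nat_lit 70)))) (.node (nat_lit 19333) (.node (nat_lit 19279) (.leaf (nat_lit 5)) (.leaf (nat_lit 54))) (.node (nat_lit 19389) (.leaf (nat_lit 52)) (.leaf (nat_lit 95))))) (.node (nat_lit 19805) (.node (nat_lit 19466) (.leaf (nat_lit 62)) (.node (nat_lit 19615) (.leaf (nat_lit 5)) (.leaf (nat_lit 86)))) (.node (nat_lit 19894) (.node (nat_lit 19825) (.leaf (nat_lit 54)) (.leaf (nat_lit 45))) (.node (nat_lit 19969) (.leaf (nat_lit 86)) (.leaf (nat_lit 82)))))) (.node (nat_lit 20317) (.node (nat_lit 20084) (.node (nat_lit 20007) (.leaf (nat_lit 54)) (.node (nat_lit 20074) (.leaf (nat_lit 24)) (.leaf (nat_lit 56)))) (.node (nat_lit 20138) (.node (nat_lit 20135) (.leaf (nat_lit 81)) (.leaf (nat_lit 29))) (.node (nat_lit 20239) (.leaf (nat_lit 47)) (.leaf (nat_lit 24)))))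 (.node (nat_lit 20604) (.node (nat_lit 20491) (.node (nat_lit 20460) (.leaf (nat_lit 86)) (.leaf (nat_lit 54))) (.node (nat_lit 20506) (.leaf (nat_lit 24)) (.leaf (nat_lit 54)))) (.node (nat_lit 20653) (.node (nat_lit 20628) (.leaf (nat_lit 24)) (.leaf (nat_lit 82))) (.node (nat_lit 20733) (.leaf (nat_lit 45)) (.leaf (nat_lit 38))))))) (.node (nat_lit 22133) (.node (nat_lit 21651) (.node (nat_lit 21019) (.node (nat_lit 20860) (.leaf (nat_lit 45)) (.node (nat_lit 20945) (.leaf (nat_lit 86)) (.leaf (nat_lit 5)))) (.node (nat_lit 21363) (.node (nat_lit 21132) (.leaf (nat_lit 86)) (.leaf (nat_lit 5))) (.node (nat_lit 21471) (.leaf (nat_lit 24)) (.leaf (nat_lit 8))))) (.node (nat_lit 21898) (.node (nat_lit 21654) (.leaf (nat_lit 5)) (.node (nat_lit 21894) (.leaf (nat_lit 57)) (.leaf (nat_lit 54)))) (.node (nat_lit 22047) (.node (nat_lit 21959) (.leaf (nat_lit 82)) (.leaf (nat_lit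 41))) (.node (nat_lit 22112) (.leaf (nat_lit 24)) (.leaf (nat_lit 79)))))) (.node (nat_lit 22805) (.node (nat_lit 22349) (.node (nat_lit 22151) (.leaf (nat_lit 2)) (.node (nat_lit 22212) (.leaf (nat_lit 64)) (.leaf (nat_lit 54)))) (.node (nat_lit 22627) (.node (nat_lit 22481) (.leaf (nat_lit 2)) (.leaf (nat_lit 24))) (.node (nat_lit 22641) (.leaf (nat_lit 54)) (.leaf (nat_lit 86))))) (.node (nat_lit 23467) (.node (nat_lit 23066) (.node (nat_lit 22923) (.leaf (nat_lit 48)) (.leaf (nat_lit 45))) (.node (nat_lit 23101) (.leaf (nat_lit 53)) (.leaf (nat_lit 86)))) (.node (nat_lit 23553) (.node (nat_lit 23527) (.leaf (nat_lit 81)) (.leaf (nat_lit 86))) (.node (nat_lit 23649) (.leaf (nat_lit 58)) (.leaf (nat_lit 0)))))))))) (.node (nat_lit 35205) (.node (nat_lit 29303) (.node (nat_lit 27108) (.node (nat_lit 25225) (.node (nat_lit 24658) (.node (nat_lit 23976) (.node (nat_lit 23653)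 (.leaf (nat_lit 5)) (.node (nat_lit 23954) (.leaf (nat_lit 45)) (.leaf (nat_lit 54)))) (.node (nat_lit 24139) (.node (nat_lit 24053) (.leaf (nat_lit 86)) (.leaf (nat_lit 33))) (.node (nat_lit 24343) (.leaf (nat_lit 49)) (.leaf (nat_lit 82))))) (.node (nat_lit 24947) (.node (nat_lit 24771) (.leaf (nat_lit 12)) (.node (nat_lit 24817) (.leaf (nat_lit 54)) (.leaf (nat_lit 41)))) (.node (nat_lit 24989) (.node (nat_lit 24985) (.leaf (nat_lit 18)) (.leaf (nat_lit 87))) (.node (nat_lit 25042) (.leaf (nat_lit 45)) (.leaf (nat_lit 81)))))) (.node (nat_lit 26039) (.node (nat_lit 25505) (.node (nat_lit 25235) (.leaf (nat_lit 25)) (.node (nat_lit 25342) (.leaf (nat_lit 86)) (.leaf (nat_lit 45)))) (.node (nat_lit 25972) (.node (nat_lit 25688) (.leaf (nat_lit 66)) (.leaf (nat_lit 71))) (.node (nat_lit 25981) (.leaf (nat_lit 24)) (.leaf (nat_lit 17))))) (.node (nat_lit 26406) (.node (nat_lit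 26044) (.leaf (nat_lit 79)) (.node (nat_lit 26240) (.leaf (nat_lit 5)) (.leaf (nat_lit 24)))) (.node (nat_lit 26691) (.node (nat_lit 26421) (.leaf (nat_lit 81)) (.leaf (nat_lit 28))) (.node (nat_lit 26934) (.leaf (nat_lit 5)) (.leaf (nat_lit 24))))))) (.node (nat_lit 27912) (.node (nat_lit 27438) (.node (nat_lit 27237) (.node (nat_lit 27145) (.leaf (nat_lit 58)) (.node (nat_lit 27199) (.leaf (nat_lit 82)) (.leaf (nat_lit 5)))) (.node (nat_lit 27385) (.node (nat_lit 27283) (.leaf (nat_lit 45)) (.leaf (nat_lit 24))) (.node (nat_lit 27405) (.leaf (nat_lit 85)) (.leaf (nat_lit 90))))) (.node (nat_lit 27632) (.node (nat_lit 27490) (.leaf (nat_lit 4)) (.node (nat_lit 27502) (.leaf (nat_lit 54)) (.leaf (nat_lit 66)))) (.node (nat_lit 27874) (.node (nat_lit 27744) (.leaf (nat_lit 86)) (.leaf (nat_lit 5))) (.node (nat_lit 27904) (.leaf (nat_lit 86)) (.leaf (nat_lit 7)))))) (.node (nat_lit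 28339) (.node (nat_lit 28226) (.node (nat_lit 28021) (.leaf (nat_lit 54)) (.node (nat_lit 28045) (.leaf (nat_lit 82)) (.leaf (nat_lit 41)))) (.node (nat_lit 28319) (.node (nat_lit 28304) (.leaf (nat_lit 82)) (.leaf (nat_lit 45))) (.node (nat_lit 28329) (.leaf (nat_lit 86)) (.leaf (nat_lit 5))))) (.node (nat_lit 28771) (.node (nat_lit 28663) (.node (nat_lit 28541) (.leaf (nat_lit 23)) (.leaf (nat_lit 38))) (.node (nat_lit 28770) (.leaf (nat_lit 5)) (.leaf (nat_lit 44)))) (.node (nat_lit 28871) (.node (nat_lit 28814) (.leaf (nat_lit 82)) (.leaf (nat_lit 95))) (.node (nat_lit 28979) (.leaf (nat_lit 81)) (.leaf (nat_lit 41)))))))) (.node (nat_lit 32863) (.node (nat_lit 31152) (.node (nat_lit 30033) (.node (nat_lit 29469) (.node (nat_lit 29310) (.leaf (nat_lit 24)) (.node (nat_lit 29371) (.leaf (nat_lit 85)) (.leaf (nat_lit 24)))) (.node (nat_lit 29878) (.node (nat_lit 29876) (.leaf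 (nat_lit 47)) (.leaf (nat_lit 82))) (.node (nat_lit 29882) (.leaf (nat_lit 41)) (.leaf (nat_lit 5))))) (.node (nat_lit 30691) (.node (nat_lit 30253) (.leaf (nat_lit 81)) (.node (nat_lit 30468) (.leaf (nat_lit 8)) (.leaf (nat_lit 86)))) (.node (nat_lit 30770) (.node (nat_lit 30742) (.leaf (nat_lit 81)) (.leaf (nat_lit 92))) (.node (nat_lit 30976) (.leaf (nat_lit 62)) (.leaf (nat_lit 82)))))) (.node (nat_lit 32094) (.node (nat_lit 31421) (.node (nat_lit 31206) (.leaf (nat_lit 86)) (.node (nat_lit 31390) (.leaf (nat_lit 41)) (.leaf (nat_lit 73)))) (.node (nat_lit 31662) (.node (nat_lit 31650) (.leaf (nat_lit 54)) (.leaf (nat_lit 19))) (.node (nat_lit 31780) (.leaf (nat_lit 45)) (.leaf (nat_lit 54))))) (.node (nat_lit 32561) (.node (nat_lit 32178) (.node (nat_lit 32169) (.leaf (nat_lit 45)) (.leaf (nat_lit 88))) (.node (nat_lit 32432) (.leaf (nat_lit 82)) (.leaf (nat_lit 41)))) (.node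 (nat_lit 32708) (.node (nat_lit 32647) (.leaf (nat_lit 54)) (.leaf (nat_lit 86))) (.node (nat_lit 32709) (.leaf (nat_lit 41)) (.leaf (nat_lit 54))))))) (.node (nat_lit 34111) (.node (nat_lit 33681) (.node (nat_lit 33157) (.node (nat_lit 32876) (.leaf (nat_lit 81)) (.node (nat_lit 32890) (.leaf (nat_lit 24)) (.leaf (nat_lit 82)))) (.node (nat_lit 33526) (.node (nat_lit 33160) (.leaf (nat_lit 81)) (.leaf (nat_lit 5))) (.node (nat_lit 33549) (.leaf (nat_lit 45)) (.leaf (nat_lit 78))))) (.node (nat_lit 33774) (.node (nat_lit 33692) (.leaf (nat_lit 81)) (.node (nat_lit 33725) (.leaf (nat_lit 41)) (.leaf (nat_lit 24)))) (.node (nat_lit 33893) (.node (nat_lit 33835) (.leaf (nat_lit 36)) (.leaf (nat_lit 5))) (.node (nat_lit 33932) (.leaf (nat_lit 54)) (.leaf (nat_lit 82)))))) (.node (nat_lit 34745) (.node (nat_lit 34459) (.node (nat_lit 34302) (.leaf (nat_lit 24)) (.node (nat_lit 34453)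 (.leaf (nat_lit 21)) (.leaf (nat_lit 41)))) (.node (nat_lit 34613) (.node (nat_lit 34612) (.leaf (nat_lit 86)) (.leaf (nat_lit 69))) (.node (nat_lit 34675) (.leaf (nat_lit 24)) (.leaf (nat_lit 14))))) (.node (nat_lit 35062) (.node (nat_lit 34862) (.node (nat_lit 34746) (.leaf (nat_lit 41)) (.leaf (nat_lit 67))) (.node (nat_lit 34915) (.leaf (nat_lit 41)) (.leaf (nat_lit 5)))) (.node (nat_lit 35123) (.node (nat_lit 35079) (.leaf (nat_lit 42)) (.leaf (nat_lit 11))) (.node (nat_lit 35201) (.leaf (nat_lit 81)) (.leaf (nat_lit 41))))))))) (.node (nat_lit 40687) (.node (nat_lit 37931) (.node (nat_lit 36571) (.node (nat_lit 35800) (.node (nat_lit 35362) (.node (nat_lit 35224) (.leaf (nat_lit 25)) (.node (nat_lit 35302) (.leaf (nat_lit 82)) (.leaf (nat_lit 41)))) (.node (nat_lit 35452) (.node (nat_lit 35368) (.leaf (nat_lit 45)) (.leaf (nat_lit 83))) (.node (nat_lit 35467) (.leaf (nat_lit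 81)) (.leaf (nat_lit 41))))) (.node (nat_lit 36083) (.node (nat_lit 35939) (.leaf (nat_lit 82)) (.node (nat_lit 35955) (.leaf (nat_lit 45)) (.leaf (nat_lit 89)))) (.node (nat_lit 36374) (.node (nat_lit 36321) (.leaf (nat_lit 45)) (.leaf (nat_lit 76))) (.node (nat_lit 36401) (.leaf (nat_lit 83)) (.leaf (nat_lit 70)))))) (.node (nat_lit 36911) (.node (nat_lit 36718) (.node (nat_lit 36648) (.leaf (nat_lit 24)) (.node (nat_lit 36693) (.leaf (nat_lit 5)) (.leaf (nat_lit 52)))) (.node (nat_lit 36866) (.node (nat_lit 36725) (.leaf (nat_lit 82)) (.leaf (nat_lit 3))) (.node (nat_lit 36908) (.leaf (nat_lit 5)) (.leaf (nat_lit 51))))) (.node (nat_lit 37517) (.node (nat_lit 37424) (.node (nat_lit 36913) (.leaf (nat_lit 48)) (.leaf (nat_lit 24))) (.node (nat_lit 37464) (.leaf (nat_lit 46)) (.leaf (nat_lit 35)))) (.node (nat_lit 37806) (.node (nat_lit 37756) (.leaf (nat_lit 45)) (.leaf (nat_lit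 41))) (.node (nat_lit 37888) (.leaf (nat_lit 86)) (.leaf (nat_lit 82))))))) (.node (nat_lit 39039) (.node (nat_lit 38177) (.node (nat_lit 38062) (.node (nat_lit 37965) (.leaf (nat_lit 61)) (.node (nat_lit 38002) (.leaf (nat_lit 45)) (.leaf (nat_lit 5)))) (.node (nat_lit 38137) (.node (nat_lit 38134) (.leaf (nat_lit 27)) (.leaf (nat_lit 45))) (.node (nat_lit 38168) (.leaf (nat_lit 5)) (.leaf (nat_lit 80))))) (.node (nat_lit 38971) (.node (nat_lit 38622) (.leaf (nat_lit 81)) (.node (nat_lit 38662) (.leaf (nat_lit 74)) (.leaf (nat_lit 15)))) (.node (nat_lit 39020) (.node (nat_lit 38991) (.leaf (nat_lit 42)) (.leaf (nat_lit 5))) (.node (nat_lit 39037) (.leaf (nat_lit 82)) (.leaf (nat_lit 91)))))) (.node (nat_lit 39494) (.node (nat_lit 39288) (.node (nat_lit 39217) (.leaf (nat_lit 71)) (.node (nat_lit 39247) (.leaf (nat_lit 78)) (.leaf (nat_lit 5)))) (.node (nat_lit 39394) (.node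 (nat_lit 39315) (.leaf (nat_lit 3)) (.leaf (nat_lit 24))) (.node (nat_lit 39444) (.leaf (nat_lit 86)) (.leaf (nat_lit 91))))) (.node (nat_lit 40123) (.node (nat_lit 39815) (.node (nat_lit 39546) (.leaf (nat_lit 60)) (.leaf (nat_lit 86))) (.node (nat_lit 39851) (.leaf (nat_lit 24)) (.leaf (nat_lit 54)))) (.node (nat_lit 40354) (.node (nat_lit 40331) (.leaf (nat_lit 45)) (.leaf (nat_lit 54))) (.node (nat_lit 40406) (.leaf (nat_lit 26)) (.leaf (nat_lit 54)))))))) (.node (nat_lit 44077) (.node (nat_lit 42465) (.node (nat_lit 41400) (.node (nat_lit 40959) (.node (nat_lit 40854) (.leaf (nat_lit 14)) (.node (nat_lit 40877) (.leaf (nat_lit 41)) (.leaf (nat_lit 64)))) (.node (nat_lit 41243) (.node (nat_lit 41001) (.leaf (nat_lit 81)) (.leaf (nat_lit 9))) (.node (nat_lit 41244) (.leaf (nat_lit 5)) (.leaf (nat_lit 13))))) (.node (nat_lit 42311) (.node (nat_lit 41792) (.leaf (nat_lit 5))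 (.node (nat_lit 41952) (.leaf (nat_lit 82)) (.leaf (nat_lit 24)))) (.node (nat_lit 42419) (.node (nat_lit 42384) (.leaf (nat_lit 54)) (.leaf (nat_lit 1))) (.node (nat_lit 42451) (.leaf (nat_lit 24)) (.leaf (nat_lit 54)))))) (.node (nat_lit 42994) (.node (nat_lit 42662) (.node (nat_lit 42525) (.leaf (nat_lit 44)) (.node (nat_lit 42643) (.leaf (nat_lit 31)) (.leaf (nat_lit 81)))) (.node (nat_lit 42862) (.node (nat_lit 42844) (.leaf (nat_lit 54)) (.leaf (nat_lit 5))) (.node (nat_lit 42910) (.leaf (nat_lit 63)) (.leaf (nat_lit 72))))) (.node (nat_lit 43674) (.node (nat_lit 43169) (.node (nat_lit 43163) (.leaf (nat_lit 53)) (.leaf (nat_lit 24))) (.node (nat_lit 43371) (.leaf (nat_lit 93)) (.leaf (nat_lit 81)))) (.node (nat_lit 43844) (.node (nat_lit 43720) (.leaf (nat_lit 5)) (.leaf (nat_lit 81))) (.node (nat_lit 44024) (.leaf (nat_lit 15)) (.leaf (nat_lit 54))))))) (.node (nat_lit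 45704) (.node (nat_lit 44977) (.node (nat_lit 44788) (.node (nat_lit 44214) (.leaf (nat_lit 5)) (.node (nat_lit 44273) (.leaf (nat_lit 41)) (.leaf (nat_lit 81)))) (.node (nat_lit 44911) (.node (nat_lit 44799) (.leaf (nat_lit 76)) (.leaf (nat_lit 82))) (.node (nat_lit 44957) (.leaf (nat_lit 81)) (.leaf (nat_lit 5))))) (.node (nat_lit 45259) (.node (nat_lit 45146) (.leaf (nat_lit 82)) (.node (nat_lit 45148) (.leaf (nat_lit 41)) (.leaf (nat_lit 45)))) (.node (nat_lit 45447) (.node (nat_lit 45341) (.leaf (nat_lit 33)) (.leaf (nat_lit 82))) (.node (nat_lit 45573) (.leaf (nat_lit 89)) (.leaf (nat_lit 36)))))) (.node (nat_lit 46766) (.node (nat_lit 46278) (.node (nat_lit 45973) (.leaf (nat_lit 41)) (.node (nat_lit 46157) (.leaf (nat_lit 11)) (.leaf (nat_lit 5)))) (.node (nat_lit 46679) (.node (nat_lit 46454) (.leaf (nat_lit 24)) (.leaf (nat_lit 54))) (.node (nat_lit 46729) (.leaf (nat_lit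 82)) (.leaf (nat_lit 81))))) (.node (nat_lit 47021) (.node (nat_lit 46813) (.node (nat_lit 46771) (.leaf (nat_lit 6)) (.leaf (nat_lit 54))) (.node (nat_lit 46896) (.leaf (nat_lit 30)) (.leaf (nat_lit 5)))) (.node (nat_lit 47096) (.node (nat_lit 47044) (.leaf (nat_lit 81)) (.leaf (nat_lit 54))) (.node (nat_lit 47733) (.leaf (nat_lit 20)) (.leaf (nat_lit 94)))))))))))
noncomputable def AP_Mc_F : Fm := (.allS AP_lK (.or (.qf (.mem (.v (nat_lit 0)) AP_lMc)) (.exG AP_lMc (fun cs => AP_Mc_t0.find (Nat.mod (nth (nat_lit 0) cs (nat_lit 0)) (nat_lit 47783))) (.qf (.or (.eq (.mul (.v (nat_lit 0)) (.v (nat_lit 1))) (.v (nat_lit 11))) (.or (.eq (.mul (.v (nat_lit 0)) (.v (nat_lit 1))) (.inv (.v (nat_lit 11)))) (.or (.eq (.mul (.v (nat_lit 0)) (.mul (.mul (.v (nat_lit 1)) (.mul (.v (nat_lit 11)) (.v (nat_lit 12)))) (.inv (.v (nat_lit 1))))) (.v (nat_lit 11))) (.eq (.mul (.v (nat_lit 0)) (.mul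 (.mul (.v (nat_lit 1)) (.mul (.v (nat_lit 11)) (.v (nat_lit 12)))) (.inv (.v (nat_lit 1))))) (.inv (.v (nat_lit 11)))))))))))
theorem AP_Mc_chk : Fm.chk AP_o AP_Mc_F AP_cs = true := by decide +kernel
theorem AP_Mc {G : Type*} [Group G] {R : ℕ → G → Prop} {z u v a b i j k l x y r s t : G}
    (M : Md0 AP_o AP_cs R [z, u, v, a, b, i, j, k, l, x, y, r, s, t]) :
    ∀ g ∈ sp [i, x, y, r, s], g ∈ sp [i, j, k, l, x * y, r * s] ∨ (∃ c ∈ sp [i, j, k, l, x * y, r * s], c * g = x ∨ c * g = x⁻¹ ∨ c * (g * (x * y) * g⁻¹) = x ∨ c * (g * (x * y) * g⁻¹) = x⁻¹) :=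
  have h : ∀ g, InS R AP_lK g → InS R AP_lMc (g) ∨ (GoodS R AP_lMc → AP_lMc ≠ [] → ∃ c, InS R AP_lMc c ∧ (c * g = x ∨ c * g = x⁻¹ ∨ c * (g * (x * y) * g⁻¹) = x ∨ c * (g * (x * y) * g⁻¹) = x⁻¹)) :=
    Fm.sound M.μ AP_Mc_F AP_Mc_chk M.reps
  (fun g h0 => (Or.imp (fun h1 => ((AP_lMc_E M).iff.1 h1)) (fun h1 => (Exists.imp (fun c h2 => ⟨(AP_lMc_E M).iff.1 h2.1, h2.2⟩) (h1 (AP_lMc_E M).good (AP_lMc_E M).ne))) (h g ((AP_lK_E M).iff.2 h0))))
noncomputable def AP_K2_F : Fm := (.allS AP_lMc (.qf (.or (.mem (.v (nat_lit 0)) AP_lK2) (.mem (.mul (.v (nat_lit 7)) (.v (nat_lit 0))) AP_lK2))))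
theorem AP_K2_chk : Fm.chk AP_o AP_K2_F AP_cs = true := by decide +kernel
theorem AP_K2 {G : Type*} [Group G] {R : ℕ → G → Prop} {z u v a b i j k l x y r s t : G}
    (M : Md0 AP_o AP_cs R [z, u, v, a, b, i, j, k, l, x, y, r, s, t]) :
    ∀ g ∈ sp [i, j, k, l, x * y, r * s], g ∈ sp [i, l, j * k, x * y, r * s] ∨ j * g ∈ sp [i, l, j * k, x * y, r * s] :=
  have h : ∀ g, InS R AP_lMc g → InS R AP_lK2 (g) ∨ InS R AP_lK2 (j * g) :=
    Fm.sound M.μ AP_K2_F AP_K2_chk M.reps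
  (fun g h0 => ((or_congr (AP_lK2_E M).iff (AP_lK2_E M).iff).1 (h g ((AP_lMc_E M).iff.2 h0))))
noncomputable def AP_KL_F : Fm := (.allS AP_lK (.qf (.or (.mem (.v (nat_lit 0)) AP_lKL) (.mem (.mul (.v (nat_lit 13)) (.v (nat_lit 0))) AP_lKL))))
theorem AP_KL_chk : Fm.chk AP_o AP_KL_F AP_cs = true := by decide +kernel
theorem AP_KL {G : Type*} [Group G] {R : ℕ → G → Prop} {z u v a b i j k l x y r s t : G}
    (M : Md0 AP_o AP_cs R [z, u, v, a, b, i, j, k, l, x, y, r, s, t]) :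
    ∀ g ∈ sp [i, x, y, r, s], g ∈ sp [i, x, y, r] ∨ s * g ∈ sp [i, x, y, r] :=
  have h : ∀ g, InS R AP_lK g → InS R AP_lKL (g) ∨ InS R AP_lKL (s * g) :=
    Fm.sound M.μ AP_KL_F AP_KL_chk M.reps
  (fun g h0 => ((or_congr (AP_lKL_E M).iff (AP_lKL_E M).iff).1 (h g ((AP_lK_E M).iff.2 h0))))
noncomputable def AP_KR_F : Fm := (.allS AP_lK (.qf (.or (.mem (.v (nat_lit 0)) AP_lKR) (.mem (.mul (.v (nat_lit 12)) (.v (nat_lit 0))) AP_lKR))))
theorem AP_KR_chk : Fm.chk AP_o AP_KR_F AP_cs = true := by decide +kernel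
theorem AP_KR {G : Type*} [Group G] {R : ℕ → G → Prop} {z u v a b i j k l x y r s t : G}
    (M : Md0 AP_o AP_cs R [z, u, v, a, b, i, j, k, l, x, y, r, s, t]) :
    ∀ g ∈ sp [i, x, y, r, s], g ∈ sp [i, x, y, s] ∨ r * g ∈ sp [i, x, y, s] :=
  have h : ∀ g, InS R AP_lK g → InS R AP_lKR (g) ∨ InS R AP_lKR (r * g) :=
    Fm.sound M.μ AP_KR_F AP_KR_chk M.reps
  (fun g h0 => ((or_congr (AP_lKR_E M).iff (AP_lKR_E M).iff).1 (h g ((AP_lK_E M).iff.2 h0))))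
noncomputable def AP_KJ_F : Fm := (.allS AP_lK (.qf (.or (.mem (.v (nat_lit 0)) AP_lKJ) (.mem (.mul (.v (nat_lit 12)) (.v (nat_lit 0))) AP_lKJ))))
theorem AP_KJ_chk : Fm.chk AP_o AP_KJ_F AP_cs = true := by decide +kernel
theorem AP_KJ {G : Type*} [Group G] {R : ℕ → G → Prop} {z u v a b i j k l x y r s t : G}
    (M : Md0 AP_o AP_cs R [z, u, v, a, b, i, j, k, l, x, y, r, s, t]) :
    ∀ g ∈ sp [i, x, y, r, s], g ∈ sp [i, x, y, r * s] ∨ r * g ∈ sp [i, x, y, r * s] :=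
  have h : ∀ g, InS R AP_lK g → InS R AP_lKJ (g) ∨ InS R AP_lKJ (r * g) :=
    Fm.sound M.μ AP_KJ_F AP_KJ_chk M.reps
  (fun g h0 => ((or_congr (AP_lKJ_E M).iff (AP_lKJ_E M).iff).1 (h g ((AP_lK_E M).iff.2 h0))))
noncomputable def AP_K3_F : Fm := (.allS AP_lK (.qf (.or (.mem (.v (nat_lit 0)) AP_lKL) (.or (.mem (.v (nat_lit 0)) AP_lKR) (.mem (.v (nat_lit 0)) AP_lKJ)))))
theorem AP_K3_chk : Fm.chk AP_o AP_K3_F AP_cs = true := by decide +kernel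
theorem AP_K3 {G : Type*} [Group G] {R : ℕ → G → Prop} {z u v a b i j k l x y r s t : G}
    (M : Md0 AP_o AP_cs R [z, u, v, a, b, i, j, k, l, x, y, r, s, t]) :
    ∀ g ∈ sp [i, x, y, r, s], g ∈ sp [i, x, y, r] ∨ g ∈ sp [i, x, y, s] ∨ g ∈ sp [i, x, y, r * s] :=
  have h : ∀ g, InS R AP_lK g → InS R AP_lKL (g) ∨ InS R AP_lKR (g) ∨ InS R AP_lKJ (g) :=
    Fm.sound M.μ AP_K3_F AP_K3_chk M.reps
  (fun g h0 => ((or_congr (AP_lKL_E M).iff (or_congr (AP_lKR_E M).iff (AP_lKJ_E M).iff)).1 (h g ((AP_lK_E M).iff.2 h0))))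
noncomputable def AP_Jn_F : Fm := (.allS AP_lKJ (.and (.imp (.eq (.mul (.mul (.v (nat_lit 0)) (.v (nat_lit 10))) (.inv (.v (nat_lit 0)))) (.v (nat_lit 10))) (.qf (.not (.eq (.mul (.mul (.v (nat_lit 0)) (.v (nat_lit 11))) (.inv (.v (nat_lit 0)))) (.inv (.v (nat_lit 11))))))) (.imp (.eq (.mul (.mul (.v (nat_lit 0)) (.v (nat_lit 11))) (.inv (.v (nat_lit 0)))) (.v (nat_lit 11))) (.qf (.not (.eq (.mul (.mul (.v (nat_lit 0)) (.v (nat_lit 10))) (.inv (.v (nat_lit 0)))) (.inv (.v (nat_lit 10)))))))))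
theorem AP_Jn_chk : Fm.chk AP_o AP_Jn_F AP_cs = true := by decide +kernel
theorem AP_Jn {G : Type*} [Group G] {R : ℕ → G → Prop} {z u v a b i j k l x y r s t : G}
    (M : Md0 AP_o AP_cs R [z, u, v, a, b, i, j, k, l, x, y, r, s, t]) :
    ∀ g ∈ sp [i, x, y, r * s], (g * x * g⁻¹ = x → g * y * g⁻¹ ≠ y⁻¹) ∧ (g * y * g⁻¹ = y → g * x * g⁻¹ ≠ x⁻¹) :=
  have h : ∀ g, InS R AP_lKJ g → (g * x * g⁻¹ = x → g * y * g⁻¹ ≠ y⁻¹) ∧ (g * y * g⁻¹ = y → g * x * g⁻¹ ≠ x⁻¹) :=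
    Fm.sound M.μ AP_Jn_F AP_Jn_chk M.reps
  (fun g h0 => (h g ((AP_lKJ_E M).iff.2 h0)))
noncomputable def AP_tr_t0 : ST := (.node (nat_lit 11) (.node (nat_lit 6) (.node (nat_lit 4) (.node (nat_lit 3) (.leaf (nat_lit 128)) (.leaf (nat_lit 80))) (.node (nat_lit 5) (.leaf (nat_lit 89)) (.leaf (nat_lit 25)))) (.node (nat_lit 8) (.node (nat_lit 7) (.leaf (nat_lit 130)) (.leaf (nat_lit 84))) (.node (nat_lit 9) (.leaf (nat_lit 88)) (.node (nat_lit 10) (.leaf (nat_lit 24)) (.leaf (nat_lit 72)))))) (.node (nat_lit 19) (.node (nat_lit 16) (.node (nat_lit 14) (.leaf (nat_lit 65)) (.leaf (nat_lit 9))) (.node (nat_lit 18) (.leaf (nat_lit 16)) (.leaf (nat_lit 74)))) (.node (nat_lit 21) (.node (nat_lit 20) (.leaf (nat_lit 64)) (.leaf (nat_lit 8))) (.node (nat_lit 30) (.leaf (nat_lit 18)) (.node (nat_lit 31) (.leaf (nat_lit 32)) (.leaf (nat_lit 0)))))))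
noncomputable def AP_tr_F : Fm := (.allS AP_lQ (.imp (.eq (.mul (.v (nat_lit 0)) (.v (nat_lit 0))) .one) (.or (.qf (.eq (.v (nat_lit 0)) .one)) (.or (.qf (.eq (.v (nat_lit 0)) (.v (nat_lit 1)))) (.exG AP_lT (fun cs => AP_tr_t0.find (Nat.mod (nth (nat_lit 0) cs (nat_lit 0)) (nat_lit 32))) (.qf (.eq (.mul (.mul (.v (nat_lit 0)) (.v (nat_lit 1))) (.inv (.v (nat_lit 0)))) (.v (nat_lit 3)))))))))
theorem AP_tr_chk : Fm.chk AP_o AP_tr_F AP_cs = true := by decide +kernel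
theorem AP_tr {G : Type*} [Group G] {R : ℕ → G → Prop} {z u v a b i j k l x y r s t : G}
    (M : Md0 AP_o AP_cs R [z, u, v, a, b, i, j, k, l, x, y, r, s, t]) :
    ∀ e ∈ sp [z, u, v, a, b], e * e = 1 → e = 1 ∨ e = z ∨ (∃ h ∈ sp [i, x, y], h * e * h⁻¹ = u) :=
  have h : ∀ e, InS R AP_lQ e → e * e = 1 → e = 1 ∨ e = z ∨ (GoodS R AP_lT → AP_lT ≠ [] → ∃ h, InS R AP_lT h ∧ h * e * h⁻¹ = u) :=
    Fm.sound M.μ AP_tr_F AP_tr_chk M.reps
  (fun e h0 => (fun h1 => (Or.imp (fun h2 => h2) (fun h2 => (Or.imp (fun h3 => h3) (fun h3 => (Exists.imp (fun h h4 => ⟨(AP_lT_E M).iff.1 h4.1, h4.2⟩) (h3 (AP_lT_E M).good (AP_lT_E M).ne))) h2)) ((h e ((AP_lQ_E M).iff.2 h0)) h1))))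
noncomputable def AP_C2_t0 : ST := (.node (nat_lit 12) (.node (nat_lit 4) (.node (nat_lit 2) (.leaf (nat_lit 14)) (.leaf (nat_lit 5))) (.node (nat_lit 5) (.leaf (nat_lit 26)) (.leaf (nat_lit 13)))) (.node (nat_lit 18) (.node (nat_lit 14) (.leaf (nat_lit 0)) (.leaf (nat_lit 4))) (.node (nat_lit 19) (.leaf (nat_lit 3)) (.leaf (nat_lit 16)))))
noncomputable def AP_C2_F : Fm := (.allS AP_lQ (.imp (.eq (.mul (.mul (.mul (.mul (.v (nat_lit 12)) (.v (nat_lit 13))) (.v (nat_lit 0))) (.inv (.mul (.v (nat_lit 12)) (.v (nat_lit 13))))) (.v (nat_lit 0))) .one) (.exG AP_lQ (fun cs => AP_C2_t0.find (Nat.mod (nth (nat_lit 0) cs (nat_lit 0)) (nat_lit 20))) (.qf (.eq (.v (nat_lit 1)) (.mul (.mul (.mul (.mul (.v (nat_lit 13)) (.v (nat_lit 14))) (.v (nat_lit 0))) (.inv (.mul (.v (nat_lit 13)) (.v (nat_lit 14))))) (.inv (.v (nat_lit 0)))))))))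
theorem AP_C2_chk : Fm.chk AP_o AP_C2_F AP_cs = true := by decide +kernel
theorem AP_C2 {G : Type*} [Group G] {R : ℕ → G → Prop} {z u v a b i j k l x y r s t : G}
    (M : Md0 AP_o AP_cs R [z, u, v, a, b, i, j, k, l, x, y, r, s, t]) :
    ∀ q ∈ sp [z, u, v, a, b], r * s * q * (r * s)⁻¹ * q = 1 → (∃ e ∈ sp [z, u, v, a, b], q = r * s * e * (r * s)⁻¹ * e⁻¹) :=
  have h : ∀ q, InS R AP_lQ q → r * s * q * (r * s)⁻¹ * q = 1 → (GoodS R AP_lQ → AP_lQ ≠ [] → ∃ e, InS R AP_lQ e ∧ q = r * s * e * (r * s)⁻¹ * e⁻¹) :=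
    Fm.sound M.μ AP_C2_F AP_C2_chk M.reps
  (fun q h0 => (fun h1 => (Exists.imp (fun e h2 => ⟨(AP_lQ_E M).iff.1 h2.1, h2.2⟩) (((h q ((AP_lQ_E M).iff.2 h0)) h1) (AP_lQ_E M).good (AP_lQ_E M).ne))))
noncomputable def AP_c4_F : Fm := (.allS AP_lQ (.imp (.eq (.mul (.mul (.v (nat_lit 12)) (.v (nat_lit 13))) (.v (nat_lit 0))) (.mul (.v (nat_lit 0)) (.mul (.v (nat_lit 12)) (.v (nat_lit 13))))) (.qf (.or (.eq (.v (nat_lit 0)) .one) (.or (.eq (.v (nat_lit 0)) (.v (nat_lit 1))) (.or (.eq (.v (nat_lit 0)) (.v (nat_lit 2))) (.eq (.v (nat_lit 0)) (.mul (.v (nat_lit 1)) (.v (nat_lit 2))))))))))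
theorem AP_c4_chk : Fm.chk AP_o AP_c4_F AP_cs = true := by decide +kernel
theorem AP_c4 {G : Type*} [Group G] {R : ℕ → G → Prop} {z u v a b i j k l x y r s t : G}
    (M : Md0 AP_o AP_cs R [z, u, v, a, b, i, j, k, l, x, y, r, s, t]) :
    ∀ e ∈ sp [z, u, v, a, b], r * s * e = e * (r * s) → e = 1 ∨ e = z ∨ e = u ∨ e = z * u :=
  have h : ∀ e, InS R AP_lQ e → r * s * e = e * (r * s) → e = 1 ∨ e = z ∨ e = u ∨ e = z * u :=
    Fm.sound M.μ AP_c4_F AP_c4_chk M.reps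
  (fun e h0 => (h e ((AP_lQ_E M).iff.2 h0)))
noncomputable def AP_c3_F : Fm := (.allS AP_lS (.imp (.eq (.mul (.v (nat_lit 0)) (.mul (.v (nat_lit 12)) (.v (nat_lit 13)))) (.mul (.mul (.v (nat_lit 12)) (.v (nat_lit 13))) (.v (nat_lit 0)))) (.imp (.eq (.pw (.v (nat_lit 0)) (nat_lit 3)) .one) (.qf (.eq (.v (nat_lit 0)) .one)))))
theorem AP_c3_chk : Fm.chk AP_o AP_c3_F AP_cs = true := by decide +kernel
theorem AP_c3 {G : Type*} [Group G] {R : ℕ → G → Prop} {z u v a b i j k l x y r s t : G}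
    (M : Md0 AP_o AP_cs R [z, u, v, a, b, i, j, k, l, x, y, r, s, t]) :
    ∀ g ∈ sp [i, x, r, t], g * (r * s) = r * s * g → g ^ 3 = 1 → g = 1 :=
  have h : ∀ g, InS R AP_lS g → g * (r * s) = r * s * g → g ^ 3 = 1 → g = 1 :=
    Fm.sound M.μ AP_c3_F AP_c3_chk M.reps
  (fun g h0 => (h g ((AP_lS_E M).iff.2 h0)))
noncomputable def AP_ru_F : Fm := (.allS AP_lMr (.imp (.eq (.mul (.v (nat_lit 0)) (.v (nat_lit 12))) (.mul (.v (nat_lit 12)) (.v (nat_lit 0)))) (.qf (.not (.eq (.mul (.mul (.v (nat_lit 0)) (.v (nat_lit 2))) (.inv (.v (nat_lit 0)))) (.v (nat_lit 3)))))))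
theorem AP_ru_chk : Fm.chk AP_o AP_ru_F AP_cs = true := by decide +kernel
theorem AP_ru {G : Type*} [Group G] {R : ℕ → G → Prop} {z u v a b i j k l x y r s t : G}
    (M : Md0 AP_o AP_cs R [z, u, v, a, b, i, j, k, l, x, y, r, s, t]) :
    ∀ g ∈ sp [i, j, k, l, x, r], g * r = r * g → g * u * g⁻¹ ≠ v :=
  have h : ∀ g, InS R AP_lMr g → g * r = r * g → g * u * g⁻¹ ≠ v :=
    Fm.sound M.μ AP_ru_F AP_ru_chk M.reps
  (fun g h0 => (h g ((AP_lMr_E M).iff.2 h0)))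
noncomputable def AP_w_t0 : ST := (.node (nat_lit 17) (.node (nat_lit 9) (.node (nat_lit 5) (.node (nat_lit 3) (.leaf (nat_lit 216)) (.node (nat_lit 4) (.leaf (nat_lit 192)) (.leaf (nat_lit 209)))) (.node (nat_lit 7) (.node (nat_lit 6) (.leaf (nat_lit 220)) (.leaf (nat_lit 218))) (.node (nat_lit 8) (.leaf (nat_lit 200)) (.leaf (nat_lit 208))))) (.node (nat_lit 13) (.node (nat_lit 11) (.node (nat_lit 10) (.leaf (nat_lit 221)) (.leaf (nat_lit 64))) (.node (nat_lit 12) (.leaf (nat_lit 97)) (.leaf (nat_lit 0)))) (.node (nat_lit 15) (.node (nat_lit 14) (.leaf (nat_lit 17)) (.leaf (nat_lit 69))) (.node (nat_lit 16) (.leaf (nat_lit 16)) (.leaf (nat_lit 102)))))) (.node (nat_lit 24) (.node (nat_lit 20) (.node (nat_lit 18) (.leaf (nat_lit 1)) (.node (nat_lit 19) (.leaf (nat_lit 66)) (.leaf (nat_lit 96)))) (.node (nat_lit 22) (.node (nat_lit 21) (.leaf (nat_lit 68)) (.leaf (nat_lit 100)))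 (.node (nat_lit 23) (.leaf (nat_lit 85)) (.leaf (nat_lit 97))))) (.node (nat_lit 28) (.node (nat_lit 26) (.node (nat_lit 25) (.leaf (nat_lit 84)) (.leaf (nat_lit 72))) (.node (nat_lit 27) (.leaf (nat_lit 82)) (.leaf (nat_lit 96)))) (.node (nat_lit 30) (.node (nat_lit 29) (.leaf (nat_lit 80)) (.leaf (nat_lit 64))) (.node (nat_lit 31) (.leaf (nat_lit 256)) (.leaf (nat_lit 0)))))))
noncomputable def AP_w_F : Fm := (.allS AP_lQ (.or (.qf (.eq (.v (nat_lit 0)) .one)) (.or (.qf (.eq (.v (nat_lit 0)) (.v (nat_lit 1)))) (.exG AP_lS (fun cs => AP_w_t0.find (Nat.mod (nth (nat_lit 0) cs (nat_lit 0)) (nat_lit 32))) (.qf (.or (.eq (.mul (.mul (.v (nat_lit 0)) (.v (nat_lit 1))) (.inv (.v (nat_lit 0)))) (.v (nat_lit 3))) (.eq (.mul (.mul (.v (nat_lit 0)) (.v (nat_lit 1))) (.inv (.v (nat_lit 0)))) (.mul (.v (nat_lit 4)) (.v (nat_lit 5))))))))))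
theorem AP_w_chk : Fm.chk AP_o AP_w_F AP_cs = true := by decide +kernel
theorem AP_w {G : Type*} [Group G] {R : ℕ → G → Prop} {z u v a b i j k l x y r s t : G}
    (M : Md0 AP_o AP_cs R [z, u, v, a, b, i, j, k, l, x, y, r, s, t]) :
    ∀ e ∈ sp [z, u, v, a, b], e = 1 ∨ e = z ∨ (∃ h ∈ sp [i, x, r, t], h * e * h⁻¹ = u ∨ h * e * h⁻¹ = v * a) :=
  have h : ∀ e, InS R AP_lQ e → e = 1 ∨ e = z ∨ (GoodS R AP_lS → AP_lS ≠ [] → ∃ h, InS R AP_lS h ∧ (h * e * h⁻¹ = u ∨ h * e * h⁻¹ = v * a)) :=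
    Fm.sound M.μ AP_w_F AP_w_chk M.reps
  (fun e h0 => (Or.imp (fun h1 => h1) (fun h1 => (Or.imp (fun h2 => h2) (fun h2 => (Exists.imp (fun h h3 => ⟨(AP_lS_E M).iff.1 h3.1, h3.2⟩) (h2 (AP_lS_E M).good (AP_lS_E M).ne))) h1)) (h e ((AP_lQ_E M).iff.2 h0))))
noncomputable def AP_w1_F : Fm := (.allS AP_lS (.lt (.mul (.mul (.v (nat_lit 0)) (.v (nat_lit 2))) (.inv (.v (nat_lit 0)))) (.imp (.or (.eq (.v (nat_lit 0)) (.v (nat_lit 3))) (.eq (.v (nat_lit 0)) (.mul (.v (nat_lit 3)) (.v (nat_lit 2))))) (.qf (.eq (.pw (.v (nat_lit 1)) (nat_lit 8)) .one)))))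
theorem AP_w1_chk : Fm.chk AP_o AP_w1_F AP_cs = true := by decide +kernel
theorem AP_w1 {G : Type*} [Group G] {R : ℕ → G → Prop} {z u v a b i j k l x y r s t : G}
    (M : Md0 AP_o AP_cs R [z, u, v, a, b, i, j, k, l, x, y, r, s, t]) :
    ∀ g ∈ sp [i, x, r, t], g * u * g⁻¹ = u ∨ g * u * g⁻¹ = u * z → g ^ 8 = 1 :=
  have h : ∀ g, InS R AP_lS g → g * u * g⁻¹ = u ∨ g * u * g⁻¹ = u * z → g ^ 8 = 1 :=
    Fm.sound M.μ AP_w1_F AP_w1_chk M.reps
  (fun g h0 => (h g ((AP_lS_E M).iff.2 h0)))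
noncomputable def AP_w2_F : Fm := (.lt (.mul (.v (nat_lit 2)) (.v (nat_lit 3))) (.lt (.mul (.mul (.v (nat_lit 3)) (.v (nat_lit 4))) (.v (nat_lit 1))) (.allS AP_lS (.lt (.mul (.mul (.v (nat_lit 0)) (.v (nat_lit 2))) (.inv (.v (nat_lit 0)))) (.imp (.or (.eq (.v (nat_lit 0)) (.v (nat_lit 3))) (.eq (.v (nat_lit 0)) (.v (nat_lit 2)))) (.qf (.mem (.v (nat_lit 1)) AP_lSt)))))))
theorem AP_w2_chk : Fm.chk AP_o AP_w2_F AP_cs = true := by decide +kernel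
theorem AP_w2 {G : Type*} [Group G] {R : ℕ → G → Prop} {z u v a b i j k l x y r s t : G}
    (M : Md0 AP_o AP_cs R [z, u, v, a, b, i, j, k, l, x, y, r, s, t]) :
    ∀ g ∈ sp [i, x, r, t], g * (v * a) * g⁻¹ = v * a ∨ g * (v * a) * g⁻¹ = v * a * z → g ∈ sp [i, j, k, l, x * y, r * s, t] :=
  have h : ∀ g, InS R AP_lS g → g * (v * a) * g⁻¹ = v * a ∨ g * (v * a) * g⁻¹ = v * a * z → InS R AP_lSt (g) :=
    Fm.sound M.μ AP_w2_F AP_w2_chk M.reps
  (fun g h0 => (fun h1 => ((AP_lSt_E M).iff.1 ((h g ((AP_lS_E M).iff.2 h0)) h1))))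
noncomputable def AP_s1_t0 : ST := (.node (nat_lit 20) (.node (nat_lit 16) (.node (nat_lit 1) (.leaf (nat_lit 32)) (.node (nat_lit 8) (.leaf (nat_lit 39)) (.leaf (nat_lit 37)))) (.node (nat_lit 17) (.leaf (nat_lit 0)) (.node (nat_lit 18) (.leaf (nat_lit 33)) (.leaf (nat_lit 34))))) (.node (nat_lit 37) (.node (nat_lit 21) (.leaf (nat_lit 5)) (.node (nat_lit 34) (.leaf (nat_lit 4)) (.leaf (nat_lit 1)))) (.node (nat_lit 46) (.leaf (nat_lit 36)) (.node (nat_lit 47) (.leaf (nat_lit 35)) (.leaf (nat_lit 38))))))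
noncomputable def AP_s1_F : Fm := (.allS AP_lSt (.imp (.eq (.mul (.v (nat_lit 0)) (.v (nat_lit 0))) .one) (.imp (.mem (.v (nat_lit 0)) AP_lK) (.or (.qf (.mem (.v (nat_lit 0)) AP_lI)) (.exG AP_lSt (fun cs => AP_s1_t0.find (Nat.mod (nth (nat_lit 0) cs (nat_lit 0)) (nat_lit 49))) (.qf (.eq (.mul (.mul (.v (nat_lit 0)) (.v (nat_lit 1))) (.inv (.v (nat_lit 0)))) (.mul (.v (nat_lit 13)) (.v (nat_lit 14))))))))))
theorem AP_s1_chk : Fm.chk AP_o AP_s1_F AP_cs = true := by decide +kernel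
theorem AP_s1 {G : Type*} [Group G] {R : ℕ → G → Prop} {z u v a b i j k l x y r s t : G}
    (M : Md0 AP_o AP_cs R [z, u, v, a, b, i, j, k, l, x, y, r, s, t]) :
    ∀ g ∈ sp [i, j, k, l, x * y, r * s, t], g * g = 1 → g ∈ sp [i, x, y, r, s] → g ∈ sp [i, j, k, l] ∨ (∃ h ∈ sp [i, j, k, l, x * y, r * s, t], h * g * h⁻¹ = r * s) :=
  have h : ∀ g, InS R AP_lSt g → g * g = 1 → InS R AP_lK (g) → InS R AP_lI (g) ∨ (GoodS R AP_lSt → AP_lSt ≠ [] → ∃ h, InS R AP_lSt h ∧ h * g * h⁻¹ = r * s) :=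
    Fm.sound M.μ AP_s1_F AP_s1_chk M.reps
  (fun g h0 => (fun h1 => (fun h2 => (Or.imp (fun h3 => ((AP_lI_E M).iff.1 h3)) (fun h3 => (Exists.imp (fun h h4 => ⟨(AP_lSt_E M).iff.1 h4.1, h4.2⟩) (h3 (AP_lSt_E M).good (AP_lSt_E M).ne))) (((h g ((AP_lSt_E M).iff.2 h0)) h1) ((AP_lK_E M).iff.2 h2))))))
noncomputable def AP_s2_t0 : ST := (.node (nat_lit 1211) (.node (nat_lit 642) (.node (nat_lit 377) (.node (nat_lit 172) (.node (nat_lit 79) (.node (nat_lit 32) (.leaf (nat_lit 26)) (.node (nat_lit 70) (.leaf (nat_lit 28)) (.leaf (nat_lit 71)))) (.node (nat_lit 88) (.leaf (nat_lit 21)) (.node (nat_lit 148) (.leaf (nat_lit 75)) (.leaf (nat_lit 83))))) (.node (nat_lit 270) (.node (nat_lit 225) (.leaf (nat_lit 19)) (.node (nat_lit 261) (.leaf (nat_lit 11)) (.leaf (nat_lit 24)))) (.node (nat_lit 313) (.leaf (nat_lit 81)) (.node (nat_lit 328) (.leaf (nat_lit 85)) (.leaf (nat_lit 7)))))) (.node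 (nat_lit 570) (.node (nat_lit 470) (.node (nat_lit 419) (.leaf (nat_lit 82)) (.node (nat_lit 460) (.leaf (nat_lit 92)) (.leaf (nat_lit 87)))) (.node (nat_lit 510) (.leaf (nat_lit 57)) (.node (nat_lit 525) (.leaf (nat_lit 12)) (.leaf (nat_lit 54))))) (.node (nat_lit 590) (.node (nat_lit 573) (.leaf (nat_lit 33)) (.node (nat_lit 582) (.leaf (nat_lit 64)) (.leaf (nat_lit 56)))) (.node (nat_lit 598) (.leaf (nat_lit 1)) (.node (nat_lit 632) (.leaf (nat_lit 16)) (.leaf (nat_lit 36))))))) (.node (nat_lit 852) (.node (nat_lit 724) (.node (nat_lit 655) (.node (nat_lit 644) (.leaf (nat_lit 45)) (.node (nat_lit 654) (.leaf (nat_lit 94)) (.leaf (nat_lit 10)))) (.node (nat_lit 665) (.leaf (nat_lit 29)) (.node (nat_lit 692) (.leaf (nat_lit 37)) (.leaf (nat_lit 70))))) (.node (nat_lit 784) (.node (nat_lit 741) (.leaf (nat_lit 76)) (.node (nat_lit 754) (.leaf (nat_lit 0)) (.leaf (nat_lit 80))))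 (.node (nat_lit 786) (.leaf (nat_lit 2)) (.node (nat_lit 791) (.leaf (nat_lit 84)) (.leaf (nat_lit 4)))))) (.node (nat_lit 1079) (.node (nat_lit 908) (.node (nat_lit 856) (.leaf (nat_lit 53)) (.node (nat_lit 895) (.leaf (nat_lit 42)) (.leaf (nat_lit 60)))) (.node (nat_lit 919) (.leaf (nat_lit 20)) (.node (nat_lit 993) (.leaf (nat_lit 78)) (.leaf (nat_lit 59))))) (.node (nat_lit 1178) (.node (nat_lit 1102) (.leaf (nat_lit 72)) (.node (nat_lit 1137) (.leaf (nat_lit 32)) (.leaf (nat_lit 14)))) (.node (nat_lit 1180) (.leaf (nat_lit 65)) (.node (nat_lit 1192) (.leaf (nat_lit 67)) (.leaf (nat_lit 27)))))))) (.node (nat_lit 1870) (.node (nat_lit 1419) (.node (nat_lit 1291) (.node (nat_lit 1268) (.node (nat_lit 1214) (.leaf (nat_lit 18)) (.node (nat_lit 1218) (.leaf (nat_lit 13)) (.leaf (nat_lit 50)))) (.node (nat_lit 1270) (.leaf (nat_lit 39)) (.node (nat_lit 1289) (.leaf (nat_lit 86))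 (.leaf (nat_lit 61))))) (.node (nat_lit 1387) (.node (nat_lit 1363) (.leaf (nat_lit 23)) (.node (nat_lit 1386) (.leaf (nat_lit 69)) (.leaf (nat_lit 90)))) (.node (nat_lit 1399) (.leaf (nat_lit 51)) (.node (nat_lit 1413) (.leaf (nat_lit 8)) (.leaf (nat_lit 63)))))) (.node (nat_lit 1682) (.node (nat_lit 1516) (.node (nat_lit 1479) (.leaf (nat_lit 93)) (.node (nat_lit 1503) (.leaf (nat_lit 48)) (.leaf (nat_lit 49)))) (.node (nat_lit 1554) (.leaf (nat_lit 73)) (.node (nat_lit 1644) (.leaf (nat_lit 15)) (.leaf (nat_lit 17))))) (.node (nat_lit 1818) (.node (nat_lit 1731) (.leaf (nat_lit 9)) (.node (nat_lit 1776) (.leaf (nat_lit 66)) (.leaf (nat_lit 35)))) (.node (nat_lit 1824) (.leaf (nat_lit 74)) (.node (nat_lit 1843) (.leaf (nat_lit 34)) (.leaf (nat_lit 22))))))) (.node (nat_lit 2250) (.node (nat_lit 1995) (.node (nat_lit 1901) (.node (nat_lit 1895) (.leaf (nat_lit 40)) (.node (nat_lit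 1896) (.leaf (nat_lit 41)) (.leaf (nat_lit 25)))) (.node (nat_lit 1934) (.leaf (nat_lit 89)) (.node (nat_lit 1984) (.leaf (nat_lit 77)) (.leaf (nat_lit 79))))) (.node (nat_lit 2049) (.node (nat_lit 1996) (.leaf (nat_lit 44)) (.node (nat_lit 2021) (.leaf (nat_lit 31)) (.leaf (nat_lit 30)))) (.node (nat_lit 2093) (.leaf (nat_lit 58)) (.node (nat_lit 2116) (.leaf (nat_lit 52)) (.leaf (nat_lit 68)))))) (.node (nat_lit 2386) (.node (nat_lit 2329) (.node (nat_lit 2266) (.leaf (nat_lit 38)) (.node (nat_lit 2303) (.leaf (nat_lit 88)) (.leaf (nat_lit 46)))) (.node (nat_lit 2335) (.leaf (nat_lit 91)) (.node (nat_lit 2357) (.leaf (nat_lit 62)) (.leaf (nat_lit 47))))) (.node (nat_lit 2498) (.node (nat_lit 2424) (.leaf (nat_lit 43)) (.node (nat_lit 2486) (.leaf (nat_lit 55)) (.leaf (nat_lit 5)))) (.node (nat_lit 2529) (.leaf (nat_lit 3)) (.node (nat_lit 2536) (.leaf (nat_lit 6)) (.leaf (nat_lit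 95)))))))))
noncomputable def AP_s2_t1 : ST := (.node (nat_lit 1914) (.node (nat_lit 922) (.node (nat_lit 542) (.node (nat_lit 316) (.node (nat_lit 212) (.node (nat_lit 134) (.leaf (nat_lit 0)) (.node (nat_lit 204) (.leaf (nat_lit 15)) (.leaf (nat_lit 0)))) (.node (nat_lit 278) (.leaf (nat_lit 8)) (.node (nat_lit 310) (.leaf (nat_lit 15)) (.leaf (nat_lit 0))))) (.node (nat_lit 368) (.node (nat_lit 346) (.leaf (nat_lit 8)) (.node (nat_lit 362) (.leaf (nat_lit 7)) (.leaf (nat_lit 0)))) (.node (nat_lit 438) (.leaf (nat_lit 7)) (.node (nat_lit 508) (.leaf (nat_lit 8)) (.leaf (nat_lit 15)))))) (.node (nat_lit 744) (.node (nat_lit 638) (.node (nat_lit 564) (.leaf (nat_lit 0)) (.node (nat_lit 616) (.leaf (nat_lit 4)) (.leaf (nat_lit 7)))) (.node (nat_lit 688) (.leaf (nat_lit 0)) (.node (nat_lit 732) (.leaf (nat_lit 15)) (.leaf (nat_lit 14))))) (.node (nat_lit 866) (.node (nat_lit 754)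 (.leaf (nat_lit 0)) (.node (nat_lit 860) (.leaf (nat_lit 7)) (.leaf (nat_lit 8)))) (.node (nat_lit 870) (.leaf (nat_lit 14)) (.node (nat_lit 880) (.leaf (nat_lit 4)) (.leaf (nat_lit 14))))))) (.node (nat_lit 1554) (.node (nat_lit 1234) (.node (nat_lit 1096) (.node (nat_lit 1004) (.leaf (nat_lit 0)) (.node (nat_lit 1090) (.leaf (nat_lit 7)) (.leaf (nat_lit 4)))) (.node (nat_lit 1174) (.leaf (nat_lit 0)) (.node (nat_lit 1228) (.leaf (nat_lit 8)) (.leaf (nat_lit 0))))) (.node (nat_lit 1312) (.node (nat_lit 1248) (.leaf (nat_lit 14)) (.node (nat_lit 1302) (.leaf (nat_lit 0)) (.leaf (nat_lit 7)))) (.node (nat_lit 1342) (.leaf (nat_lit 0)) (.node (nat_lit 1548) (.leaf (nat_lit 7)) (.leaf (nat_lit 14)))))) (.node (nat_lit 1774) (.node (nat_lit 1588) (.node (nat_lit 1564) (.leaf (nat_lit 8)) (.node (nat_lit 1576) (.leaf (nat_lit 15)) (.leaf (nat_lit 4)))) (.node (nat_lit 1612) (.leaf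 (nat_lit 14)) (.node (nat_lit 1740) (.leaf (nat_lit 8)) (.leaf (nat_lit 14))))) (.node (nat_lit 1824) (.node (nat_lit 1806) (.leaf (nat_lit 8)) (.node (nat_lit 1810) (.leaf (nat_lit 4)) (.leaf (nat_lit 15)))) (.node (nat_lit 1836) (.leaf (nat_lit 8)) (.node (nat_lit 1872) (.leaf (nat_lit 15)) (.leaf (nat_lit 14)))))))) (.node (nat_lit 2638) (.node (nat_lit 2316) (.node (nat_lit 2090) (.node (nat_lit 2060) (.node (nat_lit 1918) (.leaf (nat_lit 0)) (.node (nat_lit 1940) (.leaf (nat_lit 8)) (.leaf (nat_lit 7)))) (.node (nat_lit 2070) (.leaf (nat_lit 4)) (.node (nat_lit 2074) (.leaf (nat_lit 15)) (.leaf (nat_lit 8))))) (.node (nat_lit 2164) (.node (nat_lit 2118) (.leaf (nat_lit 15)) (.node (nat_lit 2130) (.leaf (nat_lit 14)) (.leaf (nat_lit 4)))) (.node (nat_lit 2274) (.leaf (nat_lit 0)) (.node (nat_lit 2276) (.leaf (nat_lit 15)) (.leaf (nat_lit 8)))))) (.node (nat_lit 2472) (.node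 (nat_lit 2356) (.node (nat_lit 2318) (.leaf (nat_lit 7)) (.node (nat_lit 2328) (.leaf (nat_lit 0)) (.leaf (nat_lit 4)))) (.node (nat_lit 2366) (.leaf (nat_lit 15)) (.node (nat_lit 2384) (.leaf (nat_lit 0)) (.leaf (nat_lit 8))))) (.node (nat_lit 2608) (.node (nat_lit 2474) (.leaf (nat_lit 7)) (.node (nat_lit 2602) (.leaf (nat_lit 15)) (.leaf (nat_lit 4)))) (.node (nat_lit 2616) (.leaf (nat_lit 0)) (.node (nat_lit 2632) (.leaf (nat_lit 8)) (.leaf (nat_lit 0))))))) (.node (nat_lit 2992) (.node (nat_lit 2846) (.node (nat_lit 2730) (.node (nat_lit 2646) (.leaf (nat_lit 15)) (.node (nat_lit 2654) (.leaf (nat_lit 8)) (.leaf (nat_lit 0)))) (.node (nat_lit 2752) (.leaf (nat_lit 15)) (.node (nat_lit 2826) (.leaf (nat_lit 0)) (.leaf (nat_lit 8))))) (.node (nat_lit 2942) (.node (nat_lit 2866) (.leaf (nat_lit 0)) (.node (nat_lit 2884) (.leaf (nat_lit 4)) (.leaf (nat_lit 7)))) (.node (nat_lit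 2974) (.leaf (nat_lit 8)) (.node (nat_lit 2988) (.leaf (nat_lit 14)) (.leaf (nat_lit 0)))))) (.node (nat_lit 3178) (.node (nat_lit 3110) (.node (nat_lit 3010) (.leaf (nat_lit 8)) (.node (nat_lit 3054) (.leaf (nat_lit 0)) (.leaf (nat_lit 14)))) (.node (nat_lit 3130) (.leaf (nat_lit 0)) (.node (nat_lit 3148) (.leaf (nat_lit 7)) (.leaf (nat_lit 4))))) (.node (nat_lit 3560) (.node (nat_lit 3184) (.leaf (nat_lit 8)) (.node (nat_lit 3242) (.leaf (nat_lit 14)) (.leaf (nat_lit 4)))) (.node (nat_lit 3572) (.node (nat_lit 3566) (.leaf (nat_lit 8)) (.leaf (nat_lit 14))) (.node (nat_lit 3610) (.leaf (nat_lit 4)) (.leaf (nat_lit 14)))))))))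
noncomputable def AP_s2_F : Fm := (.allS AP_lSt (.and (.qf (.mem (.mul (.mul (.mul (.v (nat_lit 0)) (.v (nat_lit 14))) (.inv (.v (nat_lit 0)))) (.inv (.v (nat_lit 14)))) AP_lI)) (.and (.or (.qf (.mem (.v (nat_lit 0)) AP_lMc)) (.exG AP_lMc (fun cs => AP_s2_t0.find (Nat.mod (nth (nat_lit 0) cs (nat_lit 0)) (nat_lit 2605))) (.qf (.eq (.mul (.v (nat_lit 0)) (.v (nat_lit 1))) (.v (nat_lit 15)))))) (.or (.qf (.mem (.mul (.mul (.mul (.v (nat_lit 0)) (.mul (.v (nat_lit 12)) (.v (nat_lit 13)))) (.inv (.v (nat_lit 0)))) (.inv (.mul (.v (nat_lit 12)) (.v (nat_lit 13))))) AP_lI)) (.exG AP_lI (fun cs => AP_s2_t1.find (Nat.mod (nth (nat_lit 0) cs (nat_lit 0)) (nat_lit 3638))) (.qf (.or (.eq (.mul (.v (nat_lit 0)) (.mul (.mul (.mul (.v (nat_lit 1)) (.mul (.v (nat_lit 13)) (.v (nat_lit 14)))) (.inv (.v (nat_lit 1)))) (.inv (.mul (.v (nat_lit 13)) (.v (nat_lit 14)))))) (.mul (.v (nat_lit 11))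 (.v (nat_lit 12)))) (.eq (.mul (.v (nat_lit 0)) (.mul (.mul (.mul (.v (nat_lit 1)) (.mul (.v (nat_lit 13)) (.v (nat_lit 14)))) (.inv (.v (nat_lit 1)))) (.inv (.mul (.v (nat_lit 13)) (.v (nat_lit 14)))))) (.inv (.mul (.v (nat_lit 11)) (.v (nat_lit 12))))))))))))
theorem AP_s2_chk : Fm.chk AP_o AP_s2_F AP_cs = true := by decide +kernel
theorem AP_s2 {G : Type*} [Group G] {R : ℕ → G → Prop} {z u v a b i j k l x y r s t : G}
    (M : Md0 AP_o AP_cs R [z, u, v, a, b, i, j, k, l, x, y, r, s, t]) :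
    ∀ g ∈ sp [i, j, k, l, x * y, r * s, t], ⁅g, t⁆ ∈ sp [i, j, k, l] ∧ (g ∈ sp [i, j, k, l, x * y, r * s] ∨ (∃ c ∈ sp [i, j, k, l, x * y, r * s], c * g = t)) ∧ (⁅g, r * s⁆ ∈ sp [i, j, k, l] ∨ (∃ c ∈ sp [i, j, k, l], c * ⁅g, r * s⁆ = x * y ∨ c * ⁅g, r * s⁆ = (x * y)⁻¹)) :=
  have h : ∀ g, InS R AP_lSt g → InS R AP_lI (⁅g, t⁆) ∧ (InS R AP_lMc (g) ∨ (GoodS R AP_lMc → AP_lMc ≠ [] → ∃ c, InS R AP_lMc c ∧ c * g = t)) ∧ (InS R AP_lI (⁅g, r * s⁆) ∨ (GoodS R AP_lI → AP_lI ≠ [] → ∃ c, InS R AP_lI c ∧ (c * ⁅g, r * s⁆ = x * y ∨ c * ⁅g, r * s⁆ = (x * y)⁻¹))) :=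
    Fm.sound M.μ AP_s2_F AP_s2_chk M.reps
  (fun g h0 => (And.imp (fun h1 => ((AP_lI_E M).iff.1 h1)) (fun h1 => (And.imp (fun h2 => (Or.imp (fun h3 => ((AP_lMc_E M).iff.1 h3)) (fun h3 => (Exists.imp (fun c h4 => ⟨(AP_lMc_E M).iff.1 h4.1, h4.2⟩) (h3 (AP_lMc_E M).good (AP_lMc_E M).ne))) h2)) (fun h2 => (Or.imp (fun h3 => ((AP_lI_E M).iff.1 h3)) (fun h3 => (Exists.imp (fun c h4 => ⟨(AP_lI_E M).iff.1 h4.1, h4.2⟩) (h3 (AP_lI_E M).good (AP_lI_E M).ne))) h2)) h1)) (h g ((AP_lSt_E M).iff.2 h0))))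
noncomputable def AP_ni_F : Fm := (.qf (.and (.not (.mem (.v (nat_lit 11)) AP_lI)) (.and (.not (.mem (.mul (.v (nat_lit 11)) (.v (nat_lit 12))) AP_lI)) (.and (.not (.mem (.v (nat_lit 12)) AP_lI)) (.and (.not (.mem (.mul (.v (nat_lit 12)) (.v (nat_lit 10))) AP_lI)) (.and (.not (.mem (.mul (.v (nat_lit 12)) (.inv (.v (nat_lit 10)))) AP_lI)) (.and (.not (.mem (.v (nat_lit 13)) AP_lI)) (.and (.not (.mem (.v (nat_lit 6)) AP_lK2)) (.and (.not (.mem (.v (nat_lit 12)) AP_lKL)) (.and (.not (.mem (.v (nat_lit 11)) AP_lKR)) (.and (.not (.mem (.v (nat_lit 11)) AP_lKJ)) (.not (.mem (.mul (.v (nat_lit 9)) (.v (nat_lit 10))) AP_lI)))))))))))))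
theorem AP_ni_chk : Fm.chk AP_o AP_ni_F AP_cs = true := by decide +kernel
theorem AP_ni {G : Type*} [Group G] {R : ℕ → G → Prop} {z u v a b i j k l x y r s t : G}
    (M : Md0 AP_o AP_cs R [z, u, v, a, b, i, j, k, l, x, y, r, s, t]) :
    r ∉ sp [i, j, k, l] ∧ r * s ∉ sp [i, j, k, l] ∧ s ∉ sp [i, j, k, l] ∧ s * y ∉ sp [i, j, k, l] ∧ s * y⁻¹ ∉ sp [i, j, k, l] ∧ t ∉ sp [i, j, k, l] ∧ j ∉ sp [i, l, j * k, x * y, r * s] ∧ s ∉ sp [i, x, y, r] ∧ r ∉ sp [i, x, y, s] ∧ r ∉ sp [i, x, y, r * s] ∧ x * y ∉ sp [i, j, k, l] :=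
  have h : ¬ InS R AP_lI (r) ∧ ¬ InS R AP_lI (r * s) ∧ ¬ InS R AP_lI (s) ∧ ¬ InS R AP_lI (s * y) ∧ ¬ InS R AP_lI (s * y⁻¹) ∧ ¬ InS R AP_lI (t) ∧ ¬ InS R AP_lK2 (j) ∧ ¬ InS R AP_lKL (s) ∧ ¬ InS R AP_lKR (r) ∧ ¬ InS R AP_lKJ (r) ∧ ¬ InS R AP_lI (x * y) :=
    Fm.sound M.μ AP_ni_F AP_ni_chk M.reps
  ((and_congr (not_congr (AP_lI_E M).iff) (and_congr (not_congr (AP_lI_E M).iff) (and_congr (not_congr (AP_lI_E M).iff) (and_congr (not_congr (AP_lI_E M).iff) (and_congr (not_congr (AP_lI_E M).iff) (and_congr (not_congr (AP_lI_E M).iff) (and_congr (not_congr (AP_lK2_E M).iff) (and_congr (not_congr (AP_lKL_E M).iff) (and_congr (not_congr (AP_lKR_E M).iff) (and_congr (not_congr (AP_lKJ_E M).iff) (not_congr (AP_lI_E M).iff))))))))))).1 h)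
noncomputable def AP_sq_F : Fm := (.qf (.and (.eq (.mul (.v (nat_lit 11)) (.v (nat_lit 11))) .one) (.and (.eq (.mul (.mul (.v (nat_lit 11)) (.v (nat_lit 12))) (.mul (.v (nat_lit 11)) (.v (nat_lit 12)))) .one) (.and (.eq (.mul (.v (nat_lit 12)) (.v (nat_lit 12))) .one) (.and (.eq (.mul (.mul (.v (nat_lit 12)) (.v (nat_lit 10))) (.mul (.v (nat_lit 12)) (.v (nat_lit 10)))) .one) (.and (.eq (.mul (.mul (.v (nat_lit 12)) (.inv (.v (nat_lit 10)))) (.mul (.v (nat_lit 12)) (.inv (.v (nat_lit 10))))) .one) (.and (.eq (.mul (.v (nat_lit 13)) (.v (nat_lit 13))) .one) (.and (.eq (.pw (.v (nat_lit 9)) (nat_lit 3)) .one) (.and (.eq (.pw (.v (nat_lit 10)) (nat_lit 3)) .one) (.eq (.pw (.mul (.v (nat_lit 9)) (.v (nat_lit 10))) (nat_lit 3)) .one))))))))))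
theorem AP_sq_chk : Fm.chk AP_o AP_sq_F AP_cs = true := by decide +kernel
theorem AP_sq {G : Type*} [Group G] {R : ℕ → G → Prop} {z u v a b i j k l x y r s t : G}
    (M : Md0 AP_o AP_cs R [z, u, v, a, b, i, j, k, l, x, y, r, s, t]) :
    r * r = 1 ∧ r * s * (r * s) = 1 ∧ s * s = 1 ∧ s * y * (s * y) = 1 ∧ s * y⁻¹ * (s * y⁻¹) = 1 ∧ t * t = 1 ∧ x ^ 3 = 1 ∧ y ^ 3 = 1 ∧ (x * y) ^ 3 = 1 :=
  Fm.sound M.μ AP_sq_F AP_sq_chk M.reps
noncomputable def AP_ax_F : Fm := (.qf (.and (.eq (.mul (.mul (.v (nat_lit 9)) (.v (nat_lit 1))) (.inv (.v (nat_lit 9)))) (.v (nat_lit 3))) (.and (.eq (.mul (.mul (.v (nat_lit 9)) (.v (nat_lit 2))) (.inv (.v (nat_lit 9)))) (.v (nat_lit 4))) (.and (.eq (.mul (.mul (.v (nat_lit 9)) (.v (nat_lit 3))) (.inv (.v (nat_lit 9)))) (.mul (.v (nat_lit 1)) (.v (nat_lit 3)))) (.eq (.mul (.mul (.v (nat_lit 9)) (.v (nat_lit 4))) (.inv (.v (nat_lit 9)))) (.mul (.v (nat_lit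 2)) (.v (nat_lit 4))))))))
theorem AP_ax_chk : Fm.chk AP_o AP_ax_F AP_cs = true := by decide +kernel
theorem AP_ax {G : Type*} [Group G] {R : ℕ → G → Prop} {z u v a b i j k l x y r s t : G}
    (M : Md0 AP_o AP_cs R [z, u, v, a, b, i, j, k, l, x, y, r, s, t]) :
    x * u * x⁻¹ = a ∧ x * v * x⁻¹ = b ∧ x * a * x⁻¹ = u * a ∧ x * b * x⁻¹ = v * b :=
  Fm.sound M.μ AP_ax_F AP_ax_chk M.reps
noncomputable def AP_ay_F : Fm := (.qf (.and (.eq (.mul (.mul (.v (nat_lit 10)) (.v (nat_lit 1))) (.inv (.v (nat_lit 10)))) (.v (nat_lit 2))) (.and (.eq (.mul (.mul (.v (nat_lit 10)) (.v (nat_lit 2))) (.inv (.v (nat_lit 10)))) (.mul (.mul (.v (nat_lit 0)) (.v (nat_lit 1))) (.v (nat_lit 2)))) (.and (.eq (.mul (.mul (.v (nat_lit 10)) (.v (nat_lit 3))) (.inv (.v (nat_lit 10)))) (.v (nat_lit 4))) (.eq (.mul (.mul (.v (nat_lit 10)) (.v (nat_lit 4))) (.inv (.v (nat_lit 10)))) (.mul (.mul (.v (nat_lit 0))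 (.v (nat_lit 3))) (.v (nat_lit 4))))))))
theorem AP_ay_chk : Fm.chk AP_o AP_ay_F AP_cs = true := by decide +kernel
theorem AP_ay {G : Type*} [Group G] {R : ℕ → G → Prop} {z u v a b i j k l x y r s t : G}
    (M : Md0 AP_o AP_cs R [z, u, v, a, b, i, j, k, l, x, y, r, s, t]) :
    y * u * y⁻¹ = v ∧ y * v * y⁻¹ = z * u * v ∧ y * a * y⁻¹ = b ∧ y * b * y⁻¹ = z * a * b :=
  Fm.sound M.μ AP_ay_F AP_ay_chk M.reps
noncomputable def AP_ar_F : Fm := (.qf (.and (.eq (.mul (.mul (.v (nat_lit 11)) (.v (nat_lit 1))) (.inv (.v (nat_lit 11)))) (.v (nat_lit 1))) (.and (.eq (.mul (.mul (.v (nat_lit 11)) (.v (nat_lit 2))) (.inv (.v (nat_lit 11)))) (.v (nat_lit 2))) (.and (.eq (.mul (.mul (.v (nat_lit 11)) (.v (nat_lit 3))) (.inv (.v (nat_lit 11)))) (.mul (.v (nat_lit 1)) (.v (nat_lit 3)))) (.eq (.mul (.mul (.v (nat_lit 11)) (.v (nat_lit 4))) (.inv (.v (nat_lit 11)))) (.mul (.v (nat_lit 2)) (.v (nat_lit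 4))))))))
theorem AP_ar_chk : Fm.chk AP_o AP_ar_F AP_cs = true := by decide +kernel
theorem AP_ar {G : Type*} [Group G] {R : ℕ → G → Prop} {z u v a b i j k l x y r s t : G}
    (M : Md0 AP_o AP_cs R [z, u, v, a, b, i, j, k, l, x, y, r, s, t]) :
    r * u * r⁻¹ = u ∧ r * v * r⁻¹ = v ∧ r * a * r⁻¹ = u * a ∧ r * b * r⁻¹ = v * b :=
  Fm.sound M.μ AP_ar_F AP_ar_chk M.reps
noncomputable def AP_as_F : Fm := (.qf (.and (.eq (.mul (.mul (.v (nat_lit 12)) (.v (nat_lit 1))) (.inv (.v (nat_lit 12)))) (.v (nat_lit 1))) (.and (.eq (.mul (.mul (.v (nat_lit 12)) (.v (nat_lit 2))) (.inv (.v (nat_lit 12)))) (.mul (.mul (.v (nat_lit 0)) (.v (nat_lit 1))) (.v (nat_lit 2)))) (.and (.eq (.mul (.mul (.v (nat_lit 12)) (.v (nat_lit 3))) (.inv (.v (nat_lit 12)))) (.v (nat_lit 3))) (.eq (.mul (.mul (.v (nat_lit 12)) (.v (nat_lit 4))) (.inv (.v (nat_lit 12)))) (.mul (.mul (.v (nat_lit 0)) (.v (nat_lit 3)))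 (.v (nat_lit 4))))))))
theorem AP_as_chk : Fm.chk AP_o AP_as_F AP_cs = true := by decide +kernel
theorem AP_as {G : Type*} [Group G] {R : ℕ → G → Prop} {z u v a b i j k l x y r s t : G}
    (M : Md0 AP_o AP_cs R [z, u, v, a, b, i, j, k, l, x, y, r, s, t]) :
    s * u * s⁻¹ = u ∧ s * v * s⁻¹ = z * u * v ∧ s * a * s⁻¹ = a ∧ s * b * s⁻¹ = z * a * b :=
  Fm.sound M.μ AP_as_F AP_as_chk M.reps
noncomputable def AP_aj_F : Fm := (.qf (.and (.eq (.mul (.mul (.mul (.v (nat_lit 11)) (.v (nat_lit 12))) (.v (nat_lit 1))) (.inv (.mul (.v (nat_lit 11)) (.v (nat_lit 12))))) (.v (nat_lit 1))) (.and (.eq (.mul (.mul (.mul (.v (nat_lit 11)) (.v (nat_lit 12))) (.v (nat_lit 2))) (.inv (.mul (.v (nat_lit 11)) (.v (nat_lit 12))))) (.mul (.mul (.v (nat_lit 1)) (.v (nat_lit 2))) (.v (nat_lit 0)))) (.and (.eq (.mul (.mul (.mul (.v (nat_lit 11)) (.v (nat_lit 12))) (.v (nat_lit 3))) (.inv (.mul (.v (nat_lit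 11)) (.v (nat_lit 12))))) (.mul (.v (nat_lit 1)) (.v (nat_lit 3)))) (.eq (.mul (.mul (.mul (.v (nat_lit 11)) (.v (nat_lit 12))) (.v (nat_lit 4))) (.inv (.mul (.v (nat_lit 11)) (.v (nat_lit 12))))) (.mul (.mul (.mul (.v (nat_lit 1)) (.v (nat_lit 2))) (.v (nat_lit 3))) (.v (nat_lit 4))))))))
theorem AP_aj_chk : Fm.chk AP_o AP_aj_F AP_cs = true := by decide +kernel
theorem AP_aj {G : Type*} [Group G] {R : ℕ → G → Prop} {z u v a b i j k l x y r s t : G}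
    (M : Md0 AP_o AP_cs R [z, u, v, a, b, i, j, k, l, x, y, r, s, t]) :
    r * s * u * (r * s)⁻¹ = u ∧ r * s * v * (r * s)⁻¹ = u * v * z ∧ r * s * a * (r * s)⁻¹ = u * a ∧ r * s * b * (r * s)⁻¹ = u * v * a * b :=
  Fm.sound M.μ AP_aj_F AP_aj_chk M.reps
noncomputable def AP_ac_F : Fm := (.qf (.and (.eq (.mul (.mul (.mul (.v (nat_lit 9)) (.v (nat_lit 10))) (.v (nat_lit 1))) (.inv (.mul (.v (nat_lit 9)) (.v (nat_lit 10))))) (.v (nat_lit 4))) (.and (.eq (.mul (.mul (.mul (.v (nat_lit 9)) (.v (nat_lit 10))) (.v (nat_lit 2))) (.inv (.mul (.v (nat_lit 9)) (.v (nat_lit 10))))) (.mul (.mul (.v (nat_lit 0)) (.v (nat_lit 3))) (.v (nat_lit 4)))) (.and (.eq (.mul (.mul (.mul (.v (nat_lit 9)) (.v (nat_lit 10))) (.v (nat_lit 3))) (.inv (.mul (.v (nat_lit 9)) (.v (nat_lit 10))))) (.mul (.v (nat_lit 2)) (.v (nat_lit 4)))) (.eq (.mul (.mul (.mul (.v (nat_lit 9)) (.v (nat_lit 10))) (.v (nat_lit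 4))) (.inv (.mul (.v (nat_lit 9)) (.v (nat_lit 10))))) (.mul (.mul (.mul (.v (nat_lit 1)) (.v (nat_lit 2))) (.v (nat_lit 3))) (.v (nat_lit 4))))))))
theorem AP_ac_chk : Fm.chk AP_o AP_ac_F AP_cs = true := by decide +kernel
theorem AP_ac {G : Type*} [Group G] {R : ℕ → G → Prop} {z u v a b i j k l x y r s t : G}
    (M : Md0 AP_o AP_cs R [z, u, v, a, b, i, j, k, l, x, y, r, s, t]) :
    x * y * u * (x * y)⁻¹ = b ∧ x * y * v * (x * y)⁻¹ = z * a * b ∧ x * y * a * (x * y)⁻¹ = v * b ∧ x * y * b * (x * y)⁻¹ = u * v * a * b :=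
  Fm.sound M.μ AP_ac_F AP_ac_chk M.reps
noncomputable def AP_rl_F : Fm := (.qf (.and (.eq (.mul (.mul (.v (nat_lit 9)) (.v (nat_lit 10))) (.inv (.v (nat_lit 9)))) (.v (nat_lit 10))) (.and (.eq (.mul (.mul (.v (nat_lit 11)) (.v (nat_lit 9))) (.inv (.v (nat_lit 11)))) (.inv (.v (nat_lit 9)))) (.and (.eq (.mul (.mul (.v (nat_lit 11)) (.v (nat_lit 10))) (.inv (.v (nat_lit 11)))) (.v (nat_lit 10))) (.and (.eq (.mul (.mul (.v (nat_lit 12)) (.v (nat_lit 9))) (.inv (.v (nat_lit 12)))) (.v (nat_lit 9))) (.and (.eq (.mul (.mul (.v (nat_lit 12)) (.v (nat_lit 10))) (.inv (.v (nat_lit 12)))) (.inv (.v (nat_lit 10)))) (.and (.eq (.mul (.mul (.mul (.v (nat_lit 11)) (.v (nat_lit 12))) (.v (nat_lit 9))) (.inv (.mul (.v (nat_lit 11)) (.v (nat_lit 12))))) (.inv (.v (nat_lit 9)))) (.and (.eq (.mul (.mul (.mul (.v (nat_lit 11)) (.v (nat_lit 12))) (.mul (.v (nat_lit 9)) (.v (nat_lit 10)))) (.inv (.mul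 (.v (nat_lit 11)) (.v (nat_lit 12))))) (.inv (.mul (.v (nat_lit 9)) (.v (nat_lit 10))))) (.eq (.mul (.mul (.mul (.v (nat_lit 11)) (.v (nat_lit 12))) (.inv (.v (nat_lit 11)))) (.inv (.v (nat_lit 12)))) .one)))))))))
theorem AP_rl_chk : Fm.chk AP_o AP_rl_F AP_cs = true := by decide +kernel
theorem AP_rl {G : Type*} [Group G] {R : ℕ → G → Prop} {z u v a b i j k l x y r s t : G}
    (M : Md0 AP_o AP_cs R [z, u, v, a, b, i, j, k, l, x, y, r, s, t]) :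
    x * y * x⁻¹ = y ∧ r * x * r⁻¹ = x⁻¹ ∧ r * y * r⁻¹ = y ∧ s * x * s⁻¹ = x ∧ s * y * s⁻¹ = y⁻¹ ∧ r * s * x * (r * s)⁻¹ = x⁻¹ ∧ r * s * (x * y) * (r * s)⁻¹ = (x * y)⁻¹ ∧ r * s * r⁻¹ * s⁻¹ = 1 :=
  Fm.sound M.μ AP_rl_F AP_rl_chk M.reps

end H26.Es
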