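import Cfsg.Agent.H26.Es.A0

/-! Generated: the involution centralizer of type L4(3). -/

set_option maxRecDepth 100000
set_option maxHeartbeats 4000000
set_option linter.unusedVariables false
set_option Elab.async false

open Subgroup
open scoped commutatorElement
namespace H26.Es
open H0 H0.PM H16 H19 H10.X

def TL {G : Type*} [Group G] (z u v a b r s : G) : Prop :=
  r * r = 1 ∧
  s * s = 1 ∧
  z * r = r * z ∧
  z * s = s * z ∧
  r * u = u * r ∧
  r * v = v * r ∧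
  a * r * a = r * u ∧
  b * r * b = r * v ∧
  s * u = u * s ∧
  s * a = a * s ∧
  s * v * s = z * u * v ∧
  s * b * s = z * a * b ∧
  r * s = s * r ∧ True
def SW1 {G : Type*} [Group G] (z u v r k : G) : Prop :=
  k * z * k⁻¹ = r ∧
  k * r * k⁻¹ = z ∧
  k * (u * r) * k⁻¹ = u * r ∧
  k * (v * r) * k⁻¹ = v * r ∧ True
def C0 {G : Type*} [Group G] (z u v r y c : G) : Prop :=
  c * c = 1 ∧
  c * z * c = r ∧
  c * (u * r) * c = u * r ∧
  c * (v * r) * c = v * r ∧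
  c * y = y * c ∧ True
def YL {G : Type*} [Group G] (z u v a b r s y : G) : Prop :=
  y ^ 3 = 1 ∧
  y * z = z * y ∧
  y * r = r * y ∧
  y * u * y⁻¹ = v ∧
  y * v * y⁻¹ = z * u * v ∧
  y * a * y⁻¹ = b ∧
  y * b * y⁻¹ = z * a * b ∧
  s * y * s = y⁻¹ ∧ True
def C1 {G : Type*} [Group G] (z u v b r s y c : G) : Prop :=
  c * c = 1 ∧
  c * z * c = r ∧
  c * (u * r) * c = u * r ∧
  c * (v * r) * c = v * r ∧
  c * y = y * c ∧
  c * (z * s) * c = z * s ∧
  (c * (b * (z * s) * b)) ^ 3 = 1 ∧ True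
noncomputable def HL_r_R : List (List ℕ) := [[0,0],
  [1,1],
  [2,2],
  [3,3],
  [4,4],
  [5,5],
  [6,6],
  [7,8],
  [8,7],
  [9,10],
  [10,9],
  [7,7,7],
  [3,8,1,7],
  [4,8,2,7],
  [7,1,7,1,7,1],
  [7,2,7,2,7,2],
  [2,1,2,1],
  [0,4,1,4,1],
  [8,0,7,0],
  [1,0,1,0],
  [2,0,2,0],
  [9,9,9],
  [8,10,7,9],
  [0,10,0,9],
  [2,10,1,9],
  [0,1,2,10,2,9],
  [3,0,3,0],
  [4,0,4,0],
  [3,1,3,1],
  [4,2,4,2],
  [4,3,4,3],
  [1,0,4,1,4],
  [2,0,3,2,3],
  [5,0,5,0],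
  [6,0,6,0],
  [1,5,1,5],
  [2,5,2,5],
  [5,1,3,5,3],
  [5,2,4,5,4],
  [1,6,1,6],
  [3,6,3,6],
  [0,1,2,6,2,6],
  [0,3,4,6,4,6],
  [6,5,6,5],
  [7,5,7,5],
  [10,5,9,5],
  [8,6,7,6],
  [9,6,9,6]]
theorem HL_r {G : Type*} [Group G] {z u v a b r s x y : G}
    (h : Q3 z u v a b x)
    (k : KY z u v x y)
    (q : QT z u v a b)
    (t : TL z u v a b r s)
    (l : XU r s x y) :
    Rels (nthG [z, u, v, a, b, r, s, x, x⁻¹, y, y⁻¹]) HL_r_R :=
  rels_of_eqs ((InvI.cons h.1 (InvI.cons h.2.1 (InvI.cons h.2.2.1 (InvI.cons h.2.2.2.1 (InvI.cons h.2.2.2.2.1 (InvI.cons t.1 (InvI.cons t.2.1 InvI.nil))))))) : InvI [z, u, v, a, b, r, s, x, y] [(nat_lit 0), (nat_lit 1), (nat_lit 2), (nat_lit 3), (nat_lit 4), (nat_lit 5), (nat_lit 6)])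
    (AllEq.append (show AllEq [z, u, v, a, b, r, s, x, y] [((.mul (.v (nat_lit 0)) (.v (nat_lit 0))), .one), ((.mul (.v (nat_lit 1)) (.v (nat_lit 1))), .one), ((.mul (.v (nat_lit 2)) (.v (nat_lit 2))), .one), ((.mul (.v (nat_lit 3)) (.v (nat_lit 3))), .one), ((.mul (.v (nat_lit 4)) (.v (nat_lit 4))), .one), ((.pw (.v (nat_lit 7)) (nat_lit 3)), .one), ((.mul (.mul (.v (nat_lit 7)) (.v (nat_lit 1))) (.inv (.v (nat_lit 7)))), (.v (nat_lit 3))), ((.mul (.mul (.v (nat_lit 7)) (.v (nat_lit 2))) (.inv (.v (nat_lit 7)))), (.v (nat_lit 4))), ((.pw (.mul (.v (nat_lit 1)) (.v (nat_lit 7))) (nat_lit 3)), .one), ((.pw (.mul (.v (nat_lit 2)) (.v (nat_lit 7))) (nat_lit 3)), .one), ((.mul (.v (nat_lit 1)) (.v (nat_lit 2))), (.mul (.v (nat_lit 2)) (.v (nat_lit 1)))), ((.mul (.mul (.mul (.v (nat_lit 1)) (.v (nat_lit 4))) (.inv (.v (nat_lit 1)))) (.inv (.v (nat_lit 4)))), (.v (nat_lit 0))), ((.mul (.v (nat_lit 0)) (.v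 (nat_lit 7))), (.mul (.v (nat_lit 7)) (.v (nat_lit 0)))), ((.mul (.v (nat_lit 0)) (.v (nat_lit 1))), (.mul (.v (nat_lit 1)) (.v (nat_lit 0)))), ((.mul (.v (nat_lit 0)) (.v (nat_lit 2))), (.mul (.v (nat_lit 2)) (.v (nat_lit 0))))] from h)
    (AllEq.append (show AllEq [z, u, v, a, b, r, s, x, y] [((.pw (.v (nat_lit 8)) (nat_lit 3)), .one), ((.mul (.v (nat_lit 8)) (.v (nat_lit 7))), (.mul (.v (nat_lit 7)) (.v (nat_lit 8)))), ((.mul (.v (nat_lit 8)) (.v (nat_lit 0))), (.mul (.v (nat_lit 0)) (.v (nat_lit 8)))), ((.mul (.mul (.v (nat_lit 8)) (.v (nat_lit 1))) (.inv (.v (nat_lit 8)))), (.v (nat_lit 2))), ((.mul (.mul (.v (nat_lit 8)) (.v (nat_lit 2))) (.inv (.v (nat_lit 8)))), (.mul (.mul (.v (nat_lit 0)) (.v (nat_lit 1))) (.v (nat_lit 2))))] from k)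
    (AllEq.append (show AllEq [z, u, v, a, b, r, s, x, y] [((.mul (.v (nat_lit 0)) (.v (nat_lit 0))), .one), ((.mul (.v (nat_lit 1)) (.v (nat_lit 1))), .one), ((.mul (.v (nat_lit 2)) (.v (nat_lit 2))), .one), ((.mul (.v (nat_lit 3)) (.v (nat_lit 3))), .one), ((.mul (.v (nat_lit 4)) (.v (nat_lit 4))), .one), ((.mul (.v (nat_lit 1)) (.v (nat_lit 2))), (.mul (.v (nat_lit 2)) (.v (nat_lit 1)))), ((.mul (.v (nat_lit 0)) (.v (nat_lit 1))), (.mul (.v (nat_lit 1)) (.v (nat_lit 0)))), ((.mul (.v (nat_lit 0)) (.v (nat_lit 2))), (.mul (.v (nat_lit 2)) (.v (nat_lit 0)))), ((.mul (.v (nat_lit 0)) (.v (nat_lit 3))), (.mul (.v (nat_lit 3)) (.v (nat_lit 0)))), ((.mul (.v (nat_lit 0)) (.v (nat_lit 4))), (.mul (.v (nat_lit 4)) (.v (nat_lit 0)))), ((.mul (.v (nat_lit 1)) (.v (nat_lit 3))), (.mul (.v (nat_lit 3)) (.v (nat_lit 1)))), ((.mul (.v (nat_lit 2)) (.v (nat_lit 4))), (.mul (.v (nat_lit 4)) (.v (nat_lit 2)))),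 ((.mul (.v (nat_lit 3)) (.v (nat_lit 4))), (.mul (.v (nat_lit 4)) (.v (nat_lit 3)))), ((.mul (.mul (.v (nat_lit 4)) (.v (nat_lit 1))) (.v (nat_lit 4))), (.mul (.v (nat_lit 1)) (.v (nat_lit 0)))), ((.mul (.mul (.v (nat_lit 3)) (.v (nat_lit 2))) (.v (nat_lit 3))), (.mul (.v (nat_lit 2)) (.v (nat_lit 0))))] from q)
    (AllEq.append (show AllEq [z, u, v, a, b, r, s, x, y] [((.mul (.v (nat_lit 5)) (.v (nat_lit 5))), .one), ((.mul (.v (nat_lit 6)) (.v (nat_lit 6))), .one), ((.mul (.v (nat_lit 0)) (.v (nat_lit 5))), (.mul (.v (nat_lit 5)) (.v (nat_lit 0)))), ((.mul (.v (nat_lit 0)) (.v (nat_lit 6))), (.mul (.v (nat_lit 6)) (.v (nat_lit 0)))), ((.mul (.v (nat_lit 5)) (.v (nat_lit 1))), (.mul (.v (nat_lit 1)) (.v (nat_lit 5)))), ((.mul (.v (nat_lit 5)) (.v (nat_lit 2))), (.mul (.v (nat_lit 2)) (.v (nat_lit 5)))), ((.mul (.mul (.v (nat_lit 3)) (.v (nat_lit 5))) (.v (nat_lit 3))), (.mul (.v (nat_lit 5)) (.v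 (nat_lit 1)))), ((.mul (.mul (.v (nat_lit 4)) (.v (nat_lit 5))) (.v (nat_lit 4))), (.mul (.v (nat_lit 5)) (.v (nat_lit 2)))), ((.mul (.v (nat_lit 6)) (.v (nat_lit 1))), (.mul (.v (nat_lit 1)) (.v (nat_lit 6)))), ((.mul (.v (nat_lit 6)) (.v (nat_lit 3))), (.mul (.v (nat_lit 3)) (.v (nat_lit 6)))), ((.mul (.mul (.v (nat_lit 6)) (.v (nat_lit 2))) (.v (nat_lit 6))), (.mul (.mul (.v (nat_lit 0)) (.v (nat_lit 1))) (.v (nat_lit 2)))), ((.mul (.mul (.v (nat_lit 6)) (.v (nat_lit 4))) (.v (nat_lit 6))), (.mul (.mul (.v (nat_lit 0)) (.v (nat_lit 3))) (.v (nat_lit 4)))), ((.mul (.v (nat_lit 5)) (.v (nat_lit 6))), (.mul (.v (nat_lit 6)) (.v (nat_lit 5))))] from t)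
    (show AllEq [z, u, v, a, b, r, s, x, y] [((.mul (.mul (.v (nat_lit 5)) (.v (nat_lit 7))) (.inv (.v (nat_lit 5)))), (.inv (.v (nat_lit 7)))), ((.mul (.mul (.v (nat_lit 5)) (.v (nat_lit 8))) (.inv (.v (nat_lit 5)))), (.v (nat_lit 8))), ((.mul (.mul (.v (nat_lit 6)) (.v (nat_lit 7))) (.inv (.v (nat_lit 6)))), (.v (nat_lit 7))), ((.mul (.mul (.v (nat_lit 6)) (.v (nat_lit 8))) (.inv (.v (nat_lit 6)))), (.inv (.v (nat_lit 8))))] from l)))))
    [(.v (nat_lit 0)), (.v (nat_lit 1)), (.v (nat_lit 2)), (.v (nat_lit 3)), (.v (nat_lit 4)), (.v (nat_lit 5)), (.v (nat_lit 6)), (.v (nat_lit 7)), (.inv (.v (nat_lit 7))), (.v (nat_lit 8)), (.inv (.v (nat_lit 8)))] (by decide +kernel)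
noncomputable abbrev HL_o : Ops := pops (nat_lit 24) (nat_lit 5) (nat_lit 31) (nat_lit 0xbdab49ca307b9ac5a928398a418820)
noncomputable def HL_cs : List ℕ := [(nat_lit 0xb5e958c2725a5487b5cc20c4731401), (nat_lit 0xad2f67b56a9a6478c1c460ca830820), (nat_lit 0xad2f65c1f28994c9b4683b824480a2), (nat_lit 0x9c5ebbb2c8aa4f2a11d06984a19420), (nat_lit 0x9c56fbc2d2a15a8aa84c385c4024c3), (nat_lit 0xad2f69b62a79a4c5c0683b8a448820), (nat_lit 0x941aa65d163a6b3251d178c4b31420), (nat_lit 0x9c6f6ab2887964d5c04a3b8c448c20), (nat_lit 0xad271bb6ca799925a070395c412420), (nat_lit 0x724c32d8570c291056537a90b6b0e4), (nat_lit 0x8494d4258e3dc6221ac50d660a45eb)]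
noncomputable def HL_L : List (List ℕ) := [[(nat_lit 0xbdab49ca307b9ac5a928398a418820), (nat_lit 0xb5e958c2725a5487b5cc20c4731401), (nat_lit 0xad2f65c1f28994c9b4683b824480a2), (nat_lit 0x9c56fbc2d2a15a8aa84c385c4024c3), (nat_lit 0x724c32d8570c291056537a90b6b0e4), (nat_lit 0x8494d4258e3dc6221ac50d660a45eb), (nat_lit 0xa56d77c97098da88a8cc2240770445), (nat_lit 0x8cdebb4af0a894ca34a8201270b866), (nat_lit 0x4b86615cb604ab30d2115b58f52087), (nat_lit 0x941aa63909258c538ee205221acd6f), (nat_lit 0x5be71aca90b0548bb40c394c410dc9), (nat_lit 0x30dc905c3612ab12d1b37c0eb9110c), (nat_lit 0x53612238e9654c240e850dde0b2e71), (nat_lit 0x2880175d361a2933559179e0b2494d), (nat_lit 0x4308783a496cc6551a220bee05dab4), (nat_lit 0x4b8662d0550aacb05daf9c09191d88), (nat_lit 0x4b8c3144b30a17603d97a92143c9aa), (nat_lit 0x941aa40d863d52023a812dd62b3e33), (nat_lit 0x9414d609053cc092062e32ee37da95), (nat_lit 0x7ae33a42b2b81acb2828208672992e),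 (nat_lit 0x4a23587749eb3750917a14b63612), (nat_lit 0x21d0c525ae93cc580d620cea08d2f6), (nat_lit 0x7246612caf0923404cf5ba15663650), (nat_lit 0x620e480e466bdc05256114e858d6d7)],
  [(nat_lit 0xbdab49ca307b9ac5a928398a418820), (nat_lit 0xad2f67b56a9a6478c1c460ca830820), (nat_lit 0x9c5ebbb2c8aa4f2a11d06984a19420), (nat_lit 0x941aa65d163a6b3251d178c4b31420), (nat_lit 0x7ae71a9e84bb98db212a90c5031420), (nat_lit 0x6aa503d49463aef4592b9985119420), (nat_lit 0x620e494e116b9f752d36a8cb430820), (nat_lit 0x391886bd4b92675845d4b98b618820)],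
  [(nat_lit 0xbdab49ca307b9ac5a928398a418820), (nat_lit 0x9c6f6ab2887964d5c04a3b8c448c20), (nat_lit 0xad271bb6ca799925a070395c412420)],
  [(nat_lit 0xbdab49ca307b9ac5a928398a418820), (nat_lit 0xad2f69b62a79a4c5c0683b8a448820)]]
noncomputable def HL_WW : List (List (List ℕ)) := [[[],
  [(nat_lit 0)],
  [(nat_lit 2)],
  [(nat_lit 4)],
  [(nat_lit 9)],
  [(nat_lit 10)],
  [(nat_lit 0), (nat_lit 2)],
  [(nat_lit 0), (nat_lit 4)],
  [(nat_lit 0), (nat_lit 9)],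
  [(nat_lit 0), (nat_lit 10)],
  [(nat_lit 2), (nat_lit 4)],
  [(nat_lit 2), (nat_lit 9)],
  [(nat_lit 2), (nat_lit 10)],
  [(nat_lit 4), (nat_lit 9)],
  [(nat_lit 4), (nat_lit 10)],
  [(nat_lit 9), (nat_lit 1)],
  [(nat_lit 9), (nat_lit 3)],
  [(nat_lit 10), (nat_lit 2)],
  [(nat_lit 10), (nat_lit 4)],
  [(nat_lit 0), (nat_lit 2), (nat_lit 4)],
  [(nat_lit 2), (nat_lit 4), (nat_lit 9)],
  [(nat_lit 2), (nat_lit 4), (nat_lit 10)],
  [(nat_lit 9), (nat_lit 1), (nat_lit 3)],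
  [(nat_lit 10), (nat_lit 2), (nat_lit 3)]],
  [[],
  [(nat_lit 1)],
  [(nat_lit 3)],
  [(nat_lit 6)],
  [(nat_lit 1), (nat_lit 3)],
  [(nat_lit 1), (nat_lit 6)],
  [(nat_lit 3), (nat_lit 6)],
  [(nat_lit 1), (nat_lit 3), (nat_lit 6)]],
  [[],
  [(nat_lit 7)],
  [(nat_lit 8)]],
  [[],
  [(nat_lit 5)]]]
noncomputable def HL_b3_S0 : List ℕ := [nat_lit 0x1300000700000c004008, nat_lit 0x1700000700001000400a, nat_lit 0x1b00000b000010004006, nat_lit 0x1f000013000018004006, nat_lit 0x1f00000200001c00400a]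
noncomputable def HL_b3_S : List (List ℕ) := [HL_b3_S0]
noncomputable def HL_b3_defs : List ℕ := [(nat_lit 0x20000400200002002000010010000100200000001000000000000000000000)]
noncomputable def HL_b3_recs : List ℕ := [(nat_lit 0x600007010000500007010000300006000000300005000000200004)]
noncomputable def HL_b3_L0 : List ℕ := [nat_lit 0x700000100000b00000200000f000003, nat_lit 0x8000000000013000004000017000005, nat_lit 0x200000400000c00000000001b000006, nat_lit 0x600000500000a000006000010000000, nat_lit 0x100000200001400000100001f000007, nat_lit 0x500000300000e000007000018000001, nat_lit 0x1200000700000900000300001c000002, nat_lit 0x1100000600000d000005000020000004]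
noncomputable def HL_b3_L : List (List ℕ) := [HL_b3_L0]
noncomputable def HL_b3_V : List ℕ := [(nat_lit 0x700000006000000050000000400000003000000020000000100000000)]
noncomputable def HL_b3_D : H26.Dag := ⟨[], [[0,0],
  [1,1],
  [2,2],
  [2,1,2,1],
  [1,0,1,0],
  [2,0,2,0]], [], HL_b3_defs, HL_b3_recs⟩
theorem HL_b3_c : HL_b3_D.checkTab HL_b3_S 8 3 HL_b3_V HL_b3_L = true := by decide +kernel
theorem HL_b3 : Bound HL_r_R 3 8 :=
  bound_dag (Bound.zero HL_r_R) (K := 3) (J := [0,1,2,16,19,20]) (by decide +kernel) HL_b3_c (by decide +kernel)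
noncomputable def HL_b5_S0 : List ℕ := [nat_lit 0x1, nat_lit 0x1, nat_lit 0x1, nat_lit 0x700000100000800400c, nat_lit 0x7000005000008004010, nat_lit 0x700000100000900000800c016, nat_lit 0xb00000100000c00400e, nat_lit 0xb00000900000c004012, nat_lit 0xb00000100000500000c00800a, nat_lit 0xf00000d00001000400e, nat_lit 0xf000015000010004012, nat_lit 0xf00000700000c004014, nat_lit 0xf00000d00001100001000800a]
noncomputable def HL_b5_S : List (List ℕ) := [HL_b5_S0]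
noncomputable def HL_b5_defs : List ℕ := [(nat_lit 0x400001004000000030000000000000)]
noncomputable def HL_b5_recs : List ℕ := [(nat_lit 0x10000300003030000200003020000300003000000300003010000200002020000200002000000200002020000100001010000100001000000100001020000000000010000000000000000000000)]
noncomputable def HL_b5_L0 : List ℕ := [nat_lit 0x100000000000500000000000900000000000700000100000b000002, nat_lit 0xd00000100001100000100001500000100000800000000000f000003, nat_lit 0x1900000200002100000200001d00000200002e00000300000c000000, nat_lit 0x2500000300003100000300002900000300002d000002000010000001]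
noncomputable def HL_b5_L : List (List ℕ) := [HL_b5_L0]
noncomputable def HL_b5_V : List ℕ := [(nat_lit 0x3000000020000000100000000)]
noncomputable def HL_b5_D : H26.Dag := ⟨[], [[0,0],
  [1,1],
  [2,2],
  [3,3],
  [4,4],
  [0,4,1,4,1],
  [3,0,3,0],
  [4,0,4,0],
  [3,1,3,1],
  [4,2,4,2],
  [4,3,4,3],
  [2,0,3,2,3]], [0,1,2], HL_b5_defs, HL_b5_recs⟩
theorem HL_b5_c : HL_b5_D.checkTab HL_b5_S 4 5 HL_b5_V HL_b5_L = true := by decide +kernel
theorem HL_b5 : Bound HL_r_R 5 32 :=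
  bound_dag HL_b3 (K := 5) (J := [0,1,2,3,4,17,26,27,28,29,30,32]) (by decide +kernel) HL_b5_c (by decide +kernel)
noncomputable def HL_b7_S0 : List ℕ := [nat_lit 0x1, nat_lit 0x1, nat_lit 0x1, nat_lit 0x1, nat_lit 0x1, nat_lit 0x700000100000800400e, nat_lit 0x7000005000008008012, nat_lit 0x7000009000008008014, nat_lit 0x1900000700000d000008008016, nat_lit 0x1d000007000011000008008018, nat_lit 0xb00000100000c004010, nat_lit 0xb00000500000c00801a, nat_lit 0xb00000d00000c00801c, nat_lit 0xb00000900000500000100000c01001e, nat_lit 0xb00001100000d00000100000c010020, nat_lit 0xf000015000010004010, nat_lit 0xf00001900001000801a, nat_lit 0xf00002100001000801c, nat_lit 0xf00000700000c004022, nat_lit 0xf00001d00001900001500001001001e, nat_lit 0xf000025000021000015000010010020]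
noncomputable def HL_b7_S : List (List ℕ) := [HL_b7_S0]
noncomputable def HL_b7_defs : List ℕ := [(nat_lit 0x600001006000000050000000000000)]
noncomputable def HL_b7_recs : List ℕ := [(nat_lit 0x40000300003020000300003050000200003030000300003010000300003000000300003040000200002020000200002030000200002010000200002000000200002040000100001030000100001020000100001010000100001000000100001040000000000030000000000020000000000010000000000000000000000)]
noncomputable def HL_b7_L0 : List ℕ := [nat_lit 0x100000000000500000000000900000000000d00000000001100000000000700000100000b000002, nat_lit 0x1500000100001900000100001d00000100002100000100002500000100000800000000000f000003, nat_lit 0x2900000200002d00000200003500000200003100000200003900000200004a00000300000c000000, nat_lit 0x3d00000300004100000300004d000003000045000003000051000003000049000002000010000001]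
noncomputable def HL_b7_L : List (List ℕ) := [HL_b7_L0]
noncomputable def HL_b7_V : List ℕ := [(nat_lit 0x3000000020000000100000000)]
noncomputable def HL_b7_D : H26.Dag := ⟨[], [[0,0],
  [1,1],
  [2,2],
  [3,3],
  [4,4],
  [5,5],
  [6,6],
  [5,0,5,0],
  [6,0,6,0],
  [1,5,1,5],
  [2,5,2,5],
  [5,1,3,5,3],
  [5,2,4,5,4],
  [1,6,1,6],
  [3,6,3,6],
  [0,1,2,6,2,6],
  [0,3,4,6,4,6],
  [6,5,6,5]], [0,1,2,3,4], HL_b7_defs, HL_b7_recs⟩
theorem HL_b7_c : HL_b7_D.checkTab HL_b7_S 4 7 HL_b7_V HL_b7_L = true := by decide +kernel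
theorem HL_b7 : Bound HL_r_R 7 128 :=
  bound_dag HL_b5 (K := 7) (J := [0,1,2,3,4,5,6,33,34,35,36,37,38,39,40,41,42,43]) (by decide +kernel) HL_b7_c (by decide +kernel)
noncomputable def HL_b9_S0 : List ℕ := [nat_lit 0x1, nat_lit 0x1, nat_lit 0x1, nat_lit 0x1, nat_lit 0x1, nat_lit 0x1, nat_lit 0x1, nat_lit 0x7000005000008000014, nat_lit 0x7000009000008000016, nat_lit 0x700000100000800c01c, nat_lit 0x700001900000800c022, nat_lit 0xb000008006012, nat_lit 0xb00000d00000c008014, nat_lit 0xb00001100000c008016, nat_lit 0xb00000100000c00401c, nat_lit 0xb00001500000800a020, nat_lit 0xb00001900000c004022, nat_lit 0x2d00003100000b000005000008012018, nat_lit 0x2d00003500000b00000900000801201a, nat_lit 0x2e00004900002d000016, nat_lit 0x3900004100004d00004100004d00401e]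
noncomputable def HL_b9_S : List (List ℕ) := [HL_b9_S0]
noncomputable def HL_b9_defs : List ℕ := [(nat_lit 0x8000000070000000000000)]
noncomputable def HL_b9_recs : List ℕ := [(nat_lit 0x30000200002040000200002020000100001010000100001060000200002050000100002000000200002020000200002010000200002080000100002060000100001000000100001040000100001030000100001060000000000050000000000040000000000030000000000020000000000010000000000000000000000)]
noncomputable def HL_b9_L0 : List ℕ := [nat_lit 0x100000000000500000000000900000000000d00000000001100000000001500000000001900000000000700000100000b000002, nat_lit 0x2500000100004500000100004900000100001d00000100002100000100003e00000200002900000100002e000002000008000000, nat_lit 0x3900000200003100000200003500000200005100000200004d00000200003d00000100004100000200000c00000000002d000001]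
noncomputable def HL_b9_L : List (List ℕ) := [HL_b9_L0]
noncomputable def HL_b9_V : List ℕ := [(nat_lit 0x20000000100000000)]
noncomputable def HL_b9_D : H26.Dag := ⟨[0,1,2,3,4,5,6,8,7], [[0,0],
  [1,1],
  [2,2],
  [3,3],
  [4,4],
  [5,5],
  [6,6],
  [7,8],
  [8,7],
  [7,7,7],
  [3,8,1,7],
  [4,8,2,7],
  [7,1,7,1,7,1],
  [7,2,7,2,7,2],
  [8,0,7,0],
  [0,3,4,6,4,6],
  [7,5,7,5],
  [8,6,7,6]], [0,1,2,3,4,5,6], HL_b9_defs, HL_b9_recs⟩
theorem HL_b9_c : HL_b9_D.checkTab HL_b9_S 3 9 HL_b9_V HL_b9_L = true := by decide +kernel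
theorem HL_b9 : Bound HL_r_R 9 384 :=
  bound_dag HL_b7 (K := 9) (J := [0,1,2,3,4,5,6,7,8,11,12,13,14,15,18,42,44,46]) (by decide +kernel) HL_b9_c (by decide +kernel)
noncomputable def HL_b11_S0 : List ℕ := [nat_lit 0x1, nat_lit 0x1, nat_lit 0x1, nat_lit 0x1, nat_lit 0x1, nat_lit 0x1, nat_lit 0x1, nat_lit 0x1, nat_lit 0x700001d00000800001c, nat_lit 0x700000100000800001e, nat_lit 0x7000005000008000020, nat_lit 0x700001500000800c026, nat_lit 0x25000007000009000008000029004022, nat_lit 0x22000031000021000016, nat_lit 0x22000029000021000018, nat_lit 0xb00000800601a, nat_lit 0xb00001e00000c00801c, nat_lit 0xb00000100000c00801e, nat_lit 0xb00000900000c008020, nat_lit 0xb00001500000c004026, nat_lit 0xb00001900000800a028, nat_lit 0xb00000900000500000100000c010022, nat_lit 0x41000055000042000018, nat_lit 0x45000052000039000051000059004024]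
noncomputable def HL_b11_S : List (List ℕ) := [HL_b11_S0]
noncomputable def HL_b11_defs : List ℕ := [(nat_lit 0xa000000090000000000000)]
noncomputable def HL_b11_recs : List ℕ := [(nat_lit 0x300002000020400002000020200002000020600001000020500002000020100002000020000002000020700002000020a0000100002040000100001030000100001010000100001050000100001020000100001000000100001080000100001070000000000060000000000050000000000040000000000030000000000020000000000010000000000000000000000)]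
noncomputable def HL_b11_L0 : List ℕ := [nat_lit 0x100000000000500000000000900000000000d00000000001100000000001500000000001900000000001d00000000001e00000000000700000100000b000002, nat_lit 0x2500000100003100000100002900000100003500000100003900000100002d00000100005200000200002200000100002100000100003e000002000008000000, nat_lit 0x4500000200004900000200005500000200005d00000200005900000200004d00000200005100000100004100000200004200000200000c00000000003d000001]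
noncomputable def HL_b11_L : List (List ℕ) := [HL_b11_L0]
noncomputable def HL_b11_V : List ℕ := [(nat_lit 0x20000000100000000)]
noncomputable def HL_b11_D : H26.Dag := ⟨[0,1,2,3,4,5,6,8,7,10,9], [[0,0],
  [1,1],
  [2,2],
  [3,3],
  [4,4],
  [5,5],
  [6,6],
  [7,8],
  [8,7],
  [9,10],
  [10,9],
  [3,8,1,7],
  [4,8,2,7],
  [9,9,9],
  [8,10,7,9],
  [0,10,0,9],
  [2,10,1,9],
  [0,1,2,10,2,9],
  [0,3,4,6,4,6],
  [10,5,9,5],
  [9,6,9,6]], [0,1,2,3,4,5,6,7,8], HL_b11_defs, HL_b11_recs⟩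
theorem HL_b11_c : HL_b11_D.checkTab HL_b11_S 3 11 HL_b11_V HL_b11_L = true := by decide +kernel
theorem HL_b11 : Bound HL_r_R 11 1152 :=
  bound_dag HL_b9 (K := 11) (J := [0,1,2,3,4,5,6,7,8,9,10,12,13,21,22,23,24,25,42,45,47]) (by decide +kernel) HL_b11_c (by decide +kernel)
theorem HL_P : PModel (nat_lit 24) (nat_lit 5) (nat_lit 31) (nat_lit 0xbdab49ca307b9ac5a928398a418820) HL_cs HL_r_R HL_L 1152 :=
  ⟨PkOK.of (by decide +kernel), by decide +kernel, by decide +kernel, HL_b11, ⟨HL_WW, by decide +kernel⟩,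
    ⟨fun c => Nat.mod c (nat_lit 195535), by decide +kernel⟩⟩
noncomputable def HL_soc_t0 : ST := (.node (nat_lit 65936) (.node (nat_lit 33931) (.node (nat_lit 16911) (.node (nat_lit 9185) (.node (nat_lit 4310) (.node (nat_lit 2646) (.node (nat_lit 1892) (.node (nat_lit 605) (.node (nat_lit 348) (.leaf (nat_lit 2)) (.node (nat_lit 420) (.leaf (nat_lit 24)) (.leaf (nat_lit 3)))) (.node (nat_lit 1123) (.leaf (nat_lit 48)) (.node (nat_lit 1851) (.leaf (nat_lit 24)) (.leaf (nat_lit 48))))) (.node (nat_lit 2402) (.node (nat_lit 2145) (.leaf (nat_lit 2)) (.node (nat_lit 2316) (.leaf (nat_lit 48)) (.leaf (nat_lit 24)))) (.node (nat_lit 2544) (.leaf (nat_lit 3)) (.node (nat_lit 2595) (.leaf (nat_lit 2)) (.leaf (nat_lit 24)))))) (.node (nat_lit 3157) (.node (nat_lit 3028) (.node (nat_lit 2656) (.leaf (nat_lit 48)) (.node (nat_lit 2776) (.leaf (nat_lit 3)) (.leaf (nat_lit 48)))) (.node (nat_lit 3093) (.leaf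 (nat_lit 24)) (.node (nat_lit 3116) (.leaf (nat_lit 48)) (.leaf (nat_lit 24))))) (.node (nat_lit 3443) (.node (nat_lit 3186) (.leaf (nat_lit 2)) (.node (nat_lit 3236) (.leaf (nat_lit 48)) (.leaf (nat_lit 24)))) (.node (nat_lit 3903) (.node (nat_lit 3644) (.leaf (nat_lit 3)) (.leaf (nat_lit 24))) (.node (nat_lit 4211) (.leaf (nat_lit 3)) (.leaf (nat_lit 24))))))) (.node (nat_lit 6391) (.node (nat_lit 5182) (.node (nat_lit 4964) (.node (nat_lit 4780) (.leaf (nat_lit 48)) (.node (nat_lit 4818) (.leaf (nat_lit 2)) (.leaf (nat_lit 48)))) (.node (nat_lit 5078) (.leaf (nat_lit 24)) (.node (nat_lit 5083) (.leaf (nat_lit 2)) (.leaf (nat_lit 24))))) (.node (nat_lit 5706) (.node (nat_lit 5479) (.leaf (nat_lit 3)) (.node (nat_lit 5522) (.leaf (nat_lit 2)) (.leaf (nat_lit 24)))) (.node (nat_lit 5908) (.node (nat_lit 5889) (.leaf (nat_lit 3)) (.leaf (nat_lit 24))) (.node (nat_lit 6348) (.leaf (nat_lit 48)) (.leaf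 (nat_lit 24)))))) (.node (nat_lit 7722) (.node (nat_lit 6693) (.node (nat_lit 6413) (.leaf (nat_lit 3)) (.node (nat_lit 6602) (.leaf (nat_lit 48)) (.leaf (nat_lit 3)))) (.node (nat_lit 7003) (.leaf (nat_lit 24)) (.node (nat_lit 7266) (.leaf (nat_lit 3)) (.leaf (nat_lit 48))))) (.node (nat_lit 8387) (.node (nat_lit 7887) (.leaf (nat_lit 2)) (.node (nat_lit 8362) (.leaf (nat_lit 24)) (.leaf (nat_lit 2)))) (.node (nat_lit 8887) (.node (nat_lit 8841) (.leaf (nat_lit 24)) (.leaf (nat_lit 2))) (.node (nat_lit 8901) (.leaf (nat_lit 3)) (.leaf (nat_lit 24)))))))) (.node (nat_lit 13382) (.node (nat_lit 11459) (.node (nat_lit 10087) (.node (nat_lit 9399) (.node (nat_lit 9201) (.leaf (nat_lit 48)) (.node (nat_lit 9303) (.leaf (nat_lit 24)) (.leaf (nat_lit 48)))) (.node (nat_lit 9834) (.leaf (nat_lit 3)) (.node (nat_lit 9886) (.leaf (nat_lit 2)) (.leaf (nat_lit 24))))) (.node (nat_lit 10935) (.node (nat_lit 10160)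 (.leaf (nat_lit 3)) (.node (nat_lit 10317) (.leaf (nat_lit 2)) (.leaf (nat_lit 24)))) (.node (nat_lit 11278) (.node (nat_lit 11004) (.leaf (nat_lit 2)) (.leaf (nat_lit 24))) (.node (nat_lit 11399) (.leaf (nat_lit 2)) (.leaf (nat_lit 24)))))) (.node (nat_lit 12503) (.node (nat_lit 11535) (.node (nat_lit 11465) (.leaf (nat_lit 2)) (.node (nat_lit 11519) (.leaf (nat_lit 48)) (.leaf (nat_lit 2)))) (.node (nat_lit 11861) (.leaf (nat_lit 3)) (.node (nat_lit 12464) (.leaf (nat_lit 24)) (.leaf (nat_lit 48))))) (.node (nat_lit 12840) (.node (nat_lit 12701) (.leaf (nat_lit 24)) (.node (nat_lit 12815) (.leaf (nat_lit 48)) (.leaf (nat_lit 2)))) (.node (nat_lit 13267) (.node (nat_lit 12949) (.leaf (nat_lit 48)) (.leaf (nat_lit 24))) (.node (nat_lit 13347) (.leaf (nat_lit 3)) (.leaf (nat_lit 24))))))) (.node (nat_lit 14945) (.node (nat_lit 14125) (.node (nat_lit 13761) (.node (nat_lit 13530) (.leaf (nat_lit 48))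 (.node (nat_lit 13742) (.leaf (nat_lit 24)) (.leaf (nat_lit 48)))) (.node (nat_lit 13893) (.leaf (nat_lit 24)) (.node (nat_lit 13973) (.leaf (nat_lit 48)) (.leaf (nat_lit 24))))) (.node (nat_lit 14485) (.node (nat_lit 14145) (.leaf (nat_lit 3)) (.node (nat_lit 14343) (.leaf (nat_lit 48)) (.leaf (nat_lit 2)))) (.node (nat_lit 14820) (.node (nat_lit 14652) (.leaf (nat_lit 48)) (.leaf (nat_lit 24))) (.node (nat_lit 14873) (.leaf (nat_lit 3)) (.leaf (nat_lit 24)))))) (.node (nat_lit 15937) (.node (nat_lit 15819) (.node (nat_lit 15046) (.leaf (nat_lit 48)) (.node (nat_lit 15613) (.leaf (nat_lit 24)) (.leaf (nat_lit 2)))) (.node (nat_lit 15880) (.leaf (nat_lit 24)) (.node (nat_lit 15923) (.leaf (nat_lit 2)) (.leaf (nat_lit 3))))) (.node (nat_lit 16419) (.node (nat_lit 16134) (.leaf (nat_lit 24)) (.node (nat_lit 16183) (.leaf (nat_lit 3)) (.leaf (nat_lit 24)))) (.node (nat_lit 16870) (.node (nat_lit 16693)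 (.leaf (nat_lit 2)) (.leaf (nat_lit 48))) (.node (nat_lit 16887) (.leaf (nat_lit 24)) (.leaf (nat_lit 2))))))))) (.node (nat_lit 25514) (.node (nat_lit 20716) (.node (nat_lit 18396) (.node (nat_lit 17464) (.node (nat_lit 17257) (.node (nat_lit 17028) (.leaf (nat_lit 24)) (.node (nat_lit 17138) (.leaf (nat_lit 48)) (.leaf (nat_lit 2)))) (.node (nat_lit 17364) (.leaf (nat_lit 24)) (.node (nat_lit 17393) (.leaf (nat_lit 48)) (.leaf (nat_lit 24))))) (.node (nat_lit 18084) (.node (nat_lit 17788) (.leaf (nat_lit 48)) (.node (nat_lit 17927) (.leaf (nat_lit 24)) (.leaf (nat_lit 2)))) (.node (nat_lit 18107) (.leaf (nat_lit 48)) (.node (nat_lit 18251) (.leaf (nat_lit 24)) (.leaf (nat_lit 48)))))) (.node (nat_lit 19374) (.node (nat_lit 19047) (.node (nat_lit 18967) (.leaf (nat_lit 2)) (.node (nat_lit 19028) (.leaf (nat_lit 0)) (.leaf (nat_lit 48)))) (.node (nat_lit 19051) (.leaf (nat_lit 2)) (.node (nat_lit 19368)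 (.leaf (nat_lit 24)) (.leaf (nat_lit 2))))) (.node (nat_lit 19965) (.node (nat_lit 19677) (.leaf (nat_lit 48)) (.node (nat_lit 19846) (.leaf (nat_lit 2)) (.leaf (nat_lit 3)))) (.node (nat_lit 20359) (.node (nat_lit 20357) (.leaf (nat_lit 24)) (.leaf (nat_lit 48))) (.node (nat_lit 20473) (.leaf (nat_lit 24)) (.leaf (nat_lit 48))))))) (.node (nat_lit 23208) (.node (nat_lit 21958) (.node (nat_lit 20940) (.node (nat_lit 20777) (.leaf (nat_lit 24)) (.node (nat_lit 20850) (.leaf (nat_lit 48)) (.leaf (nat_lit 24)))) (.node (nat_lit 21270) (.leaf (nat_lit 2)) (.node (nat_lit 21426) (.leaf (nat_lit 48)) (.leaf (nat_lit 24))))) (.node (nat_lit 23063) (.node (nat_lit 22558) (.leaf (nat_lit 2)) (.node (nat_lit 22690) (.leaf (nat_lit 48)) (.leaf (nat_lit 24)))) (.node (nat_lit 23129) (.node (nat_lit 23085) (.leaf (nat_lit 2)) (.leaf (nat_lit 24))) (.node (nat_lit 23136) (.leaf (nat_lit 48)) (.leaf (nat_lit 2))))))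 (.node (nat_lit 24452) (.node (nat_lit 24277) (.node (nat_lit 23221) (.leaf (nat_lit 48)) (.node (nat_lit 23589) (.leaf (nat_lit 3)) (.leaf (nat_lit 48)))) (.node (nat_lit 24310) (.leaf (nat_lit 24)) (.node (nat_lit 24376) (.leaf (nat_lit 48)) (.leaf (nat_lit 24))))) (.node (nat_lit 25034) (.node (nat_lit 24485) (.leaf (nat_lit 3)) (.node (nat_lit 24755) (.leaf (nat_lit 24)) (.leaf (nat_lit 3)))) (.node (nat_lit 25286) (.node (nat_lit 25232) (.leaf (nat_lit 24)) (.leaf (nat_lit 48))) (.node (nat_lit 25403) (.leaf (nat_lit 24)) (.leaf (nat_lit 2)))))))) (.node (nat_lit 30403) (.node (nat_lit 27115) (.node (nat_lit 26430) (.node (nat_lit 26004) (.node (nat_lit 25937) (.leaf (nat_lit 48)) (.node (nat_lit 25973) (.leaf (nat_lit 24)) (.leaf (nat_lit 2)))) (.node (nat_lit 26086) (.leaf (nat_lit 3)) (.node (nat_lit 26284) (.leaf (nat_lit 24)) (.leaf (nat_lit 2))))) (.node (nat_lit 26796) (.node (nat_lit 26608)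 (.leaf (nat_lit 24)) (.node (nat_lit 26746) (.leaf (nat_lit 2)) (.leaf (nat_lit 24)))) (.node (nat_lit 26923) (.node (nat_lit 26871) (.leaf (nat_lit 2)) (.leaf (nat_lit 24))) (.node (nat_lit 26971) (.leaf (nat_lit 3)) (.leaf (nat_lit 24)))))) (.node (nat_lit 28944) (.node (nat_lit 27917) (.node (nat_lit 27309) (.leaf (nat_lit 2)) (.node (nat_lit 27562) (.leaf (nat_lit 24)) (.leaf (nat_lit 48)))) (.node (nat_lit 28451) (.leaf (nat_lit 2)) (.node (nat_lit 28830) (.leaf (nat_lit 24)) (.leaf (nat_lit 48))))) (.node (nat_lit 29604) (.node (nat_lit 29190) (.leaf (nat_lit 24)) (.node (nat_lit 29253) (.leaf (nat_lit 48)) (.leaf (nat_lit 2)))) (.node (nat_lit 30038) (.node (nat_lit 29981) (.leaf (nat_lit 24)) (.leaf (nat_lit 3))) (.node (nat_lit 30383) (.leaf (nat_lit 24)) (.leaf (nat_lit 2))))))) (.node (nat_lit 32609) (.node (nat_lit 31764) (.node (nat_lit 31606) (.node (nat_lit 31109) (.leaf (nat_lit 48))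 (.node (nat_lit 31153) (.leaf (nat_lit 24)) (.leaf (nat_lit 48)))) (.node (nat_lit 31637) (.leaf (nat_lit 24)) (.node (nat_lit 31742) (.leaf (nat_lit 48)) (.leaf (nat_lit 24))))) (.node (nat_lit 32276) (.node (nat_lit 31857) (.leaf (nat_lit 2)) (.node (nat_lit 32270) (.leaf (nat_lit 24)) (.leaf (nat_lit 48)))) (.node (nat_lit 32314) (.node (nat_lit 32287) (.leaf (nat_lit 2)) (.leaf (nat_lit 3))) (.node (nat_lit 32607) (.leaf (nat_lit 24)) (.leaf (nat_lit 3)))))) (.node (nat_lit 32895) (.node (nat_lit 32780) (.node (nat_lit 32658) (.leaf (nat_lit 24)) (.node (nat_lit 32765) (.leaf (nat_lit 2)) (.leaf (nat_lit 48)))) (.node (nat_lit 32805) (.leaf (nat_lit 24)) (.node (nat_lit 32863) (.leaf (nat_lit 48)) (.leaf (nat_lit 24))))) (.node (nat_lit 33147) (.node (nat_lit 33100) (.leaf (nat_lit 48)) (.node (nat_lit 33145) (.leaf (nat_lit 2)) (.leaf (nat_lit 24)))) (.node (nat_lit 33497) (.node (nat_lit 33494)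 (.leaf (nat_lit 2)) (.leaf (nat_lit 48))) (.node (nat_lit 33821) (.leaf (nat_lit 24)) (.leaf (nat_lit 48)))))))))) (.node (nat_lit 49525) (.node (nat_lit 42044) (.node (nat_lit 38960) (.node (nat_lit 36390) (.node (nat_lit 34856) (.node (nat_lit 34561) (.node (nat_lit 34292) (.leaf (nat_lit 24)) (.node (nat_lit 34434) (.leaf (nat_lit 48)) (.leaf (nat_lit 24)))) (.node (nat_lit 34651) (.leaf (nat_lit 48)) (.node (nat_lit 34731) (.leaf (nat_lit 2)) (.leaf (nat_lit 24))))) (.node (nat_lit 35831) (.node (nat_lit 35317) (.leaf (nat_lit 2)) (.node (nat_lit 35670) (.leaf (nat_lit 24)) (.leaf (nat_lit 2)))) (.node (nat_lit 35871) (.leaf (nat_lit 48)) (.node (nat_lit 36192) (.leaf (nat_lit 2)) (.leaf (nat_lit 48)))))) (.node (nat_lit 37947) (.node (nat_lit 37639) (.node (nat_lit 37312) (.leaf (nat_lit 24)) (.node (nat_lit 37627) (.leaf (nat_lit 3)) (.leaf (nat_lit 24)))) (.node (nat_lit 37649) (.leaf (nat_lit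 2)) (.node (nat_lit 37678) (.leaf (nat_lit 48)) (.leaf (nat_lit 24))))) (.node (nat_lit 38647) (.node (nat_lit 38192) (.leaf (nat_lit 48)) (.node (nat_lit 38429) (.leaf (nat_lit 2)) (.leaf (nat_lit 24)))) (.node (nat_lit 38728) (.node (nat_lit 38666) (.leaf (nat_lit 48)) (.leaf (nat_lit 2))) (.node (nat_lit 38753) (.leaf (nat_lit 24)) (.leaf (nat_lit 48))))))) (.node (nat_lit 40663) (.node (nat_lit 39866) (.node (nat_lit 39132) (.node (nat_lit 39043) (.leaf (nat_lit 2)) (.node (nat_lit 39085) (.leaf (nat_lit 48)) (.leaf (nat_lit 24)))) (.node (nat_lit 39134) (.leaf (nat_lit 48)) (.node (nat_lit 39857) (.leaf (nat_lit 3)) (.leaf (nat_lit 2))))) (.node (nat_lit 40076) (.node (nat_lit 39916) (.leaf (nat_lit 48)) (.node (nat_lit 39972) (.leaf (nat_lit 2)) (.leaf (nat_lit 24)))) (.node (nat_lit 40216) (.node (nat_lit 40128) (.leaf (nat_lit 48)) (.leaf (nat_lit 24))) (.node (nat_lit 40385) (.leaf (nat_lit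 2)) (.leaf (nat_lit 24)))))) (.node (nat_lit 41251) (.node (nat_lit 41153) (.node (nat_lit 40845) (.leaf (nat_lit 48)) (.node (nat_lit 41151) (.leaf (nat_lit 24)) (.leaf (nat_lit 3)))) (.node (nat_lit 41157) (.leaf (nat_lit 24)) (.node (nat_lit 41190) (.leaf (nat_lit 48)) (.leaf (nat_lit 24))))) (.node (nat_lit 41539) (.node (nat_lit 41304) (.leaf (nat_lit 3)) (.node (nat_lit 41525) (.leaf (nat_lit 24)) (.leaf (nat_lit 2)))) (.node (nat_lit 41982) (.node (nat_lit 41700) (.leaf (nat_lit 24)) (.leaf (nat_lit 48))) (.node (nat_lit 42012) (.leaf (nat_lit 2)) (.leaf (nat_lit 24)))))))) (.node (nat_lit 45445) (.node (nat_lit 43413) (.node (nat_lit 42435) (.node (nat_lit 42277) (.node (nat_lit 42117) (.leaf (nat_lit 48)) (.node (nat_lit 42236) (.leaf (nat_lit 24)) (.leaf (nat_lit 2)))) (.node (nat_lit 42356) (.leaf (nat_lit 48)) (.node (nat_lit 42414) (.leaf (nat_lit 3)) (.leaf (nat_lit 2))))) (.node (nat_lit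 42739) (.node (nat_lit 42449) (.leaf (nat_lit 24)) (.node (nat_lit 42541) (.leaf (nat_lit 48)) (.leaf (nat_lit 3)))) (.node (nat_lit 43116) (.node (nat_lit 43052) (.leaf (nat_lit 48)) (.leaf (nat_lit 24))) (.node (nat_lit 43342) (.leaf (nat_lit 48)) (.leaf (nat_lit 3)))))) (.node (nat_lit 44127) (.node (nat_lit 43884) (.node (nat_lit 43536) (.leaf (nat_lit 2)) (.node (nat_lit 43818) (.leaf (nat_lit 48)) (.leaf (nat_lit 24)))) (.node (nat_lit 43926) (.leaf (nat_lit 2)) (.node (nat_lit 44121) (.leaf (nat_lit 48)) (.leaf (nat_lit 24))))) (.node (nat_lit 44875) (.node (nat_lit 44214) (.leaf (nat_lit 3)) (.node (nat_lit 44378) (.leaf (nat_lit 24)) (.leaf (nat_lit 2)))) (.node (nat_lit 45051) (.node (nat_lit 44936) (.leaf (nat_lit 3)) (.leaf (nat_lit 2))) (.node (nat_lit 45367) (.leaf (nat_lit 24)) (.leaf (nat_lit 2))))))) (.node (nat_lit 47138) (.node (nat_lit 46033) (.node (nat_lit 45659) (.node (nat_lit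 45579) (.leaf (nat_lit 24)) (.node (nat_lit 45604) (.leaf (nat_lit 3)) (.leaf (nat_lit 2)))) (.node (nat_lit 45717) (.leaf (nat_lit 24)) (.node (nat_lit 45818) (.leaf (nat_lit 3)) (.leaf (nat_lit 24))))) (.node (nat_lit 46524) (.node (nat_lit 46496) (.leaf (nat_lit 48)) (.node (nat_lit 46521) (.leaf (nat_lit 2)) (.leaf (nat_lit 48)))) (.node (nat_lit 46989) (.node (nat_lit 46567) (.leaf (nat_lit 24)) (.leaf (nat_lit 3))) (.node (nat_lit 47116) (.leaf (nat_lit 48)) (.leaf (nat_lit 24)))))) (.node (nat_lit 48248) (.node (nat_lit 47412) (.node (nat_lit 47143) (.leaf (nat_lit 3)) (.node (nat_lit 47399) (.leaf (nat_lit 48)) (.leaf (nat_lit 24)))) (.node (nat_lit 47512) (.leaf (nat_lit 48)) (.node (nat_lit 48086) (.leaf (nat_lit 24)) (.leaf (nat_lit 2))))) (.node (nat_lit 48668) (.node (nat_lit 48318) (.leaf (nat_lit 24)) (.node (nat_lit 48336) (.leaf (nat_lit 48)) (.leaf (nat_lit 3)))) (.node (nat_lit 48770)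 (.node (nat_lit 48706) (.leaf (nat_lit 2)) (.leaf (nat_lit 24))) (.node (nat_lit 49418) (.leaf (nat_lit 48)) (.leaf (nat_lit 24))))))))) (.node (nat_lit 57840) (.node (nat_lit 53436) (.node (nat_lit 51716) (.node (nat_lit 50440) (.node (nat_lit 49869) (.node (nat_lit 49560) (.leaf (nat_lit 2)) (.node (nat_lit 49683) (.leaf (nat_lit 24)) (.leaf (nat_lit 3)))) (.node (nat_lit 49976) (.leaf (nat_lit 48)) (.node (nat_lit 50215) (.leaf (nat_lit 2)) (.leaf (nat_lit 24))))) (.node (nat_lit 50652) (.node (nat_lit 50499) (.leaf (nat_lit 3)) (.node (nat_lit 50547) (.leaf (nat_lit 48)) (.leaf (nat_lit 2)))) (.node (nat_lit 51170) (.node (nat_lit 50689) (.leaf (nat_lit 24)) (.leaf (nat_lit 48))) (.node (nat_lit 51635) (.leaf (nat_lit 24)) (.leaf (nat_lit 48)))))) (.node (nat_lit 52519) (.node (nat_lit 51840) (.node (nat_lit 51742) (.leaf (nat_lit 24)) (.node (nat_lit 51790) (.leaf (nat_lit 3)) (.leaf (nat_lit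 24)))) (.node (nat_lit 51916) (.leaf (nat_lit 48)) (.node (nat_lit 52420) (.leaf (nat_lit 24)) (.leaf (nat_lit 2))))) (.node (nat_lit 52783) (.node (nat_lit 52610) (.leaf (nat_lit 48)) (.node (nat_lit 52646) (.leaf (nat_lit 3)) (.leaf (nat_lit 24)))) (.node (nat_lit 53077) (.node (nat_lit 53047) (.leaf (nat_lit 2)) (.leaf (nat_lit 24))) (.node (nat_lit 53271) (.leaf (nat_lit 2)) (.leaf (nat_lit 24))))))) (.node (nat_lit 55386) (.node (nat_lit 54591) (.node (nat_lit 54023) (.node (nat_lit 53521) (.leaf (nat_lit 2)) (.node (nat_lit 53874) (.leaf (nat_lit 24)) (.leaf (nat_lit 48)))) (.node (nat_lit 54082) (.leaf (nat_lit 3)) (.node (nat_lit 54497) (.leaf (nat_lit 24)) (.leaf (nat_lit 48))))) (.node (nat_lit 54819) (.node (nat_lit 54665) (.leaf (nat_lit 2)) (.node (nat_lit 54668) (.leaf (nat_lit 24)) (.leaf (nat_lit 2)))) (.node (nat_lit 54941) (.node (nat_lit 54931) (.leaf (nat_lit 48)) (.leaf (nat_lit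 24))) (.node (nat_lit 55151) (.leaf (nat_lit 48)) (.leaf (nat_lit 24)))))) (.node (nat_lit 56668) (.node (nat_lit 56050) (.node (nat_lit 55707) (.leaf (nat_lit 3)) (.node (nat_lit 55815) (.leaf (nat_lit 24)) (.leaf (nat_lit 3)))) (.node (nat_lit 56073) (.leaf (nat_lit 24)) (.node (nat_lit 56463) (.leaf (nat_lit 48)) (.leaf (nat_lit 3))))) (.node (nat_lit 57338) (.node (nat_lit 56934) (.leaf (nat_lit 24)) (.node (nat_lit 57099) (.leaf (nat_lit 48)) (.leaf (nat_lit 2)))) (.node (nat_lit 57747) (.node (nat_lit 57394) (.leaf (nat_lit 48)) (.leaf (nat_lit 24))) (.node (nat_lit 57811) (.leaf (nat_lit 3)) (.leaf (nat_lit 24)))))))) (.node (nat_lit 62649) (.node (nat_lit 61544) (.node (nat_lit 59441) (.node (nat_lit 58161) (.node (nat_lit 57863) (.leaf (nat_lit 3)) (.node (nat_lit 58153) (.leaf (nat_lit 24)) (.leaf (nat_lit 48)))) (.node (nat_lit 58991) (.leaf (nat_lit 24)) (.node (nat_lit 59060) (.leaf (nat_lit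 48)) (.leaf (nat_lit 24))))) (.node (nat_lit 59495) (.node (nat_lit 59444) (.leaf (nat_lit 48)) (.node (nat_lit 59447) (.leaf (nat_lit 2)) (.leaf (nat_lit 24)))) (.node (nat_lit 60475) (.node (nat_lit 59646) (.leaf (nat_lit 2)) (.leaf (nat_lit 24))) (.node (nat_lit 60777) (.leaf (nat_lit 2)) (.leaf (nat_lit 24)))))) (.node (nat_lit 62028) (.node (nat_lit 61778) (.node (nat_lit 61684) (.leaf (nat_lit 48)) (.node (nat_lit 61689) (.leaf (nat_lit 24)) (.leaf (nat_lit 48)))) (.node (nat_lit 61842) (.leaf (nat_lit 24)) (.node (nat_lit 61843) (.leaf (nat_lit 3)) (.leaf (nat_lit 24))))) (.node (nat_lit 62516) (.node (nat_lit 62238) (.leaf (nat_lit 48)) (.node (nat_lit 62400) (.leaf (nat_lit 2)) (.leaf (nat_lit 48)))) (.node (nat_lit 62531) (.node (nat_lit 62525) (.leaf (nat_lit 24)) (.leaf (nat_lit 48))) (.node (nat_lit 62542) (.leaf (nat_lit 24)) (.leaf (nat_lit 3))))))) (.node (nat_lit 64776) (.node (nat_lit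 63672) (.node (nat_lit 63183) (.node (nat_lit 62937) (.leaf (nat_lit 2)) (.node (nat_lit 63075) (.leaf (nat_lit 24)) (.leaf (nat_lit 3)))) (.node (nat_lit 63212) (.leaf (nat_lit 2)) (.node (nat_lit 63554) (.leaf (nat_lit 48)) (.leaf (nat_lit 24))))) (.node (nat_lit 64200) (.node (nat_lit 63693) (.leaf (nat_lit 2)) (.node (nat_lit 64052) (.leaf (nat_lit 24)) (.leaf (nat_lit 48)))) (.node (nat_lit 64625) (.node (nat_lit 64429) (.leaf (nat_lit 3)) (.leaf (nat_lit 48))) (.node (nat_lit 64742) (.leaf (nat_lit 24)) (.leaf (nat_lit 3)))))) (.node (nat_lit 65459) (.node (nat_lit 65122) (.node (nat_lit 64876) (.leaf (nat_lit 48)) (.node (nat_lit 64973) (.leaf (nat_lit 24)) (.leaf (nat_lit 48)))) (.node (nat_lit 65273) (.leaf (nat_lit 24)) (.node (nat_lit 65379) (.leaf (nat_lit 48)) (.leaf (nat_lit 24))))) (.node (nat_lit 65725) (.node (nat_lit 65533) (.leaf (nat_lit 2)) (.node (nat_lit 65540) (.leaf (nat_lit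 24)) (.leaf (nat_lit 2)))) (.node (nat_lit 65856) (.node (nat_lit 65808) (.leaf (nat_lit 48)) (.leaf (nat_lit 3))) (.node (nat_lit 65859) (.leaf (nat_lit 48)) (.leaf (nat_lit 3))))))))))) (.node (nat_lit 95801) (.node (nat_lit 81327) (.node (nat_lit 73697) (.node (nat_lit 70249) (.node (nat_lit 67251) (.node (nat_lit 66671) (.node (nat_lit 66233) (.node (nat_lit 66080) (.leaf (nat_lit 24)) (.node (nat_lit 66155) (.leaf (nat_lit 3)) (.leaf (nat_lit 24)))) (.node (nat_lit 66396) (.leaf (nat_lit 48)) (.node (nat_lit 66409) (.leaf (nat_lit 24)) (.leaf (nat_lit 48))))) (.node (nat_lit 67058) (.node (nat_lit 66680) (.leaf (nat_lit 3)) (.node (nat_lit 67055) (.leaf (nat_lit 2)) (.leaf (nat_lit 24)))) (.node (nat_lit 67086) (.leaf (nat_lit 48)) (.node (nat_lit 67095) (.leaf (nat_lit 24)) (.leaf (nat_lit 48)))))) (.node (nat_lit 68647) (.node (nat_lit 67871) (.node (nat_lit 67361) (.leaf (nat_lit 24)) (.node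 (nat_lit 67385) (.leaf (nat_lit 2)) (.leaf (nat_lit 24)))) (.node (nat_lit 67962) (.leaf (nat_lit 2)) (.node (nat_lit 68057) (.leaf (nat_lit 24)) (.leaf (nat_lit 48))))) (.node (nat_lit 69183) (.node (nat_lit 68795) (.leaf (nat_lit 2)) (.node (nat_lit 68941) (.leaf (nat_lit 3)) (.leaf (nat_lit 48)))) (.node (nat_lit 69782) (.node (nat_lit 69658) (.leaf (nat_lit 2)) (.leaf (nat_lit 24))) (.node (nat_lit 70110) (.leaf (nat_lit 2)) (.leaf (nat_lit 48))))))) (.node (nat_lit 72008) (.node (nat_lit 71094) (.node (nat_lit 70449) (.node (nat_lit 70255) (.leaf (nat_lit 24)) (.node (nat_lit 70274) (.leaf (nat_lit 2)) (.leaf (nat_lit 3)))) (.node (nat_lit 70819) (.leaf (nat_lit 48)) (.node (nat_lit 71010) (.leaf (nat_lit 24)) (.leaf (nat_lit 48))))) (.node (nat_lit 71655) (.node (nat_lit 71216) (.leaf (nat_lit 24)) (.node (nat_lit 71305) (.leaf (nat_lit 3)) (.leaf (nat_lit 48)))) (.node (nat_lit 71937) (.node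 (nat_lit 71804) (.leaf (nat_lit 2)) (.leaf (nat_lit 48))) (.node (nat_lit 71997) (.leaf (nat_lit 24)) (.leaf (nat_lit 48)))))) (.node (nat_lit 72796) (.node (nat_lit 72372) (.node (nat_lit 72139) (.leaf (nat_lit 3)) (.node (nat_lit 72208) (.leaf (nat_lit 24)) (.leaf (nat_lit 48)))) (.node (nat_lit 72592) (.leaf (nat_lit 24)) (.node (nat_lit 72680) (.leaf (nat_lit 3)) (.leaf (nat_lit 48))))) (.node (nat_lit 73241) (.node (nat_lit 72848) (.leaf (nat_lit 24)) (.node (nat_lit 73008) (.leaf (nat_lit 48)) (.leaf (nat_lit 24)))) (.node (nat_lit 73353) (.node (nat_lit 73267) (.leaf (nat_lit 2)) (.leaf (nat_lit 3))) (.node (nat_lit 73475) (.leaf (nat_lit 48)) (.leaf (nat_lit 24)))))))) (.node (nat_lit 76917) (.node (nat_lit 75073) (.node (nat_lit 74485) (.node (nat_lit 74109) (.node (nat_lit 73794) (.leaf (nat_lit 48)) (.node (nat_lit 73840) (.leaf (nat_lit 3)) (.leaf (nat_lit 24)))) (.node (nat_lit 74171)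 (.leaf (nat_lit 48)) (.node (nat_lit 74308) (.leaf (nat_lit 3)) (.leaf (nat_lit 48))))) (.node (nat_lit 74970) (.node (nat_lit 74730) (.leaf (nat_lit 3)) (.node (nat_lit 74866) (.leaf (nat_lit 48)) (.leaf (nat_lit 24)))) (.node (nat_lit 75040) (.node (nat_lit 74984) (.leaf (nat_lit 48)) (.leaf (nat_lit 3))) (.node (nat_lit 75068) (.leaf (nat_lit 48)) (.leaf (nat_lit 24)))))) (.node (nat_lit 76401) (.node (nat_lit 75223) (.node (nat_lit 75190) (.leaf (nat_lit 2)) (.node (nat_lit 75215) (.leaf (nat_lit 3)) (.leaf (nat_lit 48)))) (.node (nat_lit 76215) (.leaf (nat_lit 3)) (.node (nat_lit 76367) (.leaf (nat_lit 24)) (.leaf (nat_lit 3))))) (.node (nat_lit 76584) (.node (nat_lit 76502) (.leaf (nat_lit 48)) (.node (nat_lit 76576) (.leaf (nat_lit 24)) (.leaf (nat_lit 2)))) (.node (nat_lit 76639) (.node (nat_lit 76605) (.leaf (nat_lit 24)) (.leaf (nat_lit 48))) (.node (nat_lit 76730) (.leaf (nat_lit 24)) (.leaf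 (nat_lit 48))))))) (.node (nat_lit 79455) (.node (nat_lit 77345) (.node (nat_lit 77024) (.node (nat_lit 76981) (.leaf (nat_lit 3)) (.node (nat_lit 76985) (.leaf (nat_lit 2)) (.leaf (nat_lit 48)))) (.node (nat_lit 77079) (.leaf (nat_lit 2)) (.node (nat_lit 77234) (.leaf (nat_lit 24)) (.leaf (nat_lit 3))))) (.node (nat_lit 78492) (.node (nat_lit 78296) (.leaf (nat_lit 24)) (.node (nat_lit 78478) (.leaf (nat_lit 48)) (.leaf (nat_lit 24)))) (.node (nat_lit 78581) (.node (nat_lit 78526) (.leaf (nat_lit 3)) (.leaf (nat_lit 2))) (.node (nat_lit 79022) (.leaf (nat_lit 24)) (.leaf (nat_lit 2)))))) (.node (nat_lit 80449) (.node (nat_lit 80162) (.node (nat_lit 79666) (.leaf (nat_lit 48)) (.node (nat_lit 79807) (.leaf (nat_lit 3)) (.leaf (nat_lit 24)))) (.node (nat_lit 80266) (.leaf (nat_lit 3)) (.node (nat_lit 80303) (.leaf (nat_lit 48)) (.leaf (nat_lit 2))))) (.node (nat_lit 80881) (.node (nat_lit 80490) (.leaf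 (nat_lit 48)) (.node (nat_lit 80713) (.leaf (nat_lit 24)) (.leaf (nat_lit 48)))) (.node (nat_lit 81087) (.node (nat_lit 80965) (.leaf (nat_lit 24)) (.leaf (nat_lit 48))) (.node (nat_lit 81105) (.leaf (nat_lit 3)) (.leaf (nat_lit 48))))))))) (.node (nat_lit 89087) (.node (nat_lit 85078) (.node (nat_lit 82526) (.node (nat_lit 81931) (.node (nat_lit 81690) (.node (nat_lit 81340) (.leaf (nat_lit 2)) (.node (nat_lit 81393) (.leaf (nat_lit 3)) (.leaf (nat_lit 24)))) (.node (nat_lit 81765) (.leaf (nat_lit 3)) (.node (nat_lit 81877) (.leaf (nat_lit 2)) (.leaf (nat_lit 24))))) (.node (nat_lit 82200) (.node (nat_lit 82033) (.leaf (nat_lit 48)) (.node (nat_lit 82182) (.leaf (nat_lit 24)) (.leaf (nat_lit 2)))) (.node (nat_lit 82309) (.node (nat_lit 82258) (.leaf (nat_lit 24)) (.leaf (nat_lit 2))) (.node (nat_lit 82457) (.leaf (nat_lit 48)) (.leaf (nat_lit 24)))))) (.node (nat_lit 84136) (.node (nat_lit 83738)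 (.node (nat_lit 82530) (.leaf (nat_lit 3)) (.node (nat_lit 83032) (.leaf (nat_lit 48)) (.leaf (nat_lit 24)))) (.node (nat_lit 83867) (.leaf (nat_lit 48)) (.node (nat_lit 84008) (.leaf (nat_lit 24)) (.leaf (nat_lit 2))))) (.node (nat_lit 84678) (.node (nat_lit 84370) (.leaf (nat_lit 24)) (.node (nat_lit 84416) (.leaf (nat_lit 48)) (.leaf (nat_lit 24)))) (.node (nat_lit 84842) (.node (nat_lit 84688) (.leaf (nat_lit 48)) (.leaf (nat_lit 2))) (.node (nat_lit 84939) (.leaf (nat_lit 48)) (.leaf (nat_lit 3))))))) (.node (nat_lit 86876) (.node (nat_lit 85988) (.node (nat_lit 85451) (.node (nat_lit 85160) (.leaf (nat_lit 24)) (.node (nat_lit 85365) (.leaf (nat_lit 48)) (.leaf (nat_lit 24)))) (.node (nat_lit 85625) (.leaf (nat_lit 3)) (.node (nat_lit 85752) (.leaf (nat_lit 2)) (.leaf (nat_lit 24))))) (.node (nat_lit 86373) (.node (nat_lit 85989) (.leaf (nat_lit 3)) (.node (nat_lit 86199) (.leaf (nat_lit 24))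 (.leaf (nat_lit 2)))) (.node (nat_lit 86554) (.node (nat_lit 86484) (.leaf (nat_lit 48)) (.leaf (nat_lit 2))) (.node (nat_lit 86811) (.leaf (nat_lit 3)) (.leaf (nat_lit 24)))))) (.node (nat_lit 88149) (.node (nat_lit 87359) (.node (nat_lit 87087) (.leaf (nat_lit 3)) (.node (nat_lit 87214) (.leaf (nat_lit 24)) (.leaf (nat_lit 48)))) (.node (nat_lit 87432) (.leaf (nat_lit 2)) (.node (nat_lit 87633) (.leaf (nat_lit 24)) (.leaf (nat_lit 48))))) (.node (nat_lit 88646) (.node (nat_lit 88412) (.leaf (nat_lit 24)) (.node (nat_lit 88576) (.leaf (nat_lit 2)) (.leaf (nat_lit 48)))) (.node (nat_lit 88854) (.node (nat_lit 88697) (.leaf (nat_lit 3)) (.leaf (nat_lit 48))) (.node (nat_lit 89022) (.leaf (nat_lit 24)) (.leaf (nat_lit 48)))))))) (.node (nat_lit 92412) (.node (nat_lit 90255) (.node (nat_lit 89396) (.node (nat_lit 89238) (.node (nat_lit 89102) (.leaf (nat_lit 3)) (.node (nat_lit 89177) (.leaf (nat_lit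 24)) (.leaf (nat_lit 48)))) (.node (nat_lit 89283) (.leaf (nat_lit 24)) (.node (nat_lit 89331) (.leaf (nat_lit 2)) (.leaf (nat_lit 24))))) (.node (nat_lit 89927) (.node (nat_lit 89413) (.leaf (nat_lit 2)) (.node (nat_lit 89541) (.leaf (nat_lit 48)) (.leaf (nat_lit 24)))) (.node (nat_lit 90073) (.node (nat_lit 89929) (.leaf (nat_lit 48)) (.leaf (nat_lit 24))) (.node (nat_lit 90085) (.leaf (nat_lit 48)) (.leaf (nat_lit 24)))))) (.node (nat_lit 91032) (.node (nat_lit 90619) (.node (nat_lit 90303) (.leaf (nat_lit 48)) (.node (nat_lit 90474) (.leaf (nat_lit 24)) (.leaf (nat_lit 2)))) (.node (nat_lit 90643) (.leaf (nat_lit 48)) (.node (nat_lit 91021) (.leaf (nat_lit 2)) (.leaf (nat_lit 24))))) (.node (nat_lit 91256) (.node (nat_lit 91078) (.leaf (nat_lit 3)) (.node (nat_lit 91218) (.leaf (nat_lit 24)) (.leaf (nat_lit 48)))) (.node (nat_lit 91907) (.node (nat_lit 91284) (.leaf (nat_lit 2)) (.leaf (nat_lit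 24))) (.node (nat_lit 92022) (.leaf (nat_lit 48)) (.leaf (nat_lit 3))))))) (.node (nat_lit 94241) (.node (nat_lit 92941) (.node (nat_lit 92666) (.node (nat_lit 92568) (.leaf (nat_lit 24)) (.node (nat_lit 92617) (.leaf (nat_lit 3)) (.leaf (nat_lit 24)))) (.node (nat_lit 92691) (.leaf (nat_lit 48)) (.node (nat_lit 92807) (.leaf (nat_lit 24)) (.leaf (nat_lit 3))))) (.node (nat_lit 93743) (.node (nat_lit 92970) (.leaf (nat_lit 48)) (.node (nat_lit 93534) (.leaf (nat_lit 24)) (.leaf (nat_lit 48)))) (.node (nat_lit 93903) (.node (nat_lit 93891) (.leaf (nat_lit 24)) (.leaf (nat_lit 2))) (.node (nat_lit 94018) (.leaf (nat_lit 3)) (.leaf (nat_lit 24)))))) (.node (nat_lit 94979) (.node (nat_lit 94675) (.node (nat_lit 94316) (.leaf (nat_lit 48)) (.node (nat_lit 94505) (.leaf (nat_lit 2)) (.leaf (nat_lit 24)))) (.node (nat_lit 94825) (.leaf (nat_lit 48)) (.node (nat_lit 94971) (.leaf (nat_lit 24)) (.leaf (nat_lit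 48))))) (.node (nat_lit 95478) (.node (nat_lit 95296) (.leaf (nat_lit 24)) (.node (nat_lit 95395) (.leaf (nat_lit 3)) (.leaf (nat_lit 48)))) (.node (nat_lit 95529) (.node (nat_lit 95512) (.leaf (nat_lit 3)) (.leaf (nat_lit 24))) (.node (nat_lit 95609) (.leaf (nat_lit 2)) (.leaf (nat_lit 24)))))))))) (.node (nat_lit 114325) (.node (nat_lit 103998) (.node (nat_lit 99174) (.node (nat_lit 97834) (.node (nat_lit 96998) (.node (nat_lit 96214) (.node (nat_lit 95821) (.leaf (nat_lit 2)) (.node (nat_lit 96211) (.leaf (nat_lit 24)) (.leaf (nat_lit 2)))) (.node (nat_lit 96240) (.leaf (nat_lit 24)) (.node (nat_lit 96241) (.leaf (nat_lit 48)) (.leaf (nat_lit 24))))) (.node (nat_lit 97730) (.node (nat_lit 97086) (.leaf (nat_lit 48)) (.node (nat_lit 97272) (.leaf (nat_lit 2)) (.leaf (nat_lit 48)))) (.node (nat_lit 97750) (.leaf (nat_lit 2)) (.node (nat_lit 97765) (.leaf (nat_lit 24)) (.leaf (nat_lit 48)))))) (.node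 (nat_lit 98673) (.node (nat_lit 98097) (.node (nat_lit 97926) (.leaf (nat_lit 24)) (.node (nat_lit 98048) (.leaf (nat_lit 48)) (.leaf (nat_lit 24)))) (.node (nat_lit 98373) (.leaf (nat_lit 48)) (.node (nat_lit 98386) (.leaf (nat_lit 2)) (.leaf (nat_lit 24))))) (.node (nat_lit 98779) (.node (nat_lit 98683) (.leaf (nat_lit 2)) (.node (nat_lit 98740) (.leaf (nat_lit 24)) (.leaf (nat_lit 48)))) (.node (nat_lit 99028) (.node (nat_lit 98822) (.leaf (nat_lit 3)) (.leaf (nat_lit 24))) (.node (nat_lit 99112) (.leaf (nat_lit 48)) (.leaf (nat_lit 24))))))) (.node (nat_lit 101359) (.node (nat_lit 99854) (.node (nat_lit 99565) (.node (nat_lit 99287) (.leaf (nat_lit 3)) (.node (nat_lit 99320) (.leaf (nat_lit 48)) (.leaf (nat_lit 3)))) (.node (nat_lit 99659) (.leaf (nat_lit 48)) (.node (nat_lit 99827) (.leaf (nat_lit 24)) (.leaf (nat_lit 3))))) (.node (nat_lit 100031) (.node (nat_lit 99885) (.leaf (nat_lit 24)) (.node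 (nat_lit 99955) (.leaf (nat_lit 3)) (.leaf (nat_lit 24)))) (.node (nat_lit 100699) (.node (nat_lit 100407) (.leaf (nat_lit 48)) (.leaf (nat_lit 24))) (.node (nat_lit 101324) (.leaf (nat_lit 2)) (.leaf (nat_lit 48)))))) (.node (nat_lit 103087) (.node (nat_lit 101807) (.node (nat_lit 101567) (.leaf (nat_lit 24)) (.node (nat_lit 101648) (.leaf (nat_lit 48)) (.leaf (nat_lit 2)))) (.node (nat_lit 102184) (.leaf (nat_lit 24)) (.node (nat_lit 102457) (.leaf (nat_lit 2)) (.leaf (nat_lit 24))))) (.node (nat_lit 103474) (.node (nat_lit 103191) (.leaf (nat_lit 2)) (.node (nat_lit 103275) (.leaf (nat_lit 24)) (.leaf (nat_lit 3)))) (.node (nat_lit 103785) (.node (nat_lit 103523) (.leaf (nat_lit 48)) (.leaf (nat_lit 2))) (.node (nat_lit 103852) (.leaf (nat_lit 48)) (.leaf (nat_lit 2)))))))) (.node (nat_lit 110086) (.node (nat_lit 107574) (.node (nat_lit 105900) (.node (nat_lit 104903) (.node (nat_lit 104078) (.leaf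 (nat_lit 48)) (.node (nat_lit 104640) (.leaf (nat_lit 24)) (.leaf (nat_lit 48)))) (.node (nat_lit 105370) (.leaf (nat_lit 24)) (.node (nat_lit 105740) (.leaf (nat_lit 3)) (.leaf (nat_lit 2))))) (.node (nat_lit 106457) (.node (nat_lit 105970) (.leaf (nat_lit 48)) (.node (nat_lit 106350) (.leaf (nat_lit 24)) (.leaf (nat_lit 48)))) (.node (nat_lit 106926) (.node (nat_lit 106630) (.leaf (nat_lit 24)) (.leaf (nat_lit 3))) (.node (nat_lit 107513) (.leaf (nat_lit 2)) (.leaf (nat_lit 24)))))) (.node (nat_lit 108764) (.node (nat_lit 108124) (.node (nat_lit 107604) (.leaf (nat_lit 48)) (.node (nat_lit 107874) (.leaf (nat_lit 2)) (.leaf (nat_lit 48)))) (.node (nat_lit 108230) (.leaf (nat_lit 2)) (.node (nat_lit 108697) (.leaf (nat_lit 24)) (.leaf (nat_lit 48))))) (.node (nat_lit 109442) (.node (nat_lit 109284) (.leaf (nat_lit 24)) (.node (nat_lit 109413) (.leaf (nat_lit 2)) (.leaf (nat_lit 24)))) (.node (nat_lit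 109608) (.node (nat_lit 109587) (.leaf (nat_lit 2)) (.leaf (nat_lit 3))) (.node (nat_lit 110026) (.leaf (nat_lit 24)) (.leaf (nat_lit 3))))))) (.node (nat_lit 112528) (.node (nat_lit 110852) (.node (nat_lit 110405) (.node (nat_lit 110124) (.leaf (nat_lit 24)) (.node (nat_lit 110176) (.leaf (nat_lit 48)) (.leaf (nat_lit 3)))) (.node (nat_lit 110815) (.leaf (nat_lit 24)) (.node (nat_lit 110835) (.leaf (nat_lit 2)) (.leaf (nat_lit 3))))) (.node (nat_lit 111237) (.node (nat_lit 110980) (.leaf (nat_lit 48)) (.node (nat_lit 111027) (.leaf (nat_lit 3)) (.leaf (nat_lit 48)))) (.node (nat_lit 111583) (.node (nat_lit 111355) (.leaf (nat_lit 2)) (.leaf (nat_lit 3))) (.node (nat_lit 112525) (.leaf (nat_lit 48)) (.leaf (nat_lit 24)))))) (.node (nat_lit 113284) (.node (nat_lit 112720) (.node (nat_lit 112555) (.leaf (nat_lit 3)) (.node (nat_lit 112575) (.leaf (nat_lit 48)) (.leaf (nat_lit 3)))) (.node (nat_lit 112778)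 (.leaf (nat_lit 48)) (.node (nat_lit 113266) (.leaf (nat_lit 24)) (.leaf (nat_lit 48))))) (.node (nat_lit 113549) (.node (nat_lit 113311) (.leaf (nat_lit 2)) (.node (nat_lit 113393) (.leaf (nat_lit 24)) (.leaf (nat_lit 48)))) (.node (nat_lit 113999) (.node (nat_lit 113650) (.leaf (nat_lit 24)) (.leaf (nat_lit 48))) (.node (nat_lit 114061) (.leaf (nat_lit 24)) (.leaf (nat_lit 48))))))))) (.node (nat_lit 123736) (.node (nat_lit 119334) (.node (nat_lit 116749) (.node (nat_lit 115501) (.node (nat_lit 114940) (.node (nat_lit 114466) (.leaf (nat_lit 24)) (.node (nat_lit 114569) (.leaf (nat_lit 48)) (.leaf (nat_lit 24)))) (.node (nat_lit 115115) (.leaf (nat_lit 48)) (.node (nat_lit 115461) (.leaf (nat_lit 24)) (.leaf (nat_lit 2))))) (.node (nat_lit 116106) (.node (nat_lit 115761) (.leaf (nat_lit 3)) (.node (nat_lit 116050) (.leaf (nat_lit 24)) (.leaf (nat_lit 48)))) (.node (nat_lit 116498) (.node (nat_lit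 116459) (.leaf (nat_lit 24)) (.leaf (nat_lit 2))) (.node (nat_lit 116659) (.leaf (nat_lit 24)) (.leaf (nat_lit 2)))))) (.node (nat_lit 117770) (.node (nat_lit 117358) (.node (nat_lit 117188) (.leaf (nat_lit 48)) (.node (nat_lit 117309) (.leaf (nat_lit 2)) (.leaf (nat_lit 24)))) (.node (nat_lit 117447) (.leaf (nat_lit 3)) (.node (nat_lit 117721) (.leaf (nat_lit 48)) (.leaf (nat_lit 24))))) (.node (nat_lit 118466) (.node (nat_lit 117803) (.leaf (nat_lit 3)) (.node (nat_lit 118195) (.leaf (nat_lit 48)) (.leaf (nat_lit 2)))) (.node (nat_lit 118657) (.node (nat_lit 118575) (.leaf (nat_lit 24)) (.leaf (nat_lit 48))) (.node (nat_lit 119236) (.leaf (nat_lit 24)) (.leaf (nat_lit 48))))))) (.node (nat_lit 121209) (.node (nat_lit 119775) (.node (nat_lit 119606) (.node (nat_lit 119418) (.leaf (nat_lit 2)) (.node (nat_lit 119566) (.leaf (nat_lit 24)) (.leaf (nat_lit 3)))) (.node (nat_lit 119674) (.leaf (nat_lit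 2)) (.node (nat_lit 119681) (.leaf (nat_lit 48)) (.leaf (nat_lit 24))))) (.node (nat_lit 120344) (.node (nat_lit 119792) (.leaf (nat_lit 2)) (.node (nat_lit 120100) (.leaf (nat_lit 48)) (.leaf (nat_lit 3)))) (.node (nat_lit 121001) (.node (nat_lit 120393) (.leaf (nat_lit 2)) (.leaf (nat_lit 24))) (.node (nat_lit 121024) (.leaf (nat_lit 2)) (.leaf (nat_lit 48)))))) (.node (nat_lit 123010) (.node (nat_lit 121707) (.node (nat_lit 121293) (.leaf (nat_lit 24)) (.node (nat_lit 121316) (.leaf (nat_lit 48)) (.leaf (nat_lit 24)))) (.node (nat_lit 122250) (.leaf (nat_lit 48)) (.node (nat_lit 122727) (.leaf (nat_lit 24)) (.leaf (nat_lit 2))))) (.node (nat_lit 123257) (.node (nat_lit 123192) (.leaf (nat_lit 24)) (.node (nat_lit 123199) (.leaf (nat_lit 2)) (.leaf (nat_lit 24)))) (.node (nat_lit 123680) (.node (nat_lit 123483) (.leaf (nat_lit 48)) (.leaf (nat_lit 24))) (.node (nat_lit 123690) (.leaf (nat_lit 2))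 (.leaf (nat_lit 3)))))))) (.node (nat_lit 127263) (.node (nat_lit 125781) (.node (nat_lit 124899) (.node (nat_lit 124107) (.node (nat_lit 123749) (.leaf (nat_lit 48)) (.node (nat_lit 124091) (.leaf (nat_lit 24)) (.leaf (nat_lit 2)))) (.node (nat_lit 124142) (.leaf (nat_lit 3)) (.node (nat_lit 124735) (.leaf (nat_lit 24)) (.leaf (nat_lit 48))))) (.node (nat_lit 125426) (.node (nat_lit 125057) (.leaf (nat_lit 2)) (.node (nat_lit 125124) (.leaf (nat_lit 24)) (.leaf (nat_lit 48)))) (.node (nat_lit 125656) (.node (nat_lit 125578) (.leaf (nat_lit 2)) (.leaf (nat_lit 24))) (.node (nat_lit 125721) (.leaf (nat_lit 2)) (.leaf (nat_lit 24)))))) (.node (nat_lit 126615) (.node (nat_lit 126234) (.node (nat_lit 126067) (.leaf (nat_lit 48)) (.node (nat_lit 126153) (.leaf (nat_lit 3)) (.leaf (nat_lit 48)))) (.node (nat_lit 126435) (.leaf (nat_lit 2)) (.node (nat_lit 126517) (.leaf (nat_lit 24)) (.leaf (nat_lit 48)))))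 (.node (nat_lit 127107) (.node (nat_lit 126704) (.leaf (nat_lit 24)) (.node (nat_lit 126798) (.leaf (nat_lit 2)) (.leaf (nat_lit 3)))) (.node (nat_lit 127152) (.node (nat_lit 127122) (.leaf (nat_lit 48)) (.leaf (nat_lit 24))) (.node (nat_lit 127184) (.leaf (nat_lit 3)) (.leaf (nat_lit 24))))))) (.node (nat_lit 129289) (.node (nat_lit 128384) (.node (nat_lit 127922) (.node (nat_lit 127666) (.leaf (nat_lit 2)) (.node (nat_lit 127771) (.leaf (nat_lit 48)) (.leaf (nat_lit 24)))) (.node (nat_lit 127936) (.leaf (nat_lit 3)) (.node (nat_lit 128119) (.leaf (nat_lit 2)) (.leaf (nat_lit 48))))) (.node (nat_lit 128846) (.node (nat_lit 128465) (.leaf (nat_lit 2)) (.node (nat_lit 128575) (.leaf (nat_lit 48)) (.leaf (nat_lit 24)))) (.node (nat_lit 129002) (.node (nat_lit 128936) (.leaf (nat_lit 48)) (.leaf (nat_lit 2))) (.node (nat_lit 129248) (.leaf (nat_lit 24)) (.leaf (nat_lit 2)))))) (.node (nat_lit 129916)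 (.node (nat_lit 129770) (.node (nat_lit 129401) (.leaf (nat_lit 48)) (.node (nat_lit 129674) (.leaf (nat_lit 24)) (.leaf (nat_lit 48)))) (.node (nat_lit 129812) (.leaf (nat_lit 3)) (.node (nat_lit 129830) (.leaf (nat_lit 24)) (.leaf (nat_lit 48))))) (.node (nat_lit 130046) (.node (nat_lit 129979) (.leaf (nat_lit 24)) (.node (nat_lit 129983) (.leaf (nat_lit 3)) (.leaf (nat_lit 2)))) (.node (nat_lit 130462) (.node (nat_lit 130447) (.leaf (nat_lit 24)) (.leaf (nat_lit 2))) (.node (nat_lit 130696) (.leaf (nat_lit 3)) (.leaf (nat_lit 48))))))))))))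
noncomputable def HL_soc_t1 : ST := (.node (nat_lit 87581) (.node (nat_lit 45594) (.node (nat_lit 22004) (.node (nat_lit 10919) (.node (nat_lit 5218) (.node (nat_lit 2208) (.node (nat_lit 1627) (.node (nat_lit 354) (.node (nat_lit 310) (.leaf (nat_lit 576)) (.node (nat_lit 329) (.leaf (nat_lit 24)) (.leaf (nat_lit 768)))) (.node (nat_lit 357) (.leaf (nat_lit 192)) (.node (nat_lit 996) (.leaf (nat_lit 576)) (.leaf (nat_lit 192))))) (.node (nat_lit 1765) (.node (nat_lit 1661) (.leaf (nat_lit 576)) (.node (nat_lit 1710) (.leaf (nat_lit 192)) (.leaf (nat_lit 768)))) (.node (nat_lit 2056) (.node (nat_lit 1828) (.leaf (nat_lit 576)) (.leaf (nat_lit 24))) (.node (nat_lit 2137) (.leaf (nat_lit 960)) (.leaf (nat_lit 192)))))) (.node (nat_lit 3912) (.node (nat_lit 2735) (.node (nat_lit 2349) (.leaf (nat_lit 960)) (.node (nat_lit 2489) (.leaf (nat_lit 576)) (.leaf (nat_lit 192)))) (.node (nat_lit 3328) (.node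 (nat_lit 3240) (.leaf (nat_lit 24)) (.leaf (nat_lit 192))) (.node (nat_lit 3735) (.leaf (nat_lit 576)) (.leaf (nat_lit 48))))) (.node (nat_lit 4151) (.node (nat_lit 3933) (.leaf (nat_lit 192)) (.node (nat_lit 4106) (.leaf (nat_lit 576)) (.leaf (nat_lit 24)))) (.node (nat_lit 4820) (.node (nat_lit 4661) (.leaf (nat_lit 192)) (.leaf (nat_lit 24))) (.node (nat_lit 5000) (.leaf (nat_lit 192)) (.leaf (nat_lit 576))))))) (.node (nat_lit 7303) (.node (nat_lit 6457) (.node (nat_lit 5746) (.node (nat_lit 5518) (.leaf (nat_lit 768)) (.node (nat_lit 5698) (.leaf (nat_lit 24)) (.leaf (nat_lit 192)))) (.node (nat_lit 6221) (.node (nat_lit 5905) (.leaf (nat_lit 960)) (.leaf (nat_lit 768))) (.node (nat_lit 6311) (.leaf (nat_lit 192)) (.leaf (nat_lit 960))))) (.node (nat_lit 6924) (.node (nat_lit 6807) (.leaf (nat_lit 192)) (.node (nat_lit 6815) (.leaf (nat_lit 576)) (.leaf (nat_lit 192)))) (.node (nat_lit 7225) (.node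 (nat_lit 7189) (.leaf (nat_lit 576)) (.leaf (nat_lit 24))) (.node (nat_lit 7295) (.leaf (nat_lit 576)) (.leaf (nat_lit 192)))))) (.node (nat_lit 10042) (.node (nat_lit 8927) (.node (nat_lit 7674) (.leaf (nat_lit 960)) (.node (nat_lit 7885) (.leaf (nat_lit 192)) (.leaf (nat_lit 960)))) (.node (nat_lit 9150) (.node (nat_lit 8967) (.leaf (nat_lit 24)) (.leaf (nat_lit 576))) (.node (nat_lit 10024) (.leaf (nat_lit 192)) (.leaf (nat_lit 576))))) (.node (nat_lit 10648) (.node (nat_lit 10595) (.leaf (nat_lit 960)) (.node (nat_lit 10607) (.leaf (nat_lit 768)) (.leaf (nat_lit 24)))) (.node (nat_lit 10669) (.node (nat_lit 10664) (.leaf (nat_lit 960)) (.leaf (nat_lit 24))) (.node (nat_lit 10672) (.leaf (nat_lit 192)) (.leaf (nat_lit 576)))))))) (.node (nat_lit 16017) (.node (nat_lit 13762) (.node (nat_lit 11964) (.node (nat_lit 11680) (.node (nat_lit 11014) (.leaf (nat_lit 24)) (.node (nat_lit 11498) (.leaf (nat_lit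 192)) (.leaf (nat_lit 576)))) (.node (nat_lit 11782) (.leaf (nat_lit 24)) (.node (nat_lit 11836) (.leaf (nat_lit 192)) (.leaf (nat_lit 24))))) (.node (nat_lit 12611) (.node (nat_lit 12263) (.leaf (nat_lit 768)) (.node (nat_lit 12513) (.leaf (nat_lit 960)) (.leaf (nat_lit 192)))) (.node (nat_lit 13364) (.node (nat_lit 12702) (.leaf (nat_lit 960)) (.leaf (nat_lit 24))) (.node (nat_lit 13741) (.leaf (nat_lit 576)) (.leaf (nat_lit 960)))))) (.node (nat_lit 14596) (.node (nat_lit 13968) (.node (nat_lit 13792) (.leaf (nat_lit 768)) (.node (nat_lit 13901) (.leaf (nat_lit 576)) (.leaf (nat_lit 768)))) (.node (nat_lit 14328) (.node (nat_lit 14215) (.leaf (nat_lit 960)) (.leaf (nat_lit 192))) (.node (nat_lit 14348) (.leaf (nat_lit 768)) (.leaf (nat_lit 48))))) (.node (nat_lit 15013) (.node (nat_lit 14910) (.leaf (nat_lit 192)) (.node (nat_lit 14996) (.leaf (nat_lit 576)) (.leaf (nat_lit 960)))) (.node (nat_lit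 15687) (.node (nat_lit 15051) (.leaf (nat_lit 768)) (.leaf (nat_lit 192))) (.node (nat_lit 15790) (.leaf (nat_lit 960)) (.leaf (nat_lit 192))))))) (.node (nat_lit 18833) (.node (nat_lit 16869) (.node (nat_lit 16475) (.node (nat_lit 16147) (.leaf (nat_lit 24)) (.node (nat_lit 16155) (.leaf (nat_lit 576)) (.leaf (nat_lit 24)))) (.node (nat_lit 16683) (.node (nat_lit 16488) (.leaf (nat_lit 960)) (.leaf (nat_lit 576))) (.node (nat_lit 16687) (.leaf (nat_lit 24)) (.leaf (nat_lit 960))))) (.node (nat_lit 17623) (.node (nat_lit 17330) (.leaf (nat_lit 192)) (.node (nat_lit 17574) (.leaf (nat_lit 576)) (.leaf (nat_lit 24)))) (.node (nat_lit 17916) (.node (nat_lit 17628) (.leaf (nat_lit 768)) (.leaf (nat_lit 576))) (.node (nat_lit 18803) (.leaf (nat_lit 192)) (.leaf (nat_lit 24)))))) (.node (nat_lit 20438) (.node (nat_lit 19175) (.node (nat_lit 18894) (.leaf (nat_lit 192)) (.node (nat_lit 19033) (.leaf (nat_lit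 768)) (.leaf (nat_lit 24)))) (.node (nat_lit 19467) (.node (nat_lit 19262) (.leaf (nat_lit 192)) (.leaf (nat_lit 48))) (.node (nat_lit 19972) (.leaf (nat_lit 24)) (.leaf (nat_lit 192))))) (.node (nat_lit 20638) (.node (nat_lit 20477) (.leaf (nat_lit 768)) (.node (nat_lit 20624) (.leaf (nat_lit 192)) (.leaf (nat_lit 768)))) (.node (nat_lit 21550) (.node (nat_lit 21287) (.leaf (nat_lit 192)) (.leaf (nat_lit 768))) (.node (nat_lit 21916) (.leaf (nat_lit 192)) (.leaf (nat_lit 24))))))))) (.node (nat_lit 32364) (.node (nat_lit 27553) (.node (nat_lit 25290) (.node (nat_lit 24214) (.node (nat_lit 22513) (.node (nat_lit 22397) (.leaf (nat_lit 960)) (.node (nat_lit 22401) (.leaf (nat_lit 24)) (.leaf (nat_lit 192)))) (.node (nat_lit 22937) (.leaf (nat_lit 768)) (.node (nat_lit 24033) (.leaf (nat_lit 960)) (.leaf (nat_lit 192))))) (.node (nat_lit 25017) (.node (nat_lit 24387) (.leaf (nat_lit 576)) (.node (nat_lit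 24608) (.leaf (nat_lit 192)) (.leaf (nat_lit 960)))) (.node (nat_lit 25204) (.node (nat_lit 25140) (.leaf (nat_lit 576)) (.leaf (nat_lit 192))) (.node (nat_lit 25220) (.leaf (nat_lit 960)) (.leaf (nat_lit 768)))))) (.node (nat_lit 26087) (.node (nat_lit 25653) (.node (nat_lit 25307) (.leaf (nat_lit 576)) (.node (nat_lit 25357) (.leaf (nat_lit 768)) (.leaf (nat_lit 24)))) (.node (nat_lit 25977) (.node (nat_lit 25741) (.leaf (nat_lit 576)) (.leaf (nat_lit 192))) (.node (nat_lit 26027) (.leaf (nat_lit 24)) (.leaf (nat_lit 576))))) (.node (nat_lit 26357) (.node (nat_lit 26123) (.leaf (nat_lit 960)) (.node (nat_lit 26272) (.leaf (nat_lit 576)) (.leaf (nat_lit 24)))) (.node (nat_lit 27125) (.node (nat_lit 26822) (.leaf (nat_lit 192)) (.leaf (nat_lit 576))) (.node (nat_lit 27156) (.leaf (nat_lit 192)) (.leaf (nat_lit 576))))))) (.node (nat_lit 30304) (.node (nat_lit 28957) (.node (nat_lit 27917) (.node (nat_lit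 27797) (.leaf (nat_lit 24)) (.node (nat_lit 27867) (.leaf (nat_lit 192)) (.leaf (nat_lit 576)))) (.node (nat_lit 28410) (.node (nat_lit 27936) (.leaf (nat_lit 24)) (.leaf (nat_lit 576))) (.node (nat_lit 28461) (.leaf (nat_lit 192)) (.leaf (nat_lit 24))))) (.node (nat_lit 29193) (.node (nat_lit 29147) (.leaf (nat_lit 768)) (.node (nat_lit 29176) (.leaf (nat_lit 192)) (.leaf (nat_lit 24)))) (.node (nat_lit 29522) (.node (nat_lit 29477) (.leaf (nat_lit 192)) (.leaf (nat_lit 576))) (.node (nat_lit 29874) (.leaf (nat_lit 192)) (.leaf (nat_lit 576)))))) (.node (nat_lit 31359) (.node (nat_lit 30891) (.node (nat_lit 30619) (.leaf (nat_lit 768)) (.node (nat_lit 30798) (.leaf (nat_lit 24)) (.leaf (nat_lit 2)))) (.node (nat_lit 30944) (.node (nat_lit 30926) (.leaf (nat_lit 192)) (.leaf (nat_lit 576))) (.node (nat_lit 31351) (.leaf (nat_lit 960)) (.leaf (nat_lit 768))))) (.node (nat_lit 32023) (.node (nat_lit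 31858) (.leaf (nat_lit 576)) (.node (nat_lit 31891) (.leaf (nat_lit 192)) (.leaf (nat_lit 576)))) (.node (nat_lit 32230) (.node (nat_lit 32039) (.leaf (nat_lit 24)) (.leaf (nat_lit 192))) (.node (nat_lit 32354) (.leaf (nat_lit 24)) (.leaf (nat_lit 960)))))))) (.node (nat_lit 38158) (.node (nat_lit 34531) (.node (nat_lit 33527) (.node (nat_lit 32998) (.node (nat_lit 32395) (.leaf (nat_lit 192)) (.node (nat_lit 32473) (.leaf (nat_lit 576)) (.leaf (nat_lit 768)))) (.node (nat_lit 33242) (.node (nat_lit 33051) (.leaf (nat_lit 576)) (.leaf (nat_lit 960))) (.node (nat_lit 33433) (.leaf (nat_lit 192)) (.leaf (nat_lit 576))))) (.node (nat_lit 33814) (.node (nat_lit 33550) (.leaf (nat_lit 768)) (.node (nat_lit 33611) (.leaf (nat_lit 24)) (.leaf (nat_lit 192)))) (.node (nat_lit 34025) (.node (nat_lit 33920) (.leaf (nat_lit 960)) (.leaf (nat_lit 24))) (.node (nat_lit 34105) (.leaf (nat_lit 192)) (.leaf (nat_lit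 960)))))) (.node (nat_lit 36143) (.node (nat_lit 35057) (.node (nat_lit 34896) (.leaf (nat_lit 576)) (.node (nat_lit 34967) (.leaf (nat_lit 192)) (.leaf (nat_lit 576)))) (.node (nat_lit 35530) (.node (nat_lit 35508) (.leaf (nat_lit 768)) (.leaf (nat_lit 576))) (.node (nat_lit 35934) (.leaf (nat_lit 192)) (.leaf (nat_lit 576))))) (.node (nat_lit 37190) (.node (nat_lit 36305) (.leaf (nat_lit 24)) (.node (nat_lit 36752) (.leaf (nat_lit 192)) (.leaf (nat_lit 24)))) (.node (nat_lit 37999) (.node (nat_lit 37272) (.leaf (nat_lit 48)) (.leaf (nat_lit 192))) (.node (nat_lit 38062) (.leaf (nat_lit 576)) (.leaf (nat_lit 24))))))) (.node (nat_lit 41564) (.node (nat_lit 40071) (.node (nat_lit 39060) (.node (nat_lit 38628) (.leaf (nat_lit 960)) (.node (nat_lit 38756) (.leaf (nat_lit 24)) (.leaf (nat_lit 192)))) (.node (nat_lit 39748) (.node (nat_lit 39492) (.leaf (nat_lit 576)) (.leaf (nat_lit 192))) (.node (nat_lit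 39826) (.leaf (nat_lit 768)) (.leaf (nat_lit 192))))) (.node (nat_lit 40669) (.node (nat_lit 40199) (.leaf (nat_lit 768)) (.node (nat_lit 40598) (.leaf (nat_lit 192)) (.leaf (nat_lit 24)))) (.node (nat_lit 41220) (.node (nat_lit 40944) (.leaf (nat_lit 192)) (.leaf (nat_lit 24))) (.node (nat_lit 41396) (.leaf (nat_lit 576)) (.leaf (nat_lit 960)))))) (.node (nat_lit 43507) (.node (nat_lit 42449) (.node (nat_lit 41825) (.leaf (nat_lit 48)) (.node (nat_lit 42059) (.leaf (nat_lit 192)) (.leaf (nat_lit 960)))) (.node (nat_lit 42836) (.node (nat_lit 42616) (.leaf (nat_lit 24)) (.leaf (nat_lit 192))) (.node (nat_lit 42910) (.leaf (nat_lit 24)) (.leaf (nat_lit 192))))) (.node (nat_lit 44188) (.node (nat_lit 43929) (.leaf (nat_lit 960)) (.node (nat_lit 44102) (.leaf (nat_lit 24)) (.leaf (nat_lit 192)))) (.node (nat_lit 44411) (.node (nat_lit 44307) (.leaf (nat_lit 24)) (.leaf (nat_lit 192))) (.node (nat_lit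 44793) (.leaf (nat_lit 576)) (.leaf (nat_lit 192)))))))))) (.node (nat_lit 66181) (.node (nat_lit 56619) (.node (nat_lit 52052) (.node (nat_lit 48016) (.node (nat_lit 46646) (.node (nat_lit 46037) (.node (nat_lit 45894) (.leaf (nat_lit 768)) (.node (nat_lit 45903) (.leaf (nat_lit 24)) (.leaf (nat_lit 576)))) (.node (nat_lit 46258) (.leaf (nat_lit 192)) (.node (nat_lit 46415) (.leaf (nat_lit 960)) (.leaf (nat_lit 192))))) (.node (nat_lit 46980) (.node (nat_lit 46862) (.leaf (nat_lit 960)) (.node (nat_lit 46950) (.leaf (nat_lit 24)) (.leaf (nat_lit 192)))) (.node (nat_lit 47213) (.node (nat_lit 46996) (.leaf (nat_lit 768)) (.leaf (nat_lit 576))) (.node (nat_lit 47479) (.leaf (nat_lit 192)) (.leaf (nat_lit 24)))))) (.node (nat_lit 49953) (.node (nat_lit 48906) (.node (nat_lit 48083) (.leaf (nat_lit 192)) (.node (nat_lit 48572) (.leaf (nat_lit 576)) (.leaf (nat_lit 24)))) (.node (nat_lit 49366) (.node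 (nat_lit 49012) (.leaf (nat_lit 192)) (.leaf (nat_lit 960))) (.node (nat_lit 49535) (.leaf (nat_lit 192)) (.leaf (nat_lit 960))))) (.node (nat_lit 51287) (.node (nat_lit 50685) (.leaf (nat_lit 576)) (.node (nat_lit 51147) (.leaf (nat_lit 192)) (.leaf (nat_lit 576)))) (.node (nat_lit 51911) (.node (nat_lit 51676) (.leaf (nat_lit 192)) (.leaf (nat_lit 576))) (.node (nat_lit 51923) (.leaf (nat_lit 192)) (.leaf (nat_lit 576))))))) (.node (nat_lit 54500) (.node (nat_lit 53076) (.node (nat_lit 52615) (.node (nat_lit 52203) (.leaf (nat_lit 192)) (.node (nat_lit 52303) (.leaf (nat_lit 960)) (.leaf (nat_lit 768)))) (.node (nat_lit 52800) (.node (nat_lit 52641) (.leaf (nat_lit 960)) (.leaf (nat_lit 192))) (.node (nat_lit 53015) (.leaf (nat_lit 768)) (.leaf (nat_lit 576))))) (.node (nat_lit 53351) (.node (nat_lit 53099) (.leaf (nat_lit 960)) (.node (nat_lit 53262) (.leaf (nat_lit 576)) (.leaf (nat_lit 768))))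 (.node (nat_lit 53636) (.node (nat_lit 53393) (.leaf (nat_lit 192)) (.leaf (nat_lit 576))) (.node (nat_lit 53933) (.leaf (nat_lit 24)) (.leaf (nat_lit 192)))))) (.node (nat_lit 55099) (.node (nat_lit 54798) (.node (nat_lit 54702) (.leaf (nat_lit 960)) (.node (nat_lit 54750) (.leaf (nat_lit 768)) (.leaf (nat_lit 24)))) (.node (nat_lit 54957) (.node (nat_lit 54885) (.leaf (nat_lit 768)) (.leaf (nat_lit 960))) (.node (nat_lit 55075) (.leaf (nat_lit 192)) (.leaf (nat_lit 24))))) (.node (nat_lit 55891) (.node (nat_lit 55291) (.leaf (nat_lit 576)) (.node (nat_lit 55832) (.leaf (nat_lit 24)) (.leaf (nat_lit 768)))) (.node (nat_lit 56266) (.node (nat_lit 56194) (.leaf (nat_lit 960)) (.leaf (nat_lit 192))) (.node (nat_lit 56347) (.leaf (nat_lit 960)) (.leaf (nat_lit 576)))))))) (.node (nat_lit 61931) (.node (nat_lit 58320) (.node (nat_lit 57382) (.node (nat_lit 56754) (.node (nat_lit 56620) (.leaf (nat_lit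 24)) (.node (nat_lit 56668) (.leaf (nat_lit 768)) (.leaf (nat_lit 576)))) (.node (nat_lit 56913) (.node (nat_lit 56871) (.leaf (nat_lit 192)) (.leaf (nat_lit 576))) (.node (nat_lit 57247) (.leaf (nat_lit 768)) (.leaf (nat_lit 576))))) (.node (nat_lit 58098) (.node (nat_lit 57677) (.leaf (nat_lit 960)) (.node (nat_lit 57804) (.leaf (nat_lit 768)) (.leaf (nat_lit 192)))) (.node (nat_lit 58180) (.node (nat_lit 58160) (.leaf (nat_lit 576)) (.leaf (nat_lit 192))) (.node (nat_lit 58283) (.leaf (nat_lit 576)) (.leaf (nat_lit 192)))))) (.node (nat_lit 60715) (.node (nat_lit 59932) (.node (nat_lit 58455) (.leaf (nat_lit 2)) (.node (nat_lit 59242) (.leaf (nat_lit 576)) (.leaf (nat_lit 192)))) (.node (nat_lit 60155) (.node (nat_lit 59998) (.leaf (nat_lit 960)) (.leaf (nat_lit 576))) (.node (nat_lit 60214) (.leaf (nat_lit 768)) (.leaf (nat_lit 192))))) (.node (nat_lit 61167) (.node (nat_lit 61053) (.leaf (nat_lit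 960)) (.node (nat_lit 61137) (.leaf (nat_lit 768)) (.leaf (nat_lit 192)))) (.node (nat_lit 61548) (.node (nat_lit 61367) (.leaf (nat_lit 768)) (.leaf (nat_lit 24))) (.node (nat_lit 61565) (.leaf (nat_lit 960)) (.leaf (nat_lit 24))))))) (.node (nat_lit 63562) (.node (nat_lit 62851) (.node (nat_lit 62200) (.node (nat_lit 62059) (.leaf (nat_lit 576)) (.node (nat_lit 62128) (.leaf (nat_lit 192)) (.leaf (nat_lit 24)))) (.node (nat_lit 62337) (.node (nat_lit 62230) (.leaf (nat_lit 768)) (.leaf (nat_lit 576))) (.node (nat_lit 62569) (.leaf (nat_lit 960)) (.leaf (nat_lit 192))))) (.node (nat_lit 63346) (.node (nat_lit 62917) (.leaf (nat_lit 576)) (.node (nat_lit 63183) (.leaf (nat_lit 960)) (.leaf (nat_lit 24)))) (.node (nat_lit 63459) (.node (nat_lit 63432) (.leaf (nat_lit 576)) (.leaf (nat_lit 192))) (.node (nat_lit 63553) (.leaf (nat_lit 960)) (.leaf (nat_lit 576)))))) (.node (nat_lit 64787) (.node (nat_lit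 64281) (.node (nat_lit 63659) (.leaf (nat_lit 960)) (.node (nat_lit 64171) (.leaf (nat_lit 24)) (.leaf (nat_lit 192)))) (.node (nat_lit 64617) (.node (nat_lit 64444) (.leaf (nat_lit 960)) (.leaf (nat_lit 192))) (.node (nat_lit 64750) (.leaf (nat_lit 576)) (.leaf (nat_lit 960))))) (.node (nat_lit 65423) (.node (nat_lit 64855) (.leaf (nat_lit 192)) (.node (nat_lit 65336) (.leaf (nat_lit 960)) (.leaf (nat_lit 768)))) (.node (nat_lit 66001) (.node (nat_lit 65712) (.leaf (nat_lit 24)) (.leaf (nat_lit 0))) (.node (nat_lit 66056) (.leaf (nat_lit 24)) (.leaf (nat_lit 768))))))))) (.node (nat_lit 77206) (.node (nat_lit 71875) (.node (nat_lit 68922) (.node (nat_lit 67492) (.node (nat_lit 67118) (.node (nat_lit 66230) (.leaf (nat_lit 192)) (.node (nat_lit 66540) (.leaf (nat_lit 24)) (.leaf (nat_lit 576)))) (.node (nat_lit 67136) (.leaf (nat_lit 192)) (.node (nat_lit 67221) (.leaf (nat_lit 768)) (.leaf (nat_lit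 192))))) (.node (nat_lit 67670) (.node (nat_lit 67534) (.leaf (nat_lit 576)) (.node (nat_lit 67667) (.leaf (nat_lit 192)) (.leaf (nat_lit 768)))) (.node (nat_lit 68432) (.node (nat_lit 68423) (.leaf (nat_lit 576)) (.leaf (nat_lit 24))) (.node (nat_lit 68650) (.leaf (nat_lit 192)) (.leaf (nat_lit 768)))))) (.node (nat_lit 70739) (.node (nat_lit 69527) (.node (nat_lit 69185) (.leaf (nat_lit 960)) (.node (nat_lit 69343) (.leaf (nat_lit 192)) (.leaf (nat_lit 576)))) (.node (nat_lit 69739) (.node (nat_lit 69609) (.leaf (nat_lit 24)) (.leaf (nat_lit 768))) (.node (nat_lit 70464) (.leaf (nat_lit 24)) (.leaf (nat_lit 576))))) (.node (nat_lit 70957) (.node (nat_lit 70740) (.leaf (nat_lit 960)) (.node (nat_lit 70886) (.leaf (nat_lit 24)) (.leaf (nat_lit 192)))) (.node (nat_lit 71636) (.node (nat_lit 71377) (.leaf (nat_lit 576)) (.leaf (nat_lit 192))) (.node (nat_lit 71649) (.leaf (nat_lit 960)) (.leaf (nat_lit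 768))))))) (.node (nat_lit 74500) (.node (nat_lit 73037) (.node (nat_lit 72641) (.node (nat_lit 71889) (.leaf (nat_lit 576)) (.node (nat_lit 71990) (.leaf (nat_lit 192)) (.leaf (nat_lit 576)))) (.node (nat_lit 72796) (.node (nat_lit 72724) (.leaf (nat_lit 768)) (.leaf (nat_lit 192))) (.node (nat_lit 73034) (.leaf (nat_lit 24)) (.leaf (nat_lit 768))))) (.node (nat_lit 74077) (.node (nat_lit 73038) (.leaf (nat_lit 960)) (.node (nat_lit 73861) (.leaf (nat_lit 576)) (.leaf (nat_lit 768)))) (.node (nat_lit 74335) (.node (nat_lit 74171) (.leaf (nat_lit 24)) (.leaf (nat_lit 768))) (.node (nat_lit 74471) (.leaf (nat_lit 192)) (.leaf (nat_lit 576)))))) (.node (nat_lit 75934) (.node (nat_lit 75600) (.node (nat_lit 75064) (.leaf (nat_lit 960)) (.node (nat_lit 75288) (.leaf (nat_lit 24)) (.leaf (nat_lit 960)))) (.node (nat_lit 75736) (.node (nat_lit 75652) (.leaf (nat_lit 576)) (.leaf (nat_lit 24))) (.node (nat_lit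 75763) (.leaf (nat_lit 576)) (.leaf (nat_lit 192))))) (.node (nat_lit 76541) (.node (nat_lit 76165) (.leaf (nat_lit 24)) (.node (nat_lit 76185) (.leaf (nat_lit 576)) (.leaf (nat_lit 960)))) (.node (nat_lit 76917) (.node (nat_lit 76552) (.leaf (nat_lit 192)) (.leaf (nat_lit 768))) (.node (nat_lit 77030) (.leaf (nat_lit 576)) (.leaf (nat_lit 192)))))))) (.node (nat_lit 82815) (.node (nat_lit 80325) (.node (nat_lit 79200) (.node (nat_lit 78029) (.node (nat_lit 77818) (.leaf (nat_lit 576)) (.node (nat_lit 77866) (.leaf (nat_lit 24)) (.leaf (nat_lit 960)))) (.node (nat_lit 78704) (.node (nat_lit 78203) (.leaf (nat_lit 768)) (.leaf (nat_lit 576))) (.node (nat_lit 79176) (.leaf (nat_lit 24)) (.leaf (nat_lit 576))))) (.node (nat_lit 79552) (.node (nat_lit 79319) (.leaf (nat_lit 960)) (.node (nat_lit 79396) (.leaf (nat_lit 24)) (.leaf (nat_lit 960)))) (.node (nat_lit 80057) (.node (nat_lit 79596) (.leaf (nat_lit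 768)) (.leaf (nat_lit 192))) (.node (nat_lit 80137) (.leaf (nat_lit 768)) (.leaf (nat_lit 192)))))) (.node (nat_lit 81911) (.node (nat_lit 81164) (.node (nat_lit 80712) (.leaf (nat_lit 576)) (.node (nat_lit 80991) (.leaf (nat_lit 192)) (.leaf (nat_lit 576)))) (.node (nat_lit 81522) (.node (nat_lit 81403) (.leaf (nat_lit 960)) (.leaf (nat_lit 768))) (.node (nat_lit 81715) (.leaf (nat_lit 576)) (.leaf (nat_lit 24))))) (.node (nat_lit 82274) (.node (nat_lit 82151) (.leaf (nat_lit 192)) (.node (nat_lit 82204) (.leaf (nat_lit 768)) (.leaf (nat_lit 960)))) (.node (nat_lit 82401) (.node (nat_lit 82292) (.leaf (nat_lit 192)) (.leaf (nat_lit 576))) (.node (nat_lit 82735) (.leaf (nat_lit 192)) (.leaf (nat_lit 576))))))) (.node (nat_lit 84952) (.node (nat_lit 83435) (.node (nat_lit 83002) (.node (nat_lit 82847) (.leaf (nat_lit 192)) (.node (nat_lit 82962) (.leaf (nat_lit 576)) (.leaf (nat_lit 192)))) (.node (nat_lit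 83289) (.node (nat_lit 83263) (.leaf (nat_lit 576)) (.leaf (nat_lit 24))) (.node (nat_lit 83372) (.leaf (nat_lit 576)) (.leaf (nat_lit 192))))) (.node (nat_lit 83827) (.node (nat_lit 83566) (.leaf (nat_lit 576)) (.node (nat_lit 83675) (.leaf (nat_lit 24)) (.leaf (nat_lit 192)))) (.node (nat_lit 84622) (.node (nat_lit 83844) (.leaf (nat_lit 24)) (.leaf (nat_lit 576))) (.node (nat_lit 84897) (.leaf (nat_lit 960)) (.leaf (nat_lit 576)))))) (.node (nat_lit 86075) (.node (nat_lit 85822) (.node (nat_lit 84997) (.leaf (nat_lit 24)) (.node (nat_lit 85180) (.leaf (nat_lit 192)) (.leaf (nat_lit 576)))) (.node (nat_lit 85868) (.node (nat_lit 85834) (.leaf (nat_lit 24)) (.leaf (nat_lit 192))) (.node (nat_lit 85888) (.leaf (nat_lit 768)) (.leaf (nat_lit 192))))) (.node (nat_lit 86592) (.node (nat_lit 86127) (.leaf (nat_lit 576)) (.node (nat_lit 86134) (.leaf (nat_lit 192)) (.leaf (nat_lit 960)))) (.node (nat_lit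 87074) (.node (nat_lit 86749) (.leaf (nat_lit 576)) (.leaf (nat_lit 24))) (.node (nat_lit 87190) (.leaf (nat_lit 576)) (.leaf (nat_lit 192))))))))))) (.node (nat_lit 135151) (.node (nat_lit 111053) (.node (nat_lit 97681) (.node (nat_lit 92884) (.node (nat_lit 90509) (.node (nat_lit 88592) (.node (nat_lit 88100) (.node (nat_lit 87707) (.leaf (nat_lit 48)) (.node (nat_lit 87946) (.leaf (nat_lit 24)) (.leaf (nat_lit 960)))) (.node (nat_lit 88207) (.leaf (nat_lit 192)) (.node (nat_lit 88424) (.leaf (nat_lit 576)) (.leaf (nat_lit 768))))) (.node (nat_lit 89424) (.node (nat_lit 88926) (.leaf (nat_lit 960)) (.node (nat_lit 89150) (.leaf (nat_lit 192)) (.leaf (nat_lit 960)))) (.node (nat_lit 89799) (.node (nat_lit 89579) (.leaf (nat_lit 24)) (.leaf (nat_lit 192))) (.node (nat_lit 89916) (.leaf (nat_lit 576)) (.leaf (nat_lit 192)))))) (.node (nat_lit 91502) (.node (nat_lit 90709) (.node (nat_lit 90663) (.leaf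 (nat_lit 768)) (.node (nat_lit 90689) (.leaf (nat_lit 192)) (.leaf (nat_lit 576)))) (.node (nat_lit 91068) (.node (nat_lit 90784) (.leaf (nat_lit 960)) (.leaf (nat_lit 192))) (.node (nat_lit 91401) (.leaf (nat_lit 576)) (.leaf (nat_lit 768))))) (.node (nat_lit 92310) (.node (nat_lit 91621) (.leaf (nat_lit 192)) (.node (nat_lit 92254) (.leaf (nat_lit 768)) (.leaf (nat_lit 576)))) (.node (nat_lit 92703) (.node (nat_lit 92687) (.leaf (nat_lit 192)) (.leaf (nat_lit 576))) (.node (nat_lit 92875) (.leaf (nat_lit 960)) (.leaf (nat_lit 576))))))) (.node (nat_lit 95340) (.node (nat_lit 93586) (.node (nat_lit 93045) (.node (nat_lit 92910) (.leaf (nat_lit 24)) (.node (nat_lit 92916) (.leaf (nat_lit 192)) (.leaf (nat_lit 576)))) (.node (nat_lit 93354) (.node (nat_lit 93109) (.leaf (nat_lit 192)) (.leaf (nat_lit 576))) (.node (nat_lit 93526) (.leaf (nat_lit 24)) (.leaf (nat_lit 192))))) (.node (nat_lit 94125) (.node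 (nat_lit 93621) (.leaf (nat_lit 576)) (.node (nat_lit 93911) (.leaf (nat_lit 24)) (.leaf (nat_lit 576)))) (.node (nat_lit 94990) (.node (nat_lit 94889) (.leaf (nat_lit 24)) (.leaf (nat_lit 576))) (.node (nat_lit 95323) (.leaf (nat_lit 48)) (.leaf (nat_lit 960)))))) (.node (nat_lit 96683) (.node (nat_lit 96307) (.node (nat_lit 95657) (.leaf (nat_lit 192)) (.node (nat_lit 96079) (.leaf (nat_lit 576)) (.leaf (nat_lit 768)))) (.node (nat_lit 96556) (.node (nat_lit 96539) (.leaf (nat_lit 192)) (.leaf (nat_lit 768))) (.node (nat_lit 96656) (.leaf (nat_lit 576)) (.leaf (nat_lit 768))))) (.node (nat_lit 97473) (.node (nat_lit 97006) (.leaf (nat_lit 192)) (.node (nat_lit 97465) (.leaf (nat_lit 768)) (.leaf (nat_lit 576)))) (.node (nat_lit 97531) (.node (nat_lit 97520) (.leaf (nat_lit 768)) (.leaf (nat_lit 192))) (.node (nat_lit 97660) (.leaf (nat_lit 48)) (.leaf (nat_lit 192)))))))) (.node (nat_lit 105427)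 (.node (nat_lit 101138) (.node (nat_lit 99379) (.node (nat_lit 98545) (.node (nat_lit 98008) (.leaf (nat_lit 576)) (.node (nat_lit 98206) (.leaf (nat_lit 192)) (.leaf (nat_lit 576)))) (.node (nat_lit 98829) (.leaf (nat_lit 960)) (.node (nat_lit 99038) (.leaf (nat_lit 192)) (.leaf (nat_lit 960))))) (.node (nat_lit 100502) (.node (nat_lit 99908) (.leaf (nat_lit 576)) (.node (nat_lit 100222) (.leaf (nat_lit 192)) (.leaf (nat_lit 576)))) (.node (nat_lit 100916) (.node (nat_lit 100642) (.leaf (nat_lit 192)) (.leaf (nat_lit 576))) (.node (nat_lit 101101) (.leaf (nat_lit 48)) (.leaf (nat_lit 768)))))) (.node (nat_lit 103248) (.node (nat_lit 102461) (.node (nat_lit 102005) (.leaf (nat_lit 24)) (.node (nat_lit 102310) (.leaf (nat_lit 48)) (.leaf (nat_lit 192)))) (.node (nat_lit 102977) (.node (nat_lit 102913) (.leaf (nat_lit 768)) (.leaf (nat_lit 192))) (.node (nat_lit 103093) (.leaf (nat_lit 960)) (.leaf (nat_lit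 192))))) (.node (nat_lit 104434) (.node (nat_lit 103812) (.leaf (nat_lit 576)) (.node (nat_lit 103871) (.leaf (nat_lit 24)) (.leaf (nat_lit 576)))) (.node (nat_lit 104952) (.node (nat_lit 104708) (.leaf (nat_lit 768)) (.leaf (nat_lit 192))) (.node (nat_lit 104988) (.leaf (nat_lit 576)) (.leaf (nat_lit 192))))))) (.node (nat_lit 108198) (.node (nat_lit 106207) (.node (nat_lit 105744) (.node (nat_lit 105470) (.leaf (nat_lit 960)) (.node (nat_lit 105489) (.leaf (nat_lit 576)) (.leaf (nat_lit 192)))) (.node (nat_lit 106166) (.node (nat_lit 105949) (.leaf (nat_lit 24)) (.leaf (nat_lit 192))) (.node (nat_lit 106172) (.leaf (nat_lit 960)) (.leaf (nat_lit 576))))) (.node (nat_lit 106759) (.node (nat_lit 106506) (.leaf (nat_lit 192)) (.node (nat_lit 106546) (.leaf (nat_lit 576)) (.leaf (nat_lit 192)))) (.node (nat_lit 107909) (.node (nat_lit 107363) (.leaf (nat_lit 576)) (.leaf (nat_lit 768))) (.node (nat_lit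 107915) (.leaf (nat_lit 192)) (.leaf (nat_lit 24)))))) (.node (nat_lit 109146) (.node (nat_lit 108534) (.node (nat_lit 108377) (.leaf (nat_lit 192)) (.node (nat_lit 108512) (.leaf (nat_lit 960)) (.leaf (nat_lit 24)))) (.node (nat_lit 108764) (.node (nat_lit 108610) (.leaf (nat_lit 192)) (.leaf (nat_lit 576))) (.node (nat_lit 108830) (.leaf (nat_lit 24)) (.leaf (nat_lit 192))))) (.node (nat_lit 110305) (.node (nat_lit 109382) (.leaf (nat_lit 768)) (.node (nat_lit 110130) (.leaf (nat_lit 192)) (.leaf (nat_lit 768)))) (.node (nat_lit 111029) (.node (nat_lit 110425) (.leaf (nat_lit 576)) (.leaf (nat_lit 192))) (.node (nat_lit 111052) (.leaf (nat_lit 768)) (.leaf (nat_lit 576))))))))) (.node (nat_lit 122873) (.node (nat_lit 115641) (.node (nat_lit 113681) (.node (nat_lit 112861) (.node (nat_lit 112445) (.node (nat_lit 111190) (.leaf (nat_lit 192)) (.node (nat_lit 112230) (.leaf (nat_lit 576)) (.leaf (nat_lit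 768)))) (.node (nat_lit 112671) (.leaf (nat_lit 192)) (.node (nat_lit 112796) (.leaf (nat_lit 576)) (.leaf (nat_lit 768))))) (.node (nat_lit 113170) (.node (nat_lit 113084) (.leaf (nat_lit 576)) (.node (nat_lit 113118) (.leaf (nat_lit 768)) (.leaf (nat_lit 192)))) (.node (nat_lit 113465) (.node (nat_lit 113423) (.leaf (nat_lit 576)) (.leaf (nat_lit 192))) (.node (nat_lit 113634) (.leaf (nat_lit 24)) (.leaf (nat_lit 960)))))) (.node (nat_lit 114309) (.node (nat_lit 113951) (.node (nat_lit 113788) (.leaf (nat_lit 24)) (.node (nat_lit 113829) (.leaf (nat_lit 576)) (.leaf (nat_lit 192)))) (.node (nat_lit 114072) (.node (nat_lit 114011) (.leaf (nat_lit 48)) (.leaf (nat_lit 576))) (.node (nat_lit 114279) (.leaf (nat_lit 960)) (.leaf (nat_lit 768))))) (.node (nat_lit 114508) (.node (nat_lit 114341) (.leaf (nat_lit 192)) (.node (nat_lit 114415) (.leaf (nat_lit 24)) (.leaf (nat_lit 768)))) (.node (nat_lit 115443)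 (.node (nat_lit 115371) (.leaf (nat_lit 576)) (.leaf (nat_lit 24))) (.node (nat_lit 115557) (.leaf (nat_lit 576)) (.leaf (nat_lit 24))))))) (.node (nat_lit 118661) (.node (nat_lit 116527) (.node (nat_lit 115817) (.node (nat_lit 115644) (.leaf (nat_lit 768)) (.node (nat_lit 115811) (.leaf (nat_lit 576)) (.leaf (nat_lit 768)))) (.node (nat_lit 115914) (.node (nat_lit 115871) (.leaf (nat_lit 576)) (.leaf (nat_lit 768))) (.node (nat_lit 116121) (.leaf (nat_lit 576)) (.leaf (nat_lit 192))))) (.node (nat_lit 118172) (.node (nat_lit 117243) (.leaf (nat_lit 768)) (.node (nat_lit 117897) (.leaf (nat_lit 192)) (.leaf (nat_lit 24)))) (.node (nat_lit 118487) (.node (nat_lit 118332) (.leaf (nat_lit 960)) (.leaf (nat_lit 192))) (.node (nat_lit 118539) (.leaf (nat_lit 576)) (.leaf (nat_lit 24)))))) (.node (nat_lit 120125) (.node (nat_lit 119600) (.node (nat_lit 118700) (.leaf (nat_lit 192)) (.node (nat_lit 119212)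 (.leaf (nat_lit 576)) (.leaf (nat_lit 192)))) (.node (nat_lit 119958) (.node (nat_lit 119943) (.leaf (nat_lit 768)) (.leaf (nat_lit 960))) (.node (nat_lit 120068) (.leaf (nat_lit 192)) (.leaf (nat_lit 960))))) (.node (nat_lit 121657) (.node (nat_lit 120770) (.leaf (nat_lit 576)) (.node (nat_lit 121387) (.leaf (nat_lit 768)) (.leaf (nat_lit 192)))) (.node (nat_lit 122315) (.node (nat_lit 121874) (.leaf (nat_lit 24)) (.leaf (nat_lit 576))) (.node (nat_lit 122766) (.leaf (nat_lit 24)) (.leaf (nat_lit 192)))))))) (.node (nat_lit 128426) (.node (nat_lit 126156) (.node (nat_lit 123957) (.node (nat_lit 123707) (.node (nat_lit 123041) (.leaf (nat_lit 576)) (.node (nat_lit 123169) (.leaf (nat_lit 768)) (.leaf (nat_lit 576)))) (.node (nat_lit 123823) (.node (nat_lit 123777) (.leaf (nat_lit 24)) (.leaf (nat_lit 576))) (.node (nat_lit 123944) (.leaf (nat_lit 768)) (.leaf (nat_lit 576))))) (.node (nat_lit 125036)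 (.node (nat_lit 124742) (.leaf (nat_lit 192)) (.node (nat_lit 124805) (.leaf (nat_lit 576)) (.leaf (nat_lit 24)))) (.node (nat_lit 125610) (.node (nat_lit 125400) (.leaf (nat_lit 192)) (.leaf (nat_lit 576))) (.node (nat_lit 125773) (.leaf (nat_lit 768)) (.leaf (nat_lit 576)))))) (.node (nat_lit 127376) (.node (nat_lit 126547) (.node (nat_lit 126180) (.leaf (nat_lit 48)) (.node (nat_lit 126312) (.leaf (nat_lit 192)) (.leaf (nat_lit 576)))) (.node (nat_lit 126684) (.node (nat_lit 126679) (.leaf (nat_lit 192)) (.leaf (nat_lit 576))) (.node (nat_lit 126800) (.leaf (nat_lit 24)) (.leaf (nat_lit 960))))) (.node (nat_lit 127592) (.node (nat_lit 127419) (.leaf (nat_lit 24)) (.node (nat_lit 127498) (.leaf (nat_lit 768)) (.leaf (nat_lit 192)))) (.node (nat_lit 128038) (.node (nat_lit 127905) (.leaf (nat_lit 576)) (.leaf (nat_lit 192))) (.node (nat_lit 128178) (.leaf (nat_lit 960)) (.leaf (nat_lit 576)))))))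 (.node (nat_lit 132584) (.node (nat_lit 130260) (.node (nat_lit 129542) (.node (nat_lit 129140) (.leaf (nat_lit 768)) (.node (nat_lit 129315) (.leaf (nat_lit 192)) (.leaf (nat_lit 576)))) (.node (nat_lit 129685) (.node (nat_lit 129603) (.leaf (nat_lit 192)) (.leaf (nat_lit 960))) (.node (nat_lit 129915) (.leaf (nat_lit 192)) (.leaf (nat_lit 576))))) (.node (nat_lit 131240) (.node (nat_lit 130490) (.leaf (nat_lit 192)) (.node (nat_lit 130673) (.leaf (nat_lit 768)) (.leaf (nat_lit 192)))) (.node (nat_lit 131506) (.node (nat_lit 131398) (.leaf (nat_lit 768)) (.leaf (nat_lit 192))) (.node (nat_lit 131911) (.leaf (nat_lit 768)) (.leaf (nat_lit 576)))))) (.node (nat_lit 134432) (.node (nat_lit 132798) (.node (nat_lit 132693) (.leaf (nat_lit 192)) (.node (nat_lit 132779) (.leaf (nat_lit 24)) (.leaf (nat_lit 192)))) (.node (nat_lit 133198) (.node (nat_lit 133036) (.leaf (nat_lit 960)) (.leaf (nat_lit 576)))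 (.node (nat_lit 133699) (.leaf (nat_lit 192)) (.leaf (nat_lit 576))))) (.node (nat_lit 134550) (.node (nat_lit 134490) (.leaf (nat_lit 48)) (.node (nat_lit 134510) (.leaf (nat_lit 24)) (.leaf (nat_lit 192)))) (.node (nat_lit 134723) (.node (nat_lit 134646) (.leaf (nat_lit 24)) (.leaf (nat_lit 768))) (.node (nat_lit 134753) (.leaf (nat_lit 576)) (.leaf (nat_lit 768)))))))))) (.node (nat_lit 158994) (.node (nat_lit 145910) (.node (nat_lit 139060) (.node (nat_lit 137333) (.node (nat_lit 135777) (.node (nat_lit 135289) (.node (nat_lit 135158) (.leaf (nat_lit 192)) (.node (nat_lit 135204) (.leaf (nat_lit 576)) (.leaf (nat_lit 24)))) (.node (nat_lit 135330) (.leaf (nat_lit 576)) (.node (nat_lit 135671) (.leaf (nat_lit 192)) (.leaf (nat_lit 24))))) (.node (nat_lit 136727) (.node (nat_lit 136043) (.leaf (nat_lit 192)) (.node (nat_lit 136450) (.leaf (nat_lit 960)) (.leaf (nat_lit 192)))) (.node (nat_lit 137003)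 (.node (nat_lit 136776) (.leaf (nat_lit 48)) (.leaf (nat_lit 768))) (.node (nat_lit 137284) (.leaf (nat_lit 192)) (.leaf (nat_lit 576)))))) (.node (nat_lit 138345) (.node (nat_lit 137812) (.node (nat_lit 137521) (.leaf (nat_lit 192)) (.node (nat_lit 137788) (.leaf (nat_lit 576)) (.leaf (nat_lit 24)))) (.node (nat_lit 137859) (.node (nat_lit 137823) (.leaf (nat_lit 192)) (.leaf (nat_lit 960))) (.node (nat_lit 138149) (.leaf (nat_lit 192)) (.leaf (nat_lit 960))))) (.node (nat_lit 138709) (.node (nat_lit 138587) (.leaf (nat_lit 192)) (.node (nat_lit 138639) (.leaf (nat_lit 768)) (.leaf (nat_lit 576)))) (.node (nat_lit 138867) (.node (nat_lit 138795) (.leaf (nat_lit 192)) (.leaf (nat_lit 768))) (.node (nat_lit 138971) (.leaf (nat_lit 960)) (.leaf (nat_lit 768))))))) (.node (nat_lit 141467) (.node (nat_lit 140508) (.node (nat_lit 139894) (.node (nat_lit 139567) (.leaf (nat_lit 576)) (.node (nat_lit 139666)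 (.leaf (nat_lit 24)) (.leaf (nat_lit 192)))) (.node (nat_lit 140097) (.node (nat_lit 139897) (.leaf (nat_lit 576)) (.leaf (nat_lit 960))) (.node (nat_lit 140429) (.leaf (nat_lit 192)) (.leaf (nat_lit 48))))) (.node (nat_lit 140858) (.node (nat_lit 140552) (.leaf (nat_lit 192)) (.node (nat_lit 140801) (.leaf (nat_lit 768)) (.leaf (nat_lit 960)))) (.node (nat_lit 141302) (.node (nat_lit 141071) (.leaf (nat_lit 192)) (.leaf (nat_lit 576))) (.node (nat_lit 141315) (.leaf (nat_lit 960)) (.leaf (nat_lit 192)))))) (.node (nat_lit 143023) (.node (nat_lit 142243) (.node (nat_lit 141811) (.leaf (nat_lit 576)) (.node (nat_lit 142040) (.leaf (nat_lit 192)) (.leaf (nat_lit 576)))) (.node (nat_lit 142694) (.node (nat_lit 142336) (.leaf (nat_lit 24)) (.leaf (nat_lit 192))) (.node (nat_lit 142934) (.leaf (nat_lit 576)) (.leaf (nat_lit 960))))) (.node (nat_lit 144609) (.node (nat_lit 143483) (.leaf (nat_lit 768)) (.node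 (nat_lit 144067) (.leaf (nat_lit 192)) (.leaf (nat_lit 24)))) (.node (nat_lit 144964) (.node (nat_lit 144751) (.leaf (nat_lit 192)) (.leaf (nat_lit 576))) (.node (nat_lit 145542) (.leaf (nat_lit 192)) (.leaf (nat_lit 576)))))))) (.node (nat_lit 152090) (.node (nat_lit 149160) (.node (nat_lit 147749) (.node (nat_lit 146923) (.node (nat_lit 146303) (.leaf (nat_lit 768)) (.node (nat_lit 146399) (.leaf (nat_lit 192)) (.leaf (nat_lit 768)))) (.node (nat_lit 147560) (.node (nat_lit 146970) (.leaf (nat_lit 576)) (.leaf (nat_lit 24))) (.node (nat_lit 147726) (.leaf (nat_lit 192)) (.leaf (nat_lit 576))))) (.node (nat_lit 148712) (.node (nat_lit 148390) (.leaf (nat_lit 960)) (.node (nat_lit 148519) (.leaf (nat_lit 192)) (.leaf (nat_lit 768)))) (.node (nat_lit 148990) (.node (nat_lit 148932) (.leaf (nat_lit 24)) (.leaf (nat_lit 960))) (.node (nat_lit 149127) (.leaf (nat_lit 576)) (.leaf (nat_lit 192)))))) (.node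 (nat_lit 150461) (.node (nat_lit 149734) (.node (nat_lit 149222) (.leaf (nat_lit 24)) (.node (nat_lit 149263) (.leaf (nat_lit 576)) (.leaf (nat_lit 24)))) (.node (nat_lit 150215) (.node (nat_lit 149831) (.leaf (nat_lit 192)) (.leaf (nat_lit 960))) (.node (nat_lit 150295) (.leaf (nat_lit 192)) (.leaf (nat_lit 576))))) (.node (nat_lit 151302) (.node (nat_lit 150978) (.leaf (nat_lit 192)) (.node (nat_lit 151056) (.leaf (nat_lit 576)) (.leaf (nat_lit 192)))) (.node (nat_lit 151735) (.node (nat_lit 151438) (.leaf (nat_lit 24)) (.leaf (nat_lit 576))) (.node (nat_lit 151919) (.leaf (nat_lit 192)) (.leaf (nat_lit 24))))))) (.node (nat_lit 155090) (.node (nat_lit 153206) (.node (nat_lit 152731) (.node (nat_lit 152358) (.leaf (nat_lit 576)) (.node (nat_lit 152464) (.leaf (nat_lit 192)) (.leaf (nat_lit 24)))) (.node (nat_lit 153087) (.node (nat_lit 153015) (.leaf (nat_lit 960)) (.leaf (nat_lit 192))) (.node (nat_lit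 153168) (.leaf (nat_lit 576)) (.leaf (nat_lit 192))))) (.node (nat_lit 154385) (.node (nat_lit 153632) (.leaf (nat_lit 24)) (.node (nat_lit 154137) (.leaf (nat_lit 960)) (.leaf (nat_lit 24)))) (.node (nat_lit 154946) (.node (nat_lit 154578) (.leaf (nat_lit 192)) (.leaf (nat_lit 576))) (.node (nat_lit 155023) (.leaf (nat_lit 192)) (.leaf (nat_lit 768)))))) (.node (nat_lit 156998) (.node (nat_lit 155985) (.node (nat_lit 155141) (.leaf (nat_lit 576)) (.node (nat_lit 155364) (.leaf (nat_lit 24)) (.leaf (nat_lit 192)))) (.node (nat_lit 156765) (.node (nat_lit 156439) (.leaf (nat_lit 576)) (.leaf (nat_lit 24))) (.node (nat_lit 156931) (.leaf (nat_lit 192)) (.leaf (nat_lit 960))))) (.node (nat_lit 158399) (.node (nat_lit 157940) (.leaf (nat_lit 192)) (.node (nat_lit 158113) (.leaf (nat_lit 576)) (.leaf (nat_lit 768)))) (.node (nat_lit 158573) (.node (nat_lit 158429) (.leaf (nat_lit 576)) (.leaf (nat_lit 192)))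 (.node (nat_lit 158876) (.leaf (nat_lit 576)) (.leaf (nat_lit 768))))))))) (.node (nat_lit 169379) (.node (nat_lit 164632) (.node (nat_lit 161754) (.node (nat_lit 159931) (.node (nat_lit 159282) (.node (nat_lit 159137) (.leaf (nat_lit 960)) (.node (nat_lit 159215) (.leaf (nat_lit 768)) (.leaf (nat_lit 576)))) (.node (nat_lit 159515) (.leaf (nat_lit 768)) (.node (nat_lit 159851) (.leaf (nat_lit 192)) (.leaf (nat_lit 576))))) (.node (nat_lit 160357) (.node (nat_lit 160003) (.leaf (nat_lit 768)) (.node (nat_lit 160272) (.leaf (nat_lit 576)) (.leaf (nat_lit 960)))) (.node (nat_lit 160587) (.node (nat_lit 160428) (.leaf (nat_lit 768)) (.leaf (nat_lit 192))) (.node (nat_lit 161038) (.leaf (nat_lit 24)) (.leaf (nat_lit 768)))))) (.node (nat_lit 162934) (.node (nat_lit 162226) (.node (nat_lit 161966) (.leaf (nat_lit 576)) (.node (nat_lit 162078) (.leaf (nat_lit 768)) (.leaf (nat_lit 576)))) (.node (nat_lit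 162757) (.node (nat_lit 162379) (.leaf (nat_lit 192)) (.leaf (nat_lit 768))) (.node (nat_lit 162903) (.leaf (nat_lit 960)) (.leaf (nat_lit 768))))) (.node (nat_lit 163614) (.node (nat_lit 163049) (.leaf (nat_lit 192)) (.node (nat_lit 163457) (.leaf (nat_lit 24)) (.leaf (nat_lit 576)))) (.node (nat_lit 164026) (.node (nat_lit 163805) (.leaf (nat_lit 24)) (.leaf (nat_lit 576))) (.node (nat_lit 164294) (.leaf (nat_lit 192)) (.leaf (nat_lit 576))))))) (.node (nat_lit 166048) (.node (nat_lit 165256) (.node (nat_lit 164808) (.node (nat_lit 164646) (.leaf (nat_lit 768)) (.node (nat_lit 164736) (.leaf (nat_lit 576)) (.leaf (nat_lit 960)))) (.node (nat_lit 164859) (.node (nat_lit 164823) (.leaf (nat_lit 576)) (.leaf (nat_lit 960))) (.node (nat_lit 165046) (.leaf (nat_lit 768)) (.leaf (nat_lit 576))))) (.node (nat_lit 165783) (.node (nat_lit 165408) (.leaf (nat_lit 960)) (.node (nat_lit 165767) (.leaf (nat_lit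 24)) (.leaf (nat_lit 192)))) (.node (nat_lit 165937) (.node (nat_lit 165916) (.leaf (nat_lit 960)) (.leaf (nat_lit 768))) (.node (nat_lit 166017) (.leaf (nat_lit 24)) (.leaf (nat_lit 960)))))) (.node (nat_lit 168118) (.node (nat_lit 167081) (.node (nat_lit 166393) (.leaf (nat_lit 192)) (.node (nat_lit 166674) (.leaf (nat_lit 24)) (.leaf (nat_lit 192)))) (.node (nat_lit 167604) (.node (nat_lit 167206) (.leaf (nat_lit 24)) (.leaf (nat_lit 576))) (.node (nat_lit 168005) (.leaf (nat_lit 192)) (.leaf (nat_lit 576))))) (.node (nat_lit 168310) (.node (nat_lit 168250) (.leaf (nat_lit 768)) (.node (nat_lit 168258) (.leaf (nat_lit 192)) (.leaf (nat_lit 576)))) (.node (nat_lit 168869) (.node (nat_lit 168836) (.leaf (nat_lit 192)) (.leaf (nat_lit 960))) (.node (nat_lit 169316) (.leaf (nat_lit 576)) (.leaf (nat_lit 960)))))))) (.node (nat_lit 174028) (.node (nat_lit 172532) (.node (nat_lit 170632) (.node (nat_lit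 169947) (.node (nat_lit 169637) (.leaf (nat_lit 576)) (.node (nat_lit 169746) (.leaf (nat_lit 192)) (.leaf (nat_lit 576)))) (.node (nat_lit 170412) (.node (nat_lit 170345) (.leaf (nat_lit 192)) (.leaf (nat_lit 960))) (.node (nat_lit 170451) (.leaf (nat_lit 768)) (.leaf (nat_lit 192))))) (.node (nat_lit 171526) (.node (nat_lit 171251) (.leaf (nat_lit 768)) (.node (nat_lit 171467) (.leaf (nat_lit 576)) (.leaf (nat_lit 24)))) (.node (nat_lit 171976) (.node (nat_lit 171638) (.leaf (nat_lit 48)) (.leaf (nat_lit 768))) (.node (nat_lit 172064) (.leaf (nat_lit 960)) (.leaf (nat_lit 192)))))) (.node (nat_lit 173060) (.node (nat_lit 172730) (.node (nat_lit 172540) (.leaf (nat_lit 768)) (.node (nat_lit 172661) (.leaf (nat_lit 192)) (.leaf (nat_lit 24)))) (.node (nat_lit 172975) (.node (nat_lit 172828) (.leaf (nat_lit 192)) (.leaf (nat_lit 768))) (.node (nat_lit 173053) (.leaf (nat_lit 192)) (.leaf (nat_lit 24)))))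 (.node (nat_lit 173244) (.node (nat_lit 173100) (.leaf (nat_lit 192)) (.node (nat_lit 173137) (.leaf (nat_lit 960)) (.leaf (nat_lit 192)))) (.node (nat_lit 173991) (.node (nat_lit 173962) (.leaf (nat_lit 576)) (.leaf (nat_lit 960))) (.node (nat_lit 174027) (.leaf (nat_lit 192)) (.leaf (nat_lit 576))))))) (.node (nat_lit 176397) (.node (nat_lit 175027) (.node (nat_lit 174692) (.node (nat_lit 174140) (.leaf (nat_lit 960)) (.node (nat_lit 174329) (.leaf (nat_lit 192)) (.leaf (nat_lit 576)))) (.node (nat_lit 174928) (.node (nat_lit 174793) (.leaf (nat_lit 24)) (.leaf (nat_lit 960))) (.node (nat_lit 174985) (.leaf (nat_lit 576)) (.leaf (nat_lit 192))))) (.node (nat_lit 175288) (.node (nat_lit 175108) (.leaf (nat_lit 24)) (.node (nat_lit 175263) (.leaf (nat_lit 192)) (.leaf (nat_lit 576)))) (.node (nat_lit 175771) (.node (nat_lit 175675) (.leaf (nat_lit 768)) (.leaf (nat_lit 24))) (.node (nat_lit 175973)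 (.leaf (nat_lit 960)) (.leaf (nat_lit 192)))))) (.node (nat_lit 177296) (.node (nat_lit 176885) (.node (nat_lit 176637) (.leaf (nat_lit 768)) (.node (nat_lit 176681) (.leaf (nat_lit 192)) (.leaf (nat_lit 24)))) (.node (nat_lit 177013) (.node (nat_lit 176928) (.leaf (nat_lit 576)) (.leaf (nat_lit 192))) (.node (nat_lit 177104) (.leaf (nat_lit 960)) (.leaf (nat_lit 192))))) (.node (nat_lit 178320) (.node (nat_lit 177413) (.leaf (nat_lit 576)) (.node (nat_lit 178130) (.leaf (nat_lit 192)) (.leaf (nat_lit 576)))) (.node (nat_lit 178741) (.node (nat_lit 178410) (.leaf (nat_lit 24)) (.leaf (nat_lit 768))) (.node (nat_lit 179133) (.leaf (nat_lit 576)) (.leaf (nat_lit 192))))))))))))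
noncomputable def HL_soc_F : Fm := (.all HL_L (.or (.qf (.eq (.v (nat_lit 0)) .one)) (.exF HL_L (fun cs => HL_soc_t1.find (Nat.mod (nth (nat_lit 0) cs (nat_lit 0)) (nat_lit 179173))) (.exF HL_L (fun cs => HL_soc_t0.find (Nat.mod (Nat.add (nth (nat_lit 0) cs (nat_lit 0)) (Nat.mul (nat_lit 7919) (nth (nat_lit 0) cs (nat_lit 1)))) (nat_lit 130724))) (.qf (.or (.eq (.mul (.mul (.v (nat_lit 0)) (.v (nat_lit 2))) (.inv (.v (nat_lit 0)))) (.v (nat_lit 3))) (.or (.eq (.mul (.mul (.v (nat_lit 0)) (.v (nat_lit 2))) (.inv (.v (nat_lit 0)))) (.v (nat_lit 3))) (.or (.eq (.mul (.mul (.v (nat_lit 0)) (.mul (.mul (.mul (.v (nat_lit 2)) (.v (nat_lit 1))) (.inv (.v (nat_lit 2)))) (.inv (.v (nat_lit 1))))) (.inv (.v (nat_lit 0)))) (.v (nat_lit 3))) (.or (.eq (.mul (.mul (.v (nat_lit 0)) (.mul (.mul (.mul (.v (nat_lit 2)) (.v (nat_lit 1))) (.inv (.v (nat_lit 2)))) (.inv (.v (nat_lit 1))))) (.inv (.v (nat_lit 0)))) (.v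 (nat_lit 3))) (.or (.eq (.mul (.mul (.mul (.mul (.mul (.mul (.v (nat_lit 2)) (.v (nat_lit 1))) (.inv (.v (nat_lit 2)))) (.inv (.v (nat_lit 1)))) (.v (nat_lit 0))) (.inv (.mul (.mul (.mul (.v (nat_lit 2)) (.v (nat_lit 1))) (.inv (.v (nat_lit 2)))) (.inv (.v (nat_lit 1)))))) (.inv (.v (nat_lit 0)))) (.v (nat_lit 3))) (.eq (.mul (.mul (.mul (.mul (.mul (.mul (.v (nat_lit 2)) (.v (nat_lit 1))) (.inv (.v (nat_lit 2)))) (.inv (.v (nat_lit 1)))) (.v (nat_lit 0))) (.inv (.mul (.mul (.mul (.v (nat_lit 2)) (.v (nat_lit 1))) (.inv (.v (nat_lit 2)))) (.inv (.v (nat_lit 1)))))) (.inv (.v (nat_lit 0)))) (.v (nat_lit 3)))))))))))))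
theorem HL_soc_chk : Fm.chk HL_o HL_soc_F HL_cs = true := by decide +kernel
theorem HL_soc {G : Type*} [Group G] {R : ℕ → G → Prop} {z u v a b r s x X_ y Y_ : G} {H : Subgroup G}
    (M : Mdl HL_o HL_cs HL_L R [z, u, v, a, b, r, s, x, X_, y, Y_] H) :
    ∀ y_ ∈ H, y_ = 1 ∨ (∃ q_ ∈ H, ∃ k_ ∈ H, k_ * y_ * k_⁻¹ = z ∨ k_ * y_ * k_⁻¹ = z ∨ k_ * ⁅y_, q_⁆ * k_⁻¹ = z ∨ k_ * ⁅y_, q_⁆ * k_⁻¹ = z ∨ ⁅⁅y_, q_⁆, k_⁆ = z ∨ ⁅⁅y_, q_⁆, k_⁆ = z) :=
  have h : ∀ y_, InL HL_o R HL_L y_ → y_ = 1 ∨ (Good HL_o R HL_L → prods HL_o HL_L HL_o.one ≠ [] → ∃ q_, InL HL_o R HL_L q_ ∧ (Good HL_o R HL_L → prods HL_o HL_L HL_o.one ≠ [] → ∃ k_, InL HL_o R HL_L k_ ∧ (k_ * y_ * k_⁻¹ = z ∨ k_ * y_ * k_⁻¹ = z ∨ k_ * ⁅y_, q_⁆ * k_⁻¹ = z ∨ k_ * ⁅y_, q_⁆ * k_⁻¹ = z ∨ ⁅⁅y_, q_⁆, k_⁆ = z ∨ ⁅⁅y_, q_⁆, k_⁆ = z))) :=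
    Fm.sound M.μ HL_soc_F HL_soc_chk M.reps
  (fun y_ h0 => (Or.imp (fun h1 => h1) (fun h1 => (Exists.imp (fun q_ h2 => ⟨M.H.iff.1 h2.1, (Exists.imp (fun k_ h3 => ⟨M.H.iff.1 h3.1, h3.2⟩) (h2.2 M.H.good M.H.ne))⟩) (h1 M.H.good M.H.ne))) (h y_ (M.H.iff.2 h0))))
theorem HL_mdl {G : Type*} [Group G] {z u v a b r s x y : G}
    (h : Q3 z u v a b x)
    (k : KY z u v x y)
    (q : QT z u v a b)
    (t : TL z u v a b r s)
    (l : XU r s x y)
    (n1 : z ≠ 1) :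
    ∃ R, Mdl HL_o HL_cs HL_L R [z, u, v, a, b, r, s, x, x⁻¹, y, y⁻¹] (sp [z, u, v, a, b, r, s, x, x⁻¹, y, y⁻¹]) ∧ #(sp [z, u, v, a, b, r, s, x, x⁻¹, y, y⁻¹]) = 1152 :=
  mdl_of HL_P rfl (HL_r h k q t l) (.v (nat_lit 0)) (.v (nat_lit 0)) n1 n1 
    fun _ ms _ M hl => match ms, M, (hl : ms.length = 11) with
      | [_, _, _, _, _, _, _, _, _, _, _], M, _ => HL_soc M
noncomputable def HL_lQ : List ℕ := [(nat_lit 0xbdab49ca307b9ac5a928398a418820), (nat_lit 0xb5e958c2725a5487b5cc20c4731401), (nat_lit 0xad2f67b56a9a6478c1c460ca830820), (nat_lit 0xad2f65c1f28994c9b4683b824480a2), (nat_lit 0x9c5ebbb2c8aa4f2a11d06984a19420), (nat_lit 0x9c56fbc2d2a15a8aa84c385c4024c3), (nat_lit 0xa56d75a9ed8ba049c9274184c19401), (nat_lit 0xa56d77c97098da88a8cc2240770445), (nat_lit 0x8cd6fb22eca3890a9d3250cad30801), (nat_lit 0x8cdebb4af0a894ca34a8201270b866), (nat_lit 0xbdab48aa6d58e077c8c462428700a2), (nat_lit 0x7ae71a9e84bb98db212a90c5031420),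 (nat_lit 0x5be71a36aab8a07b48a4401cc0a4c3), (nat_lit 0x7ae71a22acb1892b9c706a42a70045), (nat_lit 0x5be71aca90b0548bb40c394c410dc9), (nat_lit 0x5be33ab288b8cf0b10d25380d484a2), (nat_lit 0xbda959a22c588f0790b26852a038c3), (nat_lit 0x7ae33aaa8db1644bc0476052803866), (nat_lit 0xb5e959b62a79a445c0674380c48445), (nat_lit 0x5be33a12a7b250abb1cd818b218801), (nat_lit 0x7ae33a42b2b81acb2828208672992e), (nat_lit 0xb5eb48b2687949259c50501cd0a466), (nat_lit 0x9c5ebb12e7a0d0dab0ca9383048045), (nat_lit 0x9c56fb2aeda8247a4024408cc28dc9), (nat_lit 0x8cd6fb9ec4a998aa206d82412704a2), (nat_lit 0xa56f659de49950d8b04a801320b8c3), (nat_lit 0xa56f67b1688849099c12688ca28d2e), (nat_lit 0x8cdebbb6caa0604ac807614681192e), (nat_lit 0xad2d75a1ec980f2890305146d119c9), (nat_lit 0xad2d7791678898a9a0ad905d002466), (nat_lit 0xbda95892677818d5a02a814d210d2e), (nat_lit 0xb5eb499e245850a7b00d90870299c9)]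
noncomputable def HL_lQ_W : List (List ℕ) := [[],
  [(nat_lit 0)],
  [(nat_lit 1)],
  [(nat_lit 2)],
  [(nat_lit 3)],
  [(nat_lit 4)],
  [(nat_lit 0), (nat_lit 1)],
  [(nat_lit 0), (nat_lit 2)],
  [(nat_lit 0), (nat_lit 3)],
  [(nat_lit 0), (nat_lit 4)],
  [(nat_lit 1), (nat_lit 2)],
  [(nat_lit 1), (nat_lit 3)],
  [(nat_lit 1), (nat_lit 4)],
  [(nat_lit 2), (nat_lit 3)],
  [(nat_lit 2), (nat_lit 4)],
  [(nat_lit 3), (nat_lit 2)],
  [(nat_lit 3), (nat_lit 4)],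
  [(nat_lit 4), (nat_lit 1)],
  [(nat_lit 0), (nat_lit 1), (nat_lit 2)],
  [(nat_lit 0), (nat_lit 1), (nat_lit 3)],
  [(nat_lit 0), (nat_lit 2), (nat_lit 4)],
  [(nat_lit 0), (nat_lit 3), (nat_lit 4)],
  [(nat_lit 1), (nat_lit 2), (nat_lit 3)],
  [(nat_lit 1), (nat_lit 2), (nat_lit 4)],
  [(nat_lit 1), (nat_lit 3), (nat_lit 2)],
  [(nat_lit 1), (nat_lit 3), (nat_lit 4)],
  [(nat_lit 2), (nat_lit 3), (nat_lit 4)],
  [(nat_lit 2), (nat_lit 4), (nat_lit 1)],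
  [(nat_lit 3), (nat_lit 2), (nat_lit 4)],
  [(nat_lit 3), (nat_lit 4), (nat_lit 1)],
  [(nat_lit 1), (nat_lit 2), (nat_lit 3), (nat_lit 4)],
  [(nat_lit 1), (nat_lit 3), (nat_lit 2), (nat_lit 4)]]
noncomputable def HL_lQ_h (c : ℕ) : ℕ := Nat.mod c (nat_lit 205)
theorem HL_lQ_E {G : Type*} [Group G] {R : ℕ → G → Prop} {z u v a b r s x y : G} {H : Subgroup G}
    (M : Mdl HL_o HL_cs HL_L R [z, u, v, a, b, r, s, x, x⁻¹, y, y⁻¹] H) :
    EnumS R HL_lQ (sp [z, u, v, a, b]) :=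
  enumS_sp M.μ.1 (M.reps.tms M.μ.1 [(.v (nat_lit 0)), (.v (nat_lit 1)), (.v (nat_lit 2)), (.v (nat_lit 3)), (.v (nat_lit 4))] (cs' := [(nat_lit 0xb5e958c2725a5487b5cc20c4731401), (nat_lit 0xad2f67b56a9a6478c1c460ca830820), (nat_lit 0xad2f65c1f28994c9b4683b824480a2), (nat_lit 0x9c5ebbb2c8aa4f2a11d06984a19420), (nat_lit 0x9c56fbc2d2a15a8aa84c385c4024c3)]) (by decide +kernel))
    (Ws := HL_lQ_W) (by decide +kernel) (by decide +kernel)
theorem HL_lQ_c {G : Type*} [Group G] {R : ℕ → G → Prop} {z u v a b r s x y : G} {H : Subgroup G}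
    (M : Mdl HL_o HL_cs HL_L R [z, u, v, a, b, r, s, x, x⁻¹, y, y⁻¹] H) :
    #(sp [z, u, v, a, b]) = 32 :=
  (HL_lQ_E M).card M.μ (h := HL_lQ_h) (by decide +kernel)
noncomputable def HL_lT : List ℕ := [(nat_lit 0xbdab49ca307b9ac5a928398a418820), (nat_lit 0xb5e958c2725a5487b5cc20c4731401), (nat_lit 0xad2f67b56a9a6478c1c460ca830820), (nat_lit 0xad2f65c1f28994c9b4683b824480a2), (nat_lit 0x9c5ebbb2c8aa4f2a11d06984a19420), (nat_lit 0x9c56fbc2d2a15a8aa84c385c4024c3), (nat_lit 0xad2f69b62a79a4c5c0683b8a448820), (nat_lit 0x941aa65d163a6b3251d178c4b31420), (nat_lit 0xa56d75a9ed8ba049c9274184c19401), (nat_lit 0xa56d77c97098da88a8cc2240770445), (nat_lit 0x8cd6fb22eca3890a9d3250cad30801), (nat_lit 0x8cdebb4af0a894ca34a8201270b866), (nat_lit 0xa56d78aa6d58e087c8cc2244771401), (nat_lit 0x8494d4599723a913d533598af18801), (nat_lit 0xbdab48aa6d58e077c8c462428700a2), (nat_lit 0x7ae71a9e84bb98db212a90c5031420), (nat_lit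 0x5be71a36aab8a07b48a4401cc0a4c3), (nat_lit 0xbdab47c97098da78a8c4624a870820), (nat_lit 0x6aa503d49463aef4592b9985119420), (nat_lit 0x7ae71a22acb1892b9c706a42a70045), (nat_lit 0x5be71aca90b0548bb40c394c410dc9), (nat_lit 0xbdab45a9ed8ba0c9c92839824180a2), (nat_lit 0x6aa50258f740e93654d17a42b70045), (nat_lit 0x5be33ab288b8cf0b10d25380d484a2), (nat_lit 0xbda959a22c588f0790b26852a038c3), (nat_lit 0x9c5ebab288b8cedb10ca9385049420), (nat_lit 0x620e494e116b9f752d36a8cb430820), (nat_lit 0x7ae33aaa8db1644bc0476052803866), (nat_lit 0x9c56faaa8db1648bc04c384c400dc9), (nat_lit 0x6208795a1750ab16d0b37852b03866), (nat_lit 0x7ae71b9ec4a9992a20706a44a71420), (nat_lit 0x5be71bb6caa0608ac80c395c4124c3), (nat_lit 0x6aa506551438ef3258d17a44b71420), (nat_lit 0x8494d6551438eeb258cf8a413704a2), (nat_lit 0x849aa44d913897723cb6a01350b8c3), (nat_lit 0xb5e959b62a79a445c0674380c48445), (nat_lit 0x5be33a12a7b250abb1cd818b218801),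 (nat_lit 0xb5e955c1f2899449b4674384c49401), (nat_lit 0x53612250f5426cb65dcf88cb330801), (nat_lit 0x7ae33a42b2b81acb2828208672992e), (nat_lit 0xb5e957b56a9a6488c1cc20c0730445), (nat_lit 0x536123dc9661ab1450735b80f484a2), (nat_lit 0xb5eb48b2687949259c50501cd0a466), (nat_lit 0x8cd6fa22acb188ab9c6d824b270801), (nat_lit 0x4308784653525766bdd7a185519401), (nat_lit 0x8cdeba36aab8a0cb48a8200670992e), (nat_lit 0x430e485e566969355451581cf0a4c3), (nat_lit 0x5be33b12e7a0d10ab0d2538ad48801), (nat_lit 0x7ae33b2aeda824ca4028209272b866), (nat_lit 0x536124519521ad13dc735b8af48801), (nat_lit 0x941aa4519521acf3dc6b9b83148045), (nat_lit 0x9414d64513215f63ac57a85d402466), (nat_lit 0x9c5ebb12e7a0d0dab0ca9383048045), (nat_lit 0x9c56fb2aeda8247a4024408cc28dc9), (nat_lit 0xad2f68c2725a5477b5c460c28300a2), (nat_lit 0x8cd6fb9ec4a998aa206d82412704a2), (nat_lit 0xa56f659de49950d8b04a801320b8c3), (nat_lit 0x391886bd4b92675845d4b98b618820),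 (nat_lit 0x5be71b4af0a8947a34a4400cc08dc9), (nat_lit 0x21d88555b4916cf85c4b881330b866), (nat_lit 0x9c56fa42b2b81a7b2824409cc2a4c3), (nat_lit 0x941aa3dc9661aaf4506b9b85149420), (nat_lit 0x6aa123ac8f4167464455b8536038c3), (nat_lit 0xa56f67b1688849099c12688ca28d2e), (nat_lit 0x7ae71b22eca388da9d2a90c3030045), (nat_lit 0x39188545b380d7793cd6ab834480a2), (nat_lit 0x8cdebbb6caa0604ac807614681192e), (nat_lit 0x21d886dd5680691954137886b2992e), (nat_lit 0x9c5eba12a7b2512bb1d06982a18045), (nat_lit 0x941aa250f5426d365dd178c2b30045), (nat_lit 0x6aa12244f3601f742c36a08d528d2e), (nat_lit 0xad2d75a1ec980f2890305146d119c9), (nat_lit 0x5be33bb2c8aa4eaa11cd81812184a2), (nat_lit 0x21d0c6cd51919f682c77a241570445), (nat_lit 0xad2d7791678898a9a0ad905d002466), (nat_lit 0xad2d79a22c588ea790ad90470019c9), (nat_lit 0xbda955a1ec980ed8902a81532138c3), (nat_lit 0x620e46cd51919f582c74ba4b670820), (nat_lit 0x620e482e4f51a356cc74ba436700a2),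 (nat_lit 0x7ae33bc2d2a15a4aa847604680192e), (nat_lit 0x3910c6d15580aeb958af985d1024c3), (nat_lit 0xbda9579167889909a0b2684ca00d2e), (nat_lit 0x620876d15580af1958b37846b0192e), (nat_lit 0x6208785255682ef5582b894731192e), (nat_lit 0x8cd6fa9e84bb990b213250c0d304a2), (nat_lit 0xa56f699e24585107b0126892a2b8c3), (nat_lit 0x3918893e0b68e77544d6ab8b448820), (nat_lit 0x8cdebaca90b0544bb4076152813866), (nat_lit 0x21d8895614506d16dc137892b2b866), (nat_lit 0x5361265d163a6ab251cf88c13304a2), (nat_lit 0x6aa1242d8f3827724436a09352b8c3), (nat_lit 0x4308793e0b68e74544d5b381748445), (nat_lit 0x9414d42d8f3827524434b0877299c9), (nat_lit 0x5365023ceb60a3544cb4b01d70a466), (nat_lit 0x5365044d913897523cb4b0077099c9), (nat_lit 0xa56d79ca307b9a45a9274180c18445), (nat_lit 0x21d0c52daf83a3494d35b0c5731401), (nat_lit 0x8494d258f740e8b654cf8a4b370801), (nat_lit 0x3910c559b7902b385031594cf10dc9), (nat_lit 0x8494d3d49463af1459335980f184a2),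 (nat_lit 0x536503cc914057663c17a9474119c9), (nat_lit 0xa56f68b2687948d59c4a800d208d2e), (nat_lit 0xb5eb47b1688848a99c0d909d02a466), (nat_lit 0x43087545b380d7493cd5b385749401), (nat_lit 0xb5eb459de4995128b0505006d099c9), (nat_lit 0x430e4555b4916d385c51580cf08dc9), (nat_lit 0x430e495614506cb6dc0f988d128dc9), (nat_lit 0xad2d789267781925a030515cd12466), (nat_lit 0x21d0c82e4f51a366cc77a245571401), (nat_lit 0x3910c85255682f355831595cf124c3), (nat_lit 0x6aa504599723a8f3d52b9983118045), (nat_lit 0x5365063d0b206363cc17a95d412466), (nat_lit 0x849aa63d0b206343cc15b94d610d2e), (nat_lit 0x6aa1264513215f43ac55b84d600d2e), (nat_lit 0xbda95892677818d5a02a814d210d2e), (nat_lit 0xb5eb499e245850a7b00d90870299c9), (nat_lit 0x21d8885e566968f5544b880730992e), (nat_lit 0x62087559b7902af8502b8953313866), (nat_lit 0x849aa3cc914057463c15b9536138c3), (nat_lit 0x9414d3ac8f4167664457a8474019c9), (nat_lit 0x3918884653525756bdd4b9836180a2),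 (nat_lit 0x620e452daf83a3794d36a8c34300a2), (nat_lit 0x849aa23ceb60a3744cb6a00d508d2e), (nat_lit 0x9414d244f3601f542c34b09d72a466), (nat_lit 0x21d0c94e116b9f452d35b0c1730445), (nat_lit 0x430e46dd568068b9540f989d12a4c3), (nat_lit 0x3910c95a1750aab6d0af984d100dc9), (nat_lit 0x430876bd4b92676845d7a181518445)]
noncomputable def HL_lT_W : List (List ℕ) := [[],
  [(nat_lit 0)],
  [(nat_lit 1)],
  [(nat_lit 2)],
  [(nat_lit 3)],
  [(nat_lit 4)],
  [(nat_lit 5)],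
  [(nat_lit 6)],
  [(nat_lit 0), (nat_lit 1)],
  [(nat_lit 0), (nat_lit 2)],
  [(nat_lit 0), (nat_lit 3)],
  [(nat_lit 0), (nat_lit 4)],
  [(nat_lit 0), (nat_lit 5)],
  [(nat_lit 0), (nat_lit 6)],
  [(nat_lit 1), (nat_lit 2)],
  [(nat_lit 1), (nat_lit 3)],
  [(nat_lit 1), (nat_lit 4)],
  [(nat_lit 1), (nat_lit 5)],
  [(nat_lit 1), (nat_lit 6)],
  [(nat_lit 2), (nat_lit 3)],
  [(nat_lit 2), (nat_lit 4)],
  [(nat_lit 2), (nat_lit 5)],
  [(nat_lit 2), (nat_lit 6)],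
  [(nat_lit 3), (nat_lit 2)],
  [(nat_lit 3), (nat_lit 4)],
  [(nat_lit 3), (nat_lit 5)],
  [(nat_lit 3), (nat_lit 6)],
  [(nat_lit 4), (nat_lit 1)],
  [(nat_lit 4), (nat_lit 5)],
  [(nat_lit 4), (nat_lit 6)],
  [(nat_lit 5), (nat_lit 3)],
  [(nat_lit 5), (nat_lit 4)],
  [(nat_lit 5), (nat_lit 6)],
  [(nat_lit 6), (nat_lit 2)],
  [(nat_lit 6), (nat_lit 4)],
  [(nat_lit 0), (nat_lit 1), (nat_lit 2)],
  [(nat_lit 0), (nat_lit 1), (nat_lit 3)],
  [(nat_lit 0), (nat_lit 1), (nat_lit 5)],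
  [(nat_lit 0), (nat_lit 1), (nat_lit 6)],
  [(nat_lit 0), (nat_lit 2), (nat_lit 4)],
  [(nat_lit 0), (nat_lit 2), (nat_lit 5)],
  [(nat_lit 0), (nat_lit 2), (nat_lit 6)],
  [(nat_lit 0), (nat_lit 3), (nat_lit 4)],
  [(nat_lit 0), (nat_lit 3), (nat_lit 5)],
  [(nat_lit 0), (nat_lit 3), (nat_lit 6)],
  [(nat_lit 0), (nat_lit 4), (nat_lit 5)],
  [(nat_lit 0), (nat_lit 4), (nat_lit 6)],
  [(nat_lit 0), (nat_lit 5), (nat_lit 3)],
  [(nat_lit 0), (nat_lit 5), (nat_lit 4)],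
  [(nat_lit 0), (nat_lit 5), (nat_lit 6)],
  [(nat_lit 0), (nat_lit 6), (nat_lit 2)],
  [(nat_lit 0), (nat_lit 6), (nat_lit 4)],
  [(nat_lit 1), (nat_lit 2), (nat_lit 3)],
  [(nat_lit 1), (nat_lit 2), (nat_lit 4)],
  [(nat_lit 1), (nat_lit 2), (nat_lit 5)],
  [(nat_lit 1), (nat_lit 3), (nat_lit 2)],
  [(nat_lit 1), (nat_lit 3), (nat_lit 4)],
  [(nat_lit 1), (nat_lit 3), (nat_lit 6)],
  [(nat_lit 1), (nat_lit 4), (nat_lit 5)],
  [(nat_lit 1), (nat_lit 4), (nat_lit 6)],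
  [(nat_lit 1), (nat_lit 5), (nat_lit 4)],
  [(nat_lit 1), (nat_lit 5), (nat_lit 6)],
  [(nat_lit 1), (nat_lit 6), (nat_lit 4)],
  [(nat_lit 2), (nat_lit 3), (nat_lit 4)],
  [(nat_lit 2), (nat_lit 3), (nat_lit 5)],
  [(nat_lit 2), (nat_lit 3), (nat_lit 6)],
  [(nat_lit 2), (nat_lit 4), (nat_lit 1)],
  [(nat_lit 2), (nat_lit 4), (nat_lit 6)],
  [(nat_lit 2), (nat_lit 5), (nat_lit 3)],
  [(nat_lit 2), (nat_lit 5), (nat_lit 6)],
  [(nat_lit 2), (nat_lit 6), (nat_lit 4)],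
  [(nat_lit 3), (nat_lit 2), (nat_lit 4)],
  [(nat_lit 3), (nat_lit 2), (nat_lit 5)],
  [(nat_lit 3), (nat_lit 2), (nat_lit 6)],
  [(nat_lit 3), (nat_lit 4), (nat_lit 1)],
  [(nat_lit 3), (nat_lit 4), (nat_lit 5)],
  [(nat_lit 3), (nat_lit 5), (nat_lit 4)],
  [(nat_lit 3), (nat_lit 5), (nat_lit 6)],
  [(nat_lit 3), (nat_lit 6), (nat_lit 2)],
  [(nat_lit 4), (nat_lit 1), (nat_lit 5)],
  [(nat_lit 4), (nat_lit 1), (nat_lit 6)],
  [(nat_lit 4), (nat_lit 5), (nat_lit 3)],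
  [(nat_lit 4), (nat_lit 5), (nat_lit 6)],
  [(nat_lit 4), (nat_lit 6), (nat_lit 2)],
  [(nat_lit 5), (nat_lit 3), (nat_lit 2)],
  [(nat_lit 5), (nat_lit 3), (nat_lit 4)],
  [(nat_lit 5), (nat_lit 3), (nat_lit 6)],
  [(nat_lit 5), (nat_lit 4), (nat_lit 1)],
  [(nat_lit 5), (nat_lit 4), (nat_lit 6)],
  [(nat_lit 5), (nat_lit 6), (nat_lit 2)],
  [(nat_lit 5), (nat_lit 6), (nat_lit 4)],
  [(nat_lit 6), (nat_lit 2), (nat_lit 3)],
  [(nat_lit 6), (nat_lit 2), (nat_lit 4)],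
  [(nat_lit 6), (nat_lit 4), (nat_lit 1)],
  [(nat_lit 6), (nat_lit 4), (nat_lit 5)],
  [(nat_lit 0), (nat_lit 1), (nat_lit 2), (nat_lit 5)],
  [(nat_lit 0), (nat_lit 1), (nat_lit 3), (nat_lit 6)],
  [(nat_lit 0), (nat_lit 1), (nat_lit 5), (nat_lit 6)],
  [(nat_lit 0), (nat_lit 2), (nat_lit 4), (nat_lit 6)],
  [(nat_lit 0), (nat_lit 2), (nat_lit 5), (nat_lit 6)],
  [(nat_lit 0), (nat_lit 2), (nat_lit 6), (nat_lit 4)],
  [(nat_lit 0), (nat_lit 3), (nat_lit 4), (nat_lit 5)],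
  [(nat_lit 0), (nat_lit 3), (nat_lit 5), (nat_lit 4)],
  [(nat_lit 0), (nat_lit 3), (nat_lit 5), (nat_lit 6)],
  [(nat_lit 0), (nat_lit 4), (nat_lit 5), (nat_lit 3)],
  [(nat_lit 0), (nat_lit 4), (nat_lit 5), (nat_lit 6)],
  [(nat_lit 0), (nat_lit 4), (nat_lit 6), (nat_lit 2)],
  [(nat_lit 0), (nat_lit 5), (nat_lit 3), (nat_lit 4)],
  [(nat_lit 0), (nat_lit 5), (nat_lit 3), (nat_lit 6)],
  [(nat_lit 0), (nat_lit 5), (nat_lit 4), (nat_lit 6)],
  [(nat_lit 0), (nat_lit 5), (nat_lit 6), (nat_lit 2)],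
  [(nat_lit 0), (nat_lit 5), (nat_lit 6), (nat_lit 4)],
  [(nat_lit 0), (nat_lit 6), (nat_lit 2), (nat_lit 4)],
  [(nat_lit 0), (nat_lit 6), (nat_lit 4), (nat_lit 5)],
  [(nat_lit 1), (nat_lit 2), (nat_lit 3), (nat_lit 4)],
  [(nat_lit 1), (nat_lit 3), (nat_lit 2), (nat_lit 4)],
  [(nat_lit 1), (nat_lit 4), (nat_lit 5), (nat_lit 6)],
  [(nat_lit 1), (nat_lit 5), (nat_lit 4), (nat_lit 6)],
  [(nat_lit 1), (nat_lit 5), (nat_lit 6), (nat_lit 4)],
  [(nat_lit 1), (nat_lit 6), (nat_lit 4), (nat_lit 5)],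
  [(nat_lit 2), (nat_lit 3), (nat_lit 5), (nat_lit 6)],
  [(nat_lit 2), (nat_lit 5), (nat_lit 3), (nat_lit 6)],
  [(nat_lit 2), (nat_lit 5), (nat_lit 6), (nat_lit 4)],
  [(nat_lit 2), (nat_lit 6), (nat_lit 4), (nat_lit 5)],
  [(nat_lit 3), (nat_lit 2), (nat_lit 5), (nat_lit 6)],
  [(nat_lit 3), (nat_lit 5), (nat_lit 6), (nat_lit 4)],
  [(nat_lit 4), (nat_lit 1), (nat_lit 5), (nat_lit 6)],
  [(nat_lit 4), (nat_lit 5), (nat_lit 6), (nat_lit 4)]]
noncomputable def HL_lT_h (c : ℕ) : ℕ := Nat.mod c (nat_lit 3739)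
theorem HL_lT_E {G : Type*} [Group G] {R : ℕ → G → Prop} {z u v a b r s x y : G} {H : Subgroup G}
    (M : Mdl HL_o HL_cs HL_L R [z, u, v, a, b, r, s, x, x⁻¹, y, y⁻¹] H) :
    EnumS R HL_lT (sp [z, u, v, a, b, r, s]) :=
  enumS_sp M.μ.1 (M.reps.tms M.μ.1 [(.v (nat_lit 0)), (.v (nat_lit 1)), (.v (nat_lit 2)), (.v (nat_lit 3)), (.v (nat_lit 4)), (.v (nat_lit 5)), (.v (nat_lit 6))] (cs' := [(nat_lit 0xb5e958c2725a5487b5cc20c4731401), (nat_lit 0xad2f67b56a9a6478c1c460ca830820), (nat_lit 0xad2f65c1f28994c9b4683b824480a2), (nat_lit 0x9c5ebbb2c8aa4f2a11d06984a19420), (nat_lit 0x9c56fbc2d2a15a8aa84c385c4024c3), (nat_lit 0xad2f69b62a79a4c5c0683b8a448820), (nat_lit 0x941aa65d163a6b3251d178c4b31420)]) (by decide +kernel))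
    (Ws := HL_lT_W) (by decide +kernel) (by decide +kernel)
theorem HL_lT_c {G : Type*} [Group G] {R : ℕ → G → Prop} {z u v a b r s x y : G} {H : Subgroup G}
    (M : Mdl HL_o HL_cs HL_L R [z, u, v, a, b, r, s, x, x⁻¹, y, y⁻¹] H) :
    #(sp [z, u, v, a, b, r, s]) = 128 :=
  (HL_lT_E M).card M.μ (h := HL_lT_h) (by decide +kernel)
noncomputable def HL_lW : List ℕ := [(nat_lit 0xbdab49ca307b9ac5a928398a418820), (nat_lit 0xb5e958c2725a5487b5cc20c4731401), (nat_lit 0xad2f67b56a9a6478c1c460ca830820), (nat_lit 0xad2f65c1f28994c9b4683b824480a2), (nat_lit 0xad2f69b62a79a4c5c0683b8a448820), (nat_lit 0xa56d75a9ed8ba049c9274184c19401), (nat_lit 0xa56d77c97098da88a8cc2240770445), (nat_lit 0xa56d78aa6d58e087c8cc2244771401), (nat_lit 0xbdab48aa6d58e077c8c462428700a2), (nat_lit 0xbdab47c97098da78a8c4624a870820), (nat_lit 0xbdab45a9ed8ba0c9c92839824180a2), (nat_lit 0xb5e959b62a79a445c0674380c48445), (nat_lit 0xb5e955c1f2899449b4674384c49401),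 (nat_lit 0xb5e957b56a9a6488c1cc20c0730445), (nat_lit 0xad2f68c2725a5477b5c460c28300a2), (nat_lit 0xa56d79ca307b9a45a9274180c18445)]
noncomputable def HL_lW_W : List (List ℕ) := [[],
  [(nat_lit 0)],
  [(nat_lit 1)],
  [(nat_lit 2)],
  [(nat_lit 3)],
  [(nat_lit 0), (nat_lit 1)],
  [(nat_lit 0), (nat_lit 2)],
  [(nat_lit 0), (nat_lit 3)],
  [(nat_lit 1), (nat_lit 2)],
  [(nat_lit 1), (nat_lit 3)],
  [(nat_lit 2), (nat_lit 3)],
  [(nat_lit 0), (nat_lit 1), (nat_lit 2)],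
  [(nat_lit 0), (nat_lit 1), (nat_lit 3)],
  [(nat_lit 0), (nat_lit 2), (nat_lit 3)],
  [(nat_lit 1), (nat_lit 2), (nat_lit 3)],
  [(nat_lit 0), (nat_lit 1), (nat_lit 2), (nat_lit 3)]]
noncomputable def HL_lW_h (c : ℕ) : ℕ := Nat.mod c (nat_lit 55)
theorem HL_lW_E {G : Type*} [Group G] {R : ℕ → G → Prop} {z u v a b r s x y : G} {H : Subgroup G}
    (M : Mdl HL_o HL_cs HL_L R [z, u, v, a, b, r, s, x, x⁻¹, y, y⁻¹] H) :
    EnumS R HL_lW (sp [z, u, v, r]) :=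
  enumS_sp M.μ.1 (M.reps.tms M.μ.1 [(.v (nat_lit 0)), (.v (nat_lit 1)), (.v (nat_lit 2)), (.v (nat_lit 5))] (cs' := [(nat_lit 0xb5e958c2725a5487b5cc20c4731401), (nat_lit 0xad2f67b56a9a6478c1c460ca830820), (nat_lit 0xad2f65c1f28994c9b4683b824480a2), (nat_lit 0xad2f69b62a79a4c5c0683b8a448820)]) (by decide +kernel))
    (Ws := HL_lW_W) (by decide +kernel) (by decide +kernel)
theorem HL_lW_c {G : Type*} [Group G] {R : ℕ → G → Prop} {z u v a b r s x y : G} {H : Subgroup G}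
    (M : Mdl HL_o HL_cs HL_L R [z, u, v, a, b, r, s, x, x⁻¹, y, y⁻¹] H) :
    #(sp [z, u, v, r]) = 16 :=
  (HL_lW_E M).card M.μ (h := HL_lW_h) (by decide +kernel)
noncomputable def HL_lK : List ℕ := [(nat_lit 0xbdab49ca307b9ac5a928398a418820), (nat_lit 0xb5e958c2725a5487b5cc20c4731401), (nat_lit 0xad2f67b56a9a6478c1c460ca830820), (nat_lit 0xad2f65c1f28994c9b4683b824480a2), (nat_lit 0xad2f69b62a79a4c5c0683b8a448820), (nat_lit 0x724c32d8570c291056537a90b6b0e4), (nat_lit 0xa56d75a9ed8ba049c9274184c19401), (nat_lit 0xa56d77c97098da88a8cc2240770445), (nat_lit 0xa56d78aa6d58e087c8cc2244771401), (nat_lit 0x4b86615cb604ab30d2115b58f52087), (nat_lit 0xbdab48aa6d58e077c8c462428700a2), (nat_lit 0xbdab47c97098da78a8c4624a870820), (nat_lit 0x30dc90d0152cacf15e0b8b513530e4), (nat_lit 0xbdab45a9ed8ba0c9c92839824180a2), (nat_lit 0x30dc905c3612ab12d1b37c0eb9110c), (nat_lit 0x30dc92d0550aad105db37c10b930e4), (nat_lit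 0x4b8662d0550aacb05daf9c09191d88), (nat_lit 0x8494d4258e3dc6221ac50d660a45eb), (nat_lit 0xb5e959b62a79a445c0674380c48445), (nat_lit 0xb5e955c1f2899449b4674384c49401), (nat_lit 0x1992e05434142eb2da4f9a9916a087), (nat_lit 0xb5e957b56a9a6488c1cc20c0730445), (nat_lit 0x1992e0d8172b693155515c88f81d88), (nat_lit 0x1992e154b4036f30d9515c98f82087), (nat_lit 0x724c3154b4036ef0d94b8c8f38110c), (nat_lit 0x941aa63909258c538ee205221acd6f), (nat_lit 0xad2f68c2725a5477b5c460c28300a2), (nat_lit 0x724c30d8172b68f1554b8c913830e4), (nat_lit 0x5361238c864592163ae015265ac5eb), (nat_lit 0x724c305434142f12da537a8eb6910c), (nat_lit 0x53612238e9654c240e850dde0b2e71), (nat_lit 0x1992e2d8570c28b0564f9a89169d88), (nat_lit 0x5361240d863d52223a850de60b45eb), (nat_lit 0x941aa40d863d52023a812dd62b3e33), (nat_lit 0xa56d79ca307b9a45a9274180c18445), (nat_lit 0x4b86605c3612aab2d1af9c19192087), (nat_lit 0x6aa50218e365dc0426c12d622a4d6f),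 (nat_lit 0x4b8660d0152cad315e115b48f51d88), (nat_lit 0x6aa503a48e4506561aa205961bbe33), (nat_lit 0x30dc915cb604aaf0d20b8b4f35110c), (nat_lit 0x6aa5061903251c53a6a205a21bcd6f), (nat_lit 0x8494d61903251c13a6a0159e5bae71), (nat_lit 0x8494d3a48e4506161aa015a65bc5eb), (nat_lit 0x8494d218e365dc2426c50d5e0a2e71), (nat_lit 0x6aa504258e3dc6021ac12d562a3e33), (nat_lit 0x941aa238e9654c040e812de22b4d6f), (nat_lit 0x941aa38c864592563ae205161abe33), (nat_lit 0x5361263909258c138ee0151e5aae71)]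
noncomputable def HL_lK_W : List (List ℕ) := [[],
  [(nat_lit 0)],
  [(nat_lit 1)],
  [(nat_lit 2)],
  [(nat_lit 3)],
  [(nat_lit 4)],
  [(nat_lit 0), (nat_lit 1)],
  [(nat_lit 0), (nat_lit 2)],
  [(nat_lit 0), (nat_lit 3)],
  [(nat_lit 0), (nat_lit 4)],
  [(nat_lit 1), (nat_lit 2)],
  [(nat_lit 1), (nat_lit 3)],
  [(nat_lit 1), (nat_lit 4)],
  [(nat_lit 2), (nat_lit 3)],
  [(nat_lit 2), (nat_lit 4)],
  [(nat_lit 3), (nat_lit 4)],
  [(nat_lit 4), (nat_lit 1)],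
  [(nat_lit 4), (nat_lit 4)],
  [(nat_lit 0), (nat_lit 1), (nat_lit 2)],
  [(nat_lit 0), (nat_lit 1), (nat_lit 3)],
  [(nat_lit 0), (nat_lit 1), (nat_lit 4)],
  [(nat_lit 0), (nat_lit 2), (nat_lit 3)],
  [(nat_lit 0), (nat_lit 2), (nat_lit 4)],
  [(nat_lit 0), (nat_lit 3), (nat_lit 4)],
  [(nat_lit 0), (nat_lit 4), (nat_lit 1)],
  [(nat_lit 0), (nat_lit 4), (nat_lit 4)],
  [(nat_lit 1), (nat_lit 2), (nat_lit 3)],
  [(nat_lit 1), (nat_lit 3), (nat_lit 4)],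
  [(nat_lit 1), (nat_lit 4), (nat_lit 4)],
  [(nat_lit 2), (nat_lit 3), (nat_lit 4)],
  [(nat_lit 2), (nat_lit 4), (nat_lit 4)],
  [(nat_lit 3), (nat_lit 4), (nat_lit 1)],
  [(nat_lit 3), (nat_lit 4), (nat_lit 4)],
  [(nat_lit 4), (nat_lit 1), (nat_lit 4)],
  [(nat_lit 0), (nat_lit 1), (nat_lit 2), (nat_lit 3)],
  [(nat_lit 0), (nat_lit 1), (nat_lit 3), (nat_lit 4)],
  [(nat_lit 0), (nat_lit 1), (nat_lit 4), (nat_lit 4)],
  [(nat_lit 0), (nat_lit 2), (nat_lit 3), (nat_lit 4)],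
  [(nat_lit 0), (nat_lit 2), (nat_lit 4), (nat_lit 4)],
  [(nat_lit 0), (nat_lit 3), (nat_lit 4), (nat_lit 1)],
  [(nat_lit 0), (nat_lit 3), (nat_lit 4), (nat_lit 4)],
  [(nat_lit 0), (nat_lit 4), (nat_lit 1), (nat_lit 4)],
  [(nat_lit 1), (nat_lit 3), (nat_lit 4), (nat_lit 4)],
  [(nat_lit 2), (nat_lit 3), (nat_lit 4), (nat_lit 4)],
  [(nat_lit 3), (nat_lit 4), (nat_lit 1), (nat_lit 4)],
  [(nat_lit 0), (nat_lit 1), (nat_lit 3), (nat_lit 4), (nat_lit 4)],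
  [(nat_lit 0), (nat_lit 2), (nat_lit 3), (nat_lit 4), (nat_lit 4)],
  [(nat_lit 0), (nat_lit 3), (nat_lit 4), (nat_lit 1), (nat_lit 4)]]
noncomputable def HL_lK_h (c : ℕ) : ℕ := Nat.mod c (nat_lit 354)
theorem HL_lK_E {G : Type*} [Group G] {R : ℕ → G → Prop} {z u v a b r s x y : G} {H : Subgroup G}
    (M : Mdl HL_o HL_cs HL_L R [z, u, v, a, b, r, s, x, x⁻¹, y, y⁻¹] H) :
    EnumS R HL_lK (sp [z, u, v, r, y]) :=
  enumS_sp M.μ.1 (M.reps.tms M.μ.1 [(.v (nat_lit 0)), (.v (nat_lit 1)), (.v (nat_lit 2)), (.v (nat_lit 5)), (.v (nat_lit 9))] (cs' := [(nat_lit 0xb5e958c2725a5487b5cc20c4731401), (nat_lit 0xad2f67b56a9a6478c1c460ca830820), (nat_lit 0xad2f65c1f28994c9b4683b824480a2), (nat_lit 0xad2f69b62a79a4c5c0683b8a448820), (nat_lit 0x724c32d8570c291056537a90b6b0e4)]) (by decide +kernel))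
    (Ws := HL_lK_W) (by decide +kernel) (by decide +kernel)
theorem HL_lK_c {G : Type*} [Group G] {R : ℕ → G → Prop} {z u v a b r s x y : G} {H : Subgroup G}
    (M : Mdl HL_o HL_cs HL_L R [z, u, v, a, b, r, s, x, x⁻¹, y, y⁻¹] H) :
    #(sp [z, u, v, r, y]) = 48 :=
  (HL_lK_E M).card M.μ (h := HL_lK_h) (by decide +kernel)
noncomputable def HL_lQ2 : List ℕ := [(nat_lit 0xbdab49ca307b9ac5a928398a418820), (nat_lit 0xb5e958c2725a5487b5cc20c4731401), (nat_lit 0xa56d75a9ed8ba049c9274184c19401), (nat_lit 0x8cd6fb22eca3890a9d3250cad30801), (nat_lit 0xa56d77c97098da88a8cc2240770445), (nat_lit 0x8cdebb4af0a894ca34a8201270b866), (nat_lit 0xad2f67b56a9a6478c1c460ca830820), (nat_lit 0x9c5ebbb2c8aa4f2a11d06984a19420), (nat_lit 0xad2f65c1f28994c9b4683b824480a2), (nat_lit 0x9c56fbc2d2a15a8aa84c385c4024c3), (nat_lit 0x7ae71a9e84bb98db212a90c5031420), (nat_lit 0xbdab48aa6d58e077c8c462428700a2), (nat_lit 0x5be71a36aab8a07b48a4401cc0a4c3),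 (nat_lit 0x5be33ab288b8cf0b10d25380d484a2), (nat_lit 0xbda959a22c588f0790b26852a038c3), (nat_lit 0x7ae71a22acb1892b9c706a42a70045), (nat_lit 0x5be71aca90b0548bb40c394c410dc9), (nat_lit 0x7ae33aaa8db1644bc0476052803866), (nat_lit 0x5be33a12a7b250abb1cd818b218801), (nat_lit 0xb5e959b62a79a445c0674380c48445), (nat_lit 0xb5eb48b2687949259c50501cd0a466), (nat_lit 0x7ae33a42b2b81acb2828208672992e), (nat_lit 0x9c5ebb12e7a0d0dab0ca9383048045), (nat_lit 0xad2d7791678898a9a0ad905d002466), (nat_lit 0x8cd6fb9ec4a998aa206d82412704a2), (nat_lit 0x8cdebbb6caa0604ac807614681192e), (nat_lit 0xa56f67b1688849099c12688ca28d2e), (nat_lit 0xa56f659de49950d8b04a801320b8c3), (nat_lit 0xad2d75a1ec980f2890305146d119c9), (nat_lit 0x9c56fb2aeda8247a4024408cc28dc9), (nat_lit 0xb5eb499e245850a7b00d90870299c9), (nat_lit 0xbda95892677818d5a02a814d210d2e)]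
noncomputable def HL_lQ2_W : List (List ℕ) := [[],
  [(nat_lit 0)],
  [(nat_lit 1)],
  [(nat_lit 2)],
  [(nat_lit 3)],
  [(nat_lit 4)],
  [(nat_lit 0), (nat_lit 1)],
  [(nat_lit 0), (nat_lit 2)],
  [(nat_lit 0), (nat_lit 3)],
  [(nat_lit 0), (nat_lit 4)],
  [(nat_lit 1), (nat_lit 2)],
  [(nat_lit 1), (nat_lit 3)],
  [(nat_lit 1), (nat_lit 4)],
  [(nat_lit 2), (nat_lit 3)],
  [(nat_lit 2), (nat_lit 4)],
  [(nat_lit 3), (nat_lit 2)],
  [(nat_lit 3), (nat_lit 4)],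
  [(nat_lit 4), (nat_lit 1)],
  [(nat_lit 0), (nat_lit 1), (nat_lit 2)],
  [(nat_lit 0), (nat_lit 1), (nat_lit 3)],
  [(nat_lit 0), (nat_lit 2), (nat_lit 4)],
  [(nat_lit 0), (nat_lit 3), (nat_lit 4)],
  [(nat_lit 1), (nat_lit 2), (nat_lit 3)],
  [(nat_lit 1), (nat_lit 2), (nat_lit 4)],
  [(nat_lit 1), (nat_lit 3), (nat_lit 2)],
  [(nat_lit 1), (nat_lit 3), (nat_lit 4)],
  [(nat_lit 2), (nat_lit 3), (nat_lit 4)],
  [(nat_lit 2), (nat_lit 4), (nat_lit 1)],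
  [(nat_lit 3), (nat_lit 2), (nat_lit 4)],
  [(nat_lit 3), (nat_lit 4), (nat_lit 1)],
  [(nat_lit 1), (nat_lit 2), (nat_lit 3), (nat_lit 4)],
  [(nat_lit 1), (nat_lit 3), (nat_lit 2), (nat_lit 4)]]
noncomputable def HL_lQ2_h (c : ℕ) : ℕ := Nat.mod c (nat_lit 199)
theorem HL_lQ2_E {G : Type*} [Group G] {R : ℕ → G → Prop} {z u v a b r s x y : G} {H : Subgroup G}
    (M : Mdl HL_o HL_cs HL_L R [z, u, v, a, b, r, s, x, x⁻¹, y, y⁻¹] H) :
    EnumS R HL_lQ2 (sp [z, z * u, z * a, z * v, z * b]) :=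
  enumS_sp M.μ.1 (M.reps.tms M.μ.1 [(.v (nat_lit 0)), (.mul (.v (nat_lit 0)) (.v (nat_lit 1))), (.mul (.v (nat_lit 0)) (.v (nat_lit 3))), (.mul (.v (nat_lit 0)) (.v (nat_lit 2))), (.mul (.v (nat_lit 0)) (.v (nat_lit 4)))] (cs' := [(nat_lit 0xb5e958c2725a5487b5cc20c4731401), (nat_lit 0xa56d75a9ed8ba049c9274184c19401), (nat_lit 0x8cd6fb22eca3890a9d3250cad30801), (nat_lit 0xa56d77c97098da88a8cc2240770445), (nat_lit 0x8cdebb4af0a894ca34a8201270b866)]) (by decide +kernel))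
    (Ws := HL_lQ2_W) (by decide +kernel) (by decide +kernel)
theorem HL_lQ2_c {G : Type*} [Group G] {R : ℕ → G → Prop} {z u v a b r s x y : G} {H : Subgroup G}
    (M : Mdl HL_o HL_cs HL_L R [z, u, v, a, b, r, s, x, x⁻¹, y, y⁻¹] H) :
    #(sp [z, z * u, z * a, z * v, z * b]) = 32 :=
  (HL_lQ2_E M).card M.μ (h := HL_lQ2_h) (by decide +kernel)
noncomputable def HL_lW2 : List ℕ := [(nat_lit 0xbdab49ca307b9ac5a928398a418820), (nat_lit 0xb5e958c2725a5487b5cc20c4731401), (nat_lit 0xa56d75a9ed8ba049c9274184c19401), (nat_lit 0x8cd6fb22eca3890a9d3250cad30801), (nat_lit 0x941aa65d163a6b3251d178c4b31420), (nat_lit 0xad2f67b56a9a6478c1c460ca830820), (nat_lit 0x9c5ebbb2c8aa4f2a11d06984a19420), (nat_lit 0x8494d4599723a913d533598af18801), (nat_lit 0x7ae71a9e84bb98db212a90c5031420), (nat_lit 0x53612250f5426cb65dcf88cb330801), (nat_lit 0x4308784653525766bdd7a185519401), (nat_lit 0x5be33a12a7b250abb1cd818b218801), (nat_lit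 0x6aa503d49463aef4592b9985119420), (nat_lit 0x620e494e116b9f752d36a8cb430820), (nat_lit 0x391886bd4b92675845d4b98b618820), (nat_lit 0x21d0c52daf83a3494d35b0c5731401)]
noncomputable def HL_lW2_W : List (List ℕ) := [[],
  [(nat_lit 0)],
  [(nat_lit 1)],
  [(nat_lit 2)],
  [(nat_lit 3)],
  [(nat_lit 0), (nat_lit 1)],
  [(nat_lit 0), (nat_lit 2)],
  [(nat_lit 0), (nat_lit 3)],
  [(nat_lit 1), (nat_lit 2)],
  [(nat_lit 1), (nat_lit 3)],
  [(nat_lit 2), (nat_lit 3)],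
  [(nat_lit 0), (nat_lit 1), (nat_lit 2)],
  [(nat_lit 0), (nat_lit 1), (nat_lit 3)],
  [(nat_lit 0), (nat_lit 2), (nat_lit 3)],
  [(nat_lit 1), (nat_lit 2), (nat_lit 3)],
  [(nat_lit 0), (nat_lit 1), (nat_lit 2), (nat_lit 3)]]
noncomputable def HL_lW2_h (c : ℕ) : ℕ := Nat.mod c (nat_lit 117)
theorem HL_lW2_E {G : Type*} [Group G] {R : ℕ → G → Prop} {z u v a b r s x y : G} {H : Subgroup G}
    (M : Mdl HL_o HL_cs HL_L R [z, u, v, a, b, r, s, x, x⁻¹, y, y⁻¹] H) :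
    EnumS R HL_lW2 (sp [z, z * u, z * a, s]) :=
  enumS_sp M.μ.1 (M.reps.tms M.μ.1 [(.v (nat_lit 0)), (.mul (.v (nat_lit 0)) (.v (nat_lit 1))), (.mul (.v (nat_lit 0)) (.v (nat_lit 3))), (.v (nat_lit 6))] (cs' := [(nat_lit 0xb5e958c2725a5487b5cc20c4731401), (nat_lit 0xa56d75a9ed8ba049c9274184c19401), (nat_lit 0x8cd6fb22eca3890a9d3250cad30801), (nat_lit 0x941aa65d163a6b3251d178c4b31420)]) (by decide +kernel))
    (Ws := HL_lW2_W) (by decide +kernel) (by decide +kernel)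
theorem HL_lW2_c {G : Type*} [Group G] {R : ℕ → G → Prop} {z u v a b r s x y : G} {H : Subgroup G}
    (M : Mdl HL_o HL_cs HL_L R [z, u, v, a, b, r, s, x, x⁻¹, y, y⁻¹] H) :
    #(sp [z, z * u, z * a, s]) = 16 :=
  (HL_lW2_E M).card M.μ (h := HL_lW2_h) (by decide +kernel)
noncomputable def HL_lF : List ℕ := [(nat_lit 0xbdab49ca307b9ac5a928398a418820), (nat_lit 0x3918893e0b68e77544d6ab8b448820), (nat_lit 0xad2f67b56a9a6478c1c460ca830820), (nat_lit 0x620e46cd51919f582c74ba4b670820)]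
noncomputable def HL_lF_W : List (List ℕ) := [[],
  [(nat_lit 0)],
  [(nat_lit 0), (nat_lit 0)],
  [(nat_lit 0), (nat_lit 0), (nat_lit 0)]]
noncomputable def HL_lF_h (c : ℕ) : ℕ := Nat.mod c (nat_lit 13)
theorem HL_lF_E {G : Type*} [Group G] {R : ℕ → G → Prop} {z u v a b r s x y : G} {H : Subgroup G}
    (M : Mdl HL_o HL_cs HL_L R [z, u, v, a, b, r, s, x, x⁻¹, y, y⁻¹] H) :
    EnumS R HL_lF (sp [a * r * s]) :=
  enumS_sp M.μ.1 (M.reps.tms M.μ.1 [(.mul (.mul (.v (nat_lit 3)) (.v (nat_lit 5))) (.v (nat_lit 6)))] (cs' := [(nat_lit 0x3918893e0b68e77544d6ab8b448820)]) (by decide +kernel))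
    (Ws := HL_lF_W) (by decide +kernel) (by decide +kernel)
theorem HL_lF_c {G : Type*} [Group G] {R : ℕ → G → Prop} {z u v a b r s x y : G} {H : Subgroup G}
    (M : Mdl HL_o HL_cs HL_L R [z, u, v, a, b, r, s, x, x⁻¹, y, y⁻¹] H) :
    #(sp [a * r * s]) = 4 :=
  (HL_lF_E M).card M.μ (h := HL_lF_h) (by decide +kernel)
noncomputable def HL_lD : List ℕ := [(nat_lit 0xbdab49ca307b9ac5a928398a418820), (nat_lit 0x5be33ab288b8cf0b10d25380d484a2), (nat_lit 0x941aa65d163a6b3251d178c4b31420), (nat_lit 0x3918893e0b68e77544d6ab8b448820), (nat_lit 0xb5e958c2725a5487b5cc20c4731401), (nat_lit 0x21d0c6cd51919f682c77a241570445), (nat_lit 0x5361265d163a6ab251cf88c13304a2), (nat_lit 0x620e482e4f51a356cc74ba436700a2), (nat_lit 0x7ae71b9ec4a9992a20706a44a71420), (nat_lit 0xad2f67b56a9a6478c1c460ca830820), (nat_lit 0x7ae71a22acb1892b9c706a42a70045), (nat_lit 0x8494d4599723a913d533598af18801), (nat_lit 0x21d0c82e4f51a366cc77a245571401),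 (nat_lit 0x6aa503d49463aef4592b9985119420), (nat_lit 0xa56d79ca307b9a45a9274180c18445), (nat_lit 0x8cd6fb9ec4a998aa206d82412704a2), (nat_lit 0x9c5ebb12e7a0d0dab0ca9383048045), (nat_lit 0xbdab45a9ed8ba0c9c92839824180a2), (nat_lit 0x620e46cd51919f582c74ba4b670820), (nat_lit 0x39188545b380d7793cd6ab834480a2), (nat_lit 0x6aa504599723a8f3d52b9983118045), (nat_lit 0x4308793e0b68e74544d5b381748445), (nat_lit 0x5be33b12e7a0d10ab0d2538ad48801), (nat_lit 0xa56d75a9ed8ba049c9274184c19401), (nat_lit 0x9c5ebab288b8cedb10ca9385049420), (nat_lit 0x8494d3d49463af1459335980f184a2), (nat_lit 0x941aa250f5426d365dd178c2b30045), (nat_lit 0x53612250f5426cb65dcf88cb330801), (nat_lit 0xad2f68c2725a5477b5c460c28300a2), (nat_lit 0xb5e957b56a9a6488c1cc20c0730445), (nat_lit 0x43087545b380d7493cd5b385749401), (nat_lit 0x8cd6fa22acb188ab9c6d824b270801)]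
noncomputable def HL_lD_W : List (List ℕ) := [[],
  [(nat_lit 0)],
  [(nat_lit 1)],
  [(nat_lit 2)],
  [(nat_lit 0), (nat_lit 0)],
  [(nat_lit 0), (nat_lit 1)],
  [(nat_lit 0), (nat_lit 2)],
  [(nat_lit 1), (nat_lit 0)],
  [(nat_lit 1), (nat_lit 2)],
  [(nat_lit 2), (nat_lit 2)],
  [(nat_lit 0), (nat_lit 0), (nat_lit 0)],
  [(nat_lit 0), (nat_lit 0), (nat_lit 1)],
  [(nat_lit 0), (nat_lit 0), (nat_lit 2)],
  [(nat_lit 0), (nat_lit 1), (nat_lit 0)],
  [(nat_lit 0), (nat_lit 1), (nat_lit 2)],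
  [(nat_lit 0), (nat_lit 2), (nat_lit 2)],
  [(nat_lit 1), (nat_lit 0), (nat_lit 1)],
  [(nat_lit 1), (nat_lit 0), (nat_lit 2)],
  [(nat_lit 2), (nat_lit 2), (nat_lit 2)],
  [(nat_lit 0), (nat_lit 0), (nat_lit 0), (nat_lit 1)],
  [(nat_lit 0), (nat_lit 0), (nat_lit 0), (nat_lit 2)],
  [(nat_lit 0), (nat_lit 0), (nat_lit 1), (nat_lit 0)],
  [(nat_lit 0), (nat_lit 0), (nat_lit 1), (nat_lit 2)],
  [(nat_lit 0), (nat_lit 0), (nat_lit 2), (nat_lit 2)],
  [(nat_lit 0), (nat_lit 1), (nat_lit 0), (nat_lit 2)],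
  [(nat_lit 0), (nat_lit 2), (nat_lit 2), (nat_lit 2)],
  [(nat_lit 1), (nat_lit 0), (nat_lit 1), (nat_lit 2)],
  [(nat_lit 0), (nat_lit 0), (nat_lit 0), (nat_lit 1), (nat_lit 0)],
  [(nat_lit 0), (nat_lit 0), (nat_lit 0), (nat_lit 1), (nat_lit 2)],
  [(nat_lit 0), (nat_lit 0), (nat_lit 1), (nat_lit 0), (nat_lit 2)],
  [(nat_lit 0), (nat_lit 0), (nat_lit 2), (nat_lit 2), (nat_lit 2)],
  [(nat_lit 0), (nat_lit 0), (nat_lit 0), (nat_lit 1), (nat_lit 0), (nat_lit 2)]]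
noncomputable def HL_lD_h (c : ℕ) : ℕ := Nat.mod c (nat_lit 193)
theorem HL_lD_E {G : Type*} [Group G] {R : ℕ → G → Prop} {z u v a b r s x y : G} {H : Subgroup G}
    (M : Mdl HL_o HL_cs HL_L R [z, u, v, a, b, r, s, x, x⁻¹, y, y⁻¹] H) :
    EnumS R HL_lD (sp [v * a, s, a * r * s]) :=
  enumS_sp M.μ.1 (M.reps.tms M.μ.1 [(.mul (.v (nat_lit 2)) (.v (nat_lit 3))), (.v (nat_lit 6)), (.mul (.mul (.v (nat_lit 3)) (.v (nat_lit 5))) (.v (nat_lit 6)))] (cs' := [(nat_lit 0x5be33ab288b8cf0b10d25380d484a2), (nat_lit 0x941aa65d163a6b3251d178c4b31420), (nat_lit 0x3918893e0b68e77544d6ab8b448820)]) (by decide +kernel))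
    (Ws := HL_lD_W) (by decide +kernel) (by decide +kernel)
theorem HL_lD_c {G : Type*} [Group G] {R : ℕ → G → Prop} {z u v a b r s x y : G} {H : Subgroup G}
    (M : Mdl HL_o HL_cs HL_L R [z, u, v, a, b, r, s, x, x⁻¹, y, y⁻¹] H) :
    #(sp [v * a, s, a * r * s]) = 32 :=
  (HL_lD_E M).card M.μ (h := HL_lD_h) (by decide +kernel)
noncomputable def HL_z_F : Fm := (.all HL_L (.qf (.eq (.mul (.v (nat_lit 0)) (.v (nat_lit 1))) (.mul (.v (nat_lit 1)) (.v (nat_lit 0))))))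
theorem HL_z_chk : Fm.chk HL_o HL_z_F HL_cs = true := by decide +kernel
theorem HL_z {G : Type*} [Group G] {R : ℕ → G → Prop} {z u v a b r s x y : G} {H : Subgroup G}
    (M : Mdl HL_o HL_cs HL_L R [z, u, v, a, b, r, s, x, x⁻¹, y, y⁻¹] H) :
    ∀ c ∈ H, c * z = z * c :=
  have h : ∀ c, InL HL_o R HL_L c → c * z = z * c :=
    Fm.sound M.μ HL_z_F HL_z_chk M.reps
  (fun c h0 => (h c (M.H.iff.2 h0)))
noncomputable def HL_q_f_F : Fm := (.qf (.and (.eq (.mul (.v (nat_lit 0)) (.v (nat_lit 0))) .one) (.and (.eq (.mul (.mul (.v (nat_lit 0)) (.v (nat_lit 1))) (.mul (.v (nat_lit 0)) (.v (nat_lit 1)))) .one) (.and (.eq (.mul (.mul (.v (nat_lit 0)) (.v (nat_lit 3))) (.mul (.v (nat_lit 0)) (.v (nat_lit 3)))) .one) (.and (.eq (.mul (.mul (.v (nat_lit 0)) (.v (nat_lit 2))) (.mul (.v (nat_lit 0)) (.v (nat_lit 2)))) .one) (.and (.eq (.mul (.mul (.v (nat_lit 0)) (.v (nat_lit 4))) (.mul (.v (nat_lit 0)) (.v (nat_lit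 4)))) .one) (.and (.eq (.pw (.v (nat_lit 9)) (nat_lit 3)) .one) (.and (.eq (.mul (.mul (.v (nat_lit 9)) (.mul (.v (nat_lit 0)) (.v (nat_lit 1)))) (.v (nat_lit 10))) (.mul (.v (nat_lit 0)) (.v (nat_lit 2)))) (.and (.eq (.mul (.mul (.v (nat_lit 9)) (.mul (.v (nat_lit 0)) (.v (nat_lit 3)))) (.v (nat_lit 10))) (.mul (.v (nat_lit 0)) (.v (nat_lit 4)))) (.and (.eq (.pw (.mul (.mul (.v (nat_lit 0)) (.v (nat_lit 1))) (.v (nat_lit 9))) (nat_lit 3)) .one) (.and (.eq (.pw (.mul (.mul (.v (nat_lit 0)) (.v (nat_lit 3))) (.v (nat_lit 9))) (nat_lit 3)) .one) (.and (.eq (.mul (.mul (.v (nat_lit 0)) (.v (nat_lit 1))) (.mul (.v (nat_lit 0)) (.v (nat_lit 3)))) (.mul (.mul (.v (nat_lit 0)) (.v (nat_lit 3))) (.mul (.v (nat_lit 0)) (.v (nat_lit 1))))) (.and (.eq (.mul (.mul (.mul (.mul (.v (nat_lit 0)) (.v (nat_lit 1))) (.mul (.v (nat_lit 0)) (.v (nat_lit 4)))) (.inv (.mul (.v (nat_lit 0)) (.v (nat_lit 1))))) (.inv (.mul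 (.v (nat_lit 0)) (.v (nat_lit 4))))) (.v (nat_lit 0))) (.and (.eq (.mul (.v (nat_lit 0)) (.v (nat_lit 9))) (.mul (.v (nat_lit 9)) (.v (nat_lit 0)))) (.and (.eq (.mul (.v (nat_lit 0)) (.mul (.v (nat_lit 0)) (.v (nat_lit 1)))) (.mul (.mul (.v (nat_lit 0)) (.v (nat_lit 1))) (.v (nat_lit 0)))) (.eq (.mul (.v (nat_lit 0)) (.mul (.v (nat_lit 0)) (.v (nat_lit 3)))) (.mul (.mul (.v (nat_lit 0)) (.v (nat_lit 3))) (.v (nat_lit 0)))))))))))))))))))
theorem HL_q_f_chk : Fm.chk HL_o HL_q_f_F HL_cs = true := by decide +kernel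
theorem HL_q_f {G : Type*} [Group G] {R : ℕ → G → Prop} {z u v a b r s x y : G} {H : Subgroup G}
    (M : Mdl HL_o HL_cs HL_L R [z, u, v, a, b, r, s, x, x⁻¹, y, y⁻¹] H) :
    z * z = 1 ∧ z * u * (z * u) = 1 ∧ z * a * (z * a) = 1 ∧ z * v * (z * v) = 1 ∧ z * b * (z * b) = 1 ∧ y ^ 3 = 1 ∧ y * (z * u) * y⁻¹ = z * v ∧ y * (z * a) * y⁻¹ = z * b ∧ (z * u * y) ^ 3 = 1 ∧ (z * a * y) ^ 3 = 1 ∧ z * u * (z * a) = z * a * (z * u) ∧ ⁅z * u, z * b⁆ = z ∧ z * y = y * z ∧ z * (z * u) = z * u * z ∧ z * (z * a) = z * a * z :=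
  Fm.sound M.μ HL_q_f_F HL_q_f_chk M.reps
theorem HL_q {G : Type*} [Group G] {R : ℕ → G → Prop} {z u v a b r s x y : G} {H : Subgroup G}
    (M : Mdl HL_o HL_cs HL_L R [z, u, v, a, b, r, s, x, x⁻¹, y, y⁻¹] H) :
    Q3 z (z * u) (z * a) (z * v) (z * b) y :=
  have h := HL_q_f M
  ⟨h.1, h.2.1, h.2.2.1, h.2.2.2.1, h.2.2.2.2.1, h.2.2.2.2.2.1, h.2.2.2.2.2.2.1, h.2.2.2.2.2.2.2.1, h.2.2.2.2.2.2.2.2.1, h.2.2.2.2.2.2.2.2.2.1, h.2.2.2.2.2.2.2.2.2.2.1, h.2.2.2.2.2.2.2.2.2.2.2.1, h.2.2.2.2.2.2.2.2.2.2.2.2.1, h.2.2.2.2.2.2.2.2.2.2.2.2.2.1, h.2.2.2.2.2.2.2.2.2.2.2.2.2.2, trivial⟩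
noncomputable def HL_k_f_F : Fm := (.qf (.and (.eq (.pw (.v (nat_lit 7)) (nat_lit 3)) .one) (.and (.eq (.mul (.v (nat_lit 7)) (.v (nat_lit 9))) (.mul (.v (nat_lit 9)) (.v (nat_lit 7)))) (.and (.eq (.mul (.v (nat_lit 7)) (.v (nat_lit 0))) (.mul (.v (nat_lit 0)) (.v (nat_lit 7)))) (.and (.eq (.mul (.mul (.v (nat_lit 7)) (.mul (.v (nat_lit 0)) (.v (nat_lit 1)))) (.v (nat_lit 8))) (.mul (.v (nat_lit 0)) (.v (nat_lit 3)))) (.eq (.mul (.mul (.v (nat_lit 7)) (.mul (.v (nat_lit 0)) (.v (nat_lit 3)))) (.v (nat_lit 8))) (.mul (.mul (.v (nat_lit 0)) (.mul (.v (nat_lit 0)) (.v (nat_lit 1)))) (.mul (.v (nat_lit 0)) (.v (nat_lit 3))))))))))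
theorem HL_k_f_chk : Fm.chk HL_o HL_k_f_F HL_cs = true := by decide +kernel
theorem HL_k_f {G : Type*} [Group G] {R : ℕ → G → Prop} {z u v a b r s x y : G} {H : Subgroup G}
    (M : Mdl HL_o HL_cs HL_L R [z, u, v, a, b, r, s, x, x⁻¹, y, y⁻¹] H) :
    x ^ 3 = 1 ∧ x * y = y * x ∧ x * z = z * x ∧ x * (z * u) * x⁻¹ = z * a ∧ x * (z * a) * x⁻¹ = z * (z * u) * (z * a) :=
  Fm.sound M.μ HL_k_f_F HL_k_f_chk M.reps
theorem HL_k {G : Type*} [Group G] {R : ℕ → G → Prop} {z u v a b r s x y : G} {H : Subgroup G}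
    (M : Mdl HL_o HL_cs HL_L R [z, u, v, a, b, r, s, x, x⁻¹, y, y⁻¹] H) :
    KY z (z * u) (z * a) y x :=
  have h := HL_k_f M
  ⟨h.1, h.2.1, h.2.2.1, h.2.2.2.1, h.2.2.2.2, trivial⟩
noncomputable def HL_t_f_F : Fm := (.qf (.and (.eq (.mul (.v (nat_lit 6)) (.v (nat_lit 6))) .one) (.and (.eq (.mul (.v (nat_lit 5)) (.v (nat_lit 5))) .one) (.and (.eq (.mul (.v (nat_lit 0)) (.v (nat_lit 6))) (.mul (.v (nat_lit 6)) (.v (nat_lit 0)))) (.and (.eq (.mul (.v (nat_lit 0)) (.v (nat_lit 5))) (.mul (.v (nat_lit 5)) (.v (nat_lit 0)))) (.and (.eq (.mul (.v (nat_lit 6)) (.mul (.v (nat_lit 0)) (.v (nat_lit 1)))) (.mul (.mul (.v (nat_lit 0)) (.v (nat_lit 1))) (.v (nat_lit 6)))) (.and (.eq (.mul (.v (nat_lit 6)) (.mul (.v (nat_lit 0)) (.v (nat_lit 3)))) (.mul (.mul (.v (nat_lit 0)) (.v (nat_lit 3))) (.v (nat_lit 6)))) (.and (.eq (.mul (.mul (.mul (.v (nat_lit 0)) (.v (nat_lit 2))) (.v (nat_lit 6))) (.mul (.v (nat_lit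 0)) (.v (nat_lit 2)))) (.mul (.v (nat_lit 6)) (.mul (.v (nat_lit 0)) (.v (nat_lit 1))))) (.and (.eq (.mul (.mul (.mul (.v (nat_lit 0)) (.v (nat_lit 4))) (.v (nat_lit 6))) (.mul (.v (nat_lit 0)) (.v (nat_lit 4)))) (.mul (.v (nat_lit 6)) (.mul (.v (nat_lit 0)) (.v (nat_lit 3))))) (.and (.eq (.mul (.v (nat_lit 5)) (.mul (.v (nat_lit 0)) (.v (nat_lit 1)))) (.mul (.mul (.v (nat_lit 0)) (.v (nat_lit 1))) (.v (nat_lit 5)))) (.and (.eq (.mul (.v (nat_lit 5)) (.mul (.v (nat_lit 0)) (.v (nat_lit 2)))) (.mul (.mul (.v (nat_lit 0)) (.v (nat_lit 2))) (.v (nat_lit 5)))) (.and (.eq (.mul (.mul (.v (nat_lit 5)) (.mul (.v (nat_lit 0)) (.v (nat_lit 3)))) (.v (nat_lit 5))) (.mul (.mul (.v (nat_lit 0)) (.mul (.v (nat_lit 0)) (.v (nat_lit 1)))) (.mul (.v (nat_lit 0)) (.v (nat_lit 3))))) (.and (.eq (.mul (.mul (.v (nat_lit 5)) (.mul (.v (nat_lit 0)) (.v (nat_lit 4)))) (.v (nat_lit 5))) (.mul (.mul (.v (nat_lit 0)) (.mul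 (.v (nat_lit 0)) (.v (nat_lit 2)))) (.mul (.v (nat_lit 0)) (.v (nat_lit 4))))) (.eq (.mul (.v (nat_lit 6)) (.v (nat_lit 5))) (.mul (.v (nat_lit 5)) (.v (nat_lit 6)))))))))))))))))
theorem HL_t_f_chk : Fm.chk HL_o HL_t_f_F HL_cs = true := by decide +kernel
theorem HL_t_f {G : Type*} [Group G] {R : ℕ → G → Prop} {z u v a b r s x y : G} {H : Subgroup G}
    (M : Mdl HL_o HL_cs HL_L R [z, u, v, a, b, r, s, x, x⁻¹, y, y⁻¹] H) :
    s * s = 1 ∧ r * r = 1 ∧ z * s = s * z ∧ z * r = r * z ∧ s * (z * u) = z * u * s ∧ s * (z * a) = z * a * s ∧ z * v * s * (z * v) = s * (z * u) ∧ z * b * s * (z * b) = s * (z * a) ∧ r * (z * u) = z * u * r ∧ r * (z * v) = z * v * r ∧ r * (z * a) * r = z * (z * u) * (z * a) ∧ r * (z * b) * r = z * (z * v) * (z * b) ∧ s * r = r * s :=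
  Fm.sound M.μ HL_t_f_F HL_t_f_chk M.reps
theorem HL_t {G : Type*} [Group G] {R : ℕ → G → Prop} {z u v a b r s x y : G} {H : Subgroup G}
    (M : Mdl HL_o HL_cs HL_L R [z, u, v, a, b, r, s, x, x⁻¹, y, y⁻¹] H) :
    TL z (z * u) (z * a) (z * v) (z * b) s r :=
  have h := HL_t_f M
  ⟨h.1, h.2.1, h.2.2.1, h.2.2.2.1, h.2.2.2.2.1, h.2.2.2.2.2.1, h.2.2.2.2.2.2.1, h.2.2.2.2.2.2.2.1, h.2.2.2.2.2.2.2.2.1, h.2.2.2.2.2.2.2.2.2.1, h.2.2.2.2.2.2.2.2.2.2.1, h.2.2.2.2.2.2.2.2.2.2.2.1, h.2.2.2.2.2.2.2.2.2.2.2.2, trivial⟩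
noncomputable def HL_l_f_F : Fm := (.qf (.and (.eq (.mul (.mul (.v (nat_lit 6)) (.v (nat_lit 9))) (.inv (.v (nat_lit 6)))) (.v (nat_lit 10))) (.and (.eq (.mul (.mul (.v (nat_lit 6)) (.v (nat_lit 7))) (.inv (.v (nat_lit 6)))) (.v (nat_lit 7))) (.and (.eq (.mul (.mul (.v (nat_lit 5)) (.v (nat_lit 9))) (.inv (.v (nat_lit 5)))) (.v (nat_lit 9))) (.eq (.mul (.mul (.v (nat_lit 5)) (.v (nat_lit 7))) (.inv (.v (nat_lit 5)))) (.v (nat_lit 8)))))))
theorem HL_l_f_chk : Fm.chk HL_o HL_l_f_F HL_cs = true := by decide +kernel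
theorem HL_l_f {G : Type*} [Group G] {R : ℕ → G → Prop} {z u v a b r s x y : G} {H : Subgroup G}
    (M : Mdl HL_o HL_cs HL_L R [z, u, v, a, b, r, s, x, x⁻¹, y, y⁻¹] H) :
    s * y * s⁻¹ = y⁻¹ ∧ s * x * s⁻¹ = x ∧ r * y * r⁻¹ = y ∧ r * x * r⁻¹ = x⁻¹ :=
  Fm.sound M.μ HL_l_f_F HL_l_f_chk M.reps
theorem HL_l {G : Type*} [Group G] {R : ℕ → G → Prop} {z u v a b r s x y : G} {H : Subgroup G}
    (M : Mdl HL_o HL_cs HL_L R [z, u, v, a, b, r, s, x, x⁻¹, y, y⁻¹] H) :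
    XU s r y x :=
  have h := HL_l_f M
  ⟨h.1, h.2.1, h.2.2.1, h.2.2.2, trivial⟩
noncomputable def HL_y_f_F : Fm := (.qf (.and (.eq (.pw (.v (nat_lit 9)) (nat_lit 3)) .one) (.and (.eq (.mul (.v (nat_lit 9)) (.v (nat_lit 0))) (.mul (.v (nat_lit 0)) (.v (nat_lit 9)))) (.and (.eq (.mul (.v (nat_lit 9)) (.v (nat_lit 5))) (.mul (.v (nat_lit 5)) (.v (nat_lit 9)))) (.and (.eq (.mul (.mul (.v (nat_lit 9)) (.v (nat_lit 1))) (.v (nat_lit 10))) (.v (nat_lit 2))) (.and (.eq (.mul (.mul (.v (nat_lit 9)) (.v (nat_lit 2))) (.v (nat_lit 10))) (.mul (.mul (.v (nat_lit 0)) (.v (nat_lit 1))) (.v (nat_lit 2)))) (.and (.eq (.mul (.mul (.v (nat_lit 9)) (.v (nat_lit 3))) (.v (nat_lit 10))) (.v (nat_lit 4))) (.and (.eq (.mul (.mul (.v (nat_lit 9)) (.v (nat_lit 4))) (.v (nat_lit 10))) (.mul (.mul (.v (nat_lit 0)) (.v (nat_lit 3))) (.v (nat_lit 4)))) (.eq (.mul (.mul (.v (nat_lit 6)) (.v (nat_lit 9))) (.v (nat_lit 6))) (.v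 (nat_lit 10)))))))))))
theorem HL_y_f_chk : Fm.chk HL_o HL_y_f_F HL_cs = true := by decide +kernel
theorem HL_y_f {G : Type*} [Group G] {R : ℕ → G → Prop} {z u v a b r s x y : G} {H : Subgroup G}
    (M : Mdl HL_o HL_cs HL_L R [z, u, v, a, b, r, s, x, x⁻¹, y, y⁻¹] H) :
    y ^ 3 = 1 ∧ y * z = z * y ∧ y * r = r * y ∧ y * u * y⁻¹ = v ∧ y * v * y⁻¹ = z * u * v ∧ y * a * y⁻¹ = b ∧ y * b * y⁻¹ = z * a * b ∧ s * y * s = y⁻¹ :=
  Fm.sound M.μ HL_y_f_F HL_y_f_chk M.reps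
theorem HL_y {G : Type*} [Group G] {R : ℕ → G → Prop} {z u v a b r s x y : G} {H : Subgroup G}
    (M : Mdl HL_o HL_cs HL_L R [z, u, v, a, b, r, s, x, x⁻¹, y, y⁻¹] H) :
    YL z u v a b r s y :=
  have h := HL_y_f M
  ⟨h.1, h.2.1, h.2.2.1, h.2.2.2.1, h.2.2.2.2.1, h.2.2.2.2.2.1, h.2.2.2.2.2.2.1, h.2.2.2.2.2.2.2, trivial⟩
noncomputable def HL_Q1_F : Fm := (.allS HL_lQ (.qf (.mem (.v (nat_lit 0)) HL_lQ2)))
theorem HL_Q1_chk : Fm.chk HL_o HL_Q1_F HL_cs = true := by decide +kernel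
theorem HL_Q1 {G : Type*} [Group G] {R : ℕ → G → Prop} {z u v a b r s x y : G} {H : Subgroup G}
    (M : Mdl HL_o HL_cs HL_L R [z, u, v, a, b, r, s, x, x⁻¹, y, y⁻¹] H) :
    ∀ c ∈ sp [z, u, v, a, b], c ∈ sp [z, z * u, z * a, z * v, z * b] :=
  have h : ∀ c, InS R HL_lQ c → InS R HL_lQ2 (c) :=
    Fm.sound M.μ HL_Q1_F HL_Q1_chk M.reps
  (fun c h0 => ((HL_lQ2_E M).iff.1 (h c ((HL_lQ_E M).iff.2 h0))))
noncomputable def HL_Q2_F : Fm := (.allS HL_lQ2 (.qf (.mem (.v (nat_lit 0)) HL_lQ)))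
theorem HL_Q2_chk : Fm.chk HL_o HL_Q2_F HL_cs = true := by decide +kernel
theorem HL_Q2 {G : Type*} [Group G] {R : ℕ → G → Prop} {z u v a b r s x y : G} {H : Subgroup G}
    (M : Mdl HL_o HL_cs HL_L R [z, u, v, a, b, r, s, x, x⁻¹, y, y⁻¹] H) :
    ∀ c ∈ sp [z, z * u, z * a, z * v, z * b], c ∈ sp [z, u, v, a, b] :=
  have h : ∀ c, InS R HL_lQ2 c → InS R HL_lQ (c) :=
    Fm.sound M.μ HL_Q2_F HL_Q2_chk M.reps
  (fun c h0 => ((HL_lQ_E M).iff.1 (h c ((HL_lQ2_E M).iff.2 h0))))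
noncomputable def HL_cls_t0 : ST := (.node (nat_lit 1741) (.node (nat_lit 786) (.node (nat_lit 473) (.node (nat_lit 211) (.node (nat_lit 142) (.node (nat_lit 132) (.node (nat_lit 53) (.leaf (nat_lit 3)) (.leaf (nat_lit 796))) (.node (nat_lit 139) (.leaf (nat_lit 768)) (.leaf (nat_lit 316)))) (.node (nat_lit 191) (.node (nat_lit 164) (.leaf (nat_lit 124)) (.leaf (nat_lit 192))) (.node (nat_lit 206) (.leaf (nat_lit 195)) (.leaf (nat_lit 796))))) (.node (nat_lit 338) (.node (nat_lit 293) (.node (nat_lit 226) (.leaf (nat_lit 373)) (.leaf (nat_lit 340))) (.node (nat_lit 298) (.leaf (nat_lit 205)) (.leaf (nat_lit 853)))) (.node (nat_lit 379) (.node (nat_lit 349) (.leaf (nat_lit 316)) (.leaf (nat_lit 4))) (.node (nat_lit 401) (.leaf (nat_lit 435)) (.node (nat_lit 445) (.leaf (nat_lit 820)) (.leaf (nat_lit 148))))))) (.node (nat_lit 669) (.node (nat_lit 591) (.node (nat_lit 561) (.node (nat_lit 545) (.leaf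 (nat_lit 877)) (.leaf (nat_lit 4))) (.node (nat_lit 577) (.leaf (nat_lit 816)) (.leaf (nat_lit 85)))) (.node (nat_lit 631) (.node (nat_lit 597) (.leaf (nat_lit 196)) (.leaf (nat_lit 192))) (.node (nat_lit 664) (.leaf (nat_lit 148)) (.leaf (nat_lit 3))))) (.node (nat_lit 735) (.node (nat_lit 686) (.node (nat_lit 679) (.leaf (nat_lit 397)) (.leaf (nat_lit 819))) (.node (nat_lit 726) (.leaf (nat_lit 781)) (.leaf (nat_lit 0)))) (.node (nat_lit 760) (.node (nat_lit 748) (.leaf (nat_lit 1011)) (.leaf (nat_lit 3))) (.node (nat_lit 768) (.leaf (nat_lit 268)) (.node (nat_lit 774) (.leaf (nat_lit 387)) (.leaf (nat_lit 220)))))))) (.node (nat_lit 1213) (.node (nat_lit 1018) (.node (nat_lit 855) (.node (nat_lit 792) (.node (nat_lit 791) (.leaf (nat_lit 892)) (.leaf (nat_lit 0))) (.node (nat_lit 852) (.leaf (nat_lit 243)) (.leaf (nat_lit 816)))) (.node (nat_lit 885) (.node (nat_lit 857) (.leaf (nat_lit 770)) (.leaf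 (nat_lit 772))) (.node (nat_lit 888) (.leaf (nat_lit 1045)) (.leaf (nat_lit 243))))) (.node (nat_lit 1121) (.node (nat_lit 1058) (.node (nat_lit 1019) (.leaf (nat_lit 770)) (.leaf (nat_lit 1012))) (.node (nat_lit 1099) (.leaf (nat_lit 340)) (.leaf (nat_lit 925)))) (.node (nat_lit 1152) (.node (nat_lit 1151) (.leaf (nat_lit 301)) (.leaf (nat_lit 819))) (.node (nat_lit 1165) (.leaf (nat_lit 628)) (.node (nat_lit 1169) (.leaf (nat_lit 243)) (.leaf (nat_lit 181))))))) (.node (nat_lit 1610) (.node (nat_lit 1411) (.node (nat_lit 1248) (.node (nat_lit 1240) (.leaf (nat_lit 892)) (.leaf (nat_lit 48))) (.node (nat_lit 1405) (.leaf (nat_lit 76)) (.leaf (nat_lit 52)))) (.node (nat_lit 1527) (.node (nat_lit 1506) (.leaf (nat_lit 963)) (.leaf (nat_lit 244))) (.node (nat_lit 1563) (.leaf (nat_lit 844)) (.leaf (nat_lit 244))))) (.node (nat_lit 1670) (.node (nat_lit 1646) (.node (nat_lit 1643) (.leaf (nat_lit 949))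 (.leaf (nat_lit 589))) (.node (nat_lit 1664) (.leaf (nat_lit 829)) (.leaf (nat_lit 28)))) (.node (nat_lit 1676) (.node (nat_lit 1675) (.leaf (nat_lit 51)) (.leaf (nat_lit 195))) (.node (nat_lit 1702) (.leaf (nat_lit 771)) (.node (nat_lit 1740) (.leaf (nat_lit 61)) (.leaf (nat_lit 51))))))))) (.node (nat_lit 2864) (.node (nat_lit 2162) (.node (nat_lit 1949) (.node (nat_lit 1893) (.node (nat_lit 1866) (.node (nat_lit 1840) (.leaf (nat_lit 768)) (.leaf (nat_lit 268))) (.node (nat_lit 1868) (.leaf (nat_lit 4)) (.leaf (nat_lit 220)))) (.node (nat_lit 1940) (.node (nat_lit 1927) (.leaf (nat_lit 157)) (.leaf (nat_lit 772))) (.node (nat_lit 1947) (.leaf (nat_lit 818)) (.leaf (nat_lit 819))))) (.node (nat_lit 2025) (.node (nat_lit 1985) (.node (nat_lit 1968) (.leaf (nat_lit 661)) (.leaf (nat_lit 771))) (.node (nat_lit 1986) (.leaf (nat_lit 194)) (.leaf (nat_lit 349)))) (.node (nat_lit 2091) (.node (nat_lit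 2034) (.leaf (nat_lit 48)) (.leaf (nat_lit 1108))) (.node (nat_lit 2099) (.leaf (nat_lit 469)) (.node (nat_lit 2155) (.leaf (nat_lit 195)) (.leaf (nat_lit 2))))))) (.node (nat_lit 2473) (.node (nat_lit 2342) (.node (nat_lit 2227) (.node (nat_lit 2175) (.leaf (nat_lit 240)) (.leaf (nat_lit 0))) (.node (nat_lit 2240) (.leaf (nat_lit 50)) (.leaf (nat_lit 76)))) (.node (nat_lit 2364) (.node (nat_lit 2348) (.leaf (nat_lit 916)) (.leaf (nat_lit 192))) (.node (nat_lit 2451) (.leaf (nat_lit 4)) (.leaf (nat_lit 240))))) (.node (nat_lit 2683) (.node (nat_lit 2542) (.node (nat_lit 2516) (.leaf (nat_lit 3)) (.leaf (nat_lit 240))) (.node (nat_lit 2544) (.leaf (nat_lit 52)) (.leaf (nat_lit 973)))) (.node (nat_lit 2718) (.node (nat_lit 2708) (.leaf (nat_lit 0)) (.leaf (nat_lit 124))) (.node (nat_lit 2723) (.leaf (nat_lit 0)) (.node (nat_lit 2756) (.leaf (nat_lit 242)) (.leaf (nat_lit 627)))))))) (.node (nat_lit 3269)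 (.node (nat_lit 3062) (.node (nat_lit 2902) (.node (nat_lit 2884) (.node (nat_lit 2883) (.leaf (nat_lit 2)) (.leaf (nat_lit 76))) (.node (nat_lit 2892) (.leaf (nat_lit 253)) (.leaf (nat_lit 844)))) (.node (nat_lit 3010) (.node (nat_lit 2910) (.leaf (nat_lit 916)) (.leaf (nat_lit 771))) (.node (nat_lit 3011) (.leaf (nat_lit 48)) (.leaf (nat_lit 436))))) (.node (nat_lit 3148) (.node (nat_lit 3077) (.node (nat_lit 3063) (.leaf (nat_lit 0)) (.leaf (nat_lit 2))) (.node (nat_lit 3126) (.leaf (nat_lit 820)) (.leaf (nat_lit 768)))) (.node (nat_lit 3180) (.node (nat_lit 3164) (.leaf (nat_lit 28)) (.leaf (nat_lit 51))) (.node (nat_lit 3185) (.leaf (nat_lit 13)) (.node (nat_lit 3244) (.leaf (nat_lit 316)) (.leaf (nat_lit 796))))))) (.node (nat_lit 3526) (.node (nat_lit 3394) (.node (nat_lit 3347) (.node (nat_lit 3314) (.leaf (nat_lit 220)) (.leaf (nat_lit 532))) (.node (nat_lit 3359) (.leaf (nat_lit 28)) (.leaf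 (nat_lit 579)))) (.node (nat_lit 3472) (.node (nat_lit 3425) (.leaf (nat_lit 194)) (.leaf (nat_lit 277))) (.node (nat_lit 3524) (.leaf (nat_lit 124)) (.leaf (nat_lit 109))))) (.node (nat_lit 3616) (.node (nat_lit 3565) (.node (nat_lit 3553) (.leaf (nat_lit 768)) (.leaf (nat_lit 194))) (.node (nat_lit 3588) (.leaf (nat_lit 192)) (.leaf (nat_lit 724)))) (.node (nat_lit 3663) (.node (nat_lit 3652) (.leaf (nat_lit 816)) (.leaf (nat_lit 195))) (.node (nat_lit 3677) (.leaf (nat_lit 892)) (.node (nat_lit 3695) (.leaf (nat_lit 770)) (.leaf (nat_lit 196))))))))))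
noncomputable def HL_cls_F : Fm := (.all HL_L (.imp (.eq (.mul (.v (nat_lit 0)) (.v (nat_lit 0))) .one) (.or (.qf (.eq (.v (nat_lit 0)) .one)) (.or (.qf (.eq (.v (nat_lit 0)) (.v (nat_lit 1)))) (.exF HL_L (fun cs => HL_cls_t0.find (Nat.mod (nth (nat_lit 0) cs (nat_lit 0)) (nat_lit 3703))) (.qf (.or (.eq (.mul (.mul (.v (nat_lit 0)) (.v (nat_lit 1))) (.inv (.v (nat_lit 0)))) (.v (nat_lit 3))) (.or (.eq (.mul (.mul (.v (nat_lit 0)) (.v (nat_lit 1))) (.inv (.v (nat_lit 0)))) (.v (nat_lit 7))) (.or (.eq (.mul (.mul (.v (nat_lit 0)) (.v (nat_lit 1))) (.inv (.v (nat_lit 0)))) (.mul (.v (nat_lit 7)) (.v (nat_lit 2)))) (.or (.eq (.mul (.mul (.v (nat_lit 0)) (.v (nat_lit 1))) (.inv (.v (nat_lit 0)))) (.v (nat_lit 8))) (.or (.eq (.mul (.mul (.v (nat_lit 0)) (.v (nat_lit 1))) (.inv (.v (nat_lit 0)))) (.mul (.v (nat_lit 8)) (.v (nat_lit 2)))) (.eq (.mul (.mul (.v (nat_lit 0)) (.v (nat_lit 1))) (.inv (.v (nat_lit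 0)))) (.mul (.v (nat_lit 7)) (.v (nat_lit 8)))))))))))))))
theorem HL_cls_chk : Fm.chk HL_o HL_cls_F HL_cs = true := by decide +kernel
theorem HL_cls {G : Type*} [Group G] {R : ℕ → G → Prop} {z u v a b r s x y : G} {H : Subgroup G}
    (M : Mdl HL_o HL_cs HL_L R [z, u, v, a, b, r, s, x, x⁻¹, y, y⁻¹] H) :
    ∀ c ∈ H, c * c = 1 → c = 1 ∨ c = z ∨ (∃ h ∈ H, h * c * h⁻¹ = u ∨ h * c * h⁻¹ = r ∨ h * c * h⁻¹ = r * z ∨ h * c * h⁻¹ = s ∨ h * c * h⁻¹ = s * z ∨ h * c * h⁻¹ = r * s) :=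
  have h : ∀ c, InL HL_o R HL_L c → c * c = 1 → c = 1 ∨ c = z ∨ (Good HL_o R HL_L → prods HL_o HL_L HL_o.one ≠ [] → ∃ h, InL HL_o R HL_L h ∧ (h * c * h⁻¹ = u ∨ h * c * h⁻¹ = r ∨ h * c * h⁻¹ = r * z ∨ h * c * h⁻¹ = s ∨ h * c * h⁻¹ = s * z ∨ h * c * h⁻¹ = r * s)) :=
    Fm.sound M.μ HL_cls_F HL_cls_chk M.reps
  (fun c h0 => (fun h1 => (Or.imp (fun h2 => h2) (fun h2 => (Or.imp (fun h3 => h3) (fun h3 => (Exists.imp (fun h h4 => ⟨M.H.iff.1 h4.1, h4.2⟩) (h3 M.H.good M.H.ne))) h2)) ((h c (M.H.iff.2 h0)) h1))))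
noncomputable def HL_cz_t0 : ST := (.node (nat_lit 2092) (.node (nat_lit 1184) (.node (nat_lit 608) (.node (nat_lit 357) (.node (nat_lit 224) (.node (nat_lit 113) (.node (nat_lit 62) (.leaf (nat_lit 24)) (.leaf (nat_lit 0))) (.node (nat_lit 166) (.leaf (nat_lit 27)) (.leaf (nat_lit 0)))) (.node (nat_lit 325) (.node (nat_lit 303) (.leaf (nat_lit 34)) (.leaf (nat_lit 24))) (.node (nat_lit 351) (.leaf (nat_lit 768)) (.leaf (nat_lit 0))))) (.node (nat_lit 443) (.node (nat_lit 414) (.node (nat_lit 385) (.leaf (nat_lit 50)) (.leaf (nat_lit 0))) (.node (nat_lit 435) (.leaf (nat_lit 98)) (.leaf (nat_lit 27)))) (.node (nat_lit 508) (.node (nat_lit 489) (.leaf (nat_lit 243)) (.leaf (nat_lit 24))) (.node (nat_lit 554) (.leaf (nat_lit 792)) (.leaf (nat_lit 892)))))) (.node (nat_lit 920) (.node (nat_lit 713) (.node (nat_lit 620) (.node (nat_lit 609) (.leaf (nat_lit 27)) (.leaf (nat_lit 624))) (.node (nat_lit 653)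 (.leaf (nat_lit 792)) (.leaf (nat_lit 579)))) (.node (nat_lit 863) (.node (nat_lit 736) (.leaf (nat_lit 99)) (.leaf (nat_lit 0))) (.node (nat_lit 918) (.leaf (nat_lit 794)) (.leaf (nat_lit 3))))) (.node (nat_lit 1028) (.node (nat_lit 954) (.node (nat_lit 936) (.leaf (nat_lit 2)) (.leaf (nat_lit 51))) (.node (nat_lit 958) (.leaf (nat_lit 27)) (.leaf (nat_lit 579)))) (.node (nat_lit 1113) (.node (nat_lit 1103) (.leaf (nat_lit 48)) (.leaf (nat_lit 124))) (.node (nat_lit 1123) (.leaf (nat_lit 48)) (.node (nat_lit 1159) (.leaf (nat_lit 24)) (.leaf (nat_lit 240)))))))) (.node (nat_lit 1748) (.node (nat_lit 1343) (.node (nat_lit 1280) (.node (nat_lit 1251) (.node (nat_lit 1195) (.leaf (nat_lit 0)) (.leaf (nat_lit 792))) (.node (nat_lit 1272) (.leaf (nat_lit 50)) (.leaf (nat_lit 816)))) (.node (nat_lit 1308) (.node (nat_lit 1282) (.leaf (nat_lit 243)) (.leaf (nat_lit 24))) (.node (nat_lit 1325) (.leaf (nat_lit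 984)) (.leaf (nat_lit 627))))) (.node (nat_lit 1537) (.node (nat_lit 1499) (.node (nat_lit 1388) (.leaf (nat_lit 2)) (.leaf (nat_lit 50))) (.node (nat_lit 1507) (.leaf (nat_lit 98)) (.leaf (nat_lit 986)))) (.node (nat_lit 1684) (.node (nat_lit 1609) (.leaf (nat_lit 624)) (.leaf (nat_lit 194))) (.node (nat_lit 1716) (.leaf (nat_lit 24)) (.node (nat_lit 1747) (.leaf (nat_lit 50)) (.leaf (nat_lit 984))))))) (.node (nat_lit 1908) (.node (nat_lit 1847) (.node (nat_lit 1774) (.node (nat_lit 1759) (.leaf (nat_lit 771)) (.leaf (nat_lit 624))) (.node (nat_lit 1840) (.leaf (nat_lit 962)) (.leaf (nat_lit 98)))) (.node (nat_lit 1879) (.node (nat_lit 1873) (.leaf (nat_lit 3)) (.leaf (nat_lit 819))) (.node (nat_lit 1887) (.leaf (nat_lit 98)) (.leaf (nat_lit 50))))) (.node (nat_lit 2025) (.node (nat_lit 1954) (.node (nat_lit 1944) (.leaf (nat_lit 98)) (.leaf (nat_lit 2))) (.node (nat_lit 1996) (.leaf (nat_lit 0))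 (.leaf (nat_lit 627)))) (.node (nat_lit 2035) (.node (nat_lit 2030) (.leaf (nat_lit 984)) (.leaf (nat_lit 50))) (.node (nat_lit 2066) (.leaf (nat_lit 24)) (.node (nat_lit 2080) (.leaf (nat_lit 50)) (.leaf (nat_lit 771))))))))) (.node (nat_lit 3340) (.node (nat_lit 2705) (.node (nat_lit 2370) (.node (nat_lit 2244) (.node (nat_lit 2223) (.node (nat_lit 2182) (.leaf (nat_lit 792)) (.leaf (nat_lit 192))) (.node (nat_lit 2239) (.leaf (nat_lit 195)) (.leaf (nat_lit 770)))) (.node (nat_lit 2278) (.node (nat_lit 2263) (.leaf (nat_lit 27)) (.leaf (nat_lit 794))) (.node (nat_lit 2337) (.leaf (nat_lit 34)) (.leaf (nat_lit 3))))) (.node (nat_lit 2507) (.node (nat_lit 2406) (.node (nat_lit 2402) (.leaf (nat_lit 819)) (.leaf (nat_lit 770))) (.node (nat_lit 2458) (.leaf (nat_lit 816)) (.leaf (nat_lit 50)))) (.node (nat_lit 2648) (.node (nat_lit 2601) (.leaf (nat_lit 98)) (.leaf (nat_lit 0))) (.node (nat_lit 2672)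 (.leaf (nat_lit 316)) (.leaf (nat_lit 796)))))) (.node (nat_lit 3112) (.node (nat_lit 2917) (.node (nat_lit 2734) (.node (nat_lit 2710) (.leaf (nat_lit 48)) (.leaf (nat_lit 770))) (.node (nat_lit 2854) (.leaf (nat_lit 48)) (.leaf (nat_lit 28)))) (.node (nat_lit 3026) (.node (nat_lit 2993) (.leaf (nat_lit 768)) (.leaf (nat_lit 770))) (.node (nat_lit 3052) (.leaf (nat_lit 0)) (.leaf (nat_lit 24))))) (.node (nat_lit 3239) (.node (nat_lit 3191) (.node (nat_lit 3144) (.leaf (nat_lit 986)) (.leaf (nat_lit 0))) (.node (nat_lit 3197) (.leaf (nat_lit 76)) (.leaf (nat_lit 34)))) (.node (nat_lit 3285) (.node (nat_lit 3271) (.leaf (nat_lit 98)) (.leaf (nat_lit 220))) (.node (nat_lit 3302) (.leaf (nat_lit 0)) (.node (nat_lit 3321) (.leaf (nat_lit 794)) (.leaf (nat_lit 962)))))))) (.node (nat_lit 3675) (.node (nat_lit 3523) (.node (nat_lit 3438) (.node (nat_lit 3349) (.node (nat_lit 3343) (.leaf (nat_lit 0)) (.leaf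 (nat_lit 3))) (.node (nat_lit 3437) (.leaf (nat_lit 48)) (.leaf (nat_lit 50)))) (.node (nat_lit 3479) (.node (nat_lit 3443) (.leaf (nat_lit 34)) (.leaf (nat_lit 0))) (.node (nat_lit 3480) (.leaf (nat_lit 99)) (.leaf (nat_lit 27))))) (.node (nat_lit 3601) (.node (nat_lit 3588) (.node (nat_lit 3563) (.leaf (nat_lit 579)) (.leaf (nat_lit 627))) (.node (nat_lit 3596) (.leaf (nat_lit 986)) (.leaf (nat_lit 624)))) (.node (nat_lit 3615) (.node (nat_lit 3609) (.leaf (nat_lit 192)) (.leaf (nat_lit 99))) (.node (nat_lit 3649) (.leaf (nat_lit 51)) (.node (nat_lit 3653) (.leaf (nat_lit 98)) (.leaf (nat_lit 27))))))) (.node (nat_lit 3940) (.node (nat_lit 3804) (.node (nat_lit 3743) (.node (nat_lit 3707) (.leaf (nat_lit 794)) (.leaf (nat_lit 962))) (.node (nat_lit 3786) (.leaf (nat_lit 579)) (.leaf (nat_lit 984)))) (.node (nat_lit 3903) (.node (nat_lit 3832) (.leaf (nat_lit 240)) (.leaf (nat_lit 770))) (.node (nat_lit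 3914) (.leaf (nat_lit 962)) (.leaf (nat_lit 50))))) (.node (nat_lit 4130) (.node (nat_lit 4009) (.node (nat_lit 3941) (.leaf (nat_lit 99)) (.leaf (nat_lit 27))) (.node (nat_lit 4110) (.leaf (nat_lit 2)) (.leaf (nat_lit 4)))) (.node (nat_lit 4159) (.node (nat_lit 4150) (.leaf (nat_lit 0)) (.leaf (nat_lit 627))) (.node (nat_lit 4211) (.leaf (nat_lit 986)) (.node (nat_lit 4227) (.leaf (nat_lit 50)) (.leaf (nat_lit 195))))))))))
noncomputable def HL_cz_t1 : ST := (.node (nat_lit 28) (.node (nat_lit 16) (.node (nat_lit 13) (.leaf (nat_lit 194)) (.node (nat_lit 15) (.leaf (nat_lit 796)) (.leaf (nat_lit 76)))) (.node (nat_lit 21) (.leaf (nat_lit 770)) (.node (nat_lit 23) (.leaf (nat_lit 892)) (.leaf (nat_lit 4))))) (.node (nat_lit 34) (.node (nat_lit 32) (.leaf (nat_lit 28)) (.node (nat_lit 33) (.leaf (nat_lit 2)) (.leaf (nat_lit 0)))) (.node (nat_lit 35) (.leaf (nat_lit 220)) (.node (nat_lit 39) (.leaf (nat_lit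 124)) (.leaf (nat_lit 316))))))
noncomputable def HL_cz_F : Fm := (.all HL_L (.imp (.eq (.mul (.v (nat_lit 0)) (.v (nat_lit 0))) .one) (.or (.or (.qf (.eq (.v (nat_lit 0)) .one)) (.or (.qf (.eq (.v (nat_lit 0)) (.v (nat_lit 1)))) (.exF HL_L (fun cs => HL_cz_t0.find (Nat.mod (nth (nat_lit 0) cs (nat_lit 0)) (nat_lit 4385))) (.qf (.or (.eq (.mul (.mul (.v (nat_lit 0)) (.v (nat_lit 1))) (.inv (.v (nat_lit 0)))) (.mul (.v (nat_lit 1)) (.v (nat_lit 2)))) (.or (.eq (.mul (.mul (.v (nat_lit 0)) (.v (nat_lit 1))) (.inv (.v (nat_lit 0)))) (.v (nat_lit 7))) (.or (.eq (.mul (.mul (.v (nat_lit 0)) (.v (nat_lit 1))) (.inv (.v (nat_lit 0)))) (.mul (.v (nat_lit 7)) (.v (nat_lit 2)))) (.eq (.mul (.mul (.v (nat_lit 0)) (.v (nat_lit 1))) (.inv (.v (nat_lit 0)))) (.v (nat_lit 8)))))))))) (.exF HL_L (fun cs => HL_cz_t1.find (Nat.mod (nth (nat_lit 0) cs (nat_lit 0)) (nat_lit 48))) (.qf (.eq (.mul (.mul (.v (nat_lit 0))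 (.v (nat_lit 1))) (.inv (.v (nat_lit 0)))) (.mul (.v (nat_lit 8)) (.v (nat_lit 2)))))))))
theorem HL_cz_chk : Fm.chk HL_o HL_cz_F HL_cs = true := by decide +kernel
theorem HL_cz {G : Type*} [Group G] {R : ℕ → G → Prop} {z u v a b r s x y : G} {H : Subgroup G}
    (M : Mdl HL_o HL_cs HL_L R [z, u, v, a, b, r, s, x, x⁻¹, y, y⁻¹] H) :
    ∀ c ∈ H, c * c = 1 → (c = 1 ∨ c = z ∨ (∃ h ∈ H, h * c * h⁻¹ = c * z ∨ h * c * h⁻¹ = r ∨ h * c * h⁻¹ = r * z ∨ h * c * h⁻¹ = s)) ∨ (∃ h ∈ H, h * c * h⁻¹ = s * z) :=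
  have h : ∀ c, InL HL_o R HL_L c → c * c = 1 → (c = 1 ∨ c = z ∨ (Good HL_o R HL_L → prods HL_o HL_L HL_o.one ≠ [] → ∃ h, InL HL_o R HL_L h ∧ (h * c * h⁻¹ = c * z ∨ h * c * h⁻¹ = r ∨ h * c * h⁻¹ = r * z ∨ h * c * h⁻¹ = s))) ∨ (Good HL_o R HL_L → prods HL_o HL_L HL_o.one ≠ [] → ∃ h, InL HL_o R HL_L h ∧ h * c * h⁻¹ = s * z) :=
    Fm.sound M.μ HL_cz_F HL_cz_chk M.reps
  (fun c h0 => (fun h1 => (Or.imp (fun h2 => (Or.imp (fun h3 => h3) (fun h3 => (Or.imp (fun h4 => h4) (fun h4 => (Exists.imp (fun h h5 => ⟨M.H.iff.1 h5.1, h5.2⟩) (h4 M.H.good M.H.ne))) h3)) h2)) (fun h2 => (Exists.imp (fun h h3 => ⟨M.H.iff.1 h3.1, h3.2⟩) (h2 M.H.good M.H.ne))) ((h c (M.H.iff.2 h0)) h1))))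
noncomputable def HL_pr_t0 : ST := (.node (nat_lit 144) (.node (nat_lit 70) (.node (nat_lit 26) (.node (nat_lit 18) (.node (nat_lit 8) (.leaf (nat_lit 768)) (.leaf (nat_lit 240))) (.node (nat_lit 24) (.leaf (nat_lit 2)) (.leaf (nat_lit 816)))) (.node (nat_lit 37) (.node (nat_lit 31) (.leaf (nat_lit 3)) (.leaf (nat_lit 770))) (.node (nat_lit 43) (.leaf (nat_lit 192)) (.leaf (nat_lit 27))))) (.node (nat_lit 104) (.node (nat_lit 75) (.node (nat_lit 73) (.leaf (nat_lit 50)) (.leaf (nat_lit 3))) (.node (nat_lit 81) (.leaf (nat_lit 0)) (.leaf (nat_lit 48)))) (.node (nat_lit 128) (.node (nat_lit 121) (.leaf (nat_lit 2)) (.leaf (nat_lit 50))) (.node (nat_lit 138) (.leaf (nat_lit 27)) (.node (nat_lit 143) (.leaf (nat_lit 768)) (.leaf (nat_lit 50))))))) (.node (nat_lit 192) (.node (nat_lit 167) (.node (nat_lit 164) (.node (nat_lit 149) (.leaf (nat_lit 27)) (.leaf (nat_lit 34))) (.node (nat_lit 165) (.leaf (nat_lit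 816)) (.leaf (nat_lit 2)))) (.node (nat_lit 178) (.node (nat_lit 176) (.leaf (nat_lit 0)) (.leaf (nat_lit 2))) (.node (nat_lit 182) (.leaf (nat_lit 0)) (.leaf (nat_lit 34))))) (.node (nat_lit 221) (.node (nat_lit 203) (.node (nat_lit 200) (.leaf (nat_lit 0)) (.leaf (nat_lit 50))) (.node (nat_lit 210) (.leaf (nat_lit 0)) (.leaf (nat_lit 194)))) (.node (nat_lit 235) (.node (nat_lit 222) (.leaf (nat_lit 34)) (.leaf (nat_lit 2))) (.node (nat_lit 244) (.leaf (nat_lit 240)) (.node (nat_lit 248) (.leaf (nat_lit 34)) (.leaf (nat_lit 192))))))))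
noncomputable def HL_pr_t1 : ST := (.node (nat_lit 18) (.leaf (nat_lit 771)) (.node (nat_lit 20) (.leaf (nat_lit 195)) (.leaf (nat_lit 3))))
noncomputable def HL_pr_F : Fm := (.all HL_L (.imp (.eq (.mul (.v (nat_lit 0)) (.mul (.v (nat_lit 7)) (.v (nat_lit 1)))) (.mul (.mul (.v (nat_lit 7)) (.v (nat_lit 1))) (.v (nat_lit 0)))) (.imp (.eq (.mul (.v (nat_lit 0)) (.v (nat_lit 0))) .one) (.or (.or (.qf (.eq (.v (nat_lit 0)) .one)) (.or (.qf (.eq (.v (nat_lit 0)) (.v (nat_lit 1)))) (.exF HL_L (fun cs => HL_pr_t0.find (Nat.mod (nth (nat_lit 0) cs (nat_lit 0)) (nat_lit 257))) (.qf (.or (.eq (.mul (.mul (.v (nat_lit 0)) (.v (nat_lit 1))) (.inv (.v (nat_lit 0)))) (.mul (.v (nat_lit 1)) (.v (nat_lit 2)))) (.or (.eq (.mul (.mul (.v (nat_lit 0)) (.v (nat_lit 1))) (.inv (.v (nat_lit 0)))) (.v (nat_lit 7))) (.or (.eq (.mul (.mul (.v (nat_lit 0)) (.v (nat_lit 1))) (.inv (.v (nat_lit 0)))) (.mul (.v (nat_lit 7)) (.v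 (nat_lit 2)))) (.eq (.mul (.mul (.v (nat_lit 0)) (.v (nat_lit 1))) (.inv (.v (nat_lit 0)))) (.v (nat_lit 8)))))))))) (.or (.qf (.eq (.mul (.mul (.v (nat_lit 7)) (.v (nat_lit 1))) (.v (nat_lit 0))) .one)) (.or (.qf (.eq (.mul (.mul (.v (nat_lit 7)) (.v (nat_lit 1))) (.v (nat_lit 0))) (.v (nat_lit 1)))) (.exF HL_L (fun cs => HL_pr_t1.find (Nat.mod (nth (nat_lit 0) cs (nat_lit 0)) (nat_lit 21))) (.qf (.eq (.mul (.mul (.v (nat_lit 0)) (.mul (.mul (.v (nat_lit 8)) (.v (nat_lit 2))) (.v (nat_lit 1)))) (.inv (.v (nat_lit 0)))) (.v (nat_lit 3)))))))))))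
theorem HL_pr_chk : Fm.chk HL_o HL_pr_F HL_cs = true := by decide +kernel
theorem HL_pr {G : Type*} [Group G] {R : ℕ → G → Prop} {z u v a b r s x y : G} {H : Subgroup G}
    (M : Mdl HL_o HL_cs HL_L R [z, u, v, a, b, r, s, x, x⁻¹, y, y⁻¹] H) :
    ∀ c ∈ H, c * (s * z) = s * z * c → c * c = 1 → (c = 1 ∨ c = z ∨ (∃ h ∈ H, h * c * h⁻¹ = c * z ∨ h * c * h⁻¹ = r ∨ h * c * h⁻¹ = r * z ∨ h * c * h⁻¹ = s)) ∨ s * z * c = 1 ∨ s * z * c = z ∨ (∃ h ∈ H, h * (s * z * c) * h⁻¹ = u) :=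
  have h : ∀ c, InL HL_o R HL_L c → c * (s * z) = s * z * c → c * c = 1 → (c = 1 ∨ c = z ∨ (Good HL_o R HL_L → prods HL_o HL_L HL_o.one ≠ [] → ∃ h, InL HL_o R HL_L h ∧ (h * c * h⁻¹ = c * z ∨ h * c * h⁻¹ = r ∨ h * c * h⁻¹ = r * z ∨ h * c * h⁻¹ = s))) ∨ s * z * c = 1 ∨ s * z * c = z ∨ (Good HL_o R HL_L → prods HL_o HL_L HL_o.one ≠ [] → ∃ h, InL HL_o R HL_L h ∧ h * (s * z * c) * h⁻¹ = u) :=
    Fm.sound M.μ HL_pr_F HL_pr_chk M.reps
  (fun c h0 => (fun h1 => (fun h2 => (Or.imp (fun h3 => (Or.imp (fun h4 => h4) (fun h4 => (Or.imp (fun h5 => h5) (fun h5 => (Exists.imp (fun h h6 => ⟨M.H.iff.1 h6.1, h6.2⟩) (h5 M.H.good M.H.ne))) h4)) h3)) (fun h3 => (Or.imp (fun h4 => h4) (fun h4 => (Or.imp (fun h5 => h5) (fun h5 => (Exists.imp (fun h h6 => ⟨M.H.iff.1 h6.1, h6.2⟩) (h5 M.H.good M.H.ne))) h4)) h3)) (((h c (M.H.iff.2 h0)) h1) h2)))))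
noncomputable def HL_rs_F : Fm := (.all HL_L (.imp (.eq (.mul (.v (nat_lit 0)) (.mul (.v (nat_lit 6)) (.v (nat_lit 7)))) (.mul (.mul (.v (nat_lit 6)) (.v (nat_lit 7))) (.v (nat_lit 0)))) (.imp (.eq (.pw (.v (nat_lit 0)) (nat_lit 3)) .one) (.qf (.eq (.v (nat_lit 0)) .one)))))
theorem HL_rs_chk : Fm.chk HL_o HL_rs_F HL_cs = true := by decide +kernel
theorem HL_rs {G : Type*} [Group G] {R : ℕ → G → Prop} {z u v a b r s x y : G} {H : Subgroup G}
    (M : Mdl HL_o HL_cs HL_L R [z, u, v, a, b, r, s, x, x⁻¹, y, y⁻¹] H) :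
    ∀ c ∈ H, c * (r * s) = r * s * c → c ^ 3 = 1 → c = 1 :=
  have h : ∀ c, InL HL_o R HL_L c → c * (r * s) = r * s * c → c ^ 3 = 1 → c = 1 :=
    Fm.sound M.μ HL_rs_F HL_rs_chk M.reps
  (fun c h0 => (h c (M.H.iff.2 h0)))
noncomputable def HL_K_F : Fm := (.all HL_L (.imp (.eq (.mul (.v (nat_lit 0)) (.v (nat_lit 6))) (.mul (.v (nat_lit 6)) (.v (nat_lit 0)))) (.imp (.eq (.pw (.v (nat_lit 0)) (nat_lit 3)) .one) (.qf (.mem (.v (nat_lit 0)) HL_lK)))))
theorem HL_K_chk : Fm.chk HL_o HL_K_F HL_cs = true := by decide +kernel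
theorem HL_K {G : Type*} [Group G] {R : ℕ → G → Prop} {z u v a b r s x y : G} {H : Subgroup G}
    (M : Mdl HL_o HL_cs HL_L R [z, u, v, a, b, r, s, x, x⁻¹, y, y⁻¹] H) :
    ∀ c ∈ H, c * r = r * c → c ^ 3 = 1 → c ∈ sp [z, u, v, r, y] :=
  have h : ∀ c, InL HL_o R HL_L c → c * r = r * c → c ^ 3 = 1 → InS R HL_lK (c) :=
    Fm.sound M.μ HL_K_F HL_K_chk M.reps
  (fun c h0 => (fun h1 => (fun h2 => ((HL_lK_E M).iff.1 (((h c (M.H.iff.2 h0)) h1) h2)))))
noncomputable def HL_Kw_F : Fm := (.allS HL_lK (.imp (.eq (.mul (.v (nat_lit 0)) (.v (nat_lit 0))) .one) (.qf (.mem (.v (nat_lit 0)) HL_lW))))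
theorem HL_Kw_chk : Fm.chk HL_o HL_Kw_F HL_cs = true := by decide +kernel
theorem HL_Kw {G : Type*} [Group G] {R : ℕ → G → Prop} {z u v a b r s x y : G} {H : Subgroup G}
    (M : Mdl HL_o HL_cs HL_L R [z, u, v, a, b, r, s, x, x⁻¹, y, y⁻¹] H) :
    ∀ c ∈ sp [z, u, v, r, y], c * c = 1 → c ∈ sp [z, u, v, r] :=
  have h : ∀ c, InS R HL_lK c → c * c = 1 → InS R HL_lW (c) :=
    Fm.sound M.μ HL_Kw_F HL_Kw_chk M.reps
  (fun c h0 => (fun h1 => ((HL_lW_E M).iff.1 ((h c ((HL_lK_E M).iff.2 h0)) h1))))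
noncomputable def HL_W2_F : Fm := (.all HL_L (.qf (.not (.mem (.mul (.mul (.v (nat_lit 0)) (.v (nat_lit 6))) (.inv (.v (nat_lit 0)))) HL_lW2))))
theorem HL_W2_chk : Fm.chk HL_o HL_W2_F HL_cs = true := by decide +kernel
theorem HL_W2 {G : Type*} [Group G] {R : ℕ → G → Prop} {z u v a b r s x y : G} {H : Subgroup G}
    (M : Mdl HL_o HL_cs HL_L R [z, u, v, a, b, r, s, x, x⁻¹, y, y⁻¹] H) :
    ∀ c ∈ H, c * r * c⁻¹ ∉ sp [z, z * u, z * a, s] :=
  have h : ∀ c, InL HL_o R HL_L c → ¬ InS R HL_lW2 (c * r * c⁻¹) :=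
    Fm.sound M.μ HL_W2_F HL_W2_chk M.reps
  (fun c h0 => ((not_congr (HL_lW2_E M).iff).1 (h c (M.H.iff.2 h0))))
noncomputable def HL_nW_F : Fm := (.allS HL_lT (.allS HL_lW (.qf (.mem (.mul (.mul (.v (nat_lit 1)) (.v (nat_lit 0))) (.inv (.v (nat_lit 1)))) HL_lW))))
theorem HL_nW_chk : Fm.chk HL_o HL_nW_F HL_cs = true := by decide +kernel
theorem HL_nW {G : Type*} [Group G] {R : ℕ → G → Prop} {z u v a b r s x y : G} {H : Subgroup G}
    (M : Mdl HL_o HL_cs HL_L R [z, u, v, a, b, r, s, x, x⁻¹, y, y⁻¹] H) :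
    ∀ c ∈ sp [z, u, v, a, b, r, s], ∀ e ∈ sp [z, u, v, r], c * e * c⁻¹ ∈ sp [z, u, v, r] :=
  have h : ∀ c, InS R HL_lT c → ∀ e, InS R HL_lW e → InS R HL_lW (c * e * c⁻¹) :=
    Fm.sound M.μ HL_nW_F HL_nW_chk M.reps
  (fun c h0 => (fun e h1 => ((HL_lW_E M).iff.1 ((h c ((HL_lT_E M).iff.2 h0)) e ((HL_lW_E M).iff.2 h1)))))
noncomputable def HL_nW2_F : Fm := (.allS HL_lT (.allS HL_lW2 (.qf (.mem (.mul (.mul (.v (nat_lit 1)) (.v (nat_lit 0))) (.inv (.v (nat_lit 1)))) HL_lW2))))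
theorem HL_nW2_chk : Fm.chk HL_o HL_nW2_F HL_cs = true := by decide +kernel
theorem HL_nW2 {G : Type*} [Group G] {R : ℕ → G → Prop} {z u v a b r s x y : G} {H : Subgroup G}
    (M : Mdl HL_o HL_cs HL_L R [z, u, v, a, b, r, s, x, x⁻¹, y, y⁻¹] H) :
    ∀ c ∈ sp [z, u, v, a, b, r, s], ∀ e ∈ sp [z, z * u, z * a, s], c * e * c⁻¹ ∈ sp [z, z * u, z * a, s] :=
  have h : ∀ c, InS R HL_lT c → ∀ e, InS R HL_lW2 e → InS R HL_lW2 (c * e * c⁻¹) :=
    Fm.sound M.μ HL_nW2_F HL_nW2_chk M.reps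
  (fun c h0 => (fun e h1 => ((HL_lW2_E M).iff.1 ((h c ((HL_lT_E M).iff.2 h0)) e ((HL_lW2_E M).iff.2 h1)))))
noncomputable def HL_Wc_t0 : ST := (.node (nat_lit 13) (.node (nat_lit 3) (.node (nat_lit 1) (.leaf (nat_lit 52)) (.leaf (nat_lit 148))) (.node (nat_lit 4) (.leaf (nat_lit 3)) (.node (nat_lit 12) (.leaf (nat_lit 0)) (.leaf (nat_lit 51))))) (.node (nat_lit 16) (.node (nat_lit 15) (.leaf (nat_lit 3)) (.leaf (nat_lit 48))) (.node (nat_lit 17) (.leaf (nat_lit 76)) (.node (nat_lit 21) (.leaf (nat_lit 0)) (.leaf (nat_lit 4))))))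
noncomputable def HL_Wc_t1 : ST := (.node (nat_lit 16) (.node (nat_lit 11) (.node (nat_lit 8) (.leaf (nat_lit 0)) (.leaf (nat_lit 76))) (.node (nat_lit 13) (.leaf (nat_lit 48)) (.node (nat_lit 14) (.leaf (nat_lit 0)) (.leaf (nat_lit 51))))) (.node (nat_lit 21) (.node (nat_lit 18) (.leaf (nat_lit 52)) (.node (nat_lit 19) (.leaf (nat_lit 0)) (.leaf (nat_lit 3)))) (.node (nat_lit 23) (.leaf (nat_lit 4)) (.node (nat_lit 24) (.leaf (nat_lit 148)) (.leaf (nat_lit 0))))))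
noncomputable def HL_Wc_t2 : ST := (.node (nat_lit 7) (.node (nat_lit 5) (.leaf (nat_lit 72)) (.node (nat_lit 6) (.leaf (nat_lit 77)) (.leaf (nat_lit 76)))) (.node (nat_lit 11) (.leaf (nat_lit 5)) (.node (nat_lit 14) (.leaf (nat_lit 0)) (.leaf (nat_lit 4)))))
noncomputable def HL_Wc_F : Fm := (.allS HL_lW (.allS HL_lW (.or (.or (.qf (.eq (.v (nat_lit 1)) .one)) (.or (.qf (.eq (.v (nat_lit 1)) (.v (nat_lit 2)))) (.or (.qf (.eq (.v (nat_lit 1)) (.v (nat_lit 7)))) (.exF HL_L (fun cs => HL_Wc_t0.find (Nat.mod (nth (nat_lit 0) cs (nat_lit 1)) (nat_lit 22))) (.qf (.or (.eq (.mul (.mul (.v (nat_lit 0)) (.v (nat_lit 2))) (.inv (.v (nat_lit 0)))) (.v (nat_lit 4))) (.eq (.mul (.mul (.v (nat_lit 0)) (.v (nat_lit 2))) (.inv (.v (nat_lit 0)))) (.mul (.v (nat_lit 8)) (.v (nat_lit 3)))))))))) (.or (.or (.qf (.eq (.v (nat_lit 0)) .one)) (.or (.qf (.eq (.v (nat_lit 0)) (.v (nat_lit 2)))) (.or (.qf (.eq (.v (nat_lit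 0)) (.v (nat_lit 7)))) (.exF HL_L (fun cs => HL_Wc_t1.find (Nat.mod (nth (nat_lit 0) cs (nat_lit 0)) (nat_lit 26))) (.qf (.or (.eq (.mul (.mul (.v (nat_lit 0)) (.v (nat_lit 1))) (.inv (.v (nat_lit 0)))) (.v (nat_lit 4))) (.eq (.mul (.mul (.v (nat_lit 0)) (.v (nat_lit 1))) (.inv (.v (nat_lit 0)))) (.mul (.v (nat_lit 8)) (.v (nat_lit 3)))))))))) (.or (.qf (.eq (.v (nat_lit 1)) (.v (nat_lit 0)))) (.exF HL_L (fun cs => HL_Wc_t2.find (Nat.mod (Nat.add (nth (nat_lit 0) cs (nat_lit 1)) (Nat.mul (nat_lit 7919) (nth (nat_lit 0) cs (nat_lit 0)))) (nat_lit 17))) (.qf (.and (.eq (.mul (.v (nat_lit 0)) (.v (nat_lit 8))) (.mul (.v (nat_lit 8)) (.v (nat_lit 0)))) (.and (.eq (.mul (.mul (.v (nat_lit 0)) (.v (nat_lit 2))) (.inv (.v (nat_lit 0)))) (.mul (.v (nat_lit 4)) (.v (nat_lit 8)))) (.eq (.mul (.mul (.v (nat_lit 0)) (.v (nat_lit 1))) (.inv (.v (nat_lit 0)))) (.mul (.v (nat_lit 5)) (.v (nat_lit 8)))))))))))))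
theorem HL_Wc_chk : Fm.chk HL_o HL_Wc_F HL_cs = true := by decide +kernel
theorem HL_Wc {G : Type*} [Group G] {R : ℕ → G → Prop} {z u v a b r s x y : G} {H : Subgroup G}
    (M : Mdl HL_o HL_cs HL_L R [z, u, v, a, b, r, s, x, x⁻¹, y, y⁻¹] H) :
    ∀ c ∈ sp [z, u, v, r], ∀ d ∈ sp [z, u, v, r], (c = 1 ∨ c = z ∨ c = r ∨ (∃ h ∈ H, h * c * h⁻¹ = u ∨ h * c * h⁻¹ = r * z)) ∨ (d = 1 ∨ d = z ∨ d = r ∨ (∃ h ∈ H, h * d * h⁻¹ = u ∨ h * d * h⁻¹ = r * z)) ∨ c = d ∨ (∃ h ∈ H, h * r = r * h ∧ h * c * h⁻¹ = u * r ∧ h * d * h⁻¹ = v * r) :=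
  have h : ∀ c, InS R HL_lW c → ∀ d, InS R HL_lW d → (c = 1 ∨ c = z ∨ c = r ∨ (Good HL_o R HL_L → prods HL_o HL_L HL_o.one ≠ [] → ∃ h, InL HL_o R HL_L h ∧ (h * c * h⁻¹ = u ∨ h * c * h⁻¹ = r * z))) ∨ (d = 1 ∨ d = z ∨ d = r ∨ (Good HL_o R HL_L → prods HL_o HL_L HL_o.one ≠ [] → ∃ h, InL HL_o R HL_L h ∧ (h * d * h⁻¹ = u ∨ h * d * h⁻¹ = r * z))) ∨ c = d ∨ (Good HL_o R HL_L → prods HL_o HL_L HL_o.one ≠ [] → ∃ h, InL HL_o R HL_L h ∧ h * r = r * h ∧ h * c * h⁻¹ = u * r ∧ h * d * h⁻¹ = v * r) :=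
    Fm.sound M.μ HL_Wc_F HL_Wc_chk M.reps
  (fun c h0 => (fun d h1 => (Or.imp (fun h2 => (Or.imp (fun h3 => h3) (fun h3 => (Or.imp (fun h4 => h4) (fun h4 => (Or.imp (fun h5 => h5) (fun h5 => (Exists.imp (fun h h6 => ⟨M.H.iff.1 h6.1, h6.2⟩) (h5 M.H.good M.H.ne))) h4)) h3)) h2)) (fun h2 => (Or.imp (fun h3 => (Or.imp (fun h4 => h4) (fun h4 => (Or.imp (fun h5 => h5) (fun h5 => (Or.imp (fun h6 => h6) (fun h6 => (Exists.imp (fun h h7 => ⟨M.H.iff.1 h7.1, h7.2⟩) (h6 M.H.good M.H.ne))) h5)) h4)) h3)) (fun h3 => (Or.imp (fun h4 => h4) (fun h4 => (Exists.imp (fun h h5 => ⟨M.H.iff.1 h5.1, h5.2⟩) (h4 M.H.good M.H.ne))) h3)) h2)) ((h c ((HL_lW_E M).iff.2 h0)) d ((HL_lW_E M).iff.2 h1)))))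
noncomputable def HL_yy_t0 : ST := (.node (nat_lit 13) (.node (nat_lit 10) (.leaf (nat_lit 24)) (.leaf (nat_lit 26))) (.node (nat_lit 25) (.leaf (nat_lit 0)) (.leaf (nat_lit 2))))
noncomputable def HL_yy_F : Fm := (.all HL_L (.imp (.eq (.pw (.v (nat_lit 0)) (nat_lit 3)) .one) (.imp (.eq (.mul (.mul (.v (nat_lit 0)) (.v (nat_lit 11))) (.v (nat_lit 2))) (.mul (.v (nat_lit 2)) (.mul (.v (nat_lit 0)) (.v (nat_lit 11))))) (.imp (.eq (.mul (.mul (.v (nat_lit 0)) (.v (nat_lit 11))) (.v (nat_lit 3))) (.mul (.v (nat_lit 3)) (.mul (.v (nat_lit 0)) (.v (nat_lit 11))))) (.imp (.eq (.mul (.mul (.v (nat_lit 0)) (.v (nat_lit 11))) (.v (nat_lit 6))) (.mul (.v (nat_lit 6)) (.mul (.v (nat_lit 0)) (.v (nat_lit 11))))) (.exF HL_L (fun cs => HL_yy_t0.find (Nat.mod (nth (nat_lit 0) cs (nat_lit 0)) (nat_lit 27))) (.qf (.and (.eq (.mul (.v (nat_lit 0)) (.v (nat_lit 3))) (.mul (.v (nat_lit 3)) (.v (nat_lit 0)))) (.and (.eq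 (.mul (.v (nat_lit 0)) (.v (nat_lit 4))) (.mul (.v (nat_lit 4)) (.v (nat_lit 0)))) (.and (.eq (.mul (.v (nat_lit 0)) (.v (nat_lit 7))) (.mul (.v (nat_lit 7)) (.v (nat_lit 0)))) (.eq (.mul (.mul (.v (nat_lit 0)) (.v (nat_lit 1))) (.inv (.v (nat_lit 0)))) (.v (nat_lit 11)))))))))))))
theorem HL_yy_chk : Fm.chk HL_o HL_yy_F HL_cs = true := by decide +kernel
theorem HL_yy {G : Type*} [Group G] {R : ℕ → G → Prop} {z u v a b r s x y : G} {H : Subgroup G}
    (M : Mdl HL_o HL_cs HL_L R [z, u, v, a, b, r, s, x, x⁻¹, y, y⁻¹] H) :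
    ∀ c ∈ H, c ^ 3 = 1 → c * y⁻¹ * u = u * (c * y⁻¹) → c * y⁻¹ * v = v * (c * y⁻¹) → c * y⁻¹ * r = r * (c * y⁻¹) → (∃ f ∈ H, f * u = u * f ∧ f * v = v * f ∧ f * r = r * f ∧ f * c * f⁻¹ = y) :=
  have h : ∀ c, InL HL_o R HL_L c → c ^ 3 = 1 → c * y⁻¹ * u = u * (c * y⁻¹) → c * y⁻¹ * v = v * (c * y⁻¹) → c * y⁻¹ * r = r * (c * y⁻¹) → (Good HL_o R HL_L → prods HL_o HL_L HL_o.one ≠ [] → ∃ f, InL HL_o R HL_L f ∧ f * u = u * f ∧ f * v = v * f ∧ f * r = r * f ∧ f * c * f⁻¹ = y) :=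
    Fm.sound M.μ HL_yy_F HL_yy_chk M.reps
  (fun c h0 => (fun h1 => (fun h2 => (fun h3 => (fun h4 => (Exists.imp (fun f h5 => ⟨M.H.iff.1 h5.1, h5.2⟩) ((((((h c (M.H.iff.2 h0)) h1) h2) h3) h4) M.H.good M.H.ne)))))))
noncomputable def HL_kk_F : Fm := (.all HL_L (.imp (.eq (.mul (.v (nat_lit 0)) (.v (nat_lit 2))) (.mul (.v (nat_lit 2)) (.v (nat_lit 0)))) (.imp (.eq (.mul (.v (nat_lit 0)) (.v (nat_lit 6))) (.mul (.v (nat_lit 6)) (.v (nat_lit 0)))) (.imp (.eq (.mul (.v (nat_lit 0)) (.v (nat_lit 10))) (.mul (.v (nat_lit 10)) (.v (nat_lit 0)))) (.qf (.or (.eq (.v (nat_lit 0)) .one) (.or (.eq (.v (nat_lit 0)) (.v (nat_lit 1))) (.or (.eq (.v (nat_lit 0)) (.v (nat_lit 6))) (.eq (.v (nat_lit 0)) (.mul (.v (nat_lit 1)) (.v (nat_lit 6))))))))))))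
theorem HL_kk_chk : Fm.chk HL_o HL_kk_F HL_cs = true := by decide +kernel
theorem HL_kk {G : Type*} [Group G] {R : ℕ → G → Prop} {z u v a b r s x y : G} {H : Subgroup G}
    (M : Mdl HL_o HL_cs HL_L R [z, u, v, a, b, r, s, x, x⁻¹, y, y⁻¹] H) :
    ∀ c ∈ H, c * u = u * c → c * r = r * c → c * y = y * c → c = 1 ∨ c = z ∨ c = r ∨ c = z * r :=
  have h : ∀ c, InL HL_o R HL_L c → c * u = u * c → c * r = r * c → c * y = y * c → c = 1 ∨ c = z ∨ c = r ∨ c = z * r :=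
    Fm.sound M.μ HL_kk_F HL_kk_chk M.reps
  (fun c h0 => (h c (M.H.iff.2 h0)))
noncomputable def HL_f_F : Fm := (.all HL_L (.imp (.eq (.mul (.v (nat_lit 0)) (.v (nat_lit 2))) (.mul (.v (nat_lit 2)) (.v (nat_lit 0)))) (.imp (.eq (.mul (.v (nat_lit 0)) (.v (nat_lit 3))) (.mul (.v (nat_lit 3)) (.v (nat_lit 0)))) (.imp (.eq (.mul (.v (nat_lit 0)) (.v (nat_lit 6))) (.mul (.v (nat_lit 6)) (.v (nat_lit 0)))) (.imp (.eq (.mul (.v (nat_lit 0)) (.v (nat_lit 7))) (.mul (.v (nat_lit 7)) (.v (nat_lit 0)))) (.qf (.or (.eq (.v (nat_lit 0)) .one) (.or (.eq (.v (nat_lit 0)) (.v (nat_lit 1))) (.or (.eq (.v (nat_lit 0)) (.v (nat_lit 2))) (.or (.eq (.v (nat_lit 0)) (.v (nat_lit 6))) (.or (.eq (.v (nat_lit 0)) (.mul (.v (nat_lit 1)) (.v (nat_lit 2)))) (.or (.eq (.v (nat_lit 0)) (.mul (.v (nat_lit 1)) (.v (nat_lit 6)))) (.or (.eq (.v (nat_lit 0)) (.mul (.v (nat_lit 2)) (.v (nat_lit 6)))) (.eq (.v (nat_lit 0)) (.mul (.mul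 (.v (nat_lit 1)) (.v (nat_lit 2))) (.v (nat_lit 6)))))))))))))))))
theorem HL_f_chk : Fm.chk HL_o HL_f_F HL_cs = true := by decide +kernel
theorem HL_f {G : Type*} [Group G] {R : ℕ → G → Prop} {z u v a b r s x y : G} {H : Subgroup G}
    (M : Mdl HL_o HL_cs HL_L R [z, u, v, a, b, r, s, x, x⁻¹, y, y⁻¹] H) :
    ∀ c ∈ H, c * u = u * c → c * v = v * c → c * r = r * c → c * s = s * c → c = 1 ∨ c = z ∨ c = u ∨ c = r ∨ c = z * u ∨ c = z * r ∨ c = u * r ∨ c = z * u * r :=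
  have h : ∀ c, InL HL_o R HL_L c → c * u = u * c → c * v = v * c → c * r = r * c → c * s = s * c → c = 1 ∨ c = z ∨ c = u ∨ c = r ∨ c = z * u ∨ c = z * r ∨ c = u * r ∨ c = z * u * r :=
    Fm.sound M.μ HL_f_F HL_f_chk M.reps
  (fun c h0 => (h c (M.H.iff.2 h0)))
noncomputable def HL_X_F : Fm := (.all HL_L (.imp (.eq (.mul (.v (nat_lit 0)) (.v (nat_lit 2))) (.mul (.v (nat_lit 2)) (.v (nat_lit 0)))) (.imp (.eq (.mul (.v (nat_lit 0)) (.v (nat_lit 6))) (.mul (.v (nat_lit 6)) (.v (nat_lit 0)))) (.imp (.eq (.mul (.v (nat_lit 0)) (.v (nat_lit 7))) (.mul (.v (nat_lit 7)) (.v (nat_lit 0)))) (.qf (.or (.eq (.v (nat_lit 0)) .one) (.or (.eq (.v (nat_lit 0)) (.v (nat_lit 1))) (.or (.eq (.v (nat_lit 0)) (.v (nat_lit 2))) (.or (.eq (.v (nat_lit 0)) (.v (nat_lit 6))) (.or (.eq (.v (nat_lit 0)) (.v (nat_lit 7))) (.or (.eq (.v (nat_lit 0)) (.mul (.v (nat_lit 1)) (.v (nat_lit 2)))) (.or (.eq (.v (nat_lit 0)) (.mul (.v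 (nat_lit 1)) (.v (nat_lit 6)))) (.or (.eq (.v (nat_lit 0)) (.mul (.v (nat_lit 1)) (.v (nat_lit 7)))) (.or (.eq (.v (nat_lit 0)) (.mul (.v (nat_lit 2)) (.v (nat_lit 6)))) (.or (.eq (.v (nat_lit 0)) (.mul (.v (nat_lit 2)) (.v (nat_lit 7)))) (.or (.eq (.v (nat_lit 0)) (.mul (.v (nat_lit 6)) (.v (nat_lit 7)))) (.or (.eq (.v (nat_lit 0)) (.mul (.mul (.v (nat_lit 1)) (.v (nat_lit 2))) (.v (nat_lit 6)))) (.or (.eq (.v (nat_lit 0)) (.mul (.mul (.v (nat_lit 1)) (.v (nat_lit 2))) (.v (nat_lit 7)))) (.or (.eq (.v (nat_lit 0)) (.mul (.mul (.v (nat_lit 1)) (.v (nat_lit 6))) (.v (nat_lit 7)))) (.or (.eq (.v (nat_lit 0)) (.mul (.mul (.v (nat_lit 2)) (.v (nat_lit 6))) (.v (nat_lit 7)))) (.eq (.v (nat_lit 0)) (.mul (.mul (.mul (.v (nat_lit 1)) (.v (nat_lit 2))) (.v (nat_lit 6))) (.v (nat_lit 7))))))))))))))))))))))))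
theorem HL_X_chk : Fm.chk HL_o HL_X_F HL_cs = true := by decide +kernel
theorem HL_X {G : Type*} [Group G] {R : ℕ → G → Prop} {z u v a b r s x y : G} {H : Subgroup G}
    (M : Mdl HL_o HL_cs HL_L R [z, u, v, a, b, r, s, x, x⁻¹, y, y⁻¹] H) :
    ∀ c ∈ H, c * u = u * c → c * r = r * c → c * s = s * c → c = 1 ∨ c = z ∨ c = u ∨ c = r ∨ c = s ∨ c = z * u ∨ c = z * r ∨ c = z * s ∨ c = u * r ∨ c = u * s ∨ c = r * s ∨ c = z * u * r ∨ c = z * u * s ∨ c = z * r * s ∨ c = u * r * s ∨ c = z * u * r * s :=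
  have h : ∀ c, InL HL_o R HL_L c → c * u = u * c → c * r = r * c → c * s = s * c → c = 1 ∨ c = z ∨ c = u ∨ c = r ∨ c = s ∨ c = z * u ∨ c = z * r ∨ c = z * s ∨ c = u * r ∨ c = u * s ∨ c = r * s ∨ c = z * u * r ∨ c = z * u * s ∨ c = z * r * s ∨ c = u * r * s ∨ c = z * u * r * s :=
    Fm.sound M.μ HL_X_F HL_X_chk M.reps
  (fun c h0 => (h c (M.H.iff.2 h0)))
noncomputable def HL_e_F : Fm := (.qf (.and (.eq (.mul (.v (nat_lit 5)) (.v (nat_lit 0))) (.mul (.v (nat_lit 0)) (.v (nat_lit 5)))) (.and (.eq (.mul (.v (nat_lit 1)) (.v (nat_lit 5))) (.mul (.v (nat_lit 5)) (.v (nat_lit 1)))) (.and (.eq (.mul (.mul (.v (nat_lit 1)) (.v (nat_lit 0))) (.v (nat_lit 5))) (.mul (.v (nat_lit 5)) (.mul (.v (nat_lit 1)) (.v (nat_lit 0))))) (.and (.not (.eq (.v (nat_lit 1)) .one)) (.and (.not (.eq (.v (nat_lit 5)) (.v (nat_lit 0)))) (.and (.not (.eq (.v (nat_lit 9)) .one)) (.and (.eq (.mul (.mul (.v (nat_lit 3)) (.v (nat_lit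 5))) (.inv (.v (nat_lit 3)))) (.mul (.v (nat_lit 1)) (.v (nat_lit 5)))) (.and (.eq (.mul (.mul (.v (nat_lit 3)) (.mul (.v (nat_lit 5)) (.v (nat_lit 0)))) (.inv (.v (nat_lit 3)))) (.mul (.mul (.v (nat_lit 1)) (.v (nat_lit 0))) (.v (nat_lit 5)))) (.and (.eq (.mul (.mul (.v (nat_lit 4)) (.v (nat_lit 1))) (.inv (.v (nat_lit 4)))) (.mul (.v (nat_lit 1)) (.v (nat_lit 0)))) (.and (.eq (.mul (.mul (.v (nat_lit 1)) (.v (nat_lit 0))) (.v (nat_lit 1))) (.v (nat_lit 0))) (.and (.eq (.mul (.mul (.v (nat_lit 4)) (.v (nat_lit 5))) (.inv (.v (nat_lit 4)))) (.mul (.v (nat_lit 2)) (.v (nat_lit 5)))) (.and (.not (.eq (.mul (.v (nat_lit 1)) (.v (nat_lit 5))) (.mul (.v (nat_lit 2)) (.v (nat_lit 5))))) (.and (.not (.eq (.mul (.v (nat_lit 1)) (.v (nat_lit 5))) (.v (nat_lit 0)))) (.and (.not (.eq (.mul (.v (nat_lit 1)) (.v (nat_lit 5))) (.v (nat_lit 5)))) (.and (.not (.eq (.mul (.v (nat_lit 2)) (.v (nat_lit 5))) (.v (nat_lit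 0)))) (.not (.eq (.mul (.v (nat_lit 2)) (.v (nat_lit 5))) (.v (nat_lit 5))))))))))))))))))))
theorem HL_e_chk : Fm.chk HL_o HL_e_F HL_cs = true := by decide +kernel
theorem HL_e {G : Type*} [Group G] {R : ℕ → G → Prop} {z u v a b r s x y : G} {H : Subgroup G}
    (M : Mdl HL_o HL_cs HL_L R [z, u, v, a, b, r, s, x, x⁻¹, y, y⁻¹] H) :
    r * z = z * r ∧ u * r = r * u ∧ u * z * r = r * (u * z) ∧ u ≠ 1 ∧ r ≠ z ∧ y ≠ 1 ∧ a * r * a⁻¹ = u * r ∧ a * (r * z) * a⁻¹ = u * z * r ∧ b * u * b⁻¹ = u * z ∧ u * z * u = z ∧ b * r * b⁻¹ = v * r ∧ u * r ≠ v * r ∧ u * r ≠ z ∧ u * r ≠ r ∧ v * r ≠ z ∧ v * r ≠ r :=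
  Fm.sound M.μ HL_e_F HL_e_chk M.reps
noncomputable def HL_e2_F : Fm := (.qf (.and (.eq (.mul (.mul (.v (nat_lit 1)) (.v (nat_lit 2))) (.mul (.v (nat_lit 1)) (.v (nat_lit 2)))) .one) (.and (.eq (.mul (.mul (.v (nat_lit 0)) (.v (nat_lit 1))) (.mul (.v (nat_lit 0)) (.v (nat_lit 1)))) .one) (.and (.eq (.pw (.mul (.mul (.v (nat_lit 1)) (.v (nat_lit 2))) (.v (nat_lit 9))) (nat_lit 3)) .one) (.and (.eq (.pw (.mul (.mul (.v (nat_lit 0)) (.v (nat_lit 1))) (.v (nat_lit 9))) (nat_lit 3)) .one) (.and (.eq (.mul (.mul (.v (nat_lit 1)) (.v (nat_lit 2))) (.v (nat_lit 0))) (.mul (.v (nat_lit 0)) (.mul (.v (nat_lit 1)) (.v (nat_lit 2))))) (.and (.eq (.mul (.mul (.v (nat_lit 0)) (.v (nat_lit 1))) (.v (nat_lit 0))) (.mul (.v (nat_lit 0)) (.mul (.v (nat_lit 0)) (.v (nat_lit 1))))) (.and (.eq (.mul (.mul (.v (nat_lit 1)) (.v (nat_lit 2))) (.v (nat_lit 5))) (.mul (.v (nat_lit 5)) (.mul (.v (nat_lit 1)) (.v (nat_lit 2)))))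 (.and (.eq (.mul (.mul (.v (nat_lit 0)) (.v (nat_lit 1))) (.v (nat_lit 5))) (.mul (.v (nat_lit 5)) (.mul (.v (nat_lit 0)) (.v (nat_lit 1))))) (.and (.eq (.v (nat_lit 1)) (.mul (.v (nat_lit 0)) (.mul (.v (nat_lit 0)) (.v (nat_lit 1))))) (.and (.eq (.v (nat_lit 2)) (.mul (.mul (.v (nat_lit 0)) (.mul (.v (nat_lit 0)) (.v (nat_lit 1)))) (.mul (.v (nat_lit 1)) (.v (nat_lit 2))))) (.and (.eq (.mul (.v (nat_lit 9)) (.v (nat_lit 5))) (.mul (.v (nat_lit 5)) (.v (nat_lit 9)))) (.not (.eq (.mul (.v (nat_lit 1)) (.v (nat_lit 4))) (.mul (.v (nat_lit 4)) (.v (nat_lit 1)))))))))))))))))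
theorem HL_e2_chk : Fm.chk HL_o HL_e2_F HL_cs = true := by decide +kernel
theorem HL_e2 {G : Type*} [Group G] {R : ℕ → G → Prop} {z u v a b r s x y : G} {H : Subgroup G}
    (M : Mdl HL_o HL_cs HL_L R [z, u, v, a, b, r, s, x, x⁻¹, y, y⁻¹] H) :
    u * v * (u * v) = 1 ∧ z * u * (z * u) = 1 ∧ (u * v * y) ^ 3 = 1 ∧ (z * u * y) ^ 3 = 1 ∧ u * v * z = z * (u * v) ∧ z * u * z = z * (z * u) ∧ u * v * r = r * (u * v) ∧ z * u * r = r * (z * u) ∧ u = z * (z * u) ∧ v = z * (z * u) * (u * v) ∧ y * r = r * y ∧ u * b ≠ b * u :=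
  Fm.sound M.μ HL_e2_F HL_e2_chk M.reps
noncomputable def HL_h_F : Fm := (.exF HL_L (fun _ => (nat_lit 50)) (.qf (.and (.eq (.mul (.mul (.v (nat_lit 0)) (.mul (.v (nat_lit 7)) (.mul (.v (nat_lit 1)) (.v (nat_lit 6))))) (.inv (.v (nat_lit 0)))) (.mul (.v (nat_lit 6)) (.v (nat_lit 7)))) (.eq (.mul (.v (nat_lit 6)) (.v (nat_lit 7))) (.mul (.v (nat_lit 7)) (.v (nat_lit 6)))))))
theorem HL_h_chk : Fm.chk HL_o HL_h_F HL_cs = true := by decide +kernel
theorem HL_h {G : Type*} [Group G] {R : ℕ → G → Prop} {z u v a b r s x y : G} {H : Subgroup G}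
    (M : Mdl HL_o HL_cs HL_L R [z, u, v, a, b, r, s, x, x⁻¹, y, y⁻¹] H) :
    ∃ h ∈ H, h * (s * (z * r)) * h⁻¹ = r * s ∧ r * s = s * r :=
  have h : (Good HL_o R HL_L → prods HL_o HL_L HL_o.one ≠ [] → ∃ h, InL HL_o R HL_L h ∧ h * (s * (z * r)) * h⁻¹ = r * s ∧ r * s = s * r) :=
    Fm.sound M.μ HL_h_F HL_h_chk M.reps
  (Exists.imp (fun h h0 => ⟨M.H.iff.1 h0.1, h0.2⟩) (h M.H.good M.H.ne))
noncomputable def HL_D_F : Fm := (.all HL_L (.imp (.eq (.mul (.v (nat_lit 0)) (.mul (.mul (.v (nat_lit 4)) (.v (nat_lit 6))) (.v (nat_lit 7)))) (.mul (.mul (.mul (.v (nat_lit 4)) (.v (nat_lit 6))) (.v (nat_lit 7))) (.v (nat_lit 0)))) (.qf (.mem (.v (nat_lit 0)) HL_lD))))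
theorem HL_D_chk : Fm.chk HL_o HL_D_F HL_cs = true := by decide +kernel
theorem HL_D {G : Type*} [Group G] {R : ℕ → G → Prop} {z u v a b r s x y : G} {H : Subgroup G}
    (M : Mdl HL_o HL_cs HL_L R [z, u, v, a, b, r, s, x, x⁻¹, y, y⁻¹] H) :
    ∀ c ∈ H, c * (a * r * s) = a * r * s * c → c ∈ sp [v * a, s, a * r * s] :=
  have h : ∀ c, InL HL_o R HL_L c → c * (a * r * s) = a * r * s * c → InS R HL_lD (c) :=
    Fm.sound M.μ HL_D_F HL_D_chk M.reps
  (fun c h0 => (fun h1 => ((HL_lD_E M).iff.1 ((h c (M.H.iff.2 h0)) h1))))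
noncomputable def HL_F_F : Fm := (.allS HL_lF (.and (.qf (.eq (.mul (.v (nat_lit 0)) (.v (nat_lit 1))) (.mul (.v (nat_lit 1)) (.v (nat_lit 0))))) (.and (.qf (.eq (.mul (.v (nat_lit 0)) (.v (nat_lit 7))) (.mul (.v (nat_lit 7)) (.v (nat_lit 0))))) (.and (.qf (.eq (.mul (.v (nat_lit 0)) (.mul (.v (nat_lit 3)) (.v (nat_lit 4)))) (.mul (.mul (.v (nat_lit 3)) (.v (nat_lit 4))) (.v (nat_lit 0))))) (.and (.qf (.not (.eq (.v (nat_lit 0)) (.mul (.mul (.v (nat_lit 3)) (.v (nat_lit 4))) (.mul (.v (nat_lit 3)) (.v (nat_lit 4))))))) (.and (.qf (.not (.eq (.v (nat_lit 0)) (.v (nat_lit 1))))) (.and (.qf (.not (.eq (.v (nat_lit 0)) (.mul (.v (nat_lit 1)) (.mul (.v (nat_lit 6)) (.v (nat_lit 3))))))) (.imp (.eq (.mul (.mul (.v (nat_lit 1)) (.v (nat_lit 0))) (.mul (.v (nat_lit 1)) (.v (nat_lit 0)))) .one) (.qf (.or (.eq (.v (nat_lit 0)) .one) (.eq (.mul (.mul (.v (nat_lit 5)) (.mul (.v (nat_lit 1)) (.v (nat_lit 0))))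 (.inv (.v (nat_lit 5)))) (.v (nat_lit 2)))))))))))))
theorem HL_F_chk : Fm.chk HL_o HL_F_F HL_cs = true := by decide +kernel
theorem HL_F {G : Type*} [Group G] {R : ℕ → G → Prop} {z u v a b r s x y : G} {H : Subgroup G}
    (M : Mdl HL_o HL_cs HL_L R [z, u, v, a, b, r, s, x, x⁻¹, y, y⁻¹] H) :
    ∀ c ∈ sp [a * r * s], c * z = z * c ∧ c * s = s * c ∧ c * (v * a) = v * a * c ∧ c ≠ v * a * (v * a) ∧ c ≠ z ∧ c ≠ z * (r * v) ∧ (z * c * (z * c) = 1 → c = 1 ∨ b * (z * c) * b⁻¹ = u) :=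
  have h : ∀ c, InS R HL_lF c → c * z = z * c ∧ c * s = s * c ∧ c * (v * a) = v * a * c ∧ c ≠ v * a * (v * a) ∧ c ≠ z ∧ c ≠ z * (r * v) ∧ (z * c * (z * c) = 1 → c = 1 ∨ b * (z * c) * b⁻¹ = u) :=
    Fm.sound M.μ HL_F_F HL_F_chk M.reps
  (fun c h0 => (h c ((HL_lF_E M).iff.2 h0)))
noncomputable def HL_F2_F : Fm := (.qf (.and (.eq (.pw (.mul (.v (nat_lit 2)) (.v (nat_lit 3))) (nat_lit 4)) .one) (.and (.mem (.mul (.mul (.mul (.v (nat_lit 6)) (.mul (.v (nat_lit 2)) (.v (nat_lit 3)))) (.inv (.v (nat_lit 6)))) (.mul (.v (nat_lit 2)) (.v (nat_lit 3)))) HL_lF) (.and (.eq (.mul (.mul (.v (nat_lit 2)) (.v (nat_lit 3))) (.v (nat_lit 0))) (.mul (.v (nat_lit 0)) (.mul (.v (nat_lit 2)) (.v (nat_lit 3))))) (.and (.eq (.mul (.mul (.v (nat_lit 0)) (.mul (.v (nat_lit 5)) (.v (nat_lit 2)))) (.mul (.v (nat_lit 0)) (.mul (.v (nat_lit 5)) (.v (nat_lit 2))))) .one) (.and (.eq (.mul (.v (nat_lit 0)) (.mul (.mul (.v (nat_lit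 3)) (.v (nat_lit 5))) (.v (nat_lit 6)))) (.mul (.mul (.mul (.v (nat_lit 3)) (.v (nat_lit 5))) (.v (nat_lit 6))) (.v (nat_lit 0)))) (.and (.eq (.mul (.mul (.v (nat_lit 2)) (.v (nat_lit 3))) (.mul (.mul (.v (nat_lit 3)) (.v (nat_lit 5))) (.v (nat_lit 6)))) (.mul (.mul (.mul (.v (nat_lit 3)) (.v (nat_lit 5))) (.v (nat_lit 6))) (.mul (.v (nat_lit 2)) (.v (nat_lit 3))))) (.and (.eq (.mul (.v (nat_lit 6)) (.mul (.mul (.v (nat_lit 3)) (.v (nat_lit 5))) (.v (nat_lit 6)))) (.mul (.mul (.mul (.v (nat_lit 3)) (.v (nat_lit 5))) (.v (nat_lit 6))) (.v (nat_lit 6)))) (.and (.not (.mem (.inv (.v (nat_lit 6))) HL_lF)) (.and (.not (.mem (.mul (.inv (.v (nat_lit 6))) (.mul (.v (nat_lit 2)) (.v (nat_lit 3)))) HL_lF)) (.and (.not (.mem (.mul (.inv (.v (nat_lit 6))) (.pw (.mul (.v (nat_lit 2)) (.v (nat_lit 3))) (nat_lit 2))) HL_lF)) (.not (.mem (.mul (.inv (.v (nat_lit 6))) (.pw (.mul (.v (nat_lit 2)) (.v (nat_lit 3)))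 (nat_lit 3))) HL_lF)))))))))))))
theorem HL_F2_chk : Fm.chk HL_o HL_F2_F HL_cs = true := by decide +kernel
theorem HL_F2 {G : Type*} [Group G] {R : ℕ → G → Prop} {z u v a b r s x y : G} {H : Subgroup G}
    (M : Mdl HL_o HL_cs HL_L R [z, u, v, a, b, r, s, x, x⁻¹, y, y⁻¹] H) :
    (v * a) ^ 4 = 1 ∧ s * (v * a) * s⁻¹ * (v * a) ∈ sp [a * r * s] ∧ v * a * z = z * (v * a) ∧ z * (r * v) * (z * (r * v)) = 1 ∧ z * (a * r * s) = a * r * s * z ∧ v * a * (a * r * s) = a * r * s * (v * a) ∧ s * (a * r * s) = a * r * s * s ∧ s⁻¹ ∉ sp [a * r * s] ∧ s⁻¹ * (v * a) ∉ sp [a * r * s] ∧ s⁻¹ * (v * a) ^ 2 ∉ sp [a * r * s] ∧ s⁻¹ * (v * a) ^ 3 ∉ sp [a * r * s] :=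
  have h : (v * a) ^ 4 = 1 ∧ InS R HL_lF (s * (v * a) * s⁻¹ * (v * a)) ∧ v * a * z = z * (v * a) ∧ z * (r * v) * (z * (r * v)) = 1 ∧ z * (a * r * s) = a * r * s * z ∧ v * a * (a * r * s) = a * r * s * (v * a) ∧ s * (a * r * s) = a * r * s * s ∧ ¬ InS R HL_lF (s⁻¹) ∧ ¬ InS R HL_lF (s⁻¹ * (v * a)) ∧ ¬ InS R HL_lF (s⁻¹ * (v * a) ^ 2) ∧ ¬ InS R HL_lF (s⁻¹ * (v * a) ^ 3) :=
    Fm.sound M.μ HL_F2_F HL_F2_chk M.reps
  ((and_congr Iff.rfl (and_congr (HL_lF_E M).iff (and_congr Iff.rfl (and_congr Iff.rfl (and_congr Iff.rfl (and_congr Iff.rfl (and_congr Iff.rfl (and_congr (not_congr (HL_lF_E M).iff) (and_congr (not_congr (HL_lF_E M).iff) (and_congr (not_congr (HL_lF_E M).iff) (not_congr (HL_lF_E M).iff))))))))))).1 h)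
noncomputable def HL_clT_t0 : ST := (.node (nat_lit 100) (.node (nat_lit 63) (.node (nat_lit 31) (.node (nat_lit 14) (.node (nat_lit 7) (.leaf (nat_lit 196)) (.leaf (nat_lit 771))) (.node (nat_lit 20) (.leaf (nat_lit 52)) (.node (nat_lit 29) (.leaf (nat_lit 194)) (.leaf (nat_lit 820))))) (.node (nat_lit 47) (.node (nat_lit 35) (.leaf (nat_lit 2)) (.leaf (nat_lit 0))) (.node (nat_lit 55) (.leaf (nat_lit 195)) (.node (nat_lit 59) (.leaf (nat_lit 3)) (.leaf (nat_lit 51)))))) (.node (nat_lit 81) (.node (nat_lit 70) (.node (nat_lit 67) (.leaf (nat_lit 0)) (.leaf (nat_lit 50))) (.node (nat_lit 76) (.leaf (nat_lit 770)) (.node (nat_lit 80) (.leaf (nat_lit 772)) (.leaf (nat_lit 3))))) (.node (nat_lit 92) (.node (nat_lit 86) (.leaf (nat_lit 268)) (.leaf (nat_lit 0))) (.node (nat_lit 94) (.leaf (nat_lit 627)) (.node (nat_lit 98) (.leaf (nat_lit 48)) (.leaf (nat_lit 340))))))) (.node (nat_lit 181) (.node (nat_lit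 139) (.node (nat_lit 117) (.node (nat_lit 107) (.leaf (nat_lit 51)) (.leaf (nat_lit 2))) (.node (nat_lit 124) (.leaf (nat_lit 3)) (.node (nat_lit 129) (.leaf (nat_lit 768)) (.leaf (nat_lit 148))))) (.node (nat_lit 155) (.node (nat_lit 147) (.leaf (nat_lit 244)) (.leaf (nat_lit 3))) (.node (nat_lit 173) (.leaf (nat_lit 48)) (.node (nat_lit 178) (.leaf (nat_lit 579)) (.leaf (nat_lit 2)))))) (.node (nat_lit 204) (.node (nat_lit 189) (.node (nat_lit 184) (.leaf (nat_lit 194)) (.leaf (nat_lit 76))) (.node (nat_lit 190) (.leaf (nat_lit 844)) (.node (nat_lit 201) (.leaf (nat_lit 51)) (.leaf (nat_lit 4))))) (.node (nat_lit 216) (.node (nat_lit 213) (.leaf (nat_lit 0)) (.leaf (nat_lit 770))) (.node (nat_lit 220) (.leaf (nat_lit 0)) (.node (nat_lit 222) (.leaf (nat_lit 192)) (.leaf (nat_lit 916))))))))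
noncomputable def HL_clT_F : Fm := (.allS HL_lT (.imp (.eq (.mul (.v (nat_lit 0)) (.v (nat_lit 0))) .one) (.or (.qf (.eq (.v (nat_lit 0)) .one)) (.or (.qf (.eq (.v (nat_lit 0)) (.v (nat_lit 1)))) (.exF HL_L (fun cs => HL_clT_t0.find (Nat.mod (nth (nat_lit 0) cs (nat_lit 0)) (nat_lit 226))) (.qf (.or (.eq (.mul (.mul (.v (nat_lit 0)) (.v (nat_lit 1))) (.inv (.v (nat_lit 0)))) (.v (nat_lit 3))) (.or (.eq (.mul (.mul (.v (nat_lit 0)) (.v (nat_lit 1))) (.inv (.v (nat_lit 0)))) (.v (nat_lit 7))) (.or (.eq (.mul (.mul (.v (nat_lit 0)) (.v (nat_lit 1))) (.inv (.v (nat_lit 0)))) (.mul (.v (nat_lit 7)) (.v (nat_lit 2)))) (.or (.eq (.mul (.mul (.v (nat_lit 0)) (.v (nat_lit 1))) (.inv (.v (nat_lit 0)))) (.v (nat_lit 8))) (.or (.eq (.mul (.mul (.v (nat_lit 0)) (.v (nat_lit 1))) (.inv (.v (nat_lit 0)))) (.mul (.v (nat_lit 8)) (.v (nat_lit 2)))) (.eq (.mul (.mul (.v (nat_lit 0)) (.v (nat_lit 1))) (.inv (.v (nat_lit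 0)))) (.mul (.v (nat_lit 7)) (.v (nat_lit 8)))))))))))))))
theorem HL_clT_chk : Fm.chk HL_o HL_clT_F HL_cs = true := by decide +kernel
theorem HL_clT {G : Type*} [Group G] {R : ℕ → G → Prop} {z u v a b r s x y : G} {H : Subgroup G}
    (M : Mdl HL_o HL_cs HL_L R [z, u, v, a, b, r, s, x, x⁻¹, y, y⁻¹] H) :
    ∀ c ∈ sp [z, u, v, a, b, r, s], c * c = 1 → c = 1 ∨ c = z ∨ (∃ h ∈ H, h * c * h⁻¹ = u ∨ h * c * h⁻¹ = r ∨ h * c * h⁻¹ = r * z ∨ h * c * h⁻¹ = s ∨ h * c * h⁻¹ = s * z ∨ h * c * h⁻¹ = r * s) :=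
  have h : ∀ c, InS R HL_lT c → c * c = 1 → c = 1 ∨ c = z ∨ (Good HL_o R HL_L → prods HL_o HL_L HL_o.one ≠ [] → ∃ h, InL HL_o R HL_L h ∧ (h * c * h⁻¹ = u ∨ h * c * h⁻¹ = r ∨ h * c * h⁻¹ = r * z ∨ h * c * h⁻¹ = s ∨ h * c * h⁻¹ = s * z ∨ h * c * h⁻¹ = r * s)) :=
    Fm.sound M.μ HL_clT_F HL_clT_chk M.reps
  (fun c h0 => (fun h1 => (Or.imp (fun h2 => h2) (fun h2 => (Or.imp (fun h3 => h3) (fun h3 => (Exists.imp (fun h h4 => ⟨M.H.iff.1 h4.1, h4.2⟩) (h3 M.H.good M.H.ne))) h2)) ((h c ((HL_lT_E M).iff.2 h0)) h1))))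

end H26.Es
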