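import Cfsg.Agent.H26.Es.A1

/-! Generated: the automorphism group of the extraspecial group of order 32 and plus type. -/

set_option maxRecDepth 100000
set_option maxHeartbeats 4000000
set_option linter.unusedVariables false
set_option Elab.async false

open Subgroup
open scoped commutatorElement
namespace H26.Es
open H0 H0.PM H16 H19 H10.X

noncomputable abbrev AP_o : Ops := pops (nat_lit 32) (nat_lit 5) (nat_lit 31) (nat_lit 0xffbbcdeb38bdab49ca307b9ac5a928398a418820)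
noncomputable def AP_cs : List ℕ := [(nat_lit 0xf7f3abf3b6de20e5a9956d1f19c8a41892839801), (nat_lit 0xe6abfa7a0f737bb41d39c5ec520e339058b500c2), (nat_lit 0xee7f58c3d362f89c1b7a41497b0a8f0c9cd028e3), (nat_lit 0xbee2ef518afc93a35ba51f0f9162a16ce007ad04), (nat_lit 0xb616f5367e97d07cdc44e0f46eec35a301074525), (nat_lit 0xf7f3abf3b8dda0e9c9957d1b15a8a83992418820), (nat_lit 0xf7f3adf3b6be2145ca356b9ec9a924398a818820), (nat_lit 0xf7fbabf336de2ae9aa306d1ec5c928198a438820), (nat_lit 0xf7f3cbebb6de2b45a9907b9b19c928388a419820), (nat_lit 0x54b786daec7c7c73575fc8fbc142934a1cb29020), (nat_lit 0x9adb8ed9eccc49fa0b48bfb7c71a0951ea590c20), (nat_lit 0x857598f78f637c944b7fc16d722a93399cb18820), (nat_lit 0xa399be5e2dd3cbf98f29b7b1d59e0851aa490820), (nat_lit 0xf7efcceb78eda9594e2e6c1ec52ca32092741820)]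
theorem AP_ex : ∃ (P : Type) (_ : Group P) (_ : Finite P) (R : ℕ → P → Prop) (z u v a b i j k l x y r s t : P),
    Md0 AP_o AP_cs R [z, u, v, a, b, i, j, k, l, x, y, r, s, t] :=
  have key : ∀ ms : List (Equiv.Perm (Fin (nat_lit 32))), ms.length = 14 → ∀ R, Md0 AP_o AP_cs R ms →
      ∃ (z u v a b i j k l x y r s t : Equiv.Perm (Fin (nat_lit 32))), Md0 AP_o AP_cs R [z, u, v, a, b, i, j, k, l, x, y, r, s, t] :=
    fun ms hl R M => match ms, hl, M with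
      | [z, u, v, a, b, i, j, k, l, x, y, r, s, t], _, M => ⟨z, u, v, a, b, i, j, k, l, x, y, r, s, t, M⟩
  ⟨_, inferInstance, inferInstance, _, key _ ((List.length_map _).trans rfl) _
    ⟨IsMod.perm (d := (nat_lit 32)) (w := (nat_lit 5)) (m := (nat_lit 31)) (e := (nat_lit 0xffbbcdeb38bdab49ca307b9ac5a928398a418820)) (PkOK.of (by decide +kernel)),
      reps_dec (d := (nat_lit 32)) (w := (nat_lit 5)) (m := (nat_lit 31)) (cs := AP_cs) (by decide +kernel)⟩⟩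
noncomputable def AP_lQ : List ℕ := [(nat_lit 0xffbbcdeb38bdab49ca307b9ac5a928398a418820), (nat_lit 0xf7f3abf3b6de20e5a9956d1f19c8a41892839801), (nat_lit 0xe6abfa7a0f737bb41d39c5ec520e339058b500c2), (nat_lit 0xee7f58c3d362f89c1b7a41497b0a8f0c9cd028e3), (nat_lit 0xbee2ef518afc93a35ba51f0f9162a16ce007ad04), (nat_lit 0xb616f5367e97d07cdc44e0f46eec35a301074525), (nat_lit 0xd721e77eada3f3720cbdb6f0941d8b5023390446), (nat_lit 0xcf7d0657eb8cf45b0afc2251bc19cd02a8f0c867), (nat_lit 0xddd94fba32f28bc163293e87d35a007aea16cc88), (nat_lit 0xc5a6d93d7f57883eecc8d1f82cdc1074435a30a9), (nat_lit 0xac39d4e748293f17869e9b16e6837831ef610e4a), (nat_lit 0x75137d6ca3e1e3e0b6ac57e5003fa6b2322c126b), (nat_lit 0x7b5163e09c1e96aad033f4be083859ba4ddd9591), (nat_lit 0x8b2e9e9766c89d554fd40c01f92f4345b87261af), (nat_lit 0x5cec811319375e1f314da8212fc4fc4dc7a2ee8e), (nat_lit 0x64765ca6e2e9a9092fee0543e54f8726343459ed),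 (nat_lit 0x92843c1cdbb5c2d67d6073e938f909d6485e76b0), (nat_lit 0x6bc981d91a3f2728380bfabc1ad0ddd9459ba62c), (nat_lit 0x857592f7844a3cc681df5c674786f610f7831d52), (nat_lit 0xa38bbe5d27d0d9f03e11979550b722c13a6b2173), (nat_lit 0x9af04322dd165a0fc64f806aaf307a2ecfc4ddd4), (nat_lit 0x548c7b0c57c6c0f8fa61a35cb67c85e7509d6615), (nat_lit 0x495d1ab281802fd1a35b3645c393ca9b7f25bed8), (nat_lit 0x411eb0cdb5042c2e24f8c9ba3d155e6525f8bafb), (nat_lit 0x2a68c845c0a877939397174da1a3f25bfca9b716), (nat_lit 0x19c326a80e7d0584e906ddae42f16cfd671f433d), (nat_lit 0x11a415814c9c468de707490b6bf5aeafdf487b5c), (nat_lit 0x221b302df00d706d1476e8b27e265f8b95e65377), (nat_lit 0x30940986515b0e4bf6c32a138de5f4879aeaff9a), (nat_lit 0x38c0a7c8346b8d62f082be3684ea71f416cfd7b9), (nat_lit 0x8062418e92164b755aa64e2fa431bcead7ef3fe), (nat_lit 0x4e62086542553a41f28ad8d756d7ef31bcebdf)]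
noncomputable def AP_lQ_W : List (List ℕ) := [[],
  [(nat_lit 0)],
  [(nat_lit 1)],
  [(nat_lit 2)],
  [(nat_lit 3)],
  [(nat_lit 4)],
  [(nat_lit 0), (nat_lit 1)],
  [(nat_lit 0), (nat_lit 2)],
  [(nat_lit 0), (nat_lit 3)],
  [(nat_lit 0), (nat_lit 4)],
  [(nat_lit 1), (nat_lit 2)],
  [(nat_lit 1), (nat_lit 3)],
  [(nat_lit 1), (nat_lit 4)],
  [(nat_lit 2), (nat_lit 3)],
  [(nat_lit 2), (nat_lit 4)],
  [(nat_lit 3), (nat_lit 2)],
  [(nat_lit 3), (nat_lit 4)],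
  [(nat_lit 4), (nat_lit 1)],
  [(nat_lit 0), (nat_lit 1), (nat_lit 2)],
  [(nat_lit 0), (nat_lit 1), (nat_lit 3)],
  [(nat_lit 0), (nat_lit 2), (nat_lit 4)],
  [(nat_lit 0), (nat_lit 3), (nat_lit 4)],
  [(nat_lit 1), (nat_lit 2), (nat_lit 3)],
  [(nat_lit 1), (nat_lit 2), (nat_lit 4)],
  [(nat_lit 1), (nat_lit 3), (nat_lit 2)],
  [(nat_lit 1), (nat_lit 3), (nat_lit 4)],
  [(nat_lit 2), (nat_lit 3), (nat_lit 4)],
  [(nat_lit 2), (nat_lit 4), (nat_lit 1)],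
  [(nat_lit 3), (nat_lit 2), (nat_lit 4)],
  [(nat_lit 3), (nat_lit 4), (nat_lit 1)],
  [(nat_lit 1), (nat_lit 2), (nat_lit 3), (nat_lit 4)],
  [(nat_lit 1), (nat_lit 3), (nat_lit 2), (nat_lit 4)]]
noncomputable def AP_lQ_h (c : ℕ) : ℕ := Nat.mod c (nat_lit 32)
theorem AP_lQ_E {G : Type*} [Group G] {R : ℕ → G → Prop} {z u v a b i j k l x y r s t : G}
    (M : Md0 AP_o AP_cs R [z, u, v, a, b, i, j, k, l, x, y, r, s, t]) :
    EnumS R AP_lQ (sp [z, u, v, a, b]) :=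
  enumS_sp M.μ.1 (M.reps.tms M.μ.1 [(.v (nat_lit 0)), (.v (nat_lit 1)), (.v (nat_lit 2)), (.v (nat_lit 3)), (.v (nat_lit 4))] (cs' := [(nat_lit 0xf7f3abf3b6de20e5a9956d1f19c8a41892839801), (nat_lit 0xe6abfa7a0f737bb41d39c5ec520e339058b500c2), (nat_lit 0xee7f58c3d362f89c1b7a41497b0a8f0c9cd028e3), (nat_lit 0xbee2ef518afc93a35ba51f0f9162a16ce007ad04), (nat_lit 0xb616f5367e97d07cdc44e0f46eec35a301074525)]) (by decide +kernel))
    (Ws := AP_lQ_W) (by decide +kernel) (by decide +kernel)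
theorem AP_lQ_c {G : Type*} [Group G] {R : ℕ → G → Prop} {z u v a b i j k l x y r s t : G}
    (M : Md0 AP_o AP_cs R [z, u, v, a, b, i, j, k, l, x, y, r, s, t]) :
    #(sp [z, u, v, a, b]) = 32 :=
  (AP_lQ_E M).card M.μ (h := AP_lQ_h) (by decide +kernel)
noncomputable def AP_lI : List ℕ := [(nat_lit 0xffbbcdeb38bdab49ca307b9ac5a928398a418820), (nat_lit 0xf7f3abf3b8dda0e9c9957d1b15a8a83992418820), (nat_lit 0xf7f3adf3b6be2145ca356b9ec9a924398a818820), (nat_lit 0xf7fbabf336de2ae9aa306d1ec5c928198a438820), (nat_lit 0xf7f3cbebb6de2b45a9907b9b19c928388a419820), (nat_lit 0xffbbcbeb36de2ae5c9906d1f19a8a43992818820), (nat_lit 0xffb3cdebb6be2149a9956b9f15c8a81992438820), (nat_lit 0xffbbadf336be20e5aa357d1ac9c8a83892419820), (nat_lit 0xffb3cbebb8dda0e5aa357d1ac9c924198a838820), (nat_lit 0xffbbabf338dda149a9956b9f15c924388a819820), (nat_lit 0xffb3adf3b8bdaae5c9906d1f19a928188a439820),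 (nat_lit 0xf7fbadf338bdab45a9907b9b19c8a41992838820), (nat_lit 0xf7f3cdebb8bdaae9aa306d1ec5c8a43892819820), (nat_lit 0xf7fbcbeb38dda145ca356b9ec9a8a81892439820), (nat_lit 0xf7fbcdeb36be20e9c9957d1b15a924188a839820), (nat_lit 0xffb3abf3b6de2b49ca307b9ac5a8a41892839820)]
noncomputable def AP_lI_W : List (List ℕ) := [[],
  [(nat_lit 0)],
  [(nat_lit 1)],
  [(nat_lit 2)],
  [(nat_lit 3)],
  [(nat_lit 0), (nat_lit 1)],
  [(nat_lit 0), (nat_lit 2)],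
  [(nat_lit 0), (nat_lit 3)],
  [(nat_lit 1), (nat_lit 2)],
  [(nat_lit 1), (nat_lit 3)],
  [(nat_lit 2), (nat_lit 3)],
  [(nat_lit 0), (nat_lit 1), (nat_lit 2)],
  [(nat_lit 0), (nat_lit 1), (nat_lit 3)],
  [(nat_lit 0), (nat_lit 2), (nat_lit 3)],
  [(nat_lit 1), (nat_lit 2), (nat_lit 3)],
  [(nat_lit 0), (nat_lit 1), (nat_lit 2), (nat_lit 3)]]
noncomputable def AP_lI_h (c : ℕ) : ℕ := Nat.mod c (nat_lit 63)
theorem AP_lI_E {G : Type*} [Group G] {R : ℕ → G → Prop} {z u v a b i j k l x y r s t : G}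
    (M : Md0 AP_o AP_cs R [z, u, v, a, b, i, j, k, l, x, y, r, s, t]) :
    EnumS R AP_lI (sp [i, j, k, l]) :=
  enumS_sp M.μ.1 (M.reps.tms M.μ.1 [(.v (nat_lit 5)), (.v (nat_lit 6)), (.v (nat_lit 7)), (.v (nat_lit 8))] (cs' := [(nat_lit 0xf7f3abf3b8dda0e9c9957d1b15a8a83992418820), (nat_lit 0xf7f3adf3b6be2145ca356b9ec9a924398a818820), (nat_lit 0xf7fbabf336de2ae9aa306d1ec5c928198a438820), (nat_lit 0xf7f3cbebb6de2b45a9907b9b19c928388a419820)]) (by decide +kernel))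
    (Ws := AP_lI_W) (by decide +kernel) (by decide +kernel)
theorem AP_lI_c {G : Type*} [Group G] {R : ℕ → G → Prop} {z u v a b i j k l x y r s t : G}
    (M : Md0 AP_o AP_cs R [z, u, v, a, b, i, j, k, l, x, y, r, s, t]) :
    #(sp [i, j, k, l]) = 16 :=
  (AP_lI_E M).card M.μ (h := AP_lI_h) (by decide +kernel)
noncomputable def AP_lS : List ℕ := [(nat_lit 0x11997d6e3de654899df2c12cd58e1f2babe4d020), (nat_lit 0x11997e6e39d754459db2b230f98ebe2ba1f4d020), (nat_lit 0x11999d7637e6d63521f3c1ecd9129f2c1de4d420), (nat_lit 0x11999e763bd5d67921b3b0f0f511de2c29f4d420), (nat_lit 0x1199bd5e39e764458deac22cd99ebf2d21e4b820), (nat_lit 0x1199be5e3dd664898daab130f59e1e2d2bf4b820), (nat_lit 0x1199dd663be5e67911ebc0ecd521df2d69e4c020), (nat_lit 0x1199de6637d6e63511abb1f0f9229e2d5df4c020), (nat_lit 0x11a37d6d99e764898daab130f59ebf4ba1e2d020), (nat_lit 0x11a37e6d9dd664458deac22cd99e1e4babf2d020),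 (nat_lit 0x11a39d759be5e63511abb1f0f921df4c29e2d420), (nat_lit 0x11a39e7597d6e67911ebc0ecd5229e4c1df2d420), (nat_lit 0x11a3bd5d9de654459db2b230f98e1f4d2be2b820), (nat_lit 0x11a3be5d99d754899df2c12cd58ebe4d21f2b820), (nat_lit 0x11a3dd6597e6d67921b3b0f0f5129f4d5de2c020), (nat_lit 0x11a3de659bd5d63521f3c1ecd911de4d69f2c020), (nat_lit 0x11aeccc77cee94b21ed26cdf840fd5717f0a2420), (nat_lit 0x11aecec77acf15341f127adb620ff0717d5a2420), (nat_lit 0x11af1cb37aef25340eca6adf821ff5727d0a1420), (nat_lit 0x11af1eb37ccea4b20f0a7cdb641fd0727f5a1420), (nat_lit 0x11afacf36cec50352ec469df894d35778b0a7c20), (nat_lit 0x11afaef371cb10792f0478db654cb077935a7c20), (nat_lit 0x11afcceb71eb08794ec868df852cb577d30a7820), (nat_lit 0x11afceeb6ccc48354f0879db692d3077cb5a7820), (nat_lit 0x11b2cbc7badf16a1a3137c9b6393f4817ceaa420), (nat_lit 0x11b2cdc7bcbe9723a2d36a9f8193ce817f4aa420), (nat_lit 0x11b31bb3bcdea723930b7a9b61a3d4827eea9420),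 (nat_lit 0x11b31db3babf26a192cb6c9f83a3ee827d4a9420), (nat_lit 0x11b3abf3b1db0689cb07791b65a8b48792eafc20), (nat_lit 0x11b3adf3acbc4645cac76a1f89a92e878b4afc20), (nat_lit 0x11b3cbebacdc4e45ab037a1b69c93487caeaf820), (nat_lit 0x11b3cdebb1bb0e89aac3691f85c8ae87d34af820), (nat_lit 0x11b5766f998f50a1ada4b4b0f3cea9f3a05fd020), (nat_lit 0x11b578ef9d665123ade4c2acd1ce05f3aa9fd020), (nat_lit 0x11b596779b8dc6b249a7b4f0f429c9f4285fd420), (nat_lit 0x11b598f79766c73449e7c2ecd22a85f41c9fd420), (nat_lit 0x11b5b65f9d8e4923cda8b2b0f1ae09f52a5fb820), (nat_lit 0x11b5b8df996748a1cde8c4acd3aea5f5209fb820), (nat_lit 0x11b5d667978ecf3429a3b2f0f24a89f55c5fc020), (nat_lit 0x11b5d8e79b65ceb229e3c4ecd449c5f5689fc020), (nat_lit 0x11b6ccc6faef24b20f0a7cdb641ff5a17d072420), (nat_lit 0x11b6cec6fccea5340eca6adf821fd0a17f572420), (nat_lit 0x11b71cb2fcee95341f127adb620fd5a27f071420), (nat_lit 0x11b71eb2facf14b21ed26cdf840ff0a27d571420),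 (nat_lit 0x11b7acf2f1eb08354f0879db692cb5a793077c20), (nat_lit 0x11b7aef2eccc48794ec868df852d30a78b577c20), (nat_lit 0x11b7cceaecec50792f0478db654d35a7cb077820), (nat_lit 0x11b7ceeaf1cb10352ec469df894cb0a7d3577820), (nat_lit 0x11b9766f5d8e48a1cde8c4acd3ae09fbaa5f5020), (nat_lit 0x11b978ef59674923cda8b2b0f1aea5fba09f5020), (nat_lit 0x11b99677578eceb229e3c4ecd44a89fc1c5f5420), (nat_lit 0x11b998f75b65cf3429a3b2f0f249c5fc289f5420), (nat_lit 0x11b9b65f598f5123ade4c2acd1cea9fd205f3820), (nat_lit 0x11b9b8df5d6650a1ada4b4b0f3ce05fd2a9f3820), (nat_lit 0x11b9d6675b8dc73449e7c2ecd229c9fd685f4020), (nat_lit 0x11b9d8e75766c6b249a7b4f0f42a85fd5c9f4020), (nat_lit 0x11bacbc73cdea6a192cb6c9f83a3d4a97ee82420), (nat_lit 0x11bacdc73abf2723930b7a9b61a3eea97d482420), (nat_lit 0x11bb1bb33adf1723a2d36a9f8193f4aa7ce81420), (nat_lit 0x11bb1db33cbe96a1a3137c9b6393ceaa7f481420), (nat_lit 0x11bbabf32cdc4e89aac3691f85c934af8ae87c20),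 (nat_lit 0x11bbadf331bb0e45ab037a1b69c8aeaf93487c20), (nat_lit 0x11bbcbeb31db0645cac76a1f89a8b4afd2e87820), (nat_lit 0x11bbcdeb2cbc4689cb07791b65a92eafcb487820), (nat_lit 0x19db6ce1fcee949a1a32d96ec70a1f22ebe44c20), (nat_lit 0x19db6ee1facf14571992ba771a0abe22e1f44c20), (nat_lit 0x19db8cd9faef24570a2ada6eca1abf24e1e42c20), (nat_lit 0x19db8ed9fccea49a098ab977171a1e24ebf42c20), (nat_lit 0x19dbacf1f6ee1c252634d9aec9167f2417e45420), (nat_lit 0x19dbaef1f8cd9c692594b8b715157e2427f45420), (nat_lit 0x19dbcce9f8eda869162ed8aec5257f2567e44020), (nat_lit 0x19dbcee9f6ce2825158eb9b719267e2557f44020), (nat_lit 0x19df6ce1baef249a098ab977171abf42e1e24c20), (nat_lit 0x19df6ee1bccea4570a2ada6eca1a1e42ebf24c20), (nat_lit 0x19df8cd9bcee94571992ba771a0a1f44ebe22c20), (nat_lit 0x19df8ed9bacf149a1a32d96ec70abe44e1f22c20), (nat_lit 0x19dfacf1b8eda825158eb9b719257f4427e25420), (nat_lit 0x19dfaef1b6ce2869162ed8aec5267e4417f25420),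 (nat_lit 0x19dfcce9b6ee1c692594b8b715167f4557e24020), (nat_lit 0x19dfcee9b8cd9c252634d9aec9157e4567f24020), (nat_lit 0x19ecdd3f1de654e29af26523b48bd5593f09a020), (nat_lit 0x19ecde3f19d755449b728b99728bf0593d59a020), (nat_lit 0x19ecfd3719e765448aea63a3b29bf55a3d099020), (nat_lit 0x19ecfe371dd664e28b6a8d19749bd05a3f599020), (nat_lit 0x19ed9d770de3d2253ae561a3b951155f8909fc20), (nat_lit 0x19ed9e770fd352693b6588997550905f9159fc20), (nat_lit 0x19eddd670fe34a6952e960a3b538955fd109f820), (nat_lit 0x19edde670dd3ca25536989997939105fc959f820), (nat_lit 0x19f0dd3ed9e764e28b6a8d19749bf5993d05a020), (nat_lit 0x19f0de3eddd665448aea63a3b29bd0993f55a020), (nat_lit 0x19f0fd36dde655449b728b99728bd59a3f059020), (nat_lit 0x19f0fe36d9d754e29af26523b48bf09a3d559020), (nat_lit 0x19f19d76cfe34a25536989997938959f9105fc20), (nat_lit 0x19f19e76cdd3ca6952e960a3b539109f8955fc20), (nat_lit 0x19f1dd66cde3d2693b6588997551159fc905f820),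 (nat_lit 0x19f1de66cfd352253ae561a3b950909fd155f820), (nat_lit 0x19f366e3ba7f12a13985bcb71352a8f2e04fcc20), (nat_lit 0x19f367e3bc6e93233a25daaec15204f2ea8fcc20), (nat_lit 0x19f386dbbc7e8b235189bab7113a08f4ea4fac20), (nat_lit 0x19f387dbba6f0aa15229dcaec33aa4f4e08fac20), (nat_lit 0x19f3a6f3b87d84e2c986bd3714a968f4264fd420), (nat_lit 0x19f3a7f3b66e0544ca26dbaec2aa64f4168fd420), (nat_lit 0x19f3c6ebb67e0d44a982bbb712ca68f5564fc020), (nat_lit 0x19f3c7ebb86d8ce2aa22dd2ec4c964f5668fc020), (nat_lit 0x19f4db3f99c75ca127748c997317f3813cbaa020), (nat_lit 0x19f4dc3f9db65d2326f462a3b117cb813f3aa020), (nat_lit 0x19f4fb379dc66923176e8a997127d3823eba9020), (nat_lit 0x19f4fc3799b768a116ee64a3b327eb823d3a9020), (nat_lit 0x19f59b778fc3449a4b6689597728938790bafc20), (nat_lit 0x19f59c778db3c4574ae66263ba290b87893afc20), (nat_lit 0x19f5db678dc3cc572b628a597a491387c8baf820), (nat_lit 0x19f5dc678fb34c9a2ae26163b7488b87d13af820),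 (nat_lit 0x19f8db3f5dc668a116ee64a3b327d3a93eb82020), (nat_lit 0x19f8dc3f59b76923176e8a997127eba93d382020), (nat_lit 0x19f8fb3759c75d2326f462a3b117f3aa3cb81020), (nat_lit 0x19f8fc375db65ca127748c997317cbaa3f381020), (nat_lit 0x19f99b774dc3cc9a2ae26163b74913af88b87c20), (nat_lit 0x19f99c774fb34c572b628a597a488baf91387c20), (nat_lit 0x19f9db674fc344574ae66263ba2893afd0b87820), (nat_lit 0x19f9dc674db3c49a4b66895977290bafc9387820), (nat_lit 0x19fb66e33c7e8aa15229dcaec33a08faea4f4c20), (nat_lit 0x19fb67e33a6f0b235189bab7113aa4fae08f4c20), (nat_lit 0x19fb86db3a7f13233a25daaec152a8fce04f2c20), (nat_lit 0x19fb87db3c6e92a13985bcb7135204fcea8f2c20), (nat_lit 0x19fba6f3367e0ce2aa22dd2ec4ca68fc164f5420), (nat_lit 0x19fba7f3386d8d44a982bbb712c964fc268f5420), (nat_lit 0x19fbc6eb387d8544ca26dbaec2a968fd664f4020), (nat_lit 0x19fbc7eb366e04e2c986bd3714aa64fd568f4020), (nat_lit 0x221b6be1fadf16581993ca7b1a89de3ca9f1a820),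 (nat_lit 0x221b6de1fcbe969a9a33e972c80a9f3c9de1a820), (nat_lit 0x221b8bd9fcdea69a898bc97b181a9e3a9df1c820), (nat_lit 0x221b8dd9fabf26580a2bea72ca99df3aa9e1c820), (nat_lit 0x221babf1f8dda069a595c8bb15965e3d15f1b820), (nat_lit 0x221badf1f6be2025a635e9b2c9955f3d25e1b820), (nat_lit 0x221bcbe9f6de2a259590c9bb19a55e3ba5f1d020), (nat_lit 0x221bcde9f8bdaa699630e8b2c5a65f3b95e1d020), (nat_lit 0x221f6be1bcdea6580a2bea72ca9a9e1c9df3a820), (nat_lit 0x221f6de1babf269a898bc97b1819df1ca9e3a820), (nat_lit 0x221f8bd9badf169a9a33e972c809de1aa9f3c820), (nat_lit 0x221f8dd9bcbe96581993ca7b1a8a9f1a9de3c820), (nat_lit 0x221fabf1b6de2a699630e8b2c5a55e1d25f3b820), (nat_lit 0x221fadf1b8bdaa259590c9bb19a65f1d15e3b820), (nat_lit 0x221fcbe9b8dda025a635e9b2c9965e1b95f3d020), (nat_lit 0x221fcde9b6be2069a595c8bb15955f1ba5e3d020), (nat_lit 0x222cdd3f17e6d7029b336563d48bce91ff450c20), (nat_lit 0x222cde3f1bd5d7549bb38c19928bf491fce50c20),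 (nat_lit 0x222cfd371be5e7548b2b6423d29bee90fd451c20), (nat_lit 0x222cfe3717d6e7028bab8d59949bd490fee51c20), (nat_lit 0x222d7d6f0fe34a69d72960a3d5c0ee97c7457820), (nat_lit 0x222d7e6f0dd3ca25d7a9899999c07497cee57820), (nat_lit 0x222dbd5f0de3d225c32561a3d9d46e978f457c20), (nat_lit 0x222dbe5f0fd35269c3a5889995d4f49786e57c20), (nat_lit 0x222f66e37c7e8ab15629ecf2c34283fc9c7f2820), (nat_lit 0x222f67e37a6f0b335589cafb1141c7fca83f2820), (nat_lit 0x222f86db7a7f13334225eaf2c155c3faa87f4820), (nat_lit 0x222f87db7c6e92b14185ccfb135687fa9c3f4820), (nat_lit 0x222fa6f3767e0d02ae22ed72c4cd43fd247f3820), (nat_lit 0x222fa7f3786d8d54ad82cc3b12ce47fd143f3820), (nat_lit 0x222fc6eb787d8554ce26ec32c2ae43fb947f5020), (nat_lit 0x222fc7eb766e0502cd86cd7b14ad47fba43f5020), (nat_lit 0x2230dd3edbe5e7028bab8d59949bee51fd490c20), (nat_lit 0x2230de3ed7d6e7548b2b6423d29bd451fee90c20), (nat_lit 0x2230fd36d7e6d7549bb38c19928bce50ff491c20),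 (nat_lit 0x2230fe36dbd5d7029b336563d48bf450fce91c20), (nat_lit 0x22317d6ecde3d269c3a5889995d46e57cf497820), (nat_lit 0x22317e6ecfd35225c32561a3d9d4f457c6e97820), (nat_lit 0x2231bd5ecfe34a25d7a9899999c0ee5787497c20), (nat_lit 0x2231be5ecdd3ca69d72960a3d5c074578ee97c20), (nat_lit 0x2234db3f9bc5e0b127b58cd99317eaa1fd270c20), (nat_lit 0x2234dc3f97b6e133273562e3d117d2a1fea70c20), (nat_lit 0x2234fb3797c6eb3317b08ad99127caa0ff271c20), (nat_lit 0x2234fc379bb5eab1173064e3d327f2a0fca71c20), (nat_lit 0x22357b6f8dc3cc582fa28a599acc6aa7cf277820), (nat_lit 0x22357c6f8fb34c9aaf226163d84cf2a7c6a77820), (nat_lit 0x2235bb5f8fc3449acfa68959982ceaa787277c20), (nat_lit 0x2235bc5f8db3c4584f266263daac72a78ea77c20), (nat_lit 0x223766e2fa7f12b14185ccfb1355c3f4a87fa820), (nat_lit 0x223767e2fc6e93334225eaf2c15687f49c3fa820), (nat_lit 0x223786dafc7e8b335589cafb114283f29c7fc820), (nat_lit 0x223787dafa6f0ab15629ecf2c341c7f2a83fc820),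 (nat_lit 0x2237a6f2f87d8502cd86cd7b14ae43f5147fb820), (nat_lit 0x2237a7f2f66e0554ce26ec32c2ad47f5243fb820), (nat_lit 0x2237c6eaf67e0d54ad82cc3b12cd43f3a47fd020), (nat_lit 0x2237c7eaf86d8d02ae22ed72c4ce47f3943fd020), (nat_lit 0x2238db3f57c6eab1173064e3d327ca71ff2a0c20), (nat_lit 0x2238dc3f5bb5eb3317b08ad99127f271fcaa0c20), (nat_lit 0x2238fb375bc5e133273562e3d117ea70fd2a1c20), (nat_lit 0x2238fc3757b6e0b127b58cd99317d270feaa1c20), (nat_lit 0x22397b6f4fc344584f266263daacea77c72a7820), (nat_lit 0x22397c6f4db3c49acfa68959982c7277ceaa7820), (nat_lit 0x2239bb5f4dc3cc9aaf226163d84c6a778f2a7c20), (nat_lit 0x2239bc5f4fb34c582fa28a599accf27786aa7c20), (nat_lit 0x2a597b6e39c75c481db4d238fa8d7e34a7f12820), (nat_lit 0x2a597c6e3db65c8a9df4e134d80e7f3497e12820), (nat_lit 0x2a599b763bc5e07a21b5d0f8f7125e34d5f12c20), (nat_lit 0x2a599c7637b6e03721f5e1f4da115f34e5e12c20), (nat_lit 0x2a59bb5e3dc6688a8daed138f81e7e3297f14820),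 (nat_lit 0x2a59bc5e39b768480deee234da9d7f32a7e14820), (nat_lit 0x2a59db6637c6ea3711b0d1f8fa215e32e5f14c20), (nat_lit 0x2a59dc663bb5ea7a11f0e0f4d7225f32d5e14c20), (nat_lit 0x2a637b6d9dc668480deee234da9e7e1497f32820), (nat_lit 0x2a637c6d99b7688a8daed138f81d7f14a7e32820), (nat_lit 0x2a639b7597c6ea7a11f0e0f4d7215e14e5f32c20), (nat_lit 0x2a639c759bb5ea3711b0d1f8fa225f14d5e32c20), (nat_lit 0x2a63bb5d99c75c8a9df4e134d80d7e12a7f34820), (nat_lit 0x2a63bc5d9db65c481db4d238fa8e7f1297e34820), (nat_lit 0x2a63db659bc5e03721f5e1f4da125e12d5f34c20), (nat_lit 0x2a63dc6597b6e07a21b5d0f8f7115f12e5e34c20), (nat_lit 0x2a6d766f1d8e48e1d5e8e534d3c262fc966f2820), (nat_lit 0x2a6d78ef19674943d5a8d3b8f1c166fca62f2820), (nat_lit 0x2a6d9677178ecf0239e3e574d45142fce46f2c20), (nat_lit 0x2a6d98f71b65cf5439a3d438f25246fcd42f2c20), (nat_lit 0x2a6db65f198f5143c1e4e3b4d1d562faa66f4820), (nat_lit 0x2a6db8df1d6650e1c1a4d538f3d666fa962f4820),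 (nat_lit 0x2a6dd6671b8dc75451e7e434d23a42fad46f4c20), (nat_lit 0x2a6dd8e71766c70251a7d578f43946fae42f4c20), (nat_lit 0x2a6eccc776ee1d021f546d5fc40fcb91bf350820), (nat_lit 0x2a6ecec778cd9d541f947c1ba20ff391bcb50820), (nat_lit 0x2a6f1cb378eda9540f4e6c1fc21feb90bd351820), (nat_lit 0x2a6f1eb376ce29020f8e7d5ba41fd390beb51820), (nat_lit 0x2a6f6ce371eb087a574868dfc740cb97c5357820), (nat_lit 0x2a6f6ee36ccc4837578879dbaa405397ccb57820), (nat_lit 0x2a6f8cdb6cec5037434469dfca544b978d357c20), (nat_lit 0x2a6f8edb71cb107a438478dba754d39784b57c20), (nat_lit 0x2a71766ed98f50e1c1a4d538f3d562f4a66fa820), (nat_lit 0x2a7178eedd665143c1e4e3b4d1d666f4962fa820), (nat_lit 0x2a719676db8dc70251a7d578f43a42f4d46fac20), (nat_lit 0x2a7198f6d766c75451e7e434d23946f4e42fac20), (nat_lit 0x2a71b65edd8e4943d5a8d3b8f1c262f2966fc820), (nat_lit 0x2a71b8ded96748e1d5e8e534d3c166f2a62fc820), (nat_lit 0x2a71d666d78ecf5439a3d438f25142f2e46fcc20),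 (nat_lit 0x2a71d8e6db65cf0239e3e574d45246f2d42fcc20), (nat_lit 0x2a72cbc7b8dda0e1a3957d1ba393ea99bd258820), (nat_lit 0x2a72cdc7b6be2143a3556b9fc193d299bea58820), (nat_lit 0x2a731bb3b6de2b4393907b9ba1a3ca98bf259820), (nat_lit 0x2a731db3b8bdaae193506d1fc3a3f298bca59820), (nat_lit 0x2a736be3acdc4e483b837a1baad04a9fcd25f820), (nat_lit 0x2a736de3b1bb0e8abb43691fc850d29fc4a5f820), (nat_lit 0x2a738bdbb1db068ad387791ba838ca9f8525fc20), (nat_lit 0x2a738ddbacbc464853476a1fcab8529f8ca5fc20), (nat_lit 0x2a76ccc6f8eda9020f8e7d5ba41feb51bd390820), (nat_lit 0x2a76cec6f6ce29540f4e6c1fc21fd351beb90820), (nat_lit 0x2a771cb2f6ee1d541f947c1ba20fcb50bf391820), (nat_lit 0x2a771eb2f8cd9d021f546d5fc40ff350bcb91820), (nat_lit 0x2a776ce2ecec507a438478dba7544b57cd397820), (nat_lit 0x2a776ee2f1cb1037434469dfca54d357c4b97820), (nat_lit 0x2a778cdaf1eb0837578879dbaa40cb5785397c20), (nat_lit 0x2a778edaeccc487a574868dfc74053578cb97c20),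 (nat_lit 0x2a7acbc736de2ae193506d1fc3a3ca59bf298820), (nat_lit 0x2a7acdc738bdab4393907b9ba1a3f259bca98820), (nat_lit 0x2a7b1bb338dda143a3556b9fc193ea58bd299820), (nat_lit 0x2a7b1db336be20e1a3957d1ba393d258bea99820), (nat_lit 0x2a7b6be331db064853476a1fcab8ca5fc529f820), (nat_lit 0x2a7b6de32cbc468ad387791ba838525fcca9f820), (nat_lit 0x2a7b8bdb2cdc4e8abb43691fc8504a5f8d29fc20), (nat_lit 0x2a7b8ddb31bb0e483b837a1baad0d25f84a9fc20), (nat_lit 0x30997d6e39e764499daac22cf58e1e4d2bf2b820), (nat_lit 0x30997e6e3dd664859deab130d98ebf4d21e2b820), (nat_lit 0x30999d763be5e67521abc0ecf9129e4d5df2c020), (nat_lit 0x30999e7637d6e63921ebb1f0d511df4d69e2c020), (nat_lit 0x3099bd5e3de654858db2c12cf99ebe4ba1f2d020), (nat_lit 0x3099be5e39d754498df2b230d59e1f4babe2d020), (nat_lit 0x3099dd6637e6d63911b3c1ecf521de4c29f2d420), (nat_lit 0x3099de663bd5d67511f3b0f0d9229f4c1de2d420), (nat_lit 0x30a37d6d9de654498df2b230d59ebe2d21f4b820),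 (nat_lit 0x30a37e6d99d754858db2c12cf99e1f2d2be4b820), (nat_lit 0x30a39d7597e6d67511f3b0f0d921de2d69f4c020), (nat_lit 0x30a39e759bd5d63911b3c1ecf5229f2d5de4c020), (nat_lit 0x30a3bd5d99e764859deab130d98e1e2babf4d020), (nat_lit 0x30a3be5d9dd664499daac22cf58ebf2ba1e4d020), (nat_lit 0x30a3dd659be5e63921ebb1f0d5129e2c1df4d420), (nat_lit 0x30a3de6597d6e67521abc0ecf911df2c29e4d420), (nat_lit 0x30aeccc77aef25321f0a6adf640fd0a27f571420), (nat_lit 0x30aecec77ccea4b41eca7cdb820ff5a27d071420), (nat_lit 0x30af1cb37cee94b40f126cdf621ff0a17d572420), (nat_lit 0x30af1eb37acf15320ed27adb841fd5a17f072420), (nat_lit 0x30afacf371eb08752f0868df694d30a7cb577820), (nat_lit 0x30afaef36ccc48392ec879db854cb5a7d3077820), (nat_lit 0x30afcceb6cec50394f0469df652cb0a793577c20), (nat_lit 0x30afceeb71cb10754ec478db892d35a78b077c20), (nat_lit 0x30b2cbc7bcdea721a2cb7a9b8393eeaa7d481420), (nat_lit 0x30b2cdc7babf26a3a30b6c9f6193d4aa7ee81420),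 (nat_lit 0x30b31bb3badf16a392d37c9b81a3cea97f482420), (nat_lit 0x30b31db3bcbe972193136a9f63a3f4a97ce82420), (nat_lit 0x30b3abf3acdc4e49cac37a1b85a8aeafd3487820), (nat_lit 0x30b3adf3b1bb0e85cb03691f69a934afcae87820), (nat_lit 0x30b3cbebb1db0685aac7791b89c92eaf8b487c20), (nat_lit 0x30b3cdebacbc4649ab076a1f65c8b4af92e87c20), (nat_lit 0x30b5766f9d8e4921ade8b2b0d3cea5fd209f3820), (nat_lit 0x30b578ef996748a3ada8c4acf1ce09fd2a5f3820), (nat_lit 0x30b59677978ecf3249e3b2f0d429c5fd689f4020), (nat_lit 0x30b598f79b65ceb449a3c4ecf22a89fd5c5f4020), (nat_lit 0x30b5b65f998f50a3cde4b4b0d1ae05fbaa9f5020), (nat_lit 0x30b5b8df9d665121cda4c2acf3aea9fba05f5020), (nat_lit 0x30b5d6679b8dc6b429e7b4f0d24a85fc1c9f5420), (nat_lit 0x30b5d8e79766c73229a7c2ecf449c9fc285f5420), (nat_lit 0x30b6ccc6fcee95320ed27adb841ff0727d5a1420), (nat_lit 0x30b6cec6facf14b40f126cdf621fd5727f0a1420), (nat_lit 0x30b71cb2faef24b41eca7cdb820fd0717f5a2420),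 (nat_lit 0x30b71eb2fccea5321f0a6adf640ff5717d0a2420), (nat_lit 0x30b7acf2ecec50754ec478db892cb077d35a7820), (nat_lit 0x30b7aef2f1cb10394f0469df652d3577cb0a7820), (nat_lit 0x30b7cceaf1eb08392ec879db854d30778b5a7c20), (nat_lit 0x30b7ceeaeccc48752f0868df694cb577930a7c20), (nat_lit 0x30b9766f598f5121cda4c2acf3ae05f52a9fb820), (nat_lit 0x30b978ef5d6650a3cde4b4b0d1aea9f5205fb820), (nat_lit 0x30b996775b8dc73229a7c2ecf44a85f55c9fc020), (nat_lit 0x30b998f75766c6b429e7b4f0d249c9f5685fc020), (nat_lit 0x30b9b65f5d8e48a3ada8c4acf1cea5f3a09fd020), (nat_lit 0x30b9b8df59674921ade8b2b0d3ce09f3aa5fd020), (nat_lit 0x30b9d667578eceb449a3c4ecf229c5f4289fd420), (nat_lit 0x30b9d8e75b65cf3249e3b2f0d42a89f41c5fd420), (nat_lit 0x30bacbc73adf172193136a9f63a3ce827f4a9420), (nat_lit 0x30bacdc73cbe96a392d37c9b81a3f4827cea9420), (nat_lit 0x30bb1bb33cdea6a3a30b6c9f6193ee817d4aa420), (nat_lit 0x30bb1db33abf2721a2cb7a9b8393d4817eeaa420),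 (nat_lit 0x30bbabf331db0649ab076a1f65c92e87cb4af820), (nat_lit 0x30bbadf32cbc4685aac7791b89c8b487d2eaf820), (nat_lit 0x30bbcbeb2cdc4e85cb03691f69a8ae87934afc20), (nat_lit 0x30bbcdeb31bb0e49cac37a1b85a934878aeafc20), (nat_lit 0x38db6ce1faef245a198ada6f170a1e44ebf22c20), (nat_lit 0x38db6ee1fccea4971a2ab976ca0abf44e1e22c20), (nat_lit 0x38db8cd9fcee94970992d96f1a1abe42e1f24c20), (nat_lit 0x38db8ed9facf145a0a32ba76c71a1f42ebe24c20), (nat_lit 0x38dbacf1f8eda865258ed8af19167e4557f24020), (nat_lit 0x38dbaef1f6ce2829262eb9b6c5157f4567e24020), (nat_lit 0x38dbcce9f6ee1c291594d9af15257e4427f25420), (nat_lit 0x38dbcee9f8cd9c651634b8b6c9267f4417e25420), (nat_lit 0x38df6ce1bcee945a0a32ba76c71abe24e1f42c20), (nat_lit 0x38df6ee1bacf14970992d96f1a1a1f24ebe42c20), (nat_lit 0x38df8cd9baef24971a2ab976ca0a1e22ebf44c20), (nat_lit 0x38df8ed9bccea45a198ada6f170abf22e1e44c20), (nat_lit 0x38dfacf1b6ee1c651634b8b6c9257e2567f44020),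 (nat_lit 0x38dfaef1b8cd9c291594d9af15267f2557e44020), (nat_lit 0x38dfcce9b8eda829262eb9b6c5167e2417f45420), (nat_lit 0x38dfcee9b6ce2865258ed8af19157f2427e45420), (nat_lit 0x38ecdd3f19e765429b6a63a3748bd09a3f559020), (nat_lit 0x38ecde3f1dd664e49aea8d19b28bf59a3d059020), (nat_lit 0x38ecfd371de654e48b726523729bf0993d55a020), (nat_lit 0x38ecfe3719d755428af28b99b49bd5993f05a020), (nat_lit 0x38ed9d770fe34a653b6960a37951109fc955f820), (nat_lit 0x38ed9e770dd3ca293ae98999b550959fd105f820), (nat_lit 0x38eddd670de3d229536561a37538909f9155fc20), (nat_lit 0x38edde670fd3526552e58899b939159f8905fc20), (nat_lit 0x38f0dd3edde655428af28b99b49bf05a3d599020), (nat_lit 0x38f0de3ed9d754e48b726523729bd55a3f099020), (nat_lit 0x38f0fd36d9e764e49aea8d19b28bd0593f59a020), (nat_lit 0x38f0fe36ddd665429b6a63a3748bf5593d09a020), (nat_lit 0x38f19d76cde3d26552e58899b938905fd159f820), (nat_lit 0x38f19e76cfd35229536561a37539155fc909f820),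 (nat_lit 0x38f1dd66cfe34a293ae98999b551105f8959fc20), (nat_lit 0x38f1de66cdd3ca653b6960a37950955f9109fc20), (nat_lit 0x38f366e3bc7e8b213a29bab6c352a4fce08f2c20), (nat_lit 0x38f367e3ba6f0aa33989dcaf115208fcea4f2c20), (nat_lit 0x38f386dbba7f12a35225bcb6c13a04faea8f4c20), (nat_lit 0x38f387dbbc6e93215185daaf133aa8fae04f4c20), (nat_lit 0x38f3a6f3b67e0d42ca22bbb6c4a964fd668f4020), (nat_lit 0x38f3a7f3b86d8ce4c982dd2f12aa68fd564f4020), (nat_lit 0x38f3c6ebb87d84e4aa26bd36c2ca64fc168f5420), (nat_lit 0x38f3c7ebb66e0542a986dbaf14c968fc264f5420), (nat_lit 0x38f4db3f9dc6692126ee8a99b317ebaa3d381020), (nat_lit 0x38f4dc3f99b768a3276e64a37117d3aa3eb81020), (nat_lit 0x38f4fb3799c75ca316f48c99b127cba93f382020), (nat_lit 0x38f4fc379db65d21177462a37327f3a93cb82020), (nat_lit 0x38f59b778dc3cc5a4ae28a59b7288bafd1387820), (nat_lit 0x38f59c778fb34c974b6261637a2913afc8b87820), (nat_lit 0x38f5db678fc344972ae68959ba490baf89387c20),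 (nat_lit 0x38f5dc678db3c45a2b666263774893af90b87c20), (nat_lit 0x38f8db3f59c75d21177462a37327cb823f3a9020), (nat_lit 0x38f8dc3f5db65ca316f48c99b127f3823cba9020), (nat_lit 0x38f8fb375dc668a3276e64a37117eb813d3aa020), (nat_lit 0x38f8fc3759b7692126ee8a99b317d3813ebaa020), (nat_lit 0x38f99b774fc3445a2b66626377490b87c93af820), (nat_lit 0x38f99c774db3c4972ae68959ba489387d0baf820), (nat_lit 0x38f9db674dc3cc974b6261637a288b87913afc20), (nat_lit 0x38f9dc674fb34c5a4ae28a59b729138788bafc20), (nat_lit 0x38fb66e33a7f13215185daaf133a04f4ea8fac20), (nat_lit 0x38fb67e33c6e92a35225bcb6c13aa8f4e04fac20), (nat_lit 0x38fb86db3c7e8aa33989dcaf1152a4f2e08fcc20), (nat_lit 0x38fb87db3a6f0b213a29bab6c35208f2ea4fcc20), (nat_lit 0x38fba6f3387d8542a986dbaf14ca64f5568fc020), (nat_lit 0x38fba7f3366e04e4aa26bd36c2c968f5664fc020), (nat_lit 0x38fbc6eb367e0ce4c982dd2f12a964f4268fd420), (nat_lit 0x38fbc7eb386d8d42ca22bbb6c4aa68f4164fd420),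 (nat_lit 0x411b6be1fcdea6981a2bc97aca89df1aa9e3c820), (nat_lit 0x411b6de1fabf265a998bea73180a9e1a9df3c820), (nat_lit 0x411b8bd9fadf165a8a33ca7ac81a9f1c9de3a820), (nat_lit 0x411b8dd9fcbe96980993e9731a99de1ca9f3a820), (nat_lit 0x411babf1f6de2a29a630c9bac5965f1b95e3d020), (nat_lit 0x411badf1f8bdaa65a590e8b319955e1ba5f3d020), (nat_lit 0x411bcbe9f8dda0659635c8bac9a55f1d25e3b820), (nat_lit 0x411bcde9f6be20299595e9b315a65e1d15f3b820), (nat_lit 0x411f6be1badf16980993e9731a9a9f3a9de1c820), (nat_lit 0x411f6de1bcbe965a8a33ca7ac819de3aa9f1c820), (nat_lit 0x411f8bd9bcdea65a998bea731809df3ca9e1a820), (nat_lit 0x411f8dd9babf26981a2bc97aca8a9e3c9df1a820), (nat_lit 0x411fabf1b8dda0299595e9b315a55f3ba5e1d020), (nat_lit 0x411fadf1b6be20659635c8bac9a65e3b95f1d020), (nat_lit 0x411fcbe9b6de2a65a590e8b319965f3d15e1b820), (nat_lit 0x411fcde9b8bdaa29a630c9bac5955e3d25f1b820), (nat_lit 0x412cdd3f1be5e7529bab6423948bd450fee91c20),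 (nat_lit 0x412cde3f17d6e7049b2b8d59d28bee50fd491c20), (nat_lit 0x412cfd3717e6d7048bb36563929bf451fce90c20), (nat_lit 0x412cfe371bd5d7528b338c19d49bce51ff490c20), (nat_lit 0x412d7d6f0de3d229d7a561a395c0f45786e97c20), (nat_lit 0x412d7e6f0fd35265d7258899d9c06e578f497c20), (nat_lit 0x412dbd5f0fe34a65c3a960a399d47457cee97820), (nat_lit 0x412dbe5f0dd3ca29c3298999d5d4ee57c7497820), (nat_lit 0x412f66e37a7f13315585eaf3134287f29c3fc820), (nat_lit 0x412f67e37c6e92b35625ccfac141c3f2a87fc820), (nat_lit 0x412f86db7c7e8ab34189ecf31155c7f4a83fa820), (nat_lit 0x412f87db7a6f0b314229cafac35683f49c7fa820), (nat_lit 0x412fa6f3787d8552ad86ec3314cd47f3a43fd020), (nat_lit 0x412fa7f3766e0504ae26cd7ac2ce43f3947fd020), (nat_lit 0x412fc6eb767e0d04cd82ed7312ae47f5143fb820), (nat_lit 0x412fc7eb786d8d52ce22cc3ac4ad43f5247fb820), (nat_lit 0x4130dd3ed7e6d7528b338c19d49bf490fce51c20), (nat_lit 0x4130de3edbd5d7048bb36563929bce90ff451c20),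 (nat_lit 0x4130fd36dbe5e7049b2b8d59d28bd491fee50c20), (nat_lit 0x4130fe36d7d6e7529bab6423948bee91fd450c20), (nat_lit 0x41317d6ecfe34a29c3298999d5d474978ee57c20), (nat_lit 0x41317e6ecdd3ca65c3a960a399d4ee9787457c20), (nat_lit 0x4131bd5ecde3d265d7258899d9c0f497c6e57820), (nat_lit 0x4131be5ecfd35229d7a561a395c06e97cf457820), (nat_lit 0x4134db3f97c6eb3127308ad9d317f270fcaa1c20), (nat_lit 0x4134dc3f9bb5eab327b064e39117ca70ff2a1c20), (nat_lit 0x4134fb379bc5e0b317358cd9d127d271feaa0c20), (nat_lit 0x4134fc3797b6e13117b562e39327ea71fd2a0c20), (nat_lit 0x41357b6f8fc344982f268959dacc72778eaa7c20), (nat_lit 0x41357c6f8db3c45aafa66263984cea77872a7c20), (nat_lit 0x4135bb5f8dc3cc5acf228a59d82cf277c6aa7820), (nat_lit 0x4135bc5f8fb34c984fa261639aac6a77cf2a7820), (nat_lit 0x413766e2fc7e8b314229cafac355c7faa83f4820), (nat_lit 0x413767e2fa6f0ab34189ecf3115683fa9c7f4820), (nat_lit 0x413786dafa7f12b35625ccfac14287fc9c3f2820),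 (nat_lit 0x413787dafc6e93315585eaf31341c3fca87f2820), (nat_lit 0x4137a6f2f67e0d52ce22cc3ac4ae47fb943f5020), (nat_lit 0x4137a7f2f86d8d04cd82ed7312ad43fba47f5020), (nat_lit 0x4137c6eaf87d8504ae26cd7ac2cd47fd243f3820), (nat_lit 0x4137c7eaf66e0552ad86ec3314ce43fd147f3820), (nat_lit 0x4138db3f5bc5e13117b562e39327d2a0fea71c20), (nat_lit 0x4138dc3f57b6e0b317358cd9d127eaa0fd271c20), (nat_lit 0x4138fb3757c6eab327b064e39117f2a1fca70c20), (nat_lit 0x4138fc375bb5eb3127308ad9d317caa1ff270c20), (nat_lit 0x41397b6f4dc3cc984fa261639aacf2a786a77c20), (nat_lit 0x41397c6f4fb34c5acf228a59d82c6aa78f277c20), (nat_lit 0x4139bb5f4fc3445aafa66263984c72a7cea77820), (nat_lit 0x4139bc5f4db3c4982f268959dacceaa7c7277820), (nat_lit 0x49597b6e3dc668881deed138da8d7f12a7e34820), (nat_lit 0x49597c6e39b7684a9daee234f80e7e1297f34820), (nat_lit 0x49599b7637c6ea3a21f0d1f8d7125f12d5e34c20), (nat_lit 0x49599c763bb5ea7721b0e0f4fa115e12e5f34c20),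 (nat_lit 0x4959bb5e39c75c4a8df4d238d81e7f1497e32820), (nat_lit 0x4959bc5e3db65c880db4e134fa9d7e14a7f32820), (nat_lit 0x4959db663bc5e07711f5d0f8da215f14e5e32c20), (nat_lit 0x4959dc6637b6e03a11b5e1f4f7225e14d5f32c20), (nat_lit 0x49637b6d99c75c880db4e134fa9e7f3297e14820), (nat_lit 0x49637c6d9db65c4a8df4d238d81d7e32a7f14820), (nat_lit 0x49639b759bc5e03a11b5e1f4f7215f32e5e14c20), (nat_lit 0x49639c7597b6e07711f5d0f8da225e32d5f14c20), (nat_lit 0x4963bb5d9dc6684a9daee234f80d7f34a7e12820), (nat_lit 0x4963bc5d99b768881deed138da8e7e3497f12820), (nat_lit 0x4963db6597c6ea7721b0e0f4fa125f34d5e12c20), (nat_lit 0x4963dc659bb5ea3a21f0d1f8d7115e34e5f12c20), (nat_lit 0x496d766f198f5141d5a4e3b4f3c266f2962fc820), (nat_lit 0x496d78ef1d6650e3d5e4d538d1c162f2a66fc820), (nat_lit 0x496d96771b8dc75239a7e434f45146f2e42fcc20), (nat_lit 0x496d98f71766c70439e7d578d25242f2d46fcc20), (nat_lit 0x496db65f1d8e48e3c1a8e534f1d566f4a62fa820),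 (nat_lit 0x496db8df19674941c1e8d3b8d3d662f4966fa820), (nat_lit 0x496dd667178ecf0451a3e574f23a46f4d42fac20), (nat_lit 0x496dd8e71b65cf5251e3d438d43942f4e46fac20), (nat_lit 0x496eccc778eda9521f8e6c1fa40fd350beb91820), (nat_lit 0x496ecec776ce29041f4e7d5bc20feb50bd391820), (nat_lit 0x496f1cb376ee1d040f946d5fa21ff351bcb90820), (nat_lit 0x496f1eb378cd9d520f547c1bc41fcb51bf390820), (nat_lit 0x496f6ce36cec503a578469dfa740d35784b97c20), (nat_lit 0x496f6ee371cb1077574478dbca404b578d397c20), (nat_lit 0x496f8cdb71eb0877438868dfaa545357ccb97820), (nat_lit 0x496f8edb6ccc483a434879dbc754cb57c5397820), (nat_lit 0x4971766edd8e4941c1e8d3b8d3d566faa62f4820), (nat_lit 0x497178eed96748e3c1a8e534f1d662fa966f4820), (nat_lit 0x49719676d78ecf5251e3d438d43a46fad42f4c20), (nat_lit 0x497198f6db65cf0451a3e574f23942fae46f4c20), (nat_lit 0x4971b65ed98f50e3d5e4d538d1c266fc962f2820), (nat_lit 0x4971b8dedd665141d5a4e3b4f3c162fca66f2820),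 (nat_lit 0x4971d666db8dc70439e7d578d25146fce42f2c20), (nat_lit 0x4971d8e6d766c75239a7e434f45242fcd46f2c20), (nat_lit 0x4972cbc7b6de2b41a3507b9bc393f258bca99820), (nat_lit 0x4972cdc7b8bdaae3a3906d1fa193ca58bf299820), (nat_lit 0x49731bb3b8dda0e393557d1bc1a3d259bea98820), (nat_lit 0x49731db3b6be214193956b9fa3a3ea59bd298820), (nat_lit 0x49736be3b1db06883b47791bcad0525f8ca9fc20), (nat_lit 0x49736de3acbc464abb876a1fa850ca5f8529fc20), (nat_lit 0x49738bdbacdc4e4ad3437a1bc838d25fc4a9f820), (nat_lit 0x49738ddbb1bb0e885383691faab84a5fcd29f820), (nat_lit 0x4976ccc6f6ee1d520f547c1bc41ff390bcb51820), (nat_lit 0x4976cec6f8cd9d040f946d5fa21fcb90bf351820), (nat_lit 0x49771cb2f8eda9041f4e7d5bc20fd391beb50820), (nat_lit 0x49771eb2f6ce29521f8e6c1fa40feb91bd350820), (nat_lit 0x49776ce2f1eb083a434879dbc75453978cb57c20), (nat_lit 0x49776ee2eccc4877438868dfaa54cb9785357c20), (nat_lit 0x49778cdaecec5077574478dbca40d397c4b57820),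 (nat_lit 0x49778edaf1cb103a578469dfa7404b97cd357820), (nat_lit 0x497acbc738dda14193956b9fa3a3d298bea59820), (nat_lit 0x497acdc736be20e393557d1bc1a3ea98bd259820), (nat_lit 0x497b1bb336de2ae3a3906d1fa193f299bca58820), (nat_lit 0x497b1db338bdab41a3507b9bc393ca99bf258820), (nat_lit 0x497b6be32cdc4e885383691faab8d29f84a5fc20), (nat_lit 0x497b6de331bb0e4ad3437a1bc8384a9f8d25fc20), (nat_lit 0x497b8bdb31db064abb876a1fa850529fcca5f820), (nat_lit 0x497b8ddb2cbc46883b47791bcad0ca9fc525f820), (nat_lit 0x5498db3e37c6ea317b30d1f9d37d2872ca4a4c20), (nat_lit 0x5498dc3e3bb5ea737bb0e0f5917ca472d28a4c20), (nat_lit 0x5498fb363bc5e0737f35d0f9d178a874d24a2c20), (nat_lit 0x5498fc3637b6e0317fb5e1f593792474ca8a2c20), (nat_lit 0x54997b6e2fc345e81f26d7f9da8d6871664a2420), (nat_lit 0x54997c6e2db3c5fa9fa6e7b5980e6471568a2420), (nat_lit 0x5499bb5e2dc3cdfa8f22d7b9d81e6872564a1420), (nat_lit 0x5499bc5e2fb34de80fa2e7f59a9d6472668a1420),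 (nat_lit 0x549acbc5f6de2a21fb50c9bbc3fd095b8859d020), (nat_lit 0x549acdc5f8bdaa63fb90e8b3a1fc855b9099d020), (nat_lit 0x549b1bb1f8dda063ff55c8bbc1f8895d1059b820), (nat_lit 0x549b1db1f6be2021ff95e9b3a3f9055d0899b820), (nat_lit 0x549b6be1f1db07e81b47cffbca89c9592859a020), (nat_lit 0x549b6de1ecbc47fa9b87efb3a80a85591c99a020), (nat_lit 0x549b8bd9ecdc4ffa8b43cfbbc81a895a1c599020), (nat_lit 0x549b8dd9f1bb0fe80b83eff3aa99c55a28999020), (nat_lit 0x549ecbc5b8dda021ff95e9b3a3f8899b9055d020), (nat_lit 0x549ecdc5b6be2063ff55c8bbc1f9059b8895d020), (nat_lit 0x549f1bb1b6de2a63fb90e8b3a1fd099d0855b820), (nat_lit 0x549f1db1b8bdaa21fb50c9bbc3fc859d1095b820), (nat_lit 0x549f6be1acdc4fe80b83eff3aa9a89991c55a020), (nat_lit 0x549f6de1b1bb0ffa8b43cfbbc819c5992895a020), (nat_lit 0x549f8bd9b1db07fa9b87efb3a809c99a28559020), (nat_lit 0x549f8dd9acbc47e81b47cffbca8a859a1c959020), (nat_lit 0x54a2db3d9bc5e0317fb5e1f59378a8a2d2474c20),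 (nat_lit 0x54a2dc3d97b6e0737f35d0f9d17924a2ca874c20), (nat_lit 0x54a2fb3597c6ea737bb0e0f5917d28a4ca472c20), (nat_lit 0x54a2fc359bb5ea317b30d1f9d37ca4a4d2872c20), (nat_lit 0x54a37b6d8dc3cde80fa2e7f59a9e68a156472420), (nat_lit 0x54a37c6d8fb34dfa8f22d7b9d81d64a166872420), (nat_lit 0x54a3bb5d8fc345fa9fa6e7b5980d68a266471420), (nat_lit 0x54a3bc5d8db3c5e81f26d7f9da8e64a256871420), (nat_lit 0x54acd63f1b8dc75f9ba7e4359f08b422d2e44c20), (nat_lit 0x54acd8bf1766c70f1b27d579df892e22cb444c20), (nat_lit 0x54acf637178ecf0f0ba3e5759f993424cae42c20), (nat_lit 0x54acf8b71b65cf5f8b23d439df18ae24d3442c20), (nat_lit 0x54ad766f0d8bfc21d7bfe1b593c2742156e42420), (nat_lit 0x54ad78ef0f637c63d73fd0b9d1c16e2167442420), (nat_lit 0x54adb65f0f8b7e63c3bee0b591d5742266e41420), (nat_lit 0x54adb8df0d63fe21c33ed1b9d3d66e2257441420), (nat_lit 0x54aec6c7787d855f9f86ec33af0c932b90b4d020), (nat_lit 0x54aec7c7766e050f1f46cd7bcf8d0b2b8934d020),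 (nat_lit 0x54af16b3767e0d0f0f82ed73af9d132d08b4b820), (nat_lit 0x54af17b3786d8d5f8f42cc3bcf1c8b2d1134b820), (nat_lit 0x54af66e36c7c7c31579fe9f3a34293291cb4a020), (nat_lit 0x54af67e3716b3c73575fc8fbc141cb292934a020), (nat_lit 0x54af86db717b3e73439ee8f3a155d32a28b49020), (nat_lit 0x54af87db6c6c7e31435ec9fbc3568b2a1d349020), (nat_lit 0x54b0d63ed78ecf5f8b23d439df193442cae24c20), (nat_lit 0x54b0d8bedb65cf0f0ba3e5759f98ae42d3424c20), (nat_lit 0x54b0f636db8dc70f1b27d579df88b444d2e22c20), (nat_lit 0x54b0f8b6d766c75f9ba7e4359f092e44cb422c20), (nat_lit 0x54b1766ecf8b7e21c33ed1b9d3d5744166e22420), (nat_lit 0x54b178eecd63fe63c3bee0b591d66e4157422420), (nat_lit 0x54b1b65ecd8bfc63d73fd0b9d1c2744256e21420), (nat_lit 0x54b1b8decf637c21d7bfe1b593c16e4267421420), (nat_lit 0x54b6c6c6f67e0d5f8f42cc3bcf1d134b88b2d020), (nat_lit 0x54b6c7c6f86d8d0f0f82ed73af9c8b4b9132d020), (nat_lit 0x54b716b2f87d850f1f46cd7bcf8c934d10b2b820),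 (nat_lit 0x54b717b2f66e055f9f86ec33af0d0b4d0932b820), (nat_lit 0x54b766e2f17b3e31435ec9fbc355d34928b2a020), (nat_lit 0x54b767e2ec6c7e73439ee8f3a1568b491d32a020), (nat_lit 0x54b786daec7c7c73575fc8fbc142934a1cb29020), (nat_lit 0x54b787daf16b3c31579fe9f3a341cb4a29329020), (nat_lit 0x5cd8db3e39c75c417b74d239737d23848a7aa820), (nat_lit 0x5cd8dc3e3db65c837af4e135b17ca784923aa820), (nat_lit 0x5cd8fb363dc668837f6ed1397178a382927ac820), (nat_lit 0x5cd8fc3639b768417eeee235b37927828a3ac820), (nat_lit 0x5cd99b762fc345ea2366d7f977124381547aa420), (nat_lit 0x5cd99c762db3c5f722e6e7b5ba114781643aa420), (nat_lit 0x5cd9db662dc3cdf71362d7b97a214382647a9420), (nat_lit 0x5cd9dc662fb34dea12e2e7f5b7224782543a9420), (nat_lit 0x5cdaccc5f6ee1c227b54d9afc47c69940e555420), (nat_lit 0x5cdacec5f8cd9c647b94b8b7a27ce59406955420), (nat_lit 0x5cdb1cb1f8eda8647f4ed8afc278e99546554020), (nat_lit 0x5cdb1eb1f6ce28227f8eb9b7a47865954e954020),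 (nat_lit 0x5cdb6ce1f1eb09ea1b48dfefc70a0991ea550c20), (nat_lit 0x5cdb6ee1eccc49f71b88bfb7aa0aa591e0950c20), (nat_lit 0x5cdb8cd9ecec51f70b44dfafca1aa990e0551c20), (nat_lit 0x5cdb8ed9f1cb11ea0b84bff7a71a0590ea951c20), (nat_lit 0x5cdeccc5b8eda8227f8eb9b7a478e95406595420), (nat_lit 0x5cdecec5b6ce28647f4ed8afc27865540e995420), (nat_lit 0x5cdf1cb1b6ee1c647b94b8b7a27c69554e594020), (nat_lit 0x5cdf1eb1b8cd9c227b54d9afc47ce55546994020), (nat_lit 0x5cdf6ce1acec51ea0b84bff7a71aa951e0590c20), (nat_lit 0x5cdf6ee1b1cb11f70b44dfafca1a0551ea990c20), (nat_lit 0x5cdf8cd9b1eb09f71b88bfb7aa0a0950ea591c20), (nat_lit 0x5cdf8ed9accc49ea1b48dfefc70aa550e0991c20), (nat_lit 0x5ce2db3d9dc668417eeee235b378a3ac92782820), (nat_lit 0x5ce2dc3d99b768837f6ed139717927ac8a382820), (nat_lit 0x5ce2fb3599c75c837af4e135b17d23aa8a784820), (nat_lit 0x5ce2fc359db65c417b74d239737ca7aa92384820), (nat_lit 0x5ce39b758dc3cdea12e2e7f5b72143a964782420),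 (nat_lit 0x5ce39c758fb34df71362d7b97a2247a954382420), (nat_lit 0x5ce3db658fc345f722e6e7b5ba1243aa54781420), (nat_lit 0x5ce3dc658db3c5ea2366d7f9771147aa64381420), (nat_lit 0x5cecd63f1d8e48ef9ae8e535bf08b53c9301a820), (nat_lit 0x5cecd8bf1967494f1b68d3b97f89303c8b51a820), (nat_lit 0x5cecf637198f514f0ae4e3b5bf99353a8b01c820), (nat_lit 0x5cecf8b71d6650ef8b64d5397f18b03a9351c820), (nat_lit 0x5ced96770d8bfc223affe1b5b45155396501a420), (nat_lit 0x5ced98f70f637c643b7fd0b9725250395551a420), (nat_lit 0x5cedd6670f8b7e6452fee0b5b23a553a55019420), (nat_lit 0x5cedd8e70d63fe22537ed1b97439503a65519420), (nat_lit 0x5cf0d63ed98f50ef8b64d5397f19351c8b03a820), (nat_lit 0x5cf0d8bedd66514f0ae4e3b5bf98b01c9353a820), (nat_lit 0x5cf0f636dd8e494f1b68d3b97f88b51a9303c820), (nat_lit 0x5cf0f8b6d96748ef9ae8e535bf09301a8b53c820), (nat_lit 0x5cf19676cf8b7e22537ed1b9743a55195503a420), (nat_lit 0x5cf198f6cd63fe6452fee0b5b23950196553a420),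 (nat_lit 0x5cf1d666cd8bfc643b7fd0b97251551a65039420), (nat_lit 0x5cf1d8e6cf637c223affe1b5b452501a55539420), (nat_lit 0x5cf2c6c7b87d84efa386bd37af10ea2c0724d420), (nat_lit 0x5cf2c7c7b66e054f2346dbafcf90722c0ea4d420), (nat_lit 0x5cf316b3b67e0d4f1382bbb7afa06a2d4f24c020), (nat_lit 0x5cf317b3b86d8cef9342dd2fcf20f22d46a4c020), (nat_lit 0x5cf366e3ac7c7c413b9fba37a352aa29e1248c20), (nat_lit 0x5cf367e3b16b3c833b5fd92fc1521229eaa48c20), (nat_lit 0x5cf386dbb17b3e83539eb937a13a0a28eb249c20), (nat_lit 0x5cf387dbac6c7e41535eda2fc33ab228e0a49c20), (nat_lit 0x5cfac6c7367e0cef9342dd2fcf206a4c0f22d420), (nat_lit 0x5cfac7c7386d8d4f1382bbb7afa0f24c06a2d420), (nat_lit 0x5cfb16b3387d854f2346dbafcf90ea4d4722c020), (nat_lit 0x5cfb17b3366e04efa386bd37af10724d4ea2c020), (nat_lit 0x5cfb66e3317b3e41535eda2fc33a0a49eb228c20), (nat_lit 0x5cfb67e32c6c7e83539eb937a13ab249e0a28c20), (nat_lit 0x5cfb86db2c7c7c833b5fd92fc152aa48e1229c20),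 (nat_lit 0x5cfb87db316b3c413b9fba37a3521248eaa29c20), (nat_lit 0x7518dd3e37e6d632fb33c1edd4fc48940c455420), (nat_lit 0x7518de3e3bd5d674fbb3b0f192fcc49404855420), (nat_lit 0x7518fd363be5e674ff2bc0edd2f8c89544454020), (nat_lit 0x7518fe3637d6e632ffabb1f194f844954c854020), (nat_lit 0x75197d6e2fe34be99f29c7edd58e0891aa450820), (nat_lit 0x75197e6e2dd3cbf59fa9b7b1998ea491a0850820), (nat_lit 0x7519bd5e2de3d3f58f25c7add99ea890a0451820), (nat_lit 0x7519be5e2fd353e98fa5b7f1959e0490aa851820), (nat_lit 0x751acbc5fadf1651fb13ca7b63fd0284886aa820), (nat_lit 0x751acdc5fcbe9693fad3e97381fc8684902aa820), (nat_lit 0x751b1bb1fcdea693ff0bc97b61f88282906ac820), (nat_lit 0x751b1db1fabf2651fecbea7383f90682882ac820), (nat_lit 0x751babf1f1db07e9a707cffb65964281146aa020), (nat_lit 0x751badf1ecbc47f5a6c7efb389954681242aa020), (nat_lit 0x751bcbe9ecdc4ff59703cfbb69a54282246a9020), (nat_lit 0x751bcde9f1bb0fe996c3eff385a64682142a9020),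 (nat_lit 0x751ecbc5bcdea651fecbea7383f882ac90682820), (nat_lit 0x751ecdc5babf2693ff0bc97b61f906ac88282820), (nat_lit 0x751f1bb1badf1693fad3e97381fd02aa88684820), (nat_lit 0x751f1db1bcbe9651fb13ca7b63fc86aa90284820), (nat_lit 0x751fabf1acdc4fe996c3eff385a542a924682020), (nat_lit 0x751fadf1b1bb0ff59703cfbb69a646a914282020), (nat_lit 0x751fcbe9b1db07f5a6c7efb3899642aa14681020), (nat_lit 0x751fcde9acbc47e9a707cffb659546aa24281020), (nat_lit 0x7522dd3d9be5e632ffabb1f194f8c85404495420), (nat_lit 0x7522de3d97d6e674ff2bc0edd2f844540c895420), (nat_lit 0x7522fd3597e6d674fbb3b0f192fc48554c494020), (nat_lit 0x7522fe359bd5d632fb33c1edd4fcc45544894020), (nat_lit 0x75237d6d8de3d3e98fa5b7f1959ea851a0490820), (nat_lit 0x75237e6d8fd353f58f25c7add99e0451aa890820), (nat_lit 0x7523bd5d8fe34bf59fa9b7b1998e0850aa491820), (nat_lit 0x7523be5d8dd3cbe99f29c7edd58ea450a0891820), (nat_lit 0x752ec6c77c7e8abf9ec9ecf38f0c953491012820),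 (nat_lit 0x752ec7c77a6f0b3f1f09cafb6f8d103489512820), (nat_lit 0x752f16b37a7f133f0ec5eaf38f9d153289014820), (nat_lit 0x752f17b37c6e92bf8f05ccfb6f1c903291514820), (nat_lit 0x752fa6f36c7c7c32aedfe9f384cd553125012020), (nat_lit 0x752fa7f3716b3c74af1fc8fb62ce503115512020), (nat_lit 0x752fc6eb717b3e74cedee8f382ae553215011020), (nat_lit 0x752fc7eb6c6c7e32cf1ec9fb64ad503225511020), (nat_lit 0x7534d63f9b8dc6bfa7a7b4f19f14ca2405245420), (nat_lit 0x7534d8bf9766c73f2727c2eddf9452240ca45420), (nat_lit 0x7534f637978ecf3f17a3b2f19fa44a254d244020), (nat_lit 0x7534f8b79b65cebf9723c4eddf24d22544a44020), (nat_lit 0x7535766f8d8bfc51afbfb27193ceaa21a1240820), (nat_lit 0x753578ef8f637c93af3fc16dd1ce1221aaa40820), (nat_lit 0x7535b65f8f8b7e93cfbeb17191ae0a20ab241820), (nat_lit 0x7535b8df8d63fe51cf3ec26dd3aeb220a0a41820), (nat_lit 0x7536c6c6fa7f12bf8f05ccfb6f1d151489032820), (nat_lit 0x7536c7c6fc6e933f0ec5eaf38f9c901491532820),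 (nat_lit 0x753716b2fc7e8b3f1f09cafb6f8c951291034820), (nat_lit 0x753717b2fa6f0abf9ec9ecf38f0d101289534820), (nat_lit 0x7537a6f2f17b3e32cf1ec9fb64ae551115032020), (nat_lit 0x7537a7f2ec6c7e74cedee8f382ad501125532020), (nat_lit 0x7537c6eaec7c7c74af1fc8fb62cd551225031020), (nat_lit 0x7537c7eaf16b3c32aedfe9f384ce501215531020), (nat_lit 0x7538d63f578ecebf9723c4eddf244a440d225420), (nat_lit 0x7538d8bf5b65cf3f17a3b2f19fa4d24404a25420), (nat_lit 0x7538f6375b8dc73f2727c2eddf94ca4545224020), (nat_lit 0x7538f8b75766c6bfa7a7b4f19f1452454ca24020), (nat_lit 0x7539766f4f8b7e51cf3ec26dd3ae0a41ab220820), (nat_lit 0x753978ef4d63fe93cfbeb17191aeb241a0a20820), (nat_lit 0x7539b65f4d8bfc93af3fc16dd1ceaa40a1221820), (nat_lit 0x7539b8df4f637c51afbfb27193ce1240aaa21820), (nat_lit 0x8558dd3e39e76442fb6ac22d74fc439d0c75b820), (nat_lit 0x8558de3e3dd66484faeab131b2fcc79d0435b820), (nat_lit 0x8558fd363de65484ff72c12d72f8c39b8475d020),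 (nat_lit 0x8558fe3639d75442fef2b231b4f8479b8c35d020), (nat_lit 0x85599d762fe34be52369c7ed791283999c758820), (nat_lit 0x85599e762dd3cbf922e9b7b1b511c799a8358820), (nat_lit 0x8559dd662de3d3f91365c7ad7521c398a8759820), (nat_lit 0x8559de662fd353e512e5b7f1b92287989c359820), (nat_lit 0x855accc5faef24527b0ada6f647c62a4ce672c20), (nat_lit 0x855acec5fccea4947acab977827ce6a4c6272c20), (nat_lit 0x855b1cb1fcee94947f12d96f6278e2a2c6674c20), (nat_lit 0x855b1eb1facf14527ed2ba77847866a2ce274c20), (nat_lit 0x855bacf1f1eb09e52708dfef691662a1d6670c20), (nat_lit 0x855baef1eccc49f926c8bfb7851566a1e6270c20), (nat_lit 0x855bcce9ecec51f91704dfaf652562a0e6671c20), (nat_lit 0x855bcee9f1cb11e516c4bff7892666a0d6271c20), (nat_lit 0x855eccc5bcee94527ed2ba778478e274c66a2c20), (nat_lit 0x855ecec5bacf14947f12d96f62786674ce2a2c20), (nat_lit 0x855f1cb1baef24947acab977827c6272ce6a4c20), (nat_lit 0x855f1eb1bccea4527b0ada6f647ce672c62a4c20),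 (nat_lit 0x855facf1acec51e516c4bff789256271e66a0c20), (nat_lit 0x855faef1b1cb11f91704dfaf65266671d62a0c20), (nat_lit 0x855fcce9b1eb09f926c8bfb785166270d66a1c20), (nat_lit 0x855fcee9accc49e52708dfef69156670e62a1c20), (nat_lit 0x8562dd3d9de65442fef2b231b4f8c35d0479b820), (nat_lit 0x8562de3d99d75484ff72c12d72f8475d0c39b820), (nat_lit 0x8562fd3599e76484faeab131b2fc435b8c79d020), (nat_lit 0x8562fe359dd66442fb6ac22d74fcc75b8439d020), (nat_lit 0x85639d758de3d3e512e5b7f1b921c359a8798820), (nat_lit 0x85639e758fd353f91365c7ad752287599c398820), (nat_lit 0x8563dd658fe34bf922e9b7b1b51283589c799820), (nat_lit 0x8563de658dd3cbe52369c7ed7911c758a8399820), (nat_lit 0x8572c6c7bc7e8b2fa2c9bab78f10ee34c7412c20), (nat_lit 0x8572c7c7ba6f0aaf2309dcaf6f907434cee12c20), (nat_lit 0x857316b3ba7f12af12c5bcb78fa06e32cf414c20), (nat_lit 0x857317b3bc6e932f9305daaf6f20f432c6e14c20), (nat_lit 0x8573a6f3ac7c7c42cadfba3784a96e31e7410c20),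 (nat_lit 0x8573a7f3b16b3c84cb1fd92f62aa7431d6e10c20), (nat_lit 0x8573c6ebb17b3e84aadeb93782ca6e30d7411c20), (nat_lit 0x8573c7ebac6c7e42ab1eda2f64c97430e6e11c20), (nat_lit 0x8574d63f9d8e492fa6e8b2b1bf14cb3d0531b820), (nat_lit 0x8574d8bf996748af2768c4ad7f94533d0cb1b820), (nat_lit 0x8574f637998f50af16e4b4b1bfa44b3b8d31d020), (nat_lit 0x8574f8b79d66512f9764c2ad7f24d33b84b1d020), (nat_lit 0x857596778d8bfc524affb271b429cb39a9318820), (nat_lit 0x857598f78f637c944b7fc16d722a93399cb18820), (nat_lit 0x8575d6678f8b7e942afeb171b24a8b389d319820), (nat_lit 0x8575d8e78d63fe522b7ec26d7449d338a8b19820), (nat_lit 0x8578d63f598f512f9764c2ad7f244b1d0d33b820), (nat_lit 0x8578d8bf5d6650af16e4b4b1bfa4d31d04b3b820), (nat_lit 0x8578f6375d8e48af2768c4ad7f94cb1b8533d020), (nat_lit 0x8578f8b75967492fa6e8b2b1bf14531b8cb3d020), (nat_lit 0x857996774f8b7e522b7ec26d744a8b199d338820), (nat_lit 0x857998f74d63fe942afeb171b249d319a8b38820),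 (nat_lit 0x8579d6674d8bfc944b7fc16d7229cb18a9339820), (nat_lit 0x8579d8e74f637c524affb271b42a93189cb39820), (nat_lit 0x857ac6c73a7f132f9305daaf6f206e14cf432c20), (nat_lit 0x857ac7c73c6e92af12c5bcb78fa0f414c6e32c20), (nat_lit 0x857b16b33c7e8aaf2309dcaf6f90ee12c7434c20), (nat_lit 0x857b17b33a6f0b2fa2c9bab78f107412cee34c20), (nat_lit 0x857ba6f3317b3e42ab1eda2f64ca6e11d7430c20), (nat_lit 0x857ba7f32c6c7e84aadeb93782c97411e6e30c20), (nat_lit 0x857bc6eb2c7c7c84cb1fd92f62a96e10e7431c20), (nat_lit 0x857bc7eb316b3c42cadfba3784aa7410d6e31c20), (nat_lit 0x9298db3e3bc5e0717bb5d0f9937d24a4ca872c20), (nat_lit 0x9298dc3e37b6e0337b35e1f5d17ca8a4d2472c20), (nat_lit 0x9298fb3637c6ea337fb0d1f99178a4a2d2874c20), (nat_lit 0x9298fc363bb5ea717f30e0f5d37928a2ca474c20), (nat_lit 0x92997b6e2dc3cdf81fa2d7b99a8d64a266871420), (nat_lit 0x92997c6e2fb34dea9f22e7f5d80e68a256471420), (nat_lit 0x9299bb5e2fc345ea8fa6d7f9981e64a156872420),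 (nat_lit 0x9299bc5e2db3c5f80f26e7b5da9d68a166472420), (nat_lit 0x929acbc5f8dda061fb95c8bba3fd059d0895b820), (nat_lit 0x929acdc5f6be2023fb55e9b3c1fc899d1055b820), (nat_lit 0x929b1bb1f6de2a23ff90c9bba1f8859b9095d020), (nat_lit 0x929b1db1f8bdaa61ff50e8b3c3f9099b8855d020), (nat_lit 0x929b6be1ecdc4ff81b83cfbbaa89c59a28959020), (nat_lit 0x929b6de1f1bb0fea9b43eff3c80a899a1c559020), (nat_lit 0x929b8bd9f1db07ea8b87cffba81a85991c95a020), (nat_lit 0x929b8dd9ecbc47f80b47efb3ca99c9992855a020), (nat_lit 0x929ecbc5b6de2a61ff50e8b3c3f8855d1099b820), (nat_lit 0x929ecdc5b8bdaa23ff90c9bba1f9095d0859b820), (nat_lit 0x929f1bb1b8dda023fb55e9b3c1fd055b8899d020), (nat_lit 0x929f1db1b6be2061fb95c8bba3fc895b9059d020), (nat_lit 0x929f6be1b1db07f80b47efb3ca9a855a1c999020), (nat_lit 0x929f6de1acbc47ea8b87cffba819c95a28599020), (nat_lit 0x929f8bd9acdc4fea9b43eff3c809c5592899a020), (nat_lit 0x929f8dd9b1bb0ff81b83cfbbaa8a89591c59a020),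 (nat_lit 0x92a2db3d97c6ea717f30e0f5d378a474d28a2c20), (nat_lit 0x92a2dc3d9bb5ea337fb0d1f991792874ca4a2c20), (nat_lit 0x92a2fb359bc5e0337b35e1f5d17d2472ca8a4c20), (nat_lit 0x92a2fc3597b6e0717bb5d0f9937ca872d24a4c20), (nat_lit 0x92a37b6d8fc345f80f26e7b5da9e6472568a1420), (nat_lit 0x92a37c6d8db3c5ea8fa6d7f9981d6872664a1420), (nat_lit 0x92a3bb5d8dc3cdea9f22e7f5d80d6471668a2420), (nat_lit 0x92a3bc5d8fb34df81fa2d7b99a8e6871564a2420), (nat_lit 0x92acd63f178ecf0f9b23e575df08ae44d3422c20), (nat_lit 0x92acd8bf1b65cf5f1ba3d4399f893444cae22c20), (nat_lit 0x92acf6371b8dc75f0b27e435df992e42cb424c20), (nat_lit 0x92acf8b71766c70f8ba7d5799f18b442d2e24c20), (nat_lit 0x92ad766f0f8b7e61d73ee0b5d3c26e4257421420), (nat_lit 0x92ad78ef0d63fe23d7bed1b991c1744266e21420), (nat_lit 0x92adb65f0d8bfc23c33fe1b5d1d56e4167422420), (nat_lit 0x92adb8df0f637c61c3bfd0b993d6744156e22420), (nat_lit 0x92aec6c7767e0d0f9f42ed73cf0c8b4d1132b820),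 (nat_lit 0x92aec7c7786d8d5f1f82cc3baf8d134d08b2b820), (nat_lit 0x92af16b3787d855f0f46ec33cf9d0b4b8932d020), (nat_lit 0x92af17b3766e050f8f86cd7baf1c934b90b2d020), (nat_lit 0x92af66e3717b3e71575ee8f3c3428b4a1d329020), (nat_lit 0x92af67e36c6c7e33579ec9fba141d34a28b29020), (nat_lit 0x92af86db6c7c7c33435fe9f3c155cb492932a020), (nat_lit 0x92af87db716b3c71439fc8fba35693491cb2a020), (nat_lit 0x92b0d63edb8dc70f8ba7d5799f192e24cb442c20), (nat_lit 0x92b0d8bed766c75f0b27e435df98b424d2e42c20), (nat_lit 0x92b0f636d78ecf5f1ba3d4399f88ae22d3444c20), (nat_lit 0x92b0f8b6db65cf0f9b23e575df093422cae44c20), (nat_lit 0x92b1766ecd8bfc61c3bfd0b993d56e2267441420), (nat_lit 0x92b178eecf637c23c33fe1b5d1d6742256e41420), (nat_lit 0x92b1b65ecf8b7e23d7bed1b991c26e2157442420), (nat_lit 0x92b1b8decd63fe61d73ee0b5d3c1742166e42420), (nat_lit 0x92b6c6c6f87d850f8f86cd7baf1d0b2d0934b820), (nat_lit 0x92b6c7c6f66e055f0f46ec33cf9c932d10b4b820),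 (nat_lit 0x92b716b2f67e0d5f1f82cc3baf8c8b2b9134d020), (nat_lit 0x92b717b2f86d8d0f9f42ed73cf0d132b88b4d020), (nat_lit 0x92b766e2ec7c7c71439fc8fba355cb2a29349020), (nat_lit 0x92b767e2f16b3c33435fe9f3c156932a1cb49020), (nat_lit 0x92b786daf17b3e33579ec9fba1428b291d34a020), (nat_lit 0x92b787daec6c7e71575ee8f3c341d32928b4a020), (nat_lit 0x9ad8db3e3dc668817aeed139b37d27aa8a384820), (nat_lit 0x9ad8dc3e39b768437b6ee235717ca3aa92784820), (nat_lit 0x9ad8fb3639c75c437ef4d239b178a7ac92382820), (nat_lit 0x9ad8fc363db65c817f74e135737923ac8a782820), (nat_lit 0x9ad99b762dc3cdfa22e2d7b9b71247aa54381420), (nat_lit 0x9ad99c762fb34de72362e7f57a1143aa64781420), (nat_lit 0x9ad9db662fc345e712e6d7f9ba2147a964382420), (nat_lit 0x9ad9dc662db3c5fa1366e7b5772243a954782420), (nat_lit 0x9adaccc5f8eda8627b8ed8afa47c65554e994020), (nat_lit 0x9adacec5f6ce28247b4eb9b7c27ce95546594020), (nat_lit 0x9adb1cb1f6ee1c247f94d9afa278e55406995420),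 (nat_lit 0x9adb1eb1f8cd9c627f54b8b7c47869540e595420), (nat_lit 0x9adb6ce1ecec51fa1b84dfafa70a0550ea991c20), (nat_lit 0x9adb6ee1f1cb11e71b44bff7ca0aa950e0591c20), (nat_lit 0x9adb8cd9f1eb09e70b88dfefaa1aa551e0990c20), (nat_lit 0x9adb8ed9eccc49fa0b48bfb7c71a0951ea590c20), (nat_lit 0x9adeccc5b6ee1c627f54b8b7c478e59546954020), (nat_lit 0x9adecec5b8cd9c247f94d9afa27869954e554020), (nat_lit 0x9adf1cb1b8eda8247b4eb9b7c27c65940e955420), (nat_lit 0x9adf1eb1b6ce28627b8ed8afa47ce99406555420), (nat_lit 0x9adf6ce1b1eb09fa0b48bfb7c71aa590e0951c20), (nat_lit 0x9adf6ee1accc49e70b88dfefaa1a0990ea551c20), (nat_lit 0x9adf8cd9acec51e71b44bff7ca0a0591ea950c20), (nat_lit 0x9adf8ed9b1cb11fa1b84dfafa70aa991e0550c20), (nat_lit 0x9ae2db3d99c75c817f74e1357378a782923ac820), (nat_lit 0x9ae2dc3d9db65c437ef4d239b17923828a7ac820), (nat_lit 0x9ae2fb359dc668437b6ee235717d27848a3aa820), (nat_lit 0x9ae2fc3599b768817aeed139b37ca384927aa820),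 (nat_lit 0x9ae39b758fc345fa1366e7b577214782643a9420), (nat_lit 0x9ae39c758db3c5e712e6d7f9ba224382547a9420), (nat_lit 0x9ae3db658dc3cde72362e7f57a124781543aa420), (nat_lit 0x9ae3dc658fb34dfa22e2d7b9b7114381647aa420), (nat_lit 0x9aecd63f198f514f9b64e3b57f08b01a9353c820), (nat_lit 0x9aecd8bf1d6650ef1ae4d539bf89351a8b03c820), (nat_lit 0x9aecf6371d8e48ef0b68e5357f99301c8b53a820), (nat_lit 0x9aecf8b71967494f8ae8d3b9bf18b51c9303a820), (nat_lit 0x9aed96770f8b7e623b7ee0b57451501a65539420), (nat_lit 0x9aed98f70d63fe243afed1b9b252551a55039420), (nat_lit 0x9aedd6670d8bfc24537fe1b5723a50195553a420), (nat_lit 0x9aedd8e70f637c6252ffd0b9b43955196503a420), (nat_lit 0x9af0d63edd8e494f8ae8d3b9bf19303a8b51c820), (nat_lit 0x9af0d8bed96748ef0b68e5357f98b53a9301c820), (nat_lit 0x9af0f636d98f50ef1ae4d539bf88b03c9351a820), (nat_lit 0x9af0f8b6dd66514f9b64e3b57f09353c8b01a820), (nat_lit 0x9af19676cd8bfc6252ffd0b9b43a503a55519420),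 (nat_lit 0x9af198f6cf637c24537fe1b57239553a65019420), (nat_lit 0x9af1d666cf8b7e243afed1b9b25150396551a420), (nat_lit 0x9af1d8e6cd63fe623b7ee0b5745255395501a420), (nat_lit 0x9af2c6c7b67e0d4fa342bbb7cf10f24d46a2c020), (nat_lit 0x9af2c7c7b86d8cef2382dd2faf906a4d4f22c020), (nat_lit 0x9af316b3b87d84ef1346bd37cfa0724c0ea2d420), (nat_lit 0x9af317b3b66e054f9386dbafaf20ea4c0722d420), (nat_lit 0x9af366e3b17b3e813b5eb937c352b248e0a29c20), (nat_lit 0x9af367e3ac6c7e433b9eda2fa1520a48eb229c20), (nat_lit 0x9af386dbac7c7c43535fba37c13a1249eaa28c20), (nat_lit 0x9af387dbb16b3c81539fd92fa33aaa49e1228c20), (nat_lit 0x9afac6c7387d854f9386dbafaf20722d4ea4c020), (nat_lit 0x9afac7c7366e04ef1346bd37cfa0ea2d4724c020), (nat_lit 0x9afb16b3367e0cef2382dd2faf90f22c06a4d420), (nat_lit 0x9afb17b3386d8d4fa342bbb7cf106a2c0f24d420), (nat_lit 0x9afb66e32c7c7c81539fd92fa33a1228eaa49c20), (nat_lit 0x9afb67e3316b3c43535fba37c13aaa28e1249c20),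 (nat_lit 0x9afb86db317b3e433b9eda2fa152b229e0a48c20), (nat_lit 0x9afb87db2c6c7e813b5eb937c3520a29eb248c20), (nat_lit 0xa398dd3e3be5e672fbabc0ed94fc44554c894020), (nat_lit 0xa398de3e37d6e634fb2bb1f1d2fcc85544494020), (nat_lit 0xa398fd3637e6d634ffb3c1ed92f8c45404895420), (nat_lit 0xa398fe363bd5d672ff33b0f1d4f848540c495420), (nat_lit 0xa3997d6e2de3d3f99fa5c7ad958e0450aa891820), (nat_lit 0xa3997e6e2fd353e59f25b7f1d98ea850a0491820), (nat_lit 0xa399bd5e2fe34be58fa9c7ed999ea451a0890820), (nat_lit 0xa399be5e2dd3cbf98f29b7b1d59e0851aa490820), (nat_lit 0xa39acbc5fcdea691facbc97b83fd06aa88284820), (nat_lit 0xa39acdc5fabf2653fb0bea7361fc82aa90684820), (nat_lit 0xa39b1bb1fadf1653fed3ca7b81f886ac90282820), (nat_lit 0xa39b1db1fcbe9691ff13e97363f902ac88682820), (nat_lit 0xa39babf1ecdc4ff9a6c3cfbb859646aa14281020), (nat_lit 0xa39badf1f1bb0fe5a703eff3699542aa24681020), (nat_lit 0xa39bcbe9f1db07e596c7cffb89a546a924282020),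 (nat_lit 0xa39bcde9ecbc47f99707efb365a642a914682020), (nat_lit 0xa39ecbc5badf1691ff13e97363f88682902ac820), (nat_lit 0xa39ecdc5bcbe9653fed3ca7b81f90282886ac820), (nat_lit 0xa39f1bb1bcdea653fb0bea7361fd0684882aa820), (nat_lit 0xa39f1db1babf2691facbc97b83fc8284906aa820), (nat_lit 0xa39fabf1b1db07f99707efb365a54682242a9020), (nat_lit 0xa39fadf1acbc47e596c7cffb89a64282146a9020), (nat_lit 0xa39fcbe9acdc4fe5a703eff369964681142aa020), (nat_lit 0xa39fcde9b1bb0ff9a6c3cfbb85954281246aa020), (nat_lit 0xa3a2dd3d97e6d672ff33b0f1d4f8c49544854020), (nat_lit 0xa3a2de3d9bd5d634ffb3c1ed92f848954c454020), (nat_lit 0xa3a2fd359be5e634fb2bb1f1d2fc44940c855420), (nat_lit 0xa3a2fe3597d6e672fbabc0ed94fcc89404455420), (nat_lit 0xa3a37d6d8fe34bf98f29b7b1d59ea490a0851820), (nat_lit 0xa3a37e6d8dd3cbe58fa9c7ed999e0890aa451820), (nat_lit 0xa3a3bd5d8de3d3e59f25b7f1d98e0491aa850820), (nat_lit 0xa3a3be5d8fd353f99fa5c7ad958ea891a0450820),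 (nat_lit 0xa3aec6c77a7f133f9f05eaf36f0c901291534820), (nat_lit 0xa3aec7c77c6e92bf1ec5ccfb8f8d151289034820), (nat_lit 0xa3af16b37c7e8abf0f09ecf36f9d101489532820), (nat_lit 0xa3af17b37a6f0b3f8ec9cafb8f1c951491032820), (nat_lit 0xa3afa6f3717b3e72af1ee8f364cd501225531020), (nat_lit 0xa3afa7f36c6c7e34aedec9fb82ce551215031020), (nat_lit 0xa3afc6eb6c7c7c34cf1fe9f362ae501115532020), (nat_lit 0xa3afc7eb716b3c72cedfc8fb84ad551125032020), (nat_lit 0xa3b4d63f978ecf3fa723b2f1df14d24544a24020), (nat_lit 0xa3b4d8bf9b65cebf27a3c4ed9f944a454d224020), (nat_lit 0xa3b4f6379b8dc6bf1727b4f1dfa452440ca25420), (nat_lit 0xa3b4f8b79766c73f97a7c2ed9f24ca4405225420), (nat_lit 0xa3b5766f8f8b7e91af3eb171d3ceb240a0a21820), (nat_lit 0xa3b578ef8d63fe53afbec26d91ce0a40ab221820), (nat_lit 0xa3b5b65f8d8bfc53cf3fb271d1ae1241aaa20820), (nat_lit 0xa3b5b8df8f637c91cfbfc16d93aeaa41a1220820), (nat_lit 0xa3b6c6c6fc7e8b3f8ec9cafb8f1d103289514820),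 (nat_lit 0xa3b6c7c6fa6f0abf0f09ecf36f9c953291014820), (nat_lit 0xa3b716b2fa7f12bf1ec5ccfb8f8c903491512820), (nat_lit 0xa3b717b2fc6e933f9f05eaf36f0d153489012820), (nat_lit 0xa3b7a6f2ec7c7c72cedfc8fb84ae503215511020), (nat_lit 0xa3b7a7f2f16b3c34cf1fe9f362ad553225011020), (nat_lit 0xa3b7c6eaf17b3e34aedec9fb82cd503125512020), (nat_lit 0xa3b7c7eaec6c7e72af1ee8f364ce553115012020), (nat_lit 0xa3b8d63f5b8dc73f97a7c2ed9f2452254ca44020), (nat_lit 0xa3b8d8bf5766c6bf1727b4f1dfa4ca2545244020), (nat_lit 0xa3b8f637578ecebf27a3c4ed9f94d22404a45420), (nat_lit 0xa3b8f8b75b65cf3fa723b2f1df144a240d245420), (nat_lit 0xa3b9766f4d8bfc91cfbfc16d93ae1220aaa41820), (nat_lit 0xa3b978ef4f637c53cf3fb271d1aeaa20a1241820), (nat_lit 0xa3b9b65f4f8b7e53afbec26d91ceb221a0a40820), (nat_lit 0xa3b9b8df4d63fe91af3eb171d3ce0a21ab240820), (nat_lit 0xac18dd3e3de65482faf2c12db4fc475b8c39d020), (nat_lit 0xac18de3e39d75444fb72b23172fcc35b8479d020),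 (nat_lit 0xac18fd3639e76444feeac22db2f8c75d0439b820), (nat_lit 0xac18fe363dd66482ff6ab13174f8435d0c79b820), (nat_lit 0xac199d762de3d3f522e5c7adb91287589c399820), (nat_lit 0xac199e762fd353e92365b7f17511c358a8799820), (nat_lit 0xac19dd662fe34be912e9c7edb521c759a8398820), (nat_lit 0xac19de662dd3cbf51369b7b1792283599c798820), (nat_lit 0xac1accc5fcee94927ad2d96f847c6672ce2a4c20), (nat_lit 0xac1acec5facf14547b12ba77627ce272c66a4c20), (nat_lit 0xac1b1cb1faef24547ecada6f8278e674c62a2c20), (nat_lit 0xac1b1eb1fccea4927f0ab97764786274ce6a2c20), (nat_lit 0xac1bacf1ecec51f526c4dfaf89166670d62a1c20), (nat_lit 0xac1baef1f1cb11e92704bff765156270e66a1c20), (nat_lit 0xac1bcce9f1eb09e916c8dfef85256671e62a0c20), (nat_lit 0xac1bcee9eccc49f51708bfb769266271d66a0c20), (nat_lit 0xac1eccc5baef24927f0ab9776478e6a2c6274c20), (nat_lit 0xac1ecec5bccea4547ecada6f827862a2ce674c20), (nat_lit 0xac1f1cb1bcee94547b12ba77627c66a4ce272c20),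 (nat_lit 0xac1f1eb1bacf14927ad2d96f847ce2a4c6672c20), (nat_lit 0xac1facf1b1eb09f51708bfb7692566a0e6271c20), (nat_lit 0xac1faef1accc49e916c8dfef852662a0d6671c20), (nat_lit 0xac1fcce9acec51e92704bff7651666a1d6270c20), (nat_lit 0xac1fcee9b1cb11f526c4dfaf891562a1e6670c20), (nat_lit 0xac22dd3d99e76482ff6ab13174f8c79b8435d020), (nat_lit 0xac22de3d9dd66444feeac22db2f8439b8c75d020), (nat_lit 0xac22fd359de65444fb72b23172fc479d0c35b820), (nat_lit 0xac22fe3599d75482faf2c12db4fcc39d0475b820), (nat_lit 0xac239d758fe34bf51369b7b17921c798a8359820), (nat_lit 0xac239e758dd3cbe912e9c7edb52283989c759820), (nat_lit 0xac23dd658de3d3e92365b7f1751287999c358820), (nat_lit 0xac23de658fd353f522e5c7adb911c399a8758820), (nat_lit 0xac32c6c7ba7f12afa305bcb76f10f412c6e34c20), (nat_lit 0xac32c7c7bc6e932f22c5daaf8f906e12cf434c20), (nat_lit 0xac3316b3bc7e8b2f1309bab76fa07414cee32c20), (nat_lit 0xac3317b3ba6f0aaf92c9dcaf8f20ee14c7432c20),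 (nat_lit 0xac33a6f3b17b3e82cb1eb93764a97410e6e31c20), (nat_lit 0xac33a7f3ac6c7e44cadeda2f82aa6e10d7431c20), (nat_lit 0xac33c6ebac7c7c44ab1fba3762ca7411d6e30c20), (nat_lit 0xac33c7ebb16b3c82aadfd92f84c96e11e7430c20), (nat_lit 0xac34d63f998f50afa764b4b17f14d31b84b3d020), (nat_lit 0xac34d8bf9d66512f26e4c2adbf944b1b8d33d020), (nat_lit 0xac34f6379d8e492f1768b2b17fa4531d0cb3b820), (nat_lit 0xac34f8b7996748af96e8c4adbf24cb1d0533b820), (nat_lit 0xac3596778f8b7e924b7eb1717429d318a8b39820), (nat_lit 0xac3598f78d63fe544afec26db22a8b189d339820), (nat_lit 0xac35d6678d8bfc542b7fb271724a93199cb38820), (nat_lit 0xac35d8e78f637c922affc16db449cb19a9338820), (nat_lit 0xac38d63f5d8e48af96e8c4adbf24533b8cb1d020), (nat_lit 0xac38d8bf5967492f1768b2b17fa4cb3b8531d020), (nat_lit 0xac38f637598f512f26e4c2adbf94d33d04b1b820), (nat_lit 0xac38f8b75d6650afa764b4b17f144b3d0d31b820), (nat_lit 0xac3996774d8bfc922affc16db44a93389cb19820),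 (nat_lit 0xac3998f74f637c542b7fb2717249cb38a9319820), (nat_lit 0xac39d6674f8b7e544afec26db229d339a8b18820), (nat_lit 0xac39d8e74d63fe924b7eb171742a8b399d318820), (nat_lit 0xac3ac6c73c7e8aaf92c9dcaf8f207432cee14c20), (nat_lit 0xac3ac7c73a6f0b2f1309bab76fa0ee32c7414c20), (nat_lit 0xac3b16b33a7f132f22c5daaf8f90f434c6e12c20), (nat_lit 0xac3b17b33c6e92afa305bcb76f106e34cf412c20), (nat_lit 0xac3ba6f32c7c7c82aadfd92f84ca7430d6e11c20), (nat_lit 0xac3ba7f3316b3c44ab1fba3762c96e30e7411c20), (nat_lit 0xac3bc6eb317b3e44cadeda2f82a97431e6e10c20), (nat_lit 0xac3bc7eb2c6c7e82cb1eb93764aa6e31d7410c20), (nat_lit 0xf7ed7d6f1de654e9d5f26522d5c0e2290664a020), (nat_lit 0xf7ed7e6f19d75545d5b28b98f9c066290e24a020), (nat_lit 0xf7ed9d7717e6d70539f36562d9510229c8648c20), (nat_lit 0xf7ed9e771bd5d75939b38c18f5508629d0248c20), (nat_lit 0xf7edbd5f19e76545c1ea63a2d9d4622a0e649020), (nat_lit 0xf7edbe5f1dd664e9c1aa8d18f5d4e62a06249020),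 (nat_lit 0xf7eddd671be5e75951eb6422d5388228d0649c20), (nat_lit 0xf7edde6717d6e70551ab8d58f9390628c8249c20), (nat_lit 0xf7ef6ce37cee94ba56326cdec740c32144742420), (nat_lit 0xf7ef6ee37acf153755927adb1a4047214c342420), (nat_lit 0xf7ef8cdb7aef2537422a6adeca5443224c741420), (nat_lit 0xf7ef8edb7ccea4ba418a7cdb1754c72244341420), (nat_lit 0xf7efacf376ee1d052e346d5ec94d23218a740820), (nat_lit 0xf7efaef378cd9d592d947c1b154ca72192340820), (nat_lit 0xf7efcceb78eda9594e2e6c1ec52ca32092741820), (nat_lit 0xf7efceeb76ce29054d8e7d5b192d27208a341820), (nat_lit 0xf7f17d6ed9e764e9c1aa8d18f5d462490e62a020), (nat_lit 0xf7f17e6eddd66545c1ea63a2d9d4e6490622a020), (nat_lit 0xf7f19d76dbe5e70551ab8d58f9388249d0628c20), (nat_lit 0xf7f19e76d7d6e75951eb6422d5390649c8228c20), (nat_lit 0xf7f1bd5edde65545d5b28b98f9c0e24a06629020), (nat_lit 0xf7f1be5ed9d754e9d5f26522d5c0664a0e229020), (nat_lit 0xf7f1dd66d7e6d75939b38c18f5510248c8629c20),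 (nat_lit 0xf7f1de66dbd5d70539f36562d9508648d0229c20), (nat_lit 0xf7f36be3badf16a839937c9b1ad048394c41a420), (nat_lit 0xf7f36de3bcbe972aba336a9ec850c4394481a420), (nat_lit 0xf7f38bdbbcdea72ad18b7a9b1838c83a44419420), (nat_lit 0xf7f38ddbbabf26a8522b6c9ecab8443a4c819420), (nat_lit 0xf7f3abf3b8dda0e9c9957d1b15a8a83992418820), (nat_lit 0xf7f3adf3b6be2145ca356b9ec9a924398a818820), (nat_lit 0xf7f3cbebb6de2b45a9907b9b19c928388a419820), (nat_lit 0xf7f3cdebb8bdaae9aa306d1ec5c8a43892819820), (nat_lit 0xf7f57b6f99c75ca82db48c98facc69310e512020), (nat_lit 0xf7f57c6f9db65d2aadf462a2d84ce53106912020), (nat_lit 0xf7f59b779bc5e0ba49b58cd8f7288931d0510c20), (nat_lit 0xf7f59c7797b6e13749f562e2da290531c8910c20), (nat_lit 0xf7f5bb5f9dc6692acdae8a98f82ce93206511020), (nat_lit 0xf7f5bc5f99b768a84dee64a2daac65320e911020), (nat_lit 0xf7f5db6797c6eb3729b08ad8fa490930c8511c20), (nat_lit 0xf7f5dc679bb5eaba29f064e2d7488530d0911c20),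 (nat_lit 0xf7f76ce2faef24ba418a7cdb175443414c722420), (nat_lit 0xf7f76ee2fccea537422a6adeca54c74144322420), (nat_lit 0xf7f78cdafcee953755927adb1a40c34244721420), (nat_lit 0xf7f78edafacf14ba56326cdec74047424c321420), (nat_lit 0xf7f7acf2f8eda9054d8e7d5b192ca34192720820), (nat_lit 0xf7f7aef2f6ce29594e2e6c1ec52d27418a320820), (nat_lit 0xf7f7cceaf6ee1d592d947c1b154d23408a721820), (nat_lit 0xf7f7ceeaf8cd9d052e346d5ec94ca74092321820), (nat_lit 0xf7f97b6f5dc668a84dee64a2daace91106532020), (nat_lit 0xf7f97c6f59b7692acdae8a98f82c65110e932020), (nat_lit 0xf7f99b7757c6eaba29f064e2d7490911c8530c20), (nat_lit 0xf7f99c775bb5eb3729b08ad8fa488511d0930c20), (nat_lit 0xf7f9bb5f59c75d2aadf462a2d84c69120e531020), (nat_lit 0xf7f9bc5f5db65ca82db48c98facce51206931020), (nat_lit 0xf7f9db675bc5e13749f562e2da288910d0531c20), (nat_lit 0xf7f9dc6757b6e0ba49b58cd8f7290510c8931c20), (nat_lit 0xf7fb6be33cdea6a8522b6c9ecab8c8194443a420),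 (nat_lit 0xf7fb6de33abf272ad18b7a9b183844194c83a420), (nat_lit 0xf7fb8bdb3adf172aba336a9ec850481a4c439420), (nat_lit 0xf7fb8ddb3cbe96a839937c9b1ad0c41a44839420), (nat_lit 0xf7fbabf336de2ae9aa306d1ec5c928198a438820), (nat_lit 0xf7fbadf338bdab45a9907b9b19c8a41992838820), (nat_lit 0xf7fbcbeb38dda145ca356b9ec9a8a81892439820), (nat_lit 0xf7fbcdeb36be20e9c9957d1b15a924188a839820), (nat_lit 0xffad7d6f19e76549d5aa63a2f5c0e64a06229020), (nat_lit 0xffad7e6f1dd664e5d5ea8d18d9c0624a0e629020), (nat_lit 0xffad9d771be5e75539ab6422f9510648c8229c20), (nat_lit 0xffad9e7717d6e70939eb8d58d5508248d0629c20), (nat_lit 0xffadbd5f1de654e5c1b26522f9d466490e22a020), (nat_lit 0xffadbe5f19d75549c1f28b98d5d4e2490662a020), (nat_lit 0xffaddd6717e6d70951b36562f5388649d0228c20), (nat_lit 0xffadde671bd5d75551f38c18d9390249c8628c20), (nat_lit 0xffaf6ce37aef253a558a6adf1740c74244321420), (nat_lit 0xffaf6ee37ccea4b7562a7cdaca4043424c721420),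 (nat_lit 0xffaf8cdb7cee94b741926cdf1a5447414c322420), (nat_lit 0xffaf8edb7acf153a42327adac754c34144722420), (nat_lit 0xffafacf378eda9552d8e6c1f194d27408a321820), (nat_lit 0xffafaef376ce29092e2e7d5ac54ca34092721820), (nat_lit 0xffafcceb76ee1d094d946d5f152ca74192320820), (nat_lit 0xffafceeb78cd9d554e347c1ac92d23418a720820), (nat_lit 0xffb17d6edde65549c1f28b98d5d4662a0e249020), (nat_lit 0xffb17e6ed9d754e5c1b26522f9d4e22a06649020), (nat_lit 0xffb19d76d7e6d75551f38c18d9388628d0249c20), (nat_lit 0xffb19e76dbd5d70951b36562f5390228c8649c20), (nat_lit 0xffb1bd5ed9e764e5d5ea8d18d9c0e6290624a020), (nat_lit 0xffb1be5eddd66549d5aa63a2f5c062290e64a020), (nat_lit 0xffb1dd66dbe5e70939eb8d58d5510629c8248c20), (nat_lit 0xffb1de66d7d6e75539ab6422f9508229d0648c20), (nat_lit 0xffb36be3bcdea7283a2b7a9acad0441a4c839420), (nat_lit 0xffb36de3babf26aab98b6c9f1850c81a44439420), (nat_lit 0xffb38bdbbadf16aad2337c9ac838c4194483a420),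 (nat_lit 0xffb38ddbbcbe972851936a9f1ab848194c43a420), (nat_lit 0xffb3abf3b6de2b49ca307b9ac5a8a41892839820), (nat_lit 0xffb3adf3b8bdaae5c9906d1f19a928188a439820), (nat_lit 0xffb3cbebb8dda0e5aa357d1ac9c924198a838820), (nat_lit 0xffb3cdebb6be2149a9956b9f15c8a81992438820), (nat_lit 0xffb57b6f9dc669282dee8a98dacc65120e931020), (nat_lit 0xffb57c6f99b768aaadae64a2f84ce91206531020), (nat_lit 0xffb59b7797c6eb3a49f08ad8d7288510d0931c20), (nat_lit 0xffb59c779bb5eab749b064e2fa290910c8531c20), (nat_lit 0xffb5bb5f99c75caacdf48c98d82ce51106932020), (nat_lit 0xffb5bc5f9db65d284db462a2faac69110e532020), (nat_lit 0xffb5db679bc5e0b729f58cd8da490511c8930c20), (nat_lit 0xffb5dc6797b6e13a29b562e2f7488911d0530c20), (nat_lit 0xffb76ce2fcee953a42327adac75447224c341420), (nat_lit 0xffb76ee2facf14b741926cdf1a54c32244741420), (nat_lit 0xffb78cdafaef24b7562a7cdaca40c72144342420), (nat_lit 0xffb78edafccea53a558a6adf174043214c742420),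 (nat_lit 0xffb7acf2f6ee1d554e347c1ac92ca72092341820), (nat_lit 0xffb7aef2f8cd9d094d946d5f152d23208a741820), (nat_lit 0xffb7cceaf8eda9092e2e7d5ac54d27218a340820), (nat_lit 0xffb7ceeaf6ce29552d8e6c1f194ca32192740820), (nat_lit 0xffb97b6f59c75d284db462a2faace53206911020), (nat_lit 0xffb97c6f5db65caacdf48c98d82c69320e511020), (nat_lit 0xffb99b775bc5e13a29b562e2f7490530c8911c20), (nat_lit 0xffb99c7757b6e0b729f58cd8da488930d0511c20), (nat_lit 0xffb9bb5f5dc668aaadae64a2f84c65310e912020), (nat_lit 0xffb9bc5f59b769282dee8a98dacce93106512020), (nat_lit 0xffb9db6757c6eab749b064e2fa288531d0910c20), (nat_lit 0xffb9dc675bb5eb3a49f08ad8d7290931c8510c20), (nat_lit 0xffbb6be33adf172851936a9f1ab8c43a44819420), (nat_lit 0xffbb6de33cbe96aad2337c9ac838483a4c419420), (nat_lit 0xffbb8bdb3cdea6aab98b6c9f185044394c81a420), (nat_lit 0xffbb8ddb3abf27283a2b7a9acad0c8394441a420), (nat_lit 0xffbbabf338dda149a9956b9f15c924388a819820),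 (nat_lit 0xffbbadf336be20e5aa357d1ac9c8a83892419820), (nat_lit 0xffbbcbeb36de2ae5c9906d1f19a8a43992818820), (nat_lit 0xffbbcdeb38bdab49ca307b9ac5a928398a418820)]
noncomputable def AP_lS_W : List (List ℕ) := [[(nat_lit 3), (nat_lit 1), (nat_lit 0), (nat_lit 2), (nat_lit 3), (nat_lit 1), (nat_lit 3)],
  [(nat_lit 1), (nat_lit 3), (nat_lit 1), (nat_lit 2)],
  [(nat_lit 0), (nat_lit 1), (nat_lit 0), (nat_lit 3), (nat_lit 1), (nat_lit 2), (nat_lit 3)],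
  [(nat_lit 1), (nat_lit 1), (nat_lit 0), (nat_lit 1), (nat_lit 3), (nat_lit 1), (nat_lit 0), (nat_lit 2), (nat_lit 3), (nat_lit 1)],
  [(nat_lit 1), (nat_lit 0), (nat_lit 3), (nat_lit 1), (nat_lit 0), (nat_lit 2)],
  [(nat_lit 0), (nat_lit 3), (nat_lit 2), (nat_lit 1), (nat_lit 0), (nat_lit 3), (nat_lit 1), (nat_lit 0), (nat_lit 3), (nat_lit 1)],
  [(nat_lit 0), (nat_lit 3), (nat_lit 1), (nat_lit 0), (nat_lit 2), (nat_lit 3), (nat_lit 1), (nat_lit 0)],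
  [(nat_lit 0), (nat_lit 1), (nat_lit 3), (nat_lit 1), (nat_lit 0), (nat_lit 2), (nat_lit 3)],
  [(nat_lit 0), (nat_lit 3), (nat_lit 2), (nat_lit 1), (nat_lit 0), (nat_lit 3), (nat_lit 1), (nat_lit 0), (nat_lit 3), (nat_lit 1), (nat_lit 0)],
  [(nat_lit 1), (nat_lit 0), (nat_lit 3), (nat_lit 1), (nat_lit 2)],
  [(nat_lit 0), (nat_lit 1), (nat_lit 3), (nat_lit 1), (nat_lit 2), (nat_lit 3)],
  [(nat_lit 0), (nat_lit 3), (nat_lit 1), (nat_lit 0), (nat_lit 2), (nat_lit 3), (nat_lit 1)],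
  [(nat_lit 1), (nat_lit 3), (nat_lit 1), (nat_lit 0), (nat_lit 2)],
  [(nat_lit 3), (nat_lit 1), (nat_lit 0), (nat_lit 2), (nat_lit 3), (nat_lit 1), (nat_lit 0), (nat_lit 3)],
  [(nat_lit 1), (nat_lit 1), (nat_lit 0), (nat_lit 3), (nat_lit 1), (nat_lit 0), (nat_lit 2), (nat_lit 3), (nat_lit 1), (nat_lit 1)],
  [(nat_lit 0), (nat_lit 1), (nat_lit 0), (nat_lit 3), (nat_lit 1), (nat_lit 0), (nat_lit 2), (nat_lit 3)],
  [(nat_lit 1), (nat_lit 3), (nat_lit 1)],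
  [(nat_lit 3), (nat_lit 1), (nat_lit 0), (nat_lit 3), (nat_lit 1), (nat_lit 3)],
  [(nat_lit 1), (nat_lit 0), (nat_lit 1), (nat_lit 3), (nat_lit 1), (nat_lit 0), (nat_lit 3), (nat_lit 1), (nat_lit 1), (nat_lit 3)],
  [(nat_lit 1), (nat_lit 0), (nat_lit 3), (nat_lit 1), (nat_lit 0)],
  [(nat_lit 0), (nat_lit 1), (nat_lit 2), (nat_lit 3), (nat_lit 1), (nat_lit 0), (nat_lit 2), (nat_lit 3)],
  [(nat_lit 0), (nat_lit 2), (nat_lit 1), (nat_lit 3), (nat_lit 1), (nat_lit 0), (nat_lit 2), (nat_lit 3), (nat_lit 1)],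
  [(nat_lit 2), (nat_lit 1), (nat_lit 0), (nat_lit 3), (nat_lit 1), (nat_lit 0), (nat_lit 2), (nat_lit 3), (nat_lit 1), (nat_lit 0)],
  [(nat_lit 0), (nat_lit 1), (nat_lit 0), (nat_lit 2), (nat_lit 3), (nat_lit 1), (nat_lit 2), (nat_lit 3)],
  [(nat_lit 1), (nat_lit 1), (nat_lit 0), (nat_lit 3), (nat_lit 1), (nat_lit 0), (nat_lit 3), (nat_lit 1), (nat_lit 1)],
  [(nat_lit 0), (nat_lit 1), (nat_lit 0), (nat_lit 3), (nat_lit 1), (nat_lit 0), (nat_lit 3)],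
  [(nat_lit 0), (nat_lit 1), (nat_lit 3), (nat_lit 1), (nat_lit 3)],
  [(nat_lit 0), (nat_lit 3), (nat_lit 1), (nat_lit 0), (nat_lit 3), (nat_lit 1)],
  [(nat_lit 0), (nat_lit 2), (nat_lit 1), (nat_lit 0), (nat_lit 3), (nat_lit 1), (nat_lit 0), (nat_lit 2), (nat_lit 3), (nat_lit 1), (nat_lit 0), (nat_lit 3)],
  [(nat_lit 1), (nat_lit 0), (nat_lit 2), (nat_lit 3), (nat_lit 1), (nat_lit 2)],
  [(nat_lit 1), (nat_lit 2), (nat_lit 3), (nat_lit 1), (nat_lit 0), (nat_lit 2)],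
  [(nat_lit 2), (nat_lit 1), (nat_lit 3), (nat_lit 1), (nat_lit 0), (nat_lit 2), (nat_lit 3), (nat_lit 1), (nat_lit 3)],
  [(nat_lit 0), (nat_lit 2), (nat_lit 1), (nat_lit 3), (nat_lit 1), (nat_lit 0), (nat_lit 3), (nat_lit 1)],
  [(nat_lit 0), (nat_lit 1), (nat_lit 2), (nat_lit 3), (nat_lit 1), (nat_lit 0), (nat_lit 3)],
  [(nat_lit 1), (nat_lit 0), (nat_lit 2), (nat_lit 3), (nat_lit 1), (nat_lit 0)],
  [(nat_lit 0), (nat_lit 2), (nat_lit 1), (nat_lit 0), (nat_lit 3), (nat_lit 1), (nat_lit 0), (nat_lit 3), (nat_lit 1), (nat_lit 3)],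
  [(nat_lit 0), (nat_lit 1), (nat_lit 0), (nat_lit 2), (nat_lit 3), (nat_lit 1), (nat_lit 3)],
  [(nat_lit 2), (nat_lit 1), (nat_lit 0), (nat_lit 3), (nat_lit 1), (nat_lit 0), (nat_lit 3), (nat_lit 1), (nat_lit 0)],
  [(nat_lit 3), (nat_lit 1), (nat_lit 0), (nat_lit 3), (nat_lit 1), (nat_lit 2), (nat_lit 3)],
  [(nat_lit 1), (nat_lit 2), (nat_lit 3), (nat_lit 1)],
  [(nat_lit 1), (nat_lit 0), (nat_lit 3), (nat_lit 1)],
  [(nat_lit 1), (nat_lit 0), (nat_lit 1), (nat_lit 1), (nat_lit 3), (nat_lit 1), (nat_lit 0), (nat_lit 3), (nat_lit 1), (nat_lit 3)],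
  [(nat_lit 3), (nat_lit 1), (nat_lit 0), (nat_lit 3), (nat_lit 1), (nat_lit 0), (nat_lit 3)],
  [(nat_lit 1), (nat_lit 3), (nat_lit 1), (nat_lit 0)],
  [(nat_lit 0), (nat_lit 1), (nat_lit 0), (nat_lit 2), (nat_lit 3), (nat_lit 1), (nat_lit 0), (nat_lit 2), (nat_lit 3)],
  [(nat_lit 2), (nat_lit 1), (nat_lit 0), (nat_lit 3), (nat_lit 1), (nat_lit 0), (nat_lit 2), (nat_lit 3), (nat_lit 1)],
  [(nat_lit 0), (nat_lit 3), (nat_lit 1), (nat_lit 0), (nat_lit 2), (nat_lit 3), (nat_lit 1), (nat_lit 2)],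
  [(nat_lit 0), (nat_lit 1), (nat_lit 2), (nat_lit 3), (nat_lit 1), (nat_lit 2), (nat_lit 3)],
  [(nat_lit 2), (nat_lit 1), (nat_lit 0), (nat_lit 3), (nat_lit 1), (nat_lit 0), (nat_lit 3), (nat_lit 1)],
  [(nat_lit 0), (nat_lit 1), (nat_lit 0), (nat_lit 2), (nat_lit 3), (nat_lit 1), (nat_lit 0), (nat_lit 3)],
  [(nat_lit 1), (nat_lit 2), (nat_lit 3), (nat_lit 1), (nat_lit 0)],
  [(nat_lit 2), (nat_lit 1), (nat_lit 3), (nat_lit 1), (nat_lit 0), (nat_lit 3), (nat_lit 1), (nat_lit 3)],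
  [(nat_lit 0), (nat_lit 1), (nat_lit 2), (nat_lit 3), (nat_lit 1), (nat_lit 3)],
  [(nat_lit 0), (nat_lit 3), (nat_lit 1), (nat_lit 0), (nat_lit 3), (nat_lit 1), (nat_lit 2)],
  [(nat_lit 0), (nat_lit 2), (nat_lit 1), (nat_lit 0), (nat_lit 3), (nat_lit 1), (nat_lit 0), (nat_lit 3), (nat_lit 1), (nat_lit 0), (nat_lit 3)],
  [(nat_lit 1), (nat_lit 0), (nat_lit 2), (nat_lit 3), (nat_lit 1)],
  [(nat_lit 0), (nat_lit 3), (nat_lit 1), (nat_lit 0), (nat_lit 3), (nat_lit 1), (nat_lit 0)],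
  [(nat_lit 0), (nat_lit 1), (nat_lit 3), (nat_lit 1), (nat_lit 0), (nat_lit 3)],
  [(nat_lit 0), (nat_lit 1), (nat_lit 0), (nat_lit 3), (nat_lit 1), (nat_lit 3)],
  [(nat_lit 1), (nat_lit 1), (nat_lit 0), (nat_lit 1), (nat_lit 3), (nat_lit 1), (nat_lit 0), (nat_lit 3), (nat_lit 1)],
  [(nat_lit 3), (nat_lit 1), (nat_lit 0), (nat_lit 2), (nat_lit 3), (nat_lit 1), (nat_lit 2), (nat_lit 3)],
  [(nat_lit 1), (nat_lit 2), (nat_lit 3), (nat_lit 1), (nat_lit 2)],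
  [(nat_lit 1), (nat_lit 0), (nat_lit 2), (nat_lit 3), (nat_lit 1), (nat_lit 0), (nat_lit 2)],
  [(nat_lit 0), (nat_lit 2), (nat_lit 1), (nat_lit 0), (nat_lit 3), (nat_lit 1), (nat_lit 0), (nat_lit 2), (nat_lit 3), (nat_lit 1), (nat_lit 3)],
  [(nat_lit 2), (nat_lit 3), (nat_lit 1), (nat_lit 0), (nat_lit 2)],
  [(nat_lit 2), (nat_lit 3), (nat_lit 1), (nat_lit 2)],
  [(nat_lit 1), (nat_lit 0), (nat_lit 2), (nat_lit 3), (nat_lit 1), (nat_lit 0), (nat_lit 2), (nat_lit 3), (nat_lit 1), (nat_lit 3)],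
  [(nat_lit 1), (nat_lit 0), (nat_lit 1), (nat_lit 3), (nat_lit 1), (nat_lit 0), (nat_lit 2), (nat_lit 3), (nat_lit 1), (nat_lit 2), (nat_lit 3)],
  [(nat_lit 0), (nat_lit 1), (nat_lit 0), (nat_lit 3), (nat_lit 1), (nat_lit 1), (nat_lit 3)],
  [(nat_lit 1), (nat_lit 0), (nat_lit 1), (nat_lit 1), (nat_lit 3), (nat_lit 1), (nat_lit 1), (nat_lit 0), (nat_lit 3), (nat_lit 1)],
  [(nat_lit 0), (nat_lit 1), (nat_lit 1), (nat_lit 3), (nat_lit 1), (nat_lit 0), (nat_lit 1), (nat_lit 3), (nat_lit 1), (nat_lit 1)],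
  [(nat_lit 0), (nat_lit 1), (nat_lit 3), (nat_lit 1), (nat_lit 0), (nat_lit 1), (nat_lit 3)],
  [(nat_lit 1), (nat_lit 0), (nat_lit 2), (nat_lit 1), (nat_lit 3), (nat_lit 1), (nat_lit 0), (nat_lit 2)],
  [(nat_lit 1), (nat_lit 0), (nat_lit 2), (nat_lit 1), (nat_lit 3), (nat_lit 1), (nat_lit 2)],
  [(nat_lit 1), (nat_lit 2), (nat_lit 3), (nat_lit 1), (nat_lit 0), (nat_lit 2), (nat_lit 3), (nat_lit 1), (nat_lit 3)],
  [(nat_lit 1), (nat_lit 1), (nat_lit 3), (nat_lit 1), (nat_lit 0), (nat_lit 2), (nat_lit 3), (nat_lit 1), (nat_lit 2), (nat_lit 3)],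
  [(nat_lit 0), (nat_lit 1), (nat_lit 3), (nat_lit 1), (nat_lit 1), (nat_lit 3)],
  [(nat_lit 3), (nat_lit 1), (nat_lit 1), (nat_lit 0), (nat_lit 3), (nat_lit 1)],
  [(nat_lit 3), (nat_lit 1), (nat_lit 1), (nat_lit 0), (nat_lit 3), (nat_lit 1), (nat_lit 0)],
  [(nat_lit 0), (nat_lit 1), (nat_lit 3), (nat_lit 1), (nat_lit 1), (nat_lit 0), (nat_lit 3)],
  [(nat_lit 2), (nat_lit 3), (nat_lit 1)],
  [(nat_lit 2), (nat_lit 3), (nat_lit 1), (nat_lit 0)],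
  [(nat_lit 1), (nat_lit 0), (nat_lit 1), (nat_lit 3), (nat_lit 1), (nat_lit 0), (nat_lit 3), (nat_lit 1), (nat_lit 2), (nat_lit 3)],
  [(nat_lit 1), (nat_lit 0), (nat_lit 2), (nat_lit 3), (nat_lit 1), (nat_lit 0), (nat_lit 3), (nat_lit 1), (nat_lit 3)],
  [(nat_lit 0), (nat_lit 1), (nat_lit 2), (nat_lit 3), (nat_lit 1), (nat_lit 0), (nat_lit 1), (nat_lit 3)],
  [(nat_lit 0), (nat_lit 2), (nat_lit 1), (nat_lit 3), (nat_lit 1), (nat_lit 0), (nat_lit 1), (nat_lit 3), (nat_lit 1)],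
  [(nat_lit 0), (nat_lit 2), (nat_lit 1), (nat_lit 3), (nat_lit 1), (nat_lit 0), (nat_lit 1), (nat_lit 3), (nat_lit 1), (nat_lit 0)],
  [(nat_lit 0), (nat_lit 1), (nat_lit 0), (nat_lit 2), (nat_lit 3), (nat_lit 1), (nat_lit 1), (nat_lit 3)],
  [(nat_lit 1), (nat_lit 0), (nat_lit 2), (nat_lit 1), (nat_lit 3), (nat_lit 1)],
  [(nat_lit 1), (nat_lit 0), (nat_lit 2), (nat_lit 1), (nat_lit 3), (nat_lit 1), (nat_lit 0)],
  [(nat_lit 1), (nat_lit 1), (nat_lit 3), (nat_lit 1), (nat_lit 0), (nat_lit 3), (nat_lit 1), (nat_lit 2), (nat_lit 3)],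
  [(nat_lit 1), (nat_lit 2), (nat_lit 3), (nat_lit 1), (nat_lit 0), (nat_lit 3), (nat_lit 1), (nat_lit 3)],
  [(nat_lit 0), (nat_lit 1), (nat_lit 2), (nat_lit 3), (nat_lit 1), (nat_lit 1), (nat_lit 0), (nat_lit 3)],
  [(nat_lit 2), (nat_lit 1), (nat_lit 3), (nat_lit 1), (nat_lit 1), (nat_lit 0), (nat_lit 3), (nat_lit 1)],
  [(nat_lit 3), (nat_lit 1), (nat_lit 1), (nat_lit 0), (nat_lit 3), (nat_lit 1), (nat_lit 2)],
  [(nat_lit 0), (nat_lit 1), (nat_lit 2), (nat_lit 3), (nat_lit 1), (nat_lit 1), (nat_lit 3)],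
  [(nat_lit 0), (nat_lit 2), (nat_lit 1), (nat_lit 3), (nat_lit 1), (nat_lit 0), (nat_lit 2), (nat_lit 1), (nat_lit 3), (nat_lit 1)],
  [(nat_lit 0), (nat_lit 1), (nat_lit 2), (nat_lit 3), (nat_lit 1), (nat_lit 0), (nat_lit 2), (nat_lit 1), (nat_lit 3)],
  [(nat_lit 0), (nat_lit 1), (nat_lit 0), (nat_lit 2), (nat_lit 3), (nat_lit 2), (nat_lit 3)],
  [(nat_lit 0), (nat_lit 3), (nat_lit 1), (nat_lit 0), (nat_lit 2), (nat_lit 1), (nat_lit 3), (nat_lit 1), (nat_lit 0), (nat_lit 2)],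
  [(nat_lit 1), (nat_lit 0), (nat_lit 3), (nat_lit 1), (nat_lit 0), (nat_lit 3), (nat_lit 1), (nat_lit 3)],
  [(nat_lit 1), (nat_lit 0), (nat_lit 1), (nat_lit 3), (nat_lit 1), (nat_lit 0)],
  [(nat_lit 3), (nat_lit 1), (nat_lit 0), (nat_lit 3), (nat_lit 1), (nat_lit 1), (nat_lit 3)],
  [(nat_lit 1), (nat_lit 1), (nat_lit 3), (nat_lit 1)],
  [(nat_lit 1), (nat_lit 1), (nat_lit 0), (nat_lit 3), (nat_lit 1), (nat_lit 0), (nat_lit 2), (nat_lit 1), (nat_lit 3), (nat_lit 1), (nat_lit 1)],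
  [(nat_lit 0), (nat_lit 1), (nat_lit 0), (nat_lit 3), (nat_lit 1), (nat_lit 0), (nat_lit 2), (nat_lit 1), (nat_lit 3)],
  [(nat_lit 0), (nat_lit 1), (nat_lit 3), (nat_lit 2), (nat_lit 3)],
  [(nat_lit 0), (nat_lit 3), (nat_lit 1), (nat_lit 0), (nat_lit 2), (nat_lit 1), (nat_lit 3), (nat_lit 1)],
  [(nat_lit 1), (nat_lit 0), (nat_lit 3), (nat_lit 1), (nat_lit 0), (nat_lit 2), (nat_lit 3), (nat_lit 1), (nat_lit 0), (nat_lit 3)],
  [(nat_lit 1), (nat_lit 0), (nat_lit 1), (nat_lit 3), (nat_lit 1), (nat_lit 2)],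
  [(nat_lit 1), (nat_lit 3), (nat_lit 1), (nat_lit 0), (nat_lit 2), (nat_lit 3), (nat_lit 1), (nat_lit 3)],
  [(nat_lit 1), (nat_lit 1), (nat_lit 3), (nat_lit 1), (nat_lit 0), (nat_lit 2)],
  [(nat_lit 0), (nat_lit 1), (nat_lit 1), (nat_lit 3), (nat_lit 1), (nat_lit 0), (nat_lit 2), (nat_lit 1), (nat_lit 3), (nat_lit 1), (nat_lit 1)],
  [(nat_lit 0), (nat_lit 1), (nat_lit 3), (nat_lit 1), (nat_lit 0), (nat_lit 2), (nat_lit 1), (nat_lit 3)],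
  [(nat_lit 0), (nat_lit 1), (nat_lit 0), (nat_lit 3), (nat_lit 2), (nat_lit 3)],
  [(nat_lit 0), (nat_lit 3), (nat_lit 1), (nat_lit 0), (nat_lit 2), (nat_lit 1), (nat_lit 3), (nat_lit 1), (nat_lit 0)],
  [(nat_lit 3), (nat_lit 1), (nat_lit 0), (nat_lit 2), (nat_lit 3), (nat_lit 1), (nat_lit 1), (nat_lit 3)],
  [(nat_lit 1), (nat_lit 1), (nat_lit 3), (nat_lit 1), (nat_lit 2)],
  [(nat_lit 1), (nat_lit 0), (nat_lit 3), (nat_lit 1), (nat_lit 0), (nat_lit 2), (nat_lit 3), (nat_lit 1), (nat_lit 3)],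
  [(nat_lit 1), (nat_lit 0), (nat_lit 1), (nat_lit 3), (nat_lit 1), (nat_lit 0), (nat_lit 2)],
  [(nat_lit 2), (nat_lit 1), (nat_lit 0), (nat_lit 3), (nat_lit 1), (nat_lit 0), (nat_lit 2), (nat_lit 1), (nat_lit 3), (nat_lit 1)],
  [(nat_lit 0), (nat_lit 1), (nat_lit 0), (nat_lit 2), (nat_lit 3), (nat_lit 1), (nat_lit 0), (nat_lit 2), (nat_lit 1), (nat_lit 3)],
  [(nat_lit 0), (nat_lit 1), (nat_lit 2), (nat_lit 3), (nat_lit 2), (nat_lit 3)],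
  [(nat_lit 0), (nat_lit 3), (nat_lit 1), (nat_lit 0), (nat_lit 2), (nat_lit 1), (nat_lit 3), (nat_lit 1), (nat_lit 2)],
  [(nat_lit 1), (nat_lit 3), (nat_lit 1), (nat_lit 0), (nat_lit 3), (nat_lit 1), (nat_lit 3)],
  [(nat_lit 1), (nat_lit 1), (nat_lit 3), (nat_lit 1), (nat_lit 0)],
  [(nat_lit 1), (nat_lit 0), (nat_lit 3), (nat_lit 1), (nat_lit 0), (nat_lit 3), (nat_lit 1), (nat_lit 0), (nat_lit 3)],
  [(nat_lit 1), (nat_lit 0), (nat_lit 1), (nat_lit 3), (nat_lit 1)],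
  [(nat_lit 0), (nat_lit 1), (nat_lit 0), (nat_lit 2), (nat_lit 3), (nat_lit 1), (nat_lit 0), (nat_lit 2), (nat_lit 3), (nat_lit 1)],
  [(nat_lit 1), (nat_lit 1), (nat_lit 0), (nat_lit 3), (nat_lit 1), (nat_lit 0), (nat_lit 2), (nat_lit 3), (nat_lit 1), (nat_lit 2)],
  [(nat_lit 0), (nat_lit 2), (nat_lit 3), (nat_lit 1), (nat_lit 0), (nat_lit 2), (nat_lit 3)],
  [(nat_lit 0), (nat_lit 2), (nat_lit 3), (nat_lit 1), (nat_lit 2), (nat_lit 3)],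
  [(nat_lit 3), (nat_lit 1), (nat_lit 0), (nat_lit 3), (nat_lit 1), (nat_lit 0), (nat_lit 3), (nat_lit 1)],
  [(nat_lit 1), (nat_lit 3), (nat_lit 1), (nat_lit 0), (nat_lit 1)],
  [(nat_lit 1), (nat_lit 0), (nat_lit 3), (nat_lit 1), (nat_lit 1)],
  [(nat_lit 3), (nat_lit 1), (nat_lit 0), (nat_lit 3), (nat_lit 1), (nat_lit 0), (nat_lit 3), (nat_lit 1), (nat_lit 0)],
  [(nat_lit 0), (nat_lit 1), (nat_lit 2), (nat_lit 3), (nat_lit 1), (nat_lit 0), (nat_lit 2), (nat_lit 3), (nat_lit 1)],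
  [(nat_lit 0), (nat_lit 1), (nat_lit 1), (nat_lit 3), (nat_lit 1), (nat_lit 0), (nat_lit 2), (nat_lit 3), (nat_lit 1), (nat_lit 2)],
  [(nat_lit 0), (nat_lit 1), (nat_lit 0), (nat_lit 2), (nat_lit 1), (nat_lit 3), (nat_lit 1), (nat_lit 0), (nat_lit 2), (nat_lit 3)],
  [(nat_lit 0), (nat_lit 1), (nat_lit 0), (nat_lit 2), (nat_lit 1), (nat_lit 3), (nat_lit 1), (nat_lit 2), (nat_lit 3)],
  [(nat_lit 3), (nat_lit 1), (nat_lit 0), (nat_lit 1), (nat_lit 3), (nat_lit 1), (nat_lit 0), (nat_lit 3)],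
  [(nat_lit 1), (nat_lit 3), (nat_lit 1), (nat_lit 1), (nat_lit 0)],
  [(nat_lit 1), (nat_lit 3), (nat_lit 1), (nat_lit 1)],
  [(nat_lit 3), (nat_lit 1), (nat_lit 0), (nat_lit 1), (nat_lit 3), (nat_lit 1), (nat_lit 3)],
  [(nat_lit 0), (nat_lit 1), (nat_lit 0), (nat_lit 2), (nat_lit 1), (nat_lit 3), (nat_lit 1), (nat_lit 0), (nat_lit 3)],
  [(nat_lit 0), (nat_lit 1), (nat_lit 0), (nat_lit 2), (nat_lit 1), (nat_lit 3), (nat_lit 1), (nat_lit 3)],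
  [(nat_lit 0), (nat_lit 1), (nat_lit 2), (nat_lit 3), (nat_lit 1), (nat_lit 0), (nat_lit 3), (nat_lit 1)],
  [(nat_lit 0), (nat_lit 1), (nat_lit 1), (nat_lit 3), (nat_lit 1), (nat_lit 0), (nat_lit 3), (nat_lit 1), (nat_lit 2)],
  [(nat_lit 3), (nat_lit 1), (nat_lit 0), (nat_lit 1), (nat_lit 3), (nat_lit 1), (nat_lit 0), (nat_lit 2), (nat_lit 3)],
  [(nat_lit 1), (nat_lit 2), (nat_lit 3), (nat_lit 1), (nat_lit 1), (nat_lit 0)],
  [(nat_lit 1), (nat_lit 2), (nat_lit 3), (nat_lit 1), (nat_lit 1)],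
  [(nat_lit 3), (nat_lit 1), (nat_lit 0), (nat_lit 1), (nat_lit 3), (nat_lit 1), (nat_lit 2), (nat_lit 3)],
  [(nat_lit 1), (nat_lit 0), (nat_lit 2), (nat_lit 3), (nat_lit 2)],
  [(nat_lit 3), (nat_lit 1), (nat_lit 0), (nat_lit 2), (nat_lit 1), (nat_lit 3), (nat_lit 1), (nat_lit 0), (nat_lit 2), (nat_lit 3)],
  [(nat_lit 2), (nat_lit 1), (nat_lit 3), (nat_lit 1), (nat_lit 0), (nat_lit 2), (nat_lit 1), (nat_lit 3), (nat_lit 1), (nat_lit 3)],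
  [(nat_lit 1), (nat_lit 2), (nat_lit 3), (nat_lit 1), (nat_lit 0), (nat_lit 2), (nat_lit 1)],
  [(nat_lit 0), (nat_lit 3), (nat_lit 1), (nat_lit 0), (nat_lit 3), (nat_lit 1), (nat_lit 1)],
  [(nat_lit 0), (nat_lit 1), (nat_lit 1), (nat_lit 3), (nat_lit 1), (nat_lit 3)],
  [(nat_lit 0), (nat_lit 1), (nat_lit 0), (nat_lit 3), (nat_lit 1), (nat_lit 0), (nat_lit 3), (nat_lit 1)],
  [(nat_lit 1), (nat_lit 1), (nat_lit 0), (nat_lit 3), (nat_lit 1), (nat_lit 0), (nat_lit 3)],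
  [(nat_lit 0), (nat_lit 2), (nat_lit 3), (nat_lit 1), (nat_lit 0), (nat_lit 3)],
  [(nat_lit 0), (nat_lit 2), (nat_lit 3), (nat_lit 1), (nat_lit 3)],
  [(nat_lit 0), (nat_lit 1), (nat_lit 0), (nat_lit 2), (nat_lit 3), (nat_lit 1), (nat_lit 0), (nat_lit 3), (nat_lit 1)],
  [(nat_lit 1), (nat_lit 1), (nat_lit 0), (nat_lit 3), (nat_lit 1), (nat_lit 0), (nat_lit 3), (nat_lit 1), (nat_lit 2)],
  [(nat_lit 2), (nat_lit 1), (nat_lit 3), (nat_lit 1), (nat_lit 0), (nat_lit 1), (nat_lit 3), (nat_lit 1), (nat_lit 3)],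
  [(nat_lit 1), (nat_lit 2), (nat_lit 3), (nat_lit 1), (nat_lit 0), (nat_lit 1)],
  [(nat_lit 1), (nat_lit 0), (nat_lit 2), (nat_lit 3), (nat_lit 1), (nat_lit 1)],
  [(nat_lit 2), (nat_lit 1), (nat_lit 3), (nat_lit 1), (nat_lit 0), (nat_lit 1), (nat_lit 3), (nat_lit 1), (nat_lit 0), (nat_lit 3)],
  [(nat_lit 1), (nat_lit 3), (nat_lit 1), (nat_lit 0), (nat_lit 2), (nat_lit 1)],
  [(nat_lit 3), (nat_lit 1), (nat_lit 0), (nat_lit 2), (nat_lit 3), (nat_lit 1), (nat_lit 0), (nat_lit 3), (nat_lit 1)],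
  [(nat_lit 3), (nat_lit 1), (nat_lit 0), (nat_lit 2), (nat_lit 1), (nat_lit 3), (nat_lit 1), (nat_lit 0), (nat_lit 3)],
  [(nat_lit 1), (nat_lit 0), (nat_lit 3), (nat_lit 2)],
  [(nat_lit 0), (nat_lit 1), (nat_lit 1), (nat_lit 3), (nat_lit 1), (nat_lit 2), (nat_lit 3)],
  [(nat_lit 0), (nat_lit 3), (nat_lit 1), (nat_lit 0), (nat_lit 2), (nat_lit 3), (nat_lit 1), (nat_lit 1)],
  [(nat_lit 1), (nat_lit 1), (nat_lit 0), (nat_lit 3), (nat_lit 1), (nat_lit 0), (nat_lit 2), (nat_lit 3)],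
  [(nat_lit 0), (nat_lit 1), (nat_lit 0), (nat_lit 3), (nat_lit 1), (nat_lit 0), (nat_lit 2), (nat_lit 3), (nat_lit 1)],
  [(nat_lit 1), (nat_lit 2), (nat_lit 3), (nat_lit 2)],
  [(nat_lit 3), (nat_lit 1), (nat_lit 0), (nat_lit 2), (nat_lit 1), (nat_lit 3), (nat_lit 1), (nat_lit 2), (nat_lit 3)],
  [(nat_lit 2), (nat_lit 1), (nat_lit 3), (nat_lit 1), (nat_lit 0), (nat_lit 2), (nat_lit 1), (nat_lit 3), (nat_lit 1), (nat_lit 0), (nat_lit 3)],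
  [(nat_lit 1), (nat_lit 0), (nat_lit 2), (nat_lit 3), (nat_lit 1), (nat_lit 0), (nat_lit 2), (nat_lit 1)],
  [(nat_lit 0), (nat_lit 1), (nat_lit 0), (nat_lit 3), (nat_lit 1), (nat_lit 0), (nat_lit 3), (nat_lit 1), (nat_lit 0)],
  [(nat_lit 1), (nat_lit 1), (nat_lit 0), (nat_lit 3), (nat_lit 1), (nat_lit 3)],
  [(nat_lit 0), (nat_lit 1), (nat_lit 3), (nat_lit 1), (nat_lit 0), (nat_lit 3), (nat_lit 1)],
  [(nat_lit 0), (nat_lit 1), (nat_lit 1), (nat_lit 3), (nat_lit 1), (nat_lit 0), (nat_lit 3)],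
  [(nat_lit 1), (nat_lit 0), (nat_lit 3), (nat_lit 1), (nat_lit 0), (nat_lit 2), (nat_lit 1)],
  [(nat_lit 3), (nat_lit 1), (nat_lit 0), (nat_lit 1), (nat_lit 3), (nat_lit 1), (nat_lit 0), (nat_lit 3), (nat_lit 1), (nat_lit 2)],
  [(nat_lit 3), (nat_lit 1), (nat_lit 0), (nat_lit 2), (nat_lit 1), (nat_lit 3), (nat_lit 1), (nat_lit 3)],
  [(nat_lit 1), (nat_lit 3), (nat_lit 2)],
  [(nat_lit 1), (nat_lit 1), (nat_lit 0), (nat_lit 3), (nat_lit 1), (nat_lit 2), (nat_lit 3)],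
  [(nat_lit 0), (nat_lit 1), (nat_lit 0), (nat_lit 3), (nat_lit 1), (nat_lit 0), (nat_lit 2), (nat_lit 3), (nat_lit 1), (nat_lit 0)],
  [(nat_lit 0), (nat_lit 1), (nat_lit 1), (nat_lit 3), (nat_lit 1), (nat_lit 0), (nat_lit 2), (nat_lit 3)],
  [(nat_lit 0), (nat_lit 1), (nat_lit 3), (nat_lit 1), (nat_lit 0), (nat_lit 2), (nat_lit 3), (nat_lit 1)],
  [(nat_lit 0), (nat_lit 1), (nat_lit 2), (nat_lit 3), (nat_lit 1), (nat_lit 1), (nat_lit 0), (nat_lit 3), (nat_lit 1)],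
  [(nat_lit 1), (nat_lit 1), (nat_lit 3), (nat_lit 1), (nat_lit 1), (nat_lit 0), (nat_lit 3), (nat_lit 1), (nat_lit 2)],
  [(nat_lit 1), (nat_lit 1), (nat_lit 3), (nat_lit 1), (nat_lit 0), (nat_lit 1), (nat_lit 3), (nat_lit 1), (nat_lit 2), (nat_lit 3)],
  [(nat_lit 1), (nat_lit 2), (nat_lit 3), (nat_lit 1), (nat_lit 0), (nat_lit 1), (nat_lit 3), (nat_lit 1), (nat_lit 3)],
  [(nat_lit 2), (nat_lit 3), (nat_lit 1), (nat_lit 1), (nat_lit 0), (nat_lit 3)],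
  [(nat_lit 0), (nat_lit 2), (nat_lit 3), (nat_lit 1), (nat_lit 1), (nat_lit 3)],
  [(nat_lit 1), (nat_lit 0), (nat_lit 2), (nat_lit 1), (nat_lit 3), (nat_lit 1), (nat_lit 1)],
  [(nat_lit 1), (nat_lit 0), (nat_lit 2), (nat_lit 1), (nat_lit 3), (nat_lit 1), (nat_lit 0), (nat_lit 1)],
  [(nat_lit 0), (nat_lit 1), (nat_lit 2), (nat_lit 3), (nat_lit 1), (nat_lit 0), (nat_lit 1), (nat_lit 3), (nat_lit 1)],
  [(nat_lit 1), (nat_lit 2), (nat_lit 3), (nat_lit 1), (nat_lit 0), (nat_lit 1), (nat_lit 3), (nat_lit 1), (nat_lit 0)],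
  [(nat_lit 3), (nat_lit 1), (nat_lit 0), (nat_lit 1), (nat_lit 3), (nat_lit 1), (nat_lit 0), (nat_lit 2), (nat_lit 1), (nat_lit 3)],
  [(nat_lit 1), (nat_lit 2), (nat_lit 3), (nat_lit 1), (nat_lit 1), (nat_lit 0), (nat_lit 3), (nat_lit 1), (nat_lit 3)],
  [(nat_lit 1), (nat_lit 0), (nat_lit 2), (nat_lit 1), (nat_lit 3), (nat_lit 1), (nat_lit 1), (nat_lit 0), (nat_lit 3)],
  [(nat_lit 0), (nat_lit 1), (nat_lit 0), (nat_lit 2), (nat_lit 1), (nat_lit 3), (nat_lit 1), (nat_lit 1), (nat_lit 3)],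
  [(nat_lit 2), (nat_lit 3), (nat_lit 1), (nat_lit 1)],
  [(nat_lit 2), (nat_lit 3), (nat_lit 1), (nat_lit 0), (nat_lit 1)],
  [(nat_lit 1), (nat_lit 0), (nat_lit 1), (nat_lit 3), (nat_lit 2)],
  [(nat_lit 3), (nat_lit 1), (nat_lit 0), (nat_lit 2), (nat_lit 1), (nat_lit 3), (nat_lit 1), (nat_lit 0), (nat_lit 1), (nat_lit 3)],
  [(nat_lit 0), (nat_lit 3), (nat_lit 1), (nat_lit 0), (nat_lit 2), (nat_lit 1), (nat_lit 3), (nat_lit 1), (nat_lit 1)],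
  [(nat_lit 0), (nat_lit 1), (nat_lit 1), (nat_lit 3), (nat_lit 2), (nat_lit 3)],
  [(nat_lit 1), (nat_lit 1), (nat_lit 3), (nat_lit 1), (nat_lit 0), (nat_lit 2), (nat_lit 1)],
  [(nat_lit 1), (nat_lit 3), (nat_lit 1), (nat_lit 0), (nat_lit 2), (nat_lit 1), (nat_lit 3), (nat_lit 1), (nat_lit 3)],
  [(nat_lit 1), (nat_lit 3), (nat_lit 1), (nat_lit 0), (nat_lit 2), (nat_lit 1), (nat_lit 3), (nat_lit 1), (nat_lit 0)],
  [(nat_lit 1), (nat_lit 1), (nat_lit 0), (nat_lit 3), (nat_lit 1), (nat_lit 0), (nat_lit 2), (nat_lit 1), (nat_lit 3)],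
  [(nat_lit 0), (nat_lit 1), (nat_lit 0), (nat_lit 2), (nat_lit 1), (nat_lit 3), (nat_lit 1), (nat_lit 0), (nat_lit 2), (nat_lit 1), (nat_lit 3)],
  [(nat_lit 0), (nat_lit 1), (nat_lit 0), (nat_lit 2), (nat_lit 1), (nat_lit 3), (nat_lit 2), (nat_lit 3)],
  [(nat_lit 0), (nat_lit 1), (nat_lit 2), (nat_lit 3), (nat_lit 1), (nat_lit 0), (nat_lit 2), (nat_lit 1), (nat_lit 3), (nat_lit 1)],
  [(nat_lit 0), (nat_lit 1), (nat_lit 1), (nat_lit 3), (nat_lit 1), (nat_lit 0), (nat_lit 2), (nat_lit 1), (nat_lit 3), (nat_lit 1), (nat_lit 2)],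
  [(nat_lit 0), (nat_lit 1), (nat_lit 1), (nat_lit 3), (nat_lit 1), (nat_lit 1), (nat_lit 0)],
  [(nat_lit 1), (nat_lit 3), (nat_lit 1), (nat_lit 1), (nat_lit 0), (nat_lit 3), (nat_lit 1), (nat_lit 3)],
  [(nat_lit 1), (nat_lit 1), (nat_lit 3), (nat_lit 1), (nat_lit 1)],
  [(nat_lit 3), (nat_lit 1), (nat_lit 0), (nat_lit 1), (nat_lit 3), (nat_lit 1), (nat_lit 1), (nat_lit 3)],
  [(nat_lit 1), (nat_lit 1), (nat_lit 3), (nat_lit 2)],
  [(nat_lit 3), (nat_lit 1), (nat_lit 0), (nat_lit 2), (nat_lit 1), (nat_lit 3), (nat_lit 1), (nat_lit 1), (nat_lit 3)],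
  [(nat_lit 3), (nat_lit 1), (nat_lit 0), (nat_lit 2), (nat_lit 1), (nat_lit 3), (nat_lit 1), (nat_lit 1), (nat_lit 0)],
  [(nat_lit 1), (nat_lit 1), (nat_lit 0), (nat_lit 3), (nat_lit 2), (nat_lit 3)],
  [(nat_lit 1), (nat_lit 0), (nat_lit 1), (nat_lit 3), (nat_lit 1), (nat_lit 0), (nat_lit 2), (nat_lit 1)],
  [(nat_lit 1), (nat_lit 0), (nat_lit 3), (nat_lit 1), (nat_lit 0), (nat_lit 2), (nat_lit 1), (nat_lit 3), (nat_lit 1), (nat_lit 3)],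
  [(nat_lit 0), (nat_lit 1), (nat_lit 3), (nat_lit 1), (nat_lit 0), (nat_lit 2), (nat_lit 1), (nat_lit 3), (nat_lit 1)],
  [(nat_lit 0), (nat_lit 1), (nat_lit 1), (nat_lit 3), (nat_lit 1), (nat_lit 0), (nat_lit 2), (nat_lit 1), (nat_lit 3)],
  [(nat_lit 1), (nat_lit 2), (nat_lit 3), (nat_lit 1), (nat_lit 0), (nat_lit 2), (nat_lit 1), (nat_lit 3), (nat_lit 1), (nat_lit 3)],
  [(nat_lit 1), (nat_lit 1), (nat_lit 3), (nat_lit 1), (nat_lit 0), (nat_lit 2), (nat_lit 1), (nat_lit 3), (nat_lit 1), (nat_lit 2), (nat_lit 3)],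
  [(nat_lit 1), (nat_lit 0), (nat_lit 2), (nat_lit 1), (nat_lit 3), (nat_lit 1), (nat_lit 0), (nat_lit 2), (nat_lit 1)],
  [(nat_lit 1), (nat_lit 0), (nat_lit 2), (nat_lit 1), (nat_lit 3), (nat_lit 2)],
  [(nat_lit 0), (nat_lit 1), (nat_lit 1), (nat_lit 3), (nat_lit 1), (nat_lit 1), (nat_lit 3)],
  [(nat_lit 3), (nat_lit 1), (nat_lit 1), (nat_lit 0), (nat_lit 3), (nat_lit 1), (nat_lit 1)],
  [(nat_lit 1), (nat_lit 1), (nat_lit 3), (nat_lit 1), (nat_lit 1), (nat_lit 0), (nat_lit 3)],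
  [(nat_lit 0), (nat_lit 1), (nat_lit 3), (nat_lit 1), (nat_lit 1), (nat_lit 0), (nat_lit 3), (nat_lit 1)],
  [(nat_lit 0), (nat_lit 2), (nat_lit 3), (nat_lit 1), (nat_lit 0), (nat_lit 2), (nat_lit 1), (nat_lit 3)],
  [(nat_lit 0), (nat_lit 2), (nat_lit 3), (nat_lit 2), (nat_lit 3)],
  [(nat_lit 0), (nat_lit 1), (nat_lit 0), (nat_lit 2), (nat_lit 3), (nat_lit 1), (nat_lit 0), (nat_lit 2), (nat_lit 1), (nat_lit 3), (nat_lit 1)],
  [(nat_lit 1), (nat_lit 1), (nat_lit 0), (nat_lit 3), (nat_lit 1), (nat_lit 0), (nat_lit 2), (nat_lit 1), (nat_lit 3), (nat_lit 1), (nat_lit 2)],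
  [(nat_lit 1), (nat_lit 1), (nat_lit 3), (nat_lit 1), (nat_lit 0), (nat_lit 1)],
  [(nat_lit 1), (nat_lit 3), (nat_lit 1), (nat_lit 0), (nat_lit 1), (nat_lit 3), (nat_lit 1), (nat_lit 3)],
  [(nat_lit 1), (nat_lit 0), (nat_lit 1), (nat_lit 3), (nat_lit 1), (nat_lit 1)],
  [(nat_lit 0), (nat_lit 1), (nat_lit 3), (nat_lit 1), (nat_lit 0), (nat_lit 1), (nat_lit 3), (nat_lit 1), (nat_lit 0), (nat_lit 3)],
  [(nat_lit 1), (nat_lit 0), (nat_lit 2), (nat_lit 3), (nat_lit 1), (nat_lit 0), (nat_lit 2), (nat_lit 1), (nat_lit 3), (nat_lit 1), (nat_lit 3)],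
  [(nat_lit 1), (nat_lit 0), (nat_lit 1), (nat_lit 3), (nat_lit 1), (nat_lit 0), (nat_lit 2), (nat_lit 1), (nat_lit 3), (nat_lit 1), (nat_lit 2), (nat_lit 3)],
  [(nat_lit 2), (nat_lit 3), (nat_lit 1), (nat_lit 0), (nat_lit 2), (nat_lit 1)],
  [(nat_lit 2), (nat_lit 3), (nat_lit 2)],
  [(nat_lit 1), (nat_lit 1), (nat_lit 0), (nat_lit 3), (nat_lit 1), (nat_lit 1), (nat_lit 3)],
  [(nat_lit 1), (nat_lit 3), (nat_lit 1), (nat_lit 0), (nat_lit 1), (nat_lit 3), (nat_lit 1), (nat_lit 0)],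
  [(nat_lit 0), (nat_lit 1), (nat_lit 1), (nat_lit 3), (nat_lit 1), (nat_lit 0), (nat_lit 1), (nat_lit 3)],
  [(nat_lit 0), (nat_lit 1), (nat_lit 3), (nat_lit 1), (nat_lit 0), (nat_lit 1), (nat_lit 3), (nat_lit 1)],
  [(nat_lit 0), (nat_lit 3), (nat_lit 1), (nat_lit 0), (nat_lit 2), (nat_lit 3), (nat_lit 1), (nat_lit 0), (nat_lit 3)],
  [(nat_lit 0), (nat_lit 1), (nat_lit 3), (nat_lit 1), (nat_lit 0), (nat_lit 2)],
  [(nat_lit 1), (nat_lit 0), (nat_lit 3), (nat_lit 1), (nat_lit 0), (nat_lit 2), (nat_lit 3)],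
  [(nat_lit 1), (nat_lit 0), (nat_lit 1), (nat_lit 3), (nat_lit 1), (nat_lit 0), (nat_lit 2), (nat_lit 3), (nat_lit 1), (nat_lit 1)],
  [(nat_lit 0), (nat_lit 1), (nat_lit 0), (nat_lit 3), (nat_lit 1), (nat_lit 2)],
  [(nat_lit 3), (nat_lit 2), (nat_lit 1), (nat_lit 0), (nat_lit 3), (nat_lit 1), (nat_lit 0), (nat_lit 3), (nat_lit 1), (nat_lit 0)],
  [(nat_lit 3), (nat_lit 1), (nat_lit 0), (nat_lit 2), (nat_lit 3), (nat_lit 1)],
  [(nat_lit 1), (nat_lit 3), (nat_lit 1), (nat_lit 2), (nat_lit 3)],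
  [(nat_lit 3), (nat_lit 2), (nat_lit 1), (nat_lit 0), (nat_lit 3), (nat_lit 1), (nat_lit 0), (nat_lit 3), (nat_lit 1)],
  [(nat_lit 0), (nat_lit 1), (nat_lit 0), (nat_lit 3), (nat_lit 1), (nat_lit 0), (nat_lit 2)],
  [(nat_lit 1), (nat_lit 3), (nat_lit 1), (nat_lit 0), (nat_lit 2), (nat_lit 3)],
  [(nat_lit 3), (nat_lit 1), (nat_lit 0), (nat_lit 2), (nat_lit 3), (nat_lit 1), (nat_lit 0)],
  [(nat_lit 0), (nat_lit 1), (nat_lit 3), (nat_lit 1), (nat_lit 2)],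
  [(nat_lit 0), (nat_lit 3), (nat_lit 1), (nat_lit 0), (nat_lit 2), (nat_lit 3), (nat_lit 1), (nat_lit 3)],
  [(nat_lit 1), (nat_lit 0), (nat_lit 1), (nat_lit 1), (nat_lit 3), (nat_lit 1), (nat_lit 0), (nat_lit 2), (nat_lit 3), (nat_lit 1)],
  [(nat_lit 1), (nat_lit 0), (nat_lit 3), (nat_lit 1), (nat_lit 2), (nat_lit 3)],
  [(nat_lit 0), (nat_lit 1), (nat_lit 3), (nat_lit 1), (nat_lit 0)],
  [(nat_lit 0), (nat_lit 3), (nat_lit 1), (nat_lit 0), (nat_lit 3), (nat_lit 1), (nat_lit 0), (nat_lit 3)],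
  [(nat_lit 1), (nat_lit 1), (nat_lit 0), (nat_lit 1), (nat_lit 3), (nat_lit 1), (nat_lit 0), (nat_lit 3), (nat_lit 1), (nat_lit 3)],
  [(nat_lit 0), (nat_lit 1), (nat_lit 0), (nat_lit 3), (nat_lit 1)],
  [(nat_lit 1), (nat_lit 2), (nat_lit 3), (nat_lit 1), (nat_lit 2), (nat_lit 3)],
  [(nat_lit 3), (nat_lit 1), (nat_lit 0), (nat_lit 2), (nat_lit 3), (nat_lit 1), (nat_lit 2)],
  [(nat_lit 0), (nat_lit 2), (nat_lit 1), (nat_lit 0), (nat_lit 3), (nat_lit 1), (nat_lit 0), (nat_lit 2), (nat_lit 3), (nat_lit 1)],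
  [(nat_lit 1), (nat_lit 0), (nat_lit 2), (nat_lit 3), (nat_lit 1), (nat_lit 0), (nat_lit 2), (nat_lit 3)],
  [(nat_lit 1), (nat_lit 0), (nat_lit 1), (nat_lit 1), (nat_lit 3), (nat_lit 1), (nat_lit 0), (nat_lit 3), (nat_lit 1)],
  [(nat_lit 1), (nat_lit 0), (nat_lit 3), (nat_lit 1), (nat_lit 3)],
  [(nat_lit 1), (nat_lit 3), (nat_lit 1), (nat_lit 0), (nat_lit 3)],
  [(nat_lit 3), (nat_lit 1), (nat_lit 0), (nat_lit 3), (nat_lit 1), (nat_lit 0)],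
  [(nat_lit 2), (nat_lit 1), (nat_lit 0), (nat_lit 3), (nat_lit 1), (nat_lit 0), (nat_lit 2), (nat_lit 3), (nat_lit 1), (nat_lit 3)],
  [(nat_lit 0), (nat_lit 1), (nat_lit 0), (nat_lit 2), (nat_lit 3), (nat_lit 1), (nat_lit 0), (nat_lit 2)],
  [(nat_lit 0), (nat_lit 1), (nat_lit 2), (nat_lit 3), (nat_lit 1), (nat_lit 2)],
  [(nat_lit 0), (nat_lit 3), (nat_lit 1), (nat_lit 0), (nat_lit 2), (nat_lit 3), (nat_lit 1), (nat_lit 2), (nat_lit 3)],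
  [(nat_lit 3), (nat_lit 1), (nat_lit 0), (nat_lit 3), (nat_lit 1), (nat_lit 2)],
  [(nat_lit 1), (nat_lit 2), (nat_lit 3), (nat_lit 1), (nat_lit 3)],
  [(nat_lit 0), (nat_lit 1), (nat_lit 0), (nat_lit 2), (nat_lit 3), (nat_lit 1)],
  [(nat_lit 2), (nat_lit 1), (nat_lit 0), (nat_lit 3), (nat_lit 1), (nat_lit 0), (nat_lit 3), (nat_lit 1), (nat_lit 0), (nat_lit 3)],
  [(nat_lit 1), (nat_lit 0), (nat_lit 2), (nat_lit 3), (nat_lit 1), (nat_lit 0), (nat_lit 3)],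
  [(nat_lit 0), (nat_lit 2), (nat_lit 1), (nat_lit 0), (nat_lit 3), (nat_lit 1), (nat_lit 0), (nat_lit 3), (nat_lit 1)],
  [(nat_lit 0), (nat_lit 2), (nat_lit 1), (nat_lit 3), (nat_lit 1), (nat_lit 0), (nat_lit 3), (nat_lit 1), (nat_lit 3)],
  [(nat_lit 0), (nat_lit 1), (nat_lit 2), (nat_lit 3), (nat_lit 1), (nat_lit 0)],
  [(nat_lit 0), (nat_lit 1), (nat_lit 0), (nat_lit 3), (nat_lit 1), (nat_lit 0)],
  [(nat_lit 1), (nat_lit 1), (nat_lit 0), (nat_lit 3), (nat_lit 1), (nat_lit 0), (nat_lit 3), (nat_lit 1), (nat_lit 1), (nat_lit 3)],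
  [(nat_lit 0), (nat_lit 3), (nat_lit 1), (nat_lit 0), (nat_lit 3), (nat_lit 1), (nat_lit 3)],
  [(nat_lit 0), (nat_lit 1), (nat_lit 3), (nat_lit 1)],
  [(nat_lit 1), (nat_lit 0), (nat_lit 2), (nat_lit 3), (nat_lit 1), (nat_lit 2), (nat_lit 3)],
  [(nat_lit 0), (nat_lit 2), (nat_lit 1), (nat_lit 0), (nat_lit 3), (nat_lit 1), (nat_lit 0), (nat_lit 2), (nat_lit 3), (nat_lit 1), (nat_lit 0)],
  [(nat_lit 2), (nat_lit 1), (nat_lit 3), (nat_lit 1), (nat_lit 0), (nat_lit 2), (nat_lit 3), (nat_lit 1)],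
  [(nat_lit 1), (nat_lit 2), (nat_lit 3), (nat_lit 1), (nat_lit 0), (nat_lit 2), (nat_lit 3)],
  [(nat_lit 0), (nat_lit 2), (nat_lit 1), (nat_lit 0), (nat_lit 3), (nat_lit 1), (nat_lit 0), (nat_lit 3), (nat_lit 1), (nat_lit 0)],
  [(nat_lit 1), (nat_lit 0), (nat_lit 2), (nat_lit 3), (nat_lit 1), (nat_lit 3)],
  [(nat_lit 0), (nat_lit 1), (nat_lit 2), (nat_lit 3), (nat_lit 1)],
  [(nat_lit 0), (nat_lit 3), (nat_lit 1), (nat_lit 0), (nat_lit 3), (nat_lit 1), (nat_lit 2), (nat_lit 3)],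
  [(nat_lit 1), (nat_lit 2), (nat_lit 3), (nat_lit 1), (nat_lit 0), (nat_lit 3)],
  [(nat_lit 2), (nat_lit 1), (nat_lit 3), (nat_lit 1), (nat_lit 0), (nat_lit 3), (nat_lit 1)],
  [(nat_lit 2), (nat_lit 1), (nat_lit 0), (nat_lit 3), (nat_lit 1), (nat_lit 0), (nat_lit 3), (nat_lit 1), (nat_lit 3)],
  [(nat_lit 0), (nat_lit 1), (nat_lit 0), (nat_lit 2), (nat_lit 3), (nat_lit 1), (nat_lit 0)],
  [(nat_lit 3), (nat_lit 1), (nat_lit 0), (nat_lit 3), (nat_lit 1)],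
  [(nat_lit 1), (nat_lit 3), (nat_lit 1), (nat_lit 3)],
  [(nat_lit 1), (nat_lit 0), (nat_lit 3), (nat_lit 1), (nat_lit 0), (nat_lit 3)],
  [(nat_lit 1), (nat_lit 0), (nat_lit 1), (nat_lit 3), (nat_lit 1), (nat_lit 0), (nat_lit 3), (nat_lit 1), (nat_lit 1)],
  [(nat_lit 0), (nat_lit 2), (nat_lit 1), (nat_lit 3), (nat_lit 1), (nat_lit 0), (nat_lit 2), (nat_lit 3), (nat_lit 1), (nat_lit 3)],
  [(nat_lit 0), (nat_lit 1), (nat_lit 2), (nat_lit 3), (nat_lit 1), (nat_lit 0), (nat_lit 2)],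
  [(nat_lit 0), (nat_lit 1), (nat_lit 0), (nat_lit 2), (nat_lit 3), (nat_lit 1), (nat_lit 2)],
  [(nat_lit 2), (nat_lit 1), (nat_lit 0), (nat_lit 3), (nat_lit 1), (nat_lit 0), (nat_lit 2), (nat_lit 3), (nat_lit 1), (nat_lit 0), (nat_lit 3)],
  [(nat_lit 0), (nat_lit 1), (nat_lit 1), (nat_lit 3), (nat_lit 1), (nat_lit 0), (nat_lit 2), (nat_lit 3), (nat_lit 1), (nat_lit 2), (nat_lit 3)],
  [(nat_lit 0), (nat_lit 1), (nat_lit 2), (nat_lit 3), (nat_lit 1), (nat_lit 0), (nat_lit 2), (nat_lit 3), (nat_lit 1), (nat_lit 3)],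
  [(nat_lit 0), (nat_lit 1), (nat_lit 0), (nat_lit 2), (nat_lit 1), (nat_lit 3), (nat_lit 1), (nat_lit 2)],
  [(nat_lit 0), (nat_lit 1), (nat_lit 0), (nat_lit 2), (nat_lit 1), (nat_lit 3), (nat_lit 1), (nat_lit 0), (nat_lit 2)],
  [(nat_lit 1), (nat_lit 3), (nat_lit 1), (nat_lit 1), (nat_lit 0), (nat_lit 3)],
  [(nat_lit 3), (nat_lit 1), (nat_lit 0), (nat_lit 1), (nat_lit 3), (nat_lit 1), (nat_lit 0)],
  [(nat_lit 3), (nat_lit 1), (nat_lit 0), (nat_lit 1), (nat_lit 3), (nat_lit 1)],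
  [(nat_lit 1), (nat_lit 3), (nat_lit 1), (nat_lit 1), (nat_lit 3)],
  [(nat_lit 1), (nat_lit 1), (nat_lit 0), (nat_lit 3), (nat_lit 1), (nat_lit 0), (nat_lit 2), (nat_lit 3), (nat_lit 1), (nat_lit 2), (nat_lit 3)],
  [(nat_lit 0), (nat_lit 1), (nat_lit 0), (nat_lit 2), (nat_lit 3), (nat_lit 1), (nat_lit 0), (nat_lit 2), (nat_lit 3), (nat_lit 1), (nat_lit 3)],
  [(nat_lit 0), (nat_lit 2), (nat_lit 3), (nat_lit 1), (nat_lit 2)],
  [(nat_lit 0), (nat_lit 2), (nat_lit 3), (nat_lit 1), (nat_lit 0), (nat_lit 2)],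
  [(nat_lit 1), (nat_lit 3), (nat_lit 1), (nat_lit 0), (nat_lit 1), (nat_lit 3)],
  [(nat_lit 1), (nat_lit 1), (nat_lit 3), (nat_lit 1), (nat_lit 0), (nat_lit 1), (nat_lit 3), (nat_lit 1), (nat_lit 1)],
  [(nat_lit 1), (nat_lit 0), (nat_lit 1), (nat_lit 1), (nat_lit 3), (nat_lit 1), (nat_lit 0), (nat_lit 1), (nat_lit 3), (nat_lit 1)],
  [(nat_lit 1), (nat_lit 0), (nat_lit 3), (nat_lit 1), (nat_lit 1), (nat_lit 3)],
  [(nat_lit 0), (nat_lit 1), (nat_lit 2), (nat_lit 3), (nat_lit 1), (nat_lit 0), (nat_lit 3), (nat_lit 1), (nat_lit 3)],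
  [(nat_lit 0), (nat_lit 1), (nat_lit 1), (nat_lit 3), (nat_lit 1), (nat_lit 0), (nat_lit 3), (nat_lit 1), (nat_lit 2), (nat_lit 3)],
  [(nat_lit 0), (nat_lit 1), (nat_lit 0), (nat_lit 2), (nat_lit 1), (nat_lit 3), (nat_lit 1), (nat_lit 0)],
  [(nat_lit 0), (nat_lit 1), (nat_lit 0), (nat_lit 2), (nat_lit 1), (nat_lit 3), (nat_lit 1)],
  [(nat_lit 1), (nat_lit 2), (nat_lit 3), (nat_lit 1), (nat_lit 1), (nat_lit 3)],
  [(nat_lit 3), (nat_lit 1), (nat_lit 0), (nat_lit 1), (nat_lit 3), (nat_lit 1), (nat_lit 2)],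
  [(nat_lit 3), (nat_lit 1), (nat_lit 0), (nat_lit 1), (nat_lit 3), (nat_lit 1), (nat_lit 0), (nat_lit 2)],
  [(nat_lit 1), (nat_lit 2), (nat_lit 3), (nat_lit 1), (nat_lit 1), (nat_lit 0), (nat_lit 3)],
  [(nat_lit 0), (nat_lit 1), (nat_lit 0), (nat_lit 2), (nat_lit 3), (nat_lit 1), (nat_lit 0), (nat_lit 3), (nat_lit 1), (nat_lit 3)],
  [(nat_lit 1), (nat_lit 1), (nat_lit 0), (nat_lit 3), (nat_lit 1), (nat_lit 0), (nat_lit 3), (nat_lit 1), (nat_lit 2), (nat_lit 3)],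
  [(nat_lit 0), (nat_lit 2), (nat_lit 3), (nat_lit 1), (nat_lit 0)],
  [(nat_lit 0), (nat_lit 2), (nat_lit 3), (nat_lit 1)],
  [(nat_lit 1), (nat_lit 0), (nat_lit 2), (nat_lit 3), (nat_lit 1), (nat_lit 1), (nat_lit 3)],
  [(nat_lit 2), (nat_lit 1), (nat_lit 3), (nat_lit 1), (nat_lit 0), (nat_lit 1), (nat_lit 3), (nat_lit 1), (nat_lit 0)],
  [(nat_lit 2), (nat_lit 1), (nat_lit 3), (nat_lit 1), (nat_lit 0), (nat_lit 1), (nat_lit 3), (nat_lit 1)],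
  [(nat_lit 1), (nat_lit 2), (nat_lit 3), (nat_lit 1), (nat_lit 0), (nat_lit 1), (nat_lit 3)],
  [(nat_lit 3), (nat_lit 1), (nat_lit 0), (nat_lit 2), (nat_lit 1), (nat_lit 3), (nat_lit 1), (nat_lit 2)],
  [(nat_lit 1), (nat_lit 2), (nat_lit 3), (nat_lit 2), (nat_lit 3)],
  [(nat_lit 1), (nat_lit 0), (nat_lit 2), (nat_lit 3), (nat_lit 1), (nat_lit 0), (nat_lit 2), (nat_lit 1), (nat_lit 3)],
  [(nat_lit 2), (nat_lit 1), (nat_lit 3), (nat_lit 1), (nat_lit 0), (nat_lit 2), (nat_lit 1), (nat_lit 3), (nat_lit 1), (nat_lit 0)],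
  [(nat_lit 1), (nat_lit 1), (nat_lit 0), (nat_lit 3), (nat_lit 1)],
  [(nat_lit 0), (nat_lit 1), (nat_lit 0), (nat_lit 3), (nat_lit 1), (nat_lit 0), (nat_lit 3), (nat_lit 1), (nat_lit 0), (nat_lit 3)],
  [(nat_lit 0), (nat_lit 1), (nat_lit 1), (nat_lit 3), (nat_lit 1), (nat_lit 0)],
  [(nat_lit 0), (nat_lit 1), (nat_lit 3), (nat_lit 1), (nat_lit 0), (nat_lit 3), (nat_lit 1), (nat_lit 3)],
  [(nat_lit 3), (nat_lit 1), (nat_lit 0), (nat_lit 2), (nat_lit 1), (nat_lit 3), (nat_lit 1), (nat_lit 0)],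
  [(nat_lit 1), (nat_lit 0), (nat_lit 3), (nat_lit 2), (nat_lit 3)],
  [(nat_lit 1), (nat_lit 3), (nat_lit 1), (nat_lit 0), (nat_lit 2), (nat_lit 1), (nat_lit 3)],
  [(nat_lit 1), (nat_lit 1), (nat_lit 3), (nat_lit 1), (nat_lit 0), (nat_lit 2), (nat_lit 1), (nat_lit 3), (nat_lit 1), (nat_lit 1)],
  [(nat_lit 1), (nat_lit 1), (nat_lit 0), (nat_lit 3), (nat_lit 1), (nat_lit 0), (nat_lit 2)],
  [(nat_lit 0), (nat_lit 1), (nat_lit 0), (nat_lit 3), (nat_lit 1), (nat_lit 0), (nat_lit 2), (nat_lit 3), (nat_lit 1), (nat_lit 3)],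
  [(nat_lit 0), (nat_lit 1), (nat_lit 1), (nat_lit 3), (nat_lit 1), (nat_lit 2)],
  [(nat_lit 0), (nat_lit 3), (nat_lit 1), (nat_lit 0), (nat_lit 2), (nat_lit 3), (nat_lit 1), (nat_lit 1), (nat_lit 3)],
  [(nat_lit 3), (nat_lit 1), (nat_lit 0), (nat_lit 2), (nat_lit 1), (nat_lit 3), (nat_lit 1)],
  [(nat_lit 1), (nat_lit 3), (nat_lit 2), (nat_lit 3)],
  [(nat_lit 1), (nat_lit 0), (nat_lit 3), (nat_lit 1), (nat_lit 0), (nat_lit 2), (nat_lit 1), (nat_lit 3)],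
  [(nat_lit 1), (nat_lit 0), (nat_lit 1), (nat_lit 3), (nat_lit 1), (nat_lit 0), (nat_lit 2), (nat_lit 1), (nat_lit 3), (nat_lit 1), (nat_lit 1)],
  [(nat_lit 0), (nat_lit 1), (nat_lit 1), (nat_lit 3), (nat_lit 1), (nat_lit 0), (nat_lit 2)],
  [(nat_lit 0), (nat_lit 1), (nat_lit 3), (nat_lit 1), (nat_lit 0), (nat_lit 2), (nat_lit 3), (nat_lit 1), (nat_lit 3)],
  [(nat_lit 1), (nat_lit 1), (nat_lit 0), (nat_lit 3), (nat_lit 1), (nat_lit 2)],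
  [(nat_lit 0), (nat_lit 1), (nat_lit 0), (nat_lit 3), (nat_lit 1), (nat_lit 0), (nat_lit 2), (nat_lit 3), (nat_lit 1), (nat_lit 0), (nat_lit 3)],
  [(nat_lit 3), (nat_lit 1), (nat_lit 0), (nat_lit 2), (nat_lit 1), (nat_lit 3), (nat_lit 1), (nat_lit 0), (nat_lit 2)],
  [(nat_lit 1), (nat_lit 0), (nat_lit 2), (nat_lit 3), (nat_lit 2), (nat_lit 3)],
  [(nat_lit 1), (nat_lit 2), (nat_lit 3), (nat_lit 1), (nat_lit 0), (nat_lit 2), (nat_lit 1), (nat_lit 3)],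
  [(nat_lit 2), (nat_lit 1), (nat_lit 3), (nat_lit 1), (nat_lit 0), (nat_lit 2), (nat_lit 1), (nat_lit 3), (nat_lit 1)],
  [(nat_lit 0), (nat_lit 1), (nat_lit 1), (nat_lit 3), (nat_lit 1)],
  [(nat_lit 0), (nat_lit 3), (nat_lit 1), (nat_lit 0), (nat_lit 3), (nat_lit 1), (nat_lit 1), (nat_lit 3)],
  [(nat_lit 1), (nat_lit 1), (nat_lit 0), (nat_lit 3), (nat_lit 1), (nat_lit 0)],
  [(nat_lit 0), (nat_lit 1), (nat_lit 0), (nat_lit 3), (nat_lit 1), (nat_lit 0), (nat_lit 3), (nat_lit 1), (nat_lit 3)],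
  [(nat_lit 1), (nat_lit 0), (nat_lit 2), (nat_lit 1), (nat_lit 3), (nat_lit 1), (nat_lit 2), (nat_lit 3)],
  [(nat_lit 1), (nat_lit 0), (nat_lit 2), (nat_lit 1), (nat_lit 3), (nat_lit 1), (nat_lit 0), (nat_lit 2), (nat_lit 3)],
  [(nat_lit 1), (nat_lit 1), (nat_lit 3), (nat_lit 1), (nat_lit 0), (nat_lit 2), (nat_lit 3), (nat_lit 1), (nat_lit 2)],
  [(nat_lit 1), (nat_lit 2), (nat_lit 3), (nat_lit 1), (nat_lit 0), (nat_lit 2), (nat_lit 3), (nat_lit 1)],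
  [(nat_lit 3), (nat_lit 1), (nat_lit 1), (nat_lit 0), (nat_lit 3), (nat_lit 1), (nat_lit 3)],
  [(nat_lit 0), (nat_lit 1), (nat_lit 3), (nat_lit 1), (nat_lit 1)],
  [(nat_lit 0), (nat_lit 1), (nat_lit 3), (nat_lit 1), (nat_lit 1), (nat_lit 0)],
  [(nat_lit 3), (nat_lit 1), (nat_lit 1), (nat_lit 0), (nat_lit 3), (nat_lit 1), (nat_lit 0), (nat_lit 3)],
  [(nat_lit 2), (nat_lit 3), (nat_lit 1), (nat_lit 2), (nat_lit 3)],
  [(nat_lit 2), (nat_lit 3), (nat_lit 1), (nat_lit 0), (nat_lit 2), (nat_lit 3)],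
  [(nat_lit 1), (nat_lit 0), (nat_lit 1), (nat_lit 3), (nat_lit 1), (nat_lit 0), (nat_lit 2), (nat_lit 3), (nat_lit 1), (nat_lit 2)],
  [(nat_lit 1), (nat_lit 0), (nat_lit 2), (nat_lit 3), (nat_lit 1), (nat_lit 0), (nat_lit 2), (nat_lit 3), (nat_lit 1)],
  [(nat_lit 0), (nat_lit 3), (nat_lit 1), (nat_lit 0), (nat_lit 3), (nat_lit 1), (nat_lit 0), (nat_lit 3), (nat_lit 1), (nat_lit 0)],
  [(nat_lit 0), (nat_lit 1), (nat_lit 0), (nat_lit 3), (nat_lit 1), (nat_lit 1)],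
  [(nat_lit 0), (nat_lit 1), (nat_lit 3), (nat_lit 1), (nat_lit 0), (nat_lit 1)],
  [(nat_lit 0), (nat_lit 3), (nat_lit 1), (nat_lit 0), (nat_lit 3), (nat_lit 1), (nat_lit 0), (nat_lit 3), (nat_lit 1)],
  [(nat_lit 1), (nat_lit 0), (nat_lit 1), (nat_lit 3), (nat_lit 1), (nat_lit 0), (nat_lit 3), (nat_lit 1), (nat_lit 2)],
  [(nat_lit 1), (nat_lit 0), (nat_lit 2), (nat_lit 3), (nat_lit 1), (nat_lit 0), (nat_lit 3), (nat_lit 1)],
  [(nat_lit 2), (nat_lit 3), (nat_lit 1), (nat_lit 3)],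
  [(nat_lit 2), (nat_lit 3), (nat_lit 1), (nat_lit 0), (nat_lit 3)],
  [(nat_lit 0), (nat_lit 2), (nat_lit 1), (nat_lit 3), (nat_lit 1), (nat_lit 0), (nat_lit 1), (nat_lit 3), (nat_lit 1), (nat_lit 0), (nat_lit 3)],
  [(nat_lit 0), (nat_lit 1), (nat_lit 0), (nat_lit 2), (nat_lit 3), (nat_lit 1), (nat_lit 1)],
  [(nat_lit 0), (nat_lit 1), (nat_lit 2), (nat_lit 3), (nat_lit 1), (nat_lit 0), (nat_lit 1)],
  [(nat_lit 0), (nat_lit 2), (nat_lit 1), (nat_lit 3), (nat_lit 1), (nat_lit 0), (nat_lit 1), (nat_lit 3), (nat_lit 1), (nat_lit 3)],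
  [(nat_lit 0), (nat_lit 1), (nat_lit 0), (nat_lit 2), (nat_lit 3), (nat_lit 1), (nat_lit 0), (nat_lit 2), (nat_lit 1)],
  [(nat_lit 2), (nat_lit 1), (nat_lit 0), (nat_lit 3), (nat_lit 1), (nat_lit 0), (nat_lit 2), (nat_lit 1), (nat_lit 3), (nat_lit 1), (nat_lit 3)],
  [(nat_lit 0), (nat_lit 3), (nat_lit 1), (nat_lit 0), (nat_lit 2), (nat_lit 1), (nat_lit 3), (nat_lit 1), (nat_lit 2), (nat_lit 3)],
  [(nat_lit 0), (nat_lit 1), (nat_lit 2), (nat_lit 3), (nat_lit 2)],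
  [(nat_lit 1), (nat_lit 1), (nat_lit 3), (nat_lit 1), (nat_lit 0), (nat_lit 3)],
  [(nat_lit 1), (nat_lit 3), (nat_lit 1), (nat_lit 0), (nat_lit 3), (nat_lit 1)],
  [(nat_lit 1), (nat_lit 0), (nat_lit 1), (nat_lit 3), (nat_lit 1), (nat_lit 3)],
  [(nat_lit 1), (nat_lit 0), (nat_lit 3), (nat_lit 1), (nat_lit 0), (nat_lit 3), (nat_lit 1), (nat_lit 0)],
  [(nat_lit 1), (nat_lit 1), (nat_lit 3), (nat_lit 1), (nat_lit 0), (nat_lit 3), (nat_lit 1), (nat_lit 2)],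
  [(nat_lit 1), (nat_lit 2), (nat_lit 3), (nat_lit 1), (nat_lit 0), (nat_lit 3), (nat_lit 1)],
  [(nat_lit 1), (nat_lit 0), (nat_lit 2), (nat_lit 1), (nat_lit 3), (nat_lit 1), (nat_lit 3)],
  [(nat_lit 1), (nat_lit 0), (nat_lit 2), (nat_lit 1), (nat_lit 3), (nat_lit 1), (nat_lit 0), (nat_lit 3)],
  [(nat_lit 3), (nat_lit 1), (nat_lit 1), (nat_lit 0), (nat_lit 3), (nat_lit 1), (nat_lit 2), (nat_lit 3)],
  [(nat_lit 0), (nat_lit 1), (nat_lit 2), (nat_lit 3), (nat_lit 1), (nat_lit 1)],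
  [(nat_lit 0), (nat_lit 1), (nat_lit 2), (nat_lit 3), (nat_lit 1), (nat_lit 1), (nat_lit 0)],
  [(nat_lit 2), (nat_lit 1), (nat_lit 3), (nat_lit 1), (nat_lit 1), (nat_lit 0), (nat_lit 3), (nat_lit 1), (nat_lit 3)],
  [(nat_lit 0), (nat_lit 1), (nat_lit 3), (nat_lit 2)],
  [(nat_lit 0), (nat_lit 3), (nat_lit 1), (nat_lit 0), (nat_lit 2), (nat_lit 1), (nat_lit 3), (nat_lit 1), (nat_lit 3)],
  [(nat_lit 3), (nat_lit 1), (nat_lit 1), (nat_lit 0), (nat_lit 3), (nat_lit 1), (nat_lit 0), (nat_lit 3), (nat_lit 1), (nat_lit 2)],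
  [(nat_lit 0), (nat_lit 1), (nat_lit 0), (nat_lit 3), (nat_lit 1), (nat_lit 0), (nat_lit 2), (nat_lit 1)],
  [(nat_lit 1), (nat_lit 3), (nat_lit 1), (nat_lit 0), (nat_lit 2), (nat_lit 3), (nat_lit 1)],
  [(nat_lit 1), (nat_lit 1), (nat_lit 3), (nat_lit 1), (nat_lit 0), (nat_lit 2), (nat_lit 3)],
  [(nat_lit 1), (nat_lit 0), (nat_lit 3), (nat_lit 1), (nat_lit 0), (nat_lit 2), (nat_lit 3), (nat_lit 1), (nat_lit 0)],
  [(nat_lit 1), (nat_lit 0), (nat_lit 1), (nat_lit 3), (nat_lit 1), (nat_lit 2), (nat_lit 3)],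
  [(nat_lit 0), (nat_lit 1), (nat_lit 2), (nat_lit 3), (nat_lit 1), (nat_lit 0), (nat_lit 2), (nat_lit 1)],
  [(nat_lit 0), (nat_lit 2), (nat_lit 1), (nat_lit 3), (nat_lit 1), (nat_lit 0), (nat_lit 2), (nat_lit 1), (nat_lit 3), (nat_lit 1), (nat_lit 3)],
  [(nat_lit 0), (nat_lit 3), (nat_lit 1), (nat_lit 0), (nat_lit 2), (nat_lit 1), (nat_lit 3), (nat_lit 1), (nat_lit 0), (nat_lit 2), (nat_lit 3)],
  [(nat_lit 0), (nat_lit 1), (nat_lit 0), (nat_lit 2), (nat_lit 3), (nat_lit 2)],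
  [(nat_lit 1), (nat_lit 0), (nat_lit 1), (nat_lit 3), (nat_lit 1), (nat_lit 0), (nat_lit 3)],
  [(nat_lit 1), (nat_lit 0), (nat_lit 3), (nat_lit 1), (nat_lit 0), (nat_lit 3), (nat_lit 1)],
  [(nat_lit 1), (nat_lit 1), (nat_lit 3), (nat_lit 1), (nat_lit 3)],
  [(nat_lit 3), (nat_lit 1), (nat_lit 0), (nat_lit 3), (nat_lit 1), (nat_lit 1)],
  [(nat_lit 0), (nat_lit 1), (nat_lit 0), (nat_lit 3), (nat_lit 2)],
  [(nat_lit 0), (nat_lit 3), (nat_lit 1), (nat_lit 0), (nat_lit 2), (nat_lit 1), (nat_lit 3), (nat_lit 1), (nat_lit 0), (nat_lit 3)],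
  [(nat_lit 0), (nat_lit 3), (nat_lit 1), (nat_lit 0), (nat_lit 2), (nat_lit 3), (nat_lit 1), (nat_lit 0), (nat_lit 3), (nat_lit 1)],
  [(nat_lit 0), (nat_lit 1), (nat_lit 3), (nat_lit 1), (nat_lit 0), (nat_lit 2), (nat_lit 1)],
  [(nat_lit 1), (nat_lit 0), (nat_lit 3), (nat_lit 1), (nat_lit 0), (nat_lit 2), (nat_lit 3), (nat_lit 1)],
  [(nat_lit 1), (nat_lit 0), (nat_lit 1), (nat_lit 3), (nat_lit 1), (nat_lit 0), (nat_lit 2), (nat_lit 3)],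
  [(nat_lit 3), (nat_lit 1), (nat_lit 0), (nat_lit 2), (nat_lit 3), (nat_lit 1), (nat_lit 1)],
  [(nat_lit 1), (nat_lit 1), (nat_lit 3), (nat_lit 1), (nat_lit 2), (nat_lit 3)],
  [(nat_lit 1), (nat_lit 0), (nat_lit 2), (nat_lit 1), (nat_lit 3), (nat_lit 1), (nat_lit 1), (nat_lit 3)],
  [(nat_lit 1), (nat_lit 0), (nat_lit 2), (nat_lit 1), (nat_lit 3), (nat_lit 1), (nat_lit 0), (nat_lit 1), (nat_lit 3)],
  [(nat_lit 2), (nat_lit 3), (nat_lit 1), (nat_lit 1), (nat_lit 0)],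
  [(nat_lit 0), (nat_lit 2), (nat_lit 3), (nat_lit 1), (nat_lit 1)],
  [(nat_lit 1), (nat_lit 1), (nat_lit 3), (nat_lit 1), (nat_lit 0), (nat_lit 1), (nat_lit 3), (nat_lit 1), (nat_lit 2)],
  [(nat_lit 1), (nat_lit 2), (nat_lit 3), (nat_lit 1), (nat_lit 0), (nat_lit 1), (nat_lit 3), (nat_lit 1)],
  [(nat_lit 0), (nat_lit 1), (nat_lit 2), (nat_lit 3), (nat_lit 1), (nat_lit 1), (nat_lit 0), (nat_lit 3), (nat_lit 1), (nat_lit 3)],
  [(nat_lit 1), (nat_lit 1), (nat_lit 3), (nat_lit 1), (nat_lit 1), (nat_lit 0), (nat_lit 3), (nat_lit 1), (nat_lit 2), (nat_lit 3)],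
  [(nat_lit 2), (nat_lit 3), (nat_lit 1), (nat_lit 1), (nat_lit 3)],
  [(nat_lit 2), (nat_lit 3), (nat_lit 1), (nat_lit 0), (nat_lit 1), (nat_lit 3)],
  [(nat_lit 1), (nat_lit 0), (nat_lit 2), (nat_lit 1), (nat_lit 3), (nat_lit 1), (nat_lit 1), (nat_lit 0)],
  [(nat_lit 0), (nat_lit 1), (nat_lit 0), (nat_lit 2), (nat_lit 1), (nat_lit 3), (nat_lit 1), (nat_lit 1)],
  [(nat_lit 3), (nat_lit 1), (nat_lit 0), (nat_lit 1), (nat_lit 3), (nat_lit 1), (nat_lit 0), (nat_lit 2), (nat_lit 1)],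
  [(nat_lit 1), (nat_lit 2), (nat_lit 3), (nat_lit 1), (nat_lit 1), (nat_lit 0), (nat_lit 3), (nat_lit 1)],
  [(nat_lit 0), (nat_lit 1), (nat_lit 2), (nat_lit 3), (nat_lit 1), (nat_lit 0), (nat_lit 1), (nat_lit 3), (nat_lit 1), (nat_lit 3)],
  [(nat_lit 1), (nat_lit 2), (nat_lit 3), (nat_lit 1), (nat_lit 0), (nat_lit 1), (nat_lit 3), (nat_lit 1), (nat_lit 0), (nat_lit 3)],
  [(nat_lit 1), (nat_lit 3), (nat_lit 1), (nat_lit 0), (nat_lit 2), (nat_lit 1), (nat_lit 3), (nat_lit 1), (nat_lit 0), (nat_lit 3)],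
  [(nat_lit 1), (nat_lit 1), (nat_lit 0), (nat_lit 3), (nat_lit 1), (nat_lit 0), (nat_lit 2), (nat_lit 1)],
  [(nat_lit 1), (nat_lit 1), (nat_lit 3), (nat_lit 1), (nat_lit 0), (nat_lit 2), (nat_lit 1), (nat_lit 3)],
  [(nat_lit 1), (nat_lit 3), (nat_lit 1), (nat_lit 0), (nat_lit 2), (nat_lit 1), (nat_lit 3), (nat_lit 1)],
  [(nat_lit 0), (nat_lit 3), (nat_lit 1), (nat_lit 0), (nat_lit 2), (nat_lit 1), (nat_lit 3), (nat_lit 1), (nat_lit 1), (nat_lit 3)],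
  [(nat_lit 0), (nat_lit 1), (nat_lit 1), (nat_lit 3), (nat_lit 2)],
  [(nat_lit 1), (nat_lit 0), (nat_lit 1), (nat_lit 3), (nat_lit 2), (nat_lit 3)],
  [(nat_lit 3), (nat_lit 1), (nat_lit 0), (nat_lit 2), (nat_lit 1), (nat_lit 3), (nat_lit 1), (nat_lit 0), (nat_lit 1)],
  [(nat_lit 1), (nat_lit 0), (nat_lit 1), (nat_lit 3), (nat_lit 1), (nat_lit 0), (nat_lit 2), (nat_lit 1), (nat_lit 3), (nat_lit 1), (nat_lit 2)],
  [(nat_lit 1), (nat_lit 0), (nat_lit 2), (nat_lit 3), (nat_lit 1), (nat_lit 0), (nat_lit 2), (nat_lit 1), (nat_lit 3), (nat_lit 1)],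
  [(nat_lit 2), (nat_lit 3), (nat_lit 2), (nat_lit 3)],
  [(nat_lit 2), (nat_lit 3), (nat_lit 1), (nat_lit 0), (nat_lit 2), (nat_lit 1), (nat_lit 3)],
  [(nat_lit 1), (nat_lit 3), (nat_lit 1), (nat_lit 0), (nat_lit 1), (nat_lit 3), (nat_lit 1), (nat_lit 0), (nat_lit 3)],
  [(nat_lit 1), (nat_lit 1), (nat_lit 0), (nat_lit 3), (nat_lit 1), (nat_lit 1)],
  [(nat_lit 0), (nat_lit 1), (nat_lit 3), (nat_lit 1), (nat_lit 0), (nat_lit 1), (nat_lit 3), (nat_lit 1), (nat_lit 3)],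
  [(nat_lit 0), (nat_lit 1), (nat_lit 1), (nat_lit 3), (nat_lit 1), (nat_lit 0), (nat_lit 1)],
  [(nat_lit 0), (nat_lit 1), (nat_lit 3), (nat_lit 1), (nat_lit 0), (nat_lit 2), (nat_lit 1), (nat_lit 3), (nat_lit 1), (nat_lit 3)],
  [(nat_lit 0), (nat_lit 1), (nat_lit 1), (nat_lit 3), (nat_lit 1), (nat_lit 0), (nat_lit 2), (nat_lit 1)],
  [(nat_lit 1), (nat_lit 0), (nat_lit 1), (nat_lit 3), (nat_lit 1), (nat_lit 0), (nat_lit 2), (nat_lit 1), (nat_lit 3)],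
  [(nat_lit 1), (nat_lit 0), (nat_lit 3), (nat_lit 1), (nat_lit 0), (nat_lit 2), (nat_lit 1), (nat_lit 3), (nat_lit 1)],
  [(nat_lit 3), (nat_lit 1), (nat_lit 0), (nat_lit 2), (nat_lit 1), (nat_lit 3), (nat_lit 1), (nat_lit 1), (nat_lit 0), (nat_lit 3)],
  [(nat_lit 1), (nat_lit 1), (nat_lit 0), (nat_lit 3), (nat_lit 2)],
  [(nat_lit 1), (nat_lit 1), (nat_lit 3), (nat_lit 2), (nat_lit 3)],
  [(nat_lit 3), (nat_lit 1), (nat_lit 0), (nat_lit 2), (nat_lit 1), (nat_lit 3), (nat_lit 1), (nat_lit 1)],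
  [(nat_lit 0), (nat_lit 2), (nat_lit 3), (nat_lit 2)],
  [(nat_lit 0), (nat_lit 2), (nat_lit 3), (nat_lit 1), (nat_lit 0), (nat_lit 2), (nat_lit 1)],
  [(nat_lit 1), (nat_lit 1), (nat_lit 0), (nat_lit 3), (nat_lit 1), (nat_lit 0), (nat_lit 2), (nat_lit 1), (nat_lit 3), (nat_lit 1), (nat_lit 2), (nat_lit 3)],
  [(nat_lit 0), (nat_lit 1), (nat_lit 0), (nat_lit 2), (nat_lit 3), (nat_lit 1), (nat_lit 0), (nat_lit 2), (nat_lit 1), (nat_lit 3), (nat_lit 1), (nat_lit 3)],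
  [(nat_lit 1), (nat_lit 3), (nat_lit 1), (nat_lit 0), (nat_lit 1), (nat_lit 3), (nat_lit 1)],
  [(nat_lit 1), (nat_lit 1), (nat_lit 3), (nat_lit 1), (nat_lit 0), (nat_lit 1), (nat_lit 3)],
  [(nat_lit 0), (nat_lit 1), (nat_lit 3), (nat_lit 1), (nat_lit 0), (nat_lit 1), (nat_lit 3), (nat_lit 1), (nat_lit 0)],
  [(nat_lit 1), (nat_lit 0), (nat_lit 1), (nat_lit 3), (nat_lit 1), (nat_lit 1), (nat_lit 3)],
  [(nat_lit 1), (nat_lit 1), (nat_lit 3), (nat_lit 1), (nat_lit 0), (nat_lit 2), (nat_lit 1), (nat_lit 3), (nat_lit 1), (nat_lit 2)],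
  [(nat_lit 1), (nat_lit 2), (nat_lit 3), (nat_lit 1), (nat_lit 0), (nat_lit 2), (nat_lit 1), (nat_lit 3), (nat_lit 1)],
  [(nat_lit 1), (nat_lit 0), (nat_lit 2), (nat_lit 1), (nat_lit 3), (nat_lit 2), (nat_lit 3)],
  [(nat_lit 1), (nat_lit 0), (nat_lit 2), (nat_lit 1), (nat_lit 3), (nat_lit 1), (nat_lit 0), (nat_lit 2), (nat_lit 1), (nat_lit 3)],
  [(nat_lit 3), (nat_lit 1), (nat_lit 1), (nat_lit 0), (nat_lit 3), (nat_lit 1), (nat_lit 1), (nat_lit 3)],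
  [(nat_lit 0), (nat_lit 1), (nat_lit 1), (nat_lit 3), (nat_lit 1), (nat_lit 1)],
  [(nat_lit 0), (nat_lit 1), (nat_lit 3), (nat_lit 1), (nat_lit 1), (nat_lit 0), (nat_lit 3), (nat_lit 1), (nat_lit 3)],
  [(nat_lit 1), (nat_lit 1), (nat_lit 3), (nat_lit 1), (nat_lit 1), (nat_lit 0)],
  [(nat_lit 0), (nat_lit 1), (nat_lit 0), (nat_lit 2), (nat_lit 1), (nat_lit 3), (nat_lit 2)],
  [(nat_lit 0), (nat_lit 1), (nat_lit 0), (nat_lit 2), (nat_lit 1), (nat_lit 3), (nat_lit 1), (nat_lit 0), (nat_lit 2), (nat_lit 1)],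
  [(nat_lit 0), (nat_lit 1), (nat_lit 1), (nat_lit 3), (nat_lit 1), (nat_lit 0), (nat_lit 2), (nat_lit 1), (nat_lit 3), (nat_lit 1), (nat_lit 2), (nat_lit 3)],
  [(nat_lit 0), (nat_lit 1), (nat_lit 2), (nat_lit 3), (nat_lit 1), (nat_lit 0), (nat_lit 2), (nat_lit 1), (nat_lit 3), (nat_lit 1), (nat_lit 3)],
  [(nat_lit 1), (nat_lit 3), (nat_lit 1), (nat_lit 1), (nat_lit 0), (nat_lit 3), (nat_lit 1)],
  [(nat_lit 0), (nat_lit 1), (nat_lit 1), (nat_lit 3), (nat_lit 1), (nat_lit 1), (nat_lit 0), (nat_lit 3)],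
  [(nat_lit 3), (nat_lit 1), (nat_lit 0), (nat_lit 1), (nat_lit 3), (nat_lit 1), (nat_lit 1)],
  [(nat_lit 1), (nat_lit 1), (nat_lit 3), (nat_lit 1), (nat_lit 1), (nat_lit 3)],
  [(nat_lit 2), (nat_lit 1), (nat_lit 3), (nat_lit 1), (nat_lit 0), (nat_lit 1), (nat_lit 1), (nat_lit 3), (nat_lit 1)],
  [(nat_lit 1), (nat_lit 2), (nat_lit 3), (nat_lit 1), (nat_lit 0), (nat_lit 1), (nat_lit 1), (nat_lit 3)],
  [(nat_lit 1), (nat_lit 0), (nat_lit 2)],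
  [(nat_lit 3), (nat_lit 1), (nat_lit 0), (nat_lit 1), (nat_lit 1), (nat_lit 3), (nat_lit 1), (nat_lit 0), (nat_lit 2)],
  [(nat_lit 0), (nat_lit 2), (nat_lit 3), (nat_lit 1), (nat_lit 0), (nat_lit 3), (nat_lit 1), (nat_lit 3)],
  [(nat_lit 0), (nat_lit 2), (nat_lit 1), (nat_lit 3), (nat_lit 1)],
  [(nat_lit 0), (nat_lit 1), (nat_lit 0), (nat_lit 3), (nat_lit 1), (nat_lit 0), (nat_lit 3), (nat_lit 1), (nat_lit 2), (nat_lit 3)],
  [(nat_lit 2), (nat_lit 1), (nat_lit 0), (nat_lit 3), (nat_lit 1), (nat_lit 0)],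
  [(nat_lit 2), (nat_lit 1), (nat_lit 0), (nat_lit 3), (nat_lit 2), (nat_lit 1), (nat_lit 0), (nat_lit 3), (nat_lit 1)],
  [(nat_lit 1), (nat_lit 0), (nat_lit 2), (nat_lit 3), (nat_lit 2), (nat_lit 1), (nat_lit 0), (nat_lit 3)],
  [(nat_lit 1), (nat_lit 0), (nat_lit 2), (nat_lit 3), (nat_lit 2), (nat_lit 1), (nat_lit 3)],
  [(nat_lit 2), (nat_lit 1), (nat_lit 0), (nat_lit 3), (nat_lit 2), (nat_lit 1), (nat_lit 0), (nat_lit 3), (nat_lit 1), (nat_lit 0)],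
  [(nat_lit 0), (nat_lit 3), (nat_lit 1), (nat_lit 0)],
  [(nat_lit 0), (nat_lit 3), (nat_lit 1)],
  [(nat_lit 0), (nat_lit 1), (nat_lit 0), (nat_lit 3), (nat_lit 1), (nat_lit 0), (nat_lit 3), (nat_lit 1), (nat_lit 1), (nat_lit 3)],
  [(nat_lit 1), (nat_lit 1), (nat_lit 0), (nat_lit 3), (nat_lit 1), (nat_lit 0), (nat_lit 3), (nat_lit 1), (nat_lit 3)],
  [(nat_lit 0), (nat_lit 2), (nat_lit 1), (nat_lit 3), (nat_lit 2), (nat_lit 1), (nat_lit 0), (nat_lit 3), (nat_lit 1)],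
  [(nat_lit 1), (nat_lit 2), (nat_lit 3), (nat_lit 2), (nat_lit 1), (nat_lit 0), (nat_lit 3)],
  [(nat_lit 1), (nat_lit 2), (nat_lit 3), (nat_lit 2), (nat_lit 1), (nat_lit 3)],
  [(nat_lit 0), (nat_lit 3), (nat_lit 2), (nat_lit 1), (nat_lit 0), (nat_lit 3), (nat_lit 1), (nat_lit 2)],
  [(nat_lit 1), (nat_lit 1), (nat_lit 0), (nat_lit 1), (nat_lit 3), (nat_lit 1), (nat_lit 0)],
  [(nat_lit 1), (nat_lit 1), (nat_lit 0), (nat_lit 1), (nat_lit 3), (nat_lit 1)],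
  [(nat_lit 0), (nat_lit 1), (nat_lit 3), (nat_lit 1), (nat_lit 0), (nat_lit 3), (nat_lit 1), (nat_lit 1), (nat_lit 3)],
  [(nat_lit 0), (nat_lit 1), (nat_lit 1), (nat_lit 3), (nat_lit 1), (nat_lit 0), (nat_lit 3), (nat_lit 1), (nat_lit 3)],
  [(nat_lit 0), (nat_lit 2), (nat_lit 1), (nat_lit 3), (nat_lit 1), (nat_lit 1), (nat_lit 0), (nat_lit 1), (nat_lit 3), (nat_lit 1)],
  [(nat_lit 1), (nat_lit 2), (nat_lit 3), (nat_lit 1), (nat_lit 1), (nat_lit 0), (nat_lit 1), (nat_lit 3)],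
  [(nat_lit 1), (nat_lit 2)],
  [(nat_lit 3), (nat_lit 1), (nat_lit 0), (nat_lit 1), (nat_lit 1), (nat_lit 3), (nat_lit 1), (nat_lit 2)],
  [(nat_lit 0), (nat_lit 1), (nat_lit 0), (nat_lit 2), (nat_lit 1), (nat_lit 3), (nat_lit 1), (nat_lit 0), (nat_lit 3), (nat_lit 1), (nat_lit 3)],
  [(nat_lit 2), (nat_lit 1), (nat_lit 0), (nat_lit 3), (nat_lit 1)],
  [(nat_lit 0), (nat_lit 1), (nat_lit 3), (nat_lit 1), (nat_lit 0), (nat_lit 3), (nat_lit 1), (nat_lit 2), (nat_lit 3)],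
  [(nat_lit 0), (nat_lit 2), (nat_lit 1), (nat_lit 3), (nat_lit 1), (nat_lit 0)],
  [(nat_lit 0), (nat_lit 3), (nat_lit 1), (nat_lit 0), (nat_lit 2)],
  [(nat_lit 0), (nat_lit 3), (nat_lit 1), (nat_lit 2)],
  [(nat_lit 0), (nat_lit 1), (nat_lit 0), (nat_lit 3), (nat_lit 1), (nat_lit 0), (nat_lit 2), (nat_lit 3), (nat_lit 1), (nat_lit 1), (nat_lit 3)],
  [(nat_lit 1), (nat_lit 1), (nat_lit 0), (nat_lit 3), (nat_lit 1), (nat_lit 0), (nat_lit 2), (nat_lit 3), (nat_lit 1), (nat_lit 3)],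
  [(nat_lit 1), (nat_lit 1), (nat_lit 0), (nat_lit 3), (nat_lit 2), (nat_lit 1), (nat_lit 0), (nat_lit 3), (nat_lit 1), (nat_lit 1)],
  [(nat_lit 1), (nat_lit 0), (nat_lit 3), (nat_lit 2), (nat_lit 1), (nat_lit 0), (nat_lit 3)],
  [(nat_lit 1), (nat_lit 0), (nat_lit 3), (nat_lit 2), (nat_lit 1), (nat_lit 3)],
  [(nat_lit 1), (nat_lit 1), (nat_lit 0), (nat_lit 1), (nat_lit 3), (nat_lit 2), (nat_lit 1), (nat_lit 0), (nat_lit 3), (nat_lit 1)],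
  [(nat_lit 0), (nat_lit 2), (nat_lit 3), (nat_lit 1), (nat_lit 0), (nat_lit 2), (nat_lit 3), (nat_lit 1), (nat_lit 3)],
  [(nat_lit 0), (nat_lit 2), (nat_lit 1), (nat_lit 3), (nat_lit 1), (nat_lit 2)],
  [(nat_lit 0), (nat_lit 1), (nat_lit 0), (nat_lit 3), (nat_lit 1), (nat_lit 0), (nat_lit 2), (nat_lit 3), (nat_lit 1), (nat_lit 2), (nat_lit 3)],
  [(nat_lit 2), (nat_lit 1), (nat_lit 0), (nat_lit 3), (nat_lit 1), (nat_lit 0), (nat_lit 2)],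
  [(nat_lit 1), (nat_lit 1), (nat_lit 3), (nat_lit 1), (nat_lit 0), (nat_lit 1), (nat_lit 1), (nat_lit 3), (nat_lit 1), (nat_lit 1)],
  [(nat_lit 1), (nat_lit 3), (nat_lit 1), (nat_lit 0), (nat_lit 1), (nat_lit 1), (nat_lit 3)],
  [(nat_lit 1), (nat_lit 0)],
  [(nat_lit 3), (nat_lit 1), (nat_lit 0), (nat_lit 1), (nat_lit 1), (nat_lit 3), (nat_lit 1), (nat_lit 0)],
  [(nat_lit 1), (nat_lit 1), (nat_lit 0), (nat_lit 1), (nat_lit 3), (nat_lit 1), (nat_lit 0), (nat_lit 2)],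
  [(nat_lit 1), (nat_lit 1), (nat_lit 0), (nat_lit 1), (nat_lit 3), (nat_lit 1), (nat_lit 2)],
  [(nat_lit 0), (nat_lit 1), (nat_lit 3), (nat_lit 1), (nat_lit 0), (nat_lit 2), (nat_lit 3), (nat_lit 1), (nat_lit 1), (nat_lit 3)],
  [(nat_lit 0), (nat_lit 1), (nat_lit 1), (nat_lit 3), (nat_lit 1), (nat_lit 0), (nat_lit 2), (nat_lit 3), (nat_lit 1), (nat_lit 3)],
  [(nat_lit 0), (nat_lit 3), (nat_lit 2), (nat_lit 1), (nat_lit 0), (nat_lit 3), (nat_lit 1), (nat_lit 0)],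
  [(nat_lit 1), (nat_lit 3), (nat_lit 2), (nat_lit 1), (nat_lit 0), (nat_lit 3)],
  [(nat_lit 1), (nat_lit 3), (nat_lit 2), (nat_lit 1), (nat_lit 3)],
  [(nat_lit 0), (nat_lit 3), (nat_lit 2), (nat_lit 1), (nat_lit 0), (nat_lit 3), (nat_lit 1)],
  [(nat_lit 0), (nat_lit 1), (nat_lit 0), (nat_lit 2), (nat_lit 1), (nat_lit 3), (nat_lit 1), (nat_lit 0), (nat_lit 2), (nat_lit 3), (nat_lit 1), (nat_lit 3)],
  [(nat_lit 2), (nat_lit 1), (nat_lit 0), (nat_lit 3), (nat_lit 1), (nat_lit 2)],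
  [(nat_lit 0), (nat_lit 1), (nat_lit 3), (nat_lit 1), (nat_lit 0), (nat_lit 2), (nat_lit 3), (nat_lit 1), (nat_lit 2), (nat_lit 3)],
  [(nat_lit 0), (nat_lit 2), (nat_lit 1), (nat_lit 3), (nat_lit 1), (nat_lit 0), (nat_lit 2)],
  [(nat_lit 3), (nat_lit 1), (nat_lit 0), (nat_lit 1), (nat_lit 3), (nat_lit 1), (nat_lit 0), (nat_lit 3), (nat_lit 1), (nat_lit 3)],
  [(nat_lit 1), (nat_lit 3), (nat_lit 1), (nat_lit 1), (nat_lit 0), (nat_lit 1), (nat_lit 3)],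
  [(nat_lit 1)],
  [(nat_lit 3), (nat_lit 1), (nat_lit 0), (nat_lit 1), (nat_lit 1), (nat_lit 3), (nat_lit 1)],
  [(nat_lit 1), (nat_lit 0), (nat_lit 2), (nat_lit 3)],
  [(nat_lit 3), (nat_lit 1), (nat_lit 0), (nat_lit 1), (nat_lit 1), (nat_lit 3), (nat_lit 1), (nat_lit 0), (nat_lit 2), (nat_lit 3)],
  [(nat_lit 2), (nat_lit 1), (nat_lit 3), (nat_lit 1), (nat_lit 0), (nat_lit 1), (nat_lit 1), (nat_lit 3), (nat_lit 1), (nat_lit 3)],
  [(nat_lit 1), (nat_lit 2), (nat_lit 3), (nat_lit 1), (nat_lit 0), (nat_lit 1), (nat_lit 1)],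
  [(nat_lit 0), (nat_lit 1), (nat_lit 0), (nat_lit 3), (nat_lit 1), (nat_lit 0), (nat_lit 3), (nat_lit 1), (nat_lit 2)],
  [(nat_lit 2), (nat_lit 1), (nat_lit 0), (nat_lit 3), (nat_lit 1), (nat_lit 0), (nat_lit 3)],
  [(nat_lit 0), (nat_lit 2), (nat_lit 3), (nat_lit 1), (nat_lit 0), (nat_lit 3), (nat_lit 1)],
  [(nat_lit 0), (nat_lit 2), (nat_lit 1), (nat_lit 3), (nat_lit 1), (nat_lit 3)],
  [(nat_lit 1), (nat_lit 2), (nat_lit 3), (nat_lit 2), (nat_lit 1), (nat_lit 0)],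
  [(nat_lit 0), (nat_lit 2), (nat_lit 1), (nat_lit 3), (nat_lit 2), (nat_lit 1), (nat_lit 0), (nat_lit 3), (nat_lit 1), (nat_lit 3)],
  [(nat_lit 0), (nat_lit 3), (nat_lit 2), (nat_lit 1), (nat_lit 0), (nat_lit 3), (nat_lit 1), (nat_lit 2), (nat_lit 3)],
  [(nat_lit 1), (nat_lit 2), (nat_lit 3), (nat_lit 2), (nat_lit 1)],
  [(nat_lit 1), (nat_lit 1), (nat_lit 0), (nat_lit 1), (nat_lit 3), (nat_lit 1), (nat_lit 3)],
  [(nat_lit 1), (nat_lit 1), (nat_lit 0), (nat_lit 1), (nat_lit 3), (nat_lit 1), (nat_lit 0), (nat_lit 3)],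
  [(nat_lit 0), (nat_lit 1), (nat_lit 1), (nat_lit 3), (nat_lit 1), (nat_lit 0), (nat_lit 3), (nat_lit 1)],
  [(nat_lit 0), (nat_lit 1), (nat_lit 3), (nat_lit 1), (nat_lit 0), (nat_lit 3), (nat_lit 1), (nat_lit 1)],
  [(nat_lit 1), (nat_lit 0), (nat_lit 2), (nat_lit 3), (nat_lit 2), (nat_lit 1), (nat_lit 0)],
  [(nat_lit 2), (nat_lit 1), (nat_lit 0), (nat_lit 3), (nat_lit 2), (nat_lit 1), (nat_lit 0), (nat_lit 3), (nat_lit 1), (nat_lit 3)],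
  [(nat_lit 2), (nat_lit 1), (nat_lit 0), (nat_lit 3), (nat_lit 2), (nat_lit 1), (nat_lit 0), (nat_lit 3), (nat_lit 1), (nat_lit 0), (nat_lit 3)],
  [(nat_lit 1), (nat_lit 0), (nat_lit 2), (nat_lit 3), (nat_lit 2), (nat_lit 1)],
  [(nat_lit 0), (nat_lit 3), (nat_lit 1), (nat_lit 3)],
  [(nat_lit 0), (nat_lit 3), (nat_lit 1), (nat_lit 0), (nat_lit 3)],
  [(nat_lit 1), (nat_lit 1), (nat_lit 0), (nat_lit 3), (nat_lit 1), (nat_lit 0), (nat_lit 3), (nat_lit 1)],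
  [(nat_lit 0), (nat_lit 1), (nat_lit 0), (nat_lit 3), (nat_lit 1), (nat_lit 0), (nat_lit 3), (nat_lit 1), (nat_lit 1)],
  [(nat_lit 1), (nat_lit 2), (nat_lit 3)],
  [(nat_lit 3), (nat_lit 1), (nat_lit 0), (nat_lit 1), (nat_lit 1), (nat_lit 3), (nat_lit 1), (nat_lit 2), (nat_lit 3)],
  [(nat_lit 3), (nat_lit 1), (nat_lit 0), (nat_lit 1), (nat_lit 3), (nat_lit 1), (nat_lit 0), (nat_lit 2), (nat_lit 3), (nat_lit 1)],
  [(nat_lit 1), (nat_lit 2), (nat_lit 3), (nat_lit 1), (nat_lit 1), (nat_lit 0), (nat_lit 1)],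
  [(nat_lit 0), (nat_lit 1), (nat_lit 3), (nat_lit 1), (nat_lit 0), (nat_lit 3), (nat_lit 1), (nat_lit 2)],
  [(nat_lit 0), (nat_lit 2), (nat_lit 1), (nat_lit 3), (nat_lit 1), (nat_lit 0), (nat_lit 3)],
  [(nat_lit 0), (nat_lit 1), (nat_lit 0), (nat_lit 2), (nat_lit 1), (nat_lit 3), (nat_lit 1), (nat_lit 0), (nat_lit 3), (nat_lit 1)],
  [(nat_lit 2), (nat_lit 1), (nat_lit 0), (nat_lit 3), (nat_lit 1), (nat_lit 3)],
  [(nat_lit 0), (nat_lit 1), (nat_lit 0), (nat_lit 3), (nat_lit 1), (nat_lit 0), (nat_lit 2), (nat_lit 3), (nat_lit 1), (nat_lit 1)],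
  [(nat_lit 1), (nat_lit 1), (nat_lit 0), (nat_lit 3), (nat_lit 1), (nat_lit 0), (nat_lit 2), (nat_lit 3), (nat_lit 1)],
  [(nat_lit 0), (nat_lit 3), (nat_lit 1), (nat_lit 0), (nat_lit 2), (nat_lit 3)],
  [(nat_lit 0), (nat_lit 3), (nat_lit 1), (nat_lit 2), (nat_lit 3)],
  [(nat_lit 1), (nat_lit 0), (nat_lit 3), (nat_lit 2), (nat_lit 1)],
  [(nat_lit 3), (nat_lit 1), (nat_lit 0), (nat_lit 2), (nat_lit 1), (nat_lit 3), (nat_lit 1), (nat_lit 0), (nat_lit 3), (nat_lit 1)],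
  [(nat_lit 3), (nat_lit 1), (nat_lit 0), (nat_lit 3), (nat_lit 1), (nat_lit 0), (nat_lit 3), (nat_lit 1), (nat_lit 2)],
  [(nat_lit 1), (nat_lit 0), (nat_lit 3), (nat_lit 2), (nat_lit 1), (nat_lit 0)],
  [(nat_lit 0), (nat_lit 1), (nat_lit 3), (nat_lit 1), (nat_lit 0), (nat_lit 2), (nat_lit 3), (nat_lit 1), (nat_lit 1)],
  [(nat_lit 0), (nat_lit 1), (nat_lit 1), (nat_lit 3), (nat_lit 1), (nat_lit 0), (nat_lit 2), (nat_lit 3), (nat_lit 1)],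
  [(nat_lit 1), (nat_lit 1), (nat_lit 0), (nat_lit 1), (nat_lit 3), (nat_lit 1), (nat_lit 0), (nat_lit 2), (nat_lit 3)],
  [(nat_lit 1), (nat_lit 1), (nat_lit 0), (nat_lit 1), (nat_lit 3), (nat_lit 1), (nat_lit 2), (nat_lit 3)],
  [(nat_lit 1), (nat_lit 3), (nat_lit 2), (nat_lit 1)],
  [(nat_lit 0), (nat_lit 3), (nat_lit 2), (nat_lit 1), (nat_lit 0), (nat_lit 3), (nat_lit 1), (nat_lit 3)],
  [(nat_lit 0), (nat_lit 3), (nat_lit 2), (nat_lit 1), (nat_lit 0), (nat_lit 3), (nat_lit 1), (nat_lit 0), (nat_lit 3)],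
  [(nat_lit 1), (nat_lit 3), (nat_lit 2), (nat_lit 1), (nat_lit 0)],
  [(nat_lit 2), (nat_lit 1), (nat_lit 0), (nat_lit 3), (nat_lit 1), (nat_lit 2), (nat_lit 3)],
  [(nat_lit 0), (nat_lit 1), (nat_lit 0), (nat_lit 2), (nat_lit 1), (nat_lit 3), (nat_lit 1), (nat_lit 0), (nat_lit 2), (nat_lit 3), (nat_lit 1)],
  [(nat_lit 0), (nat_lit 2), (nat_lit 1), (nat_lit 3), (nat_lit 1), (nat_lit 0), (nat_lit 2), (nat_lit 3)],
  [(nat_lit 0), (nat_lit 1), (nat_lit 3), (nat_lit 1), (nat_lit 0), (nat_lit 2), (nat_lit 3), (nat_lit 1), (nat_lit 2)],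
  [(nat_lit 1), (nat_lit 3), (nat_lit 1), (nat_lit 1), (nat_lit 0), (nat_lit 1)],
  [(nat_lit 3), (nat_lit 1), (nat_lit 0), (nat_lit 1), (nat_lit 3), (nat_lit 1), (nat_lit 0), (nat_lit 3), (nat_lit 1)],
  [(nat_lit 3), (nat_lit 1), (nat_lit 0), (nat_lit 1), (nat_lit 1), (nat_lit 3), (nat_lit 1), (nat_lit 3)],
  [(nat_lit 1), (nat_lit 3)],
  [(nat_lit 0), (nat_lit 2), (nat_lit 1), (nat_lit 3), (nat_lit 1), (nat_lit 2), (nat_lit 3)],
  [(nat_lit 0), (nat_lit 2), (nat_lit 3), (nat_lit 1), (nat_lit 0), (nat_lit 2), (nat_lit 3), (nat_lit 1)],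
  [(nat_lit 2), (nat_lit 1), (nat_lit 0), (nat_lit 3), (nat_lit 1), (nat_lit 0), (nat_lit 2), (nat_lit 3)],
  [(nat_lit 0), (nat_lit 1), (nat_lit 0), (nat_lit 3), (nat_lit 1), (nat_lit 0), (nat_lit 2), (nat_lit 3), (nat_lit 1), (nat_lit 2)],
  [(nat_lit 1), (nat_lit 3), (nat_lit 1), (nat_lit 0), (nat_lit 1), (nat_lit 1)],
  [(nat_lit 3), (nat_lit 1), (nat_lit 0), (nat_lit 3), (nat_lit 1), (nat_lit 0), (nat_lit 3), (nat_lit 1), (nat_lit 1)],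
  [(nat_lit 3), (nat_lit 1), (nat_lit 0), (nat_lit 1), (nat_lit 1), (nat_lit 3), (nat_lit 1), (nat_lit 0), (nat_lit 3)],
  [(nat_lit 1), (nat_lit 0), (nat_lit 3)],
  [(nat_lit 1), (nat_lit 3), (nat_lit 2), (nat_lit 1), (nat_lit 0), (nat_lit 3), (nat_lit 1), (nat_lit 3)],
  [(nat_lit 0), (nat_lit 1), (nat_lit 1), (nat_lit 3), (nat_lit 2), (nat_lit 1), (nat_lit 0)],
  [(nat_lit 0), (nat_lit 3), (nat_lit 2), (nat_lit 1), (nat_lit 0), (nat_lit 3), (nat_lit 1), (nat_lit 1), (nat_lit 3)],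
  [(nat_lit 1), (nat_lit 1), (nat_lit 3), (nat_lit 2), (nat_lit 1)],
  [(nat_lit 1), (nat_lit 1), (nat_lit 0), (nat_lit 1), (nat_lit 3), (nat_lit 2), (nat_lit 3)],
  [(nat_lit 1), (nat_lit 1), (nat_lit 0), (nat_lit 1), (nat_lit 3), (nat_lit 1), (nat_lit 0), (nat_lit 2), (nat_lit 1), (nat_lit 3)],
  [(nat_lit 0), (nat_lit 1), (nat_lit 1), (nat_lit 3), (nat_lit 1), (nat_lit 0), (nat_lit 2), (nat_lit 1), (nat_lit 3), (nat_lit 1)],
  [(nat_lit 0), (nat_lit 1), (nat_lit 3), (nat_lit 1), (nat_lit 0), (nat_lit 2), (nat_lit 1), (nat_lit 3), (nat_lit 1), (nat_lit 1)],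
  [(nat_lit 1), (nat_lit 0), (nat_lit 1), (nat_lit 3)],
  [(nat_lit 3), (nat_lit 1), (nat_lit 0), (nat_lit 1), (nat_lit 1), (nat_lit 3), (nat_lit 1), (nat_lit 0), (nat_lit 1), (nat_lit 3)],
  [(nat_lit 1), (nat_lit 1), (nat_lit 3), (nat_lit 1), (nat_lit 0), (nat_lit 1), (nat_lit 1)],
  [(nat_lit 1), (nat_lit 3), (nat_lit 1), (nat_lit 0), (nat_lit 1), (nat_lit 1), (nat_lit 3), (nat_lit 1), (nat_lit 3)],
  [(nat_lit 1), (nat_lit 3), (nat_lit 1), (nat_lit 0), (nat_lit 2), (nat_lit 1), (nat_lit 3), (nat_lit 1), (nat_lit 0), (nat_lit 2)],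
  [(nat_lit 2), (nat_lit 1), (nat_lit 0), (nat_lit 3), (nat_lit 1), (nat_lit 0), (nat_lit 2), (nat_lit 1), (nat_lit 3)],
  [(nat_lit 0), (nat_lit 2), (nat_lit 3), (nat_lit 1), (nat_lit 0), (nat_lit 2), (nat_lit 1), (nat_lit 3), (nat_lit 1)],
  [(nat_lit 0), (nat_lit 2), (nat_lit 1), (nat_lit 3), (nat_lit 2), (nat_lit 3)],
  [(nat_lit 1), (nat_lit 1), (nat_lit 3)],
  [(nat_lit 3), (nat_lit 1), (nat_lit 0), (nat_lit 1), (nat_lit 1), (nat_lit 3), (nat_lit 1), (nat_lit 1), (nat_lit 3)],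
  [(nat_lit 0), (nat_lit 1), (nat_lit 1), (nat_lit 3), (nat_lit 1), (nat_lit 1), (nat_lit 0), (nat_lit 1)],
  [(nat_lit 1), (nat_lit 3), (nat_lit 1), (nat_lit 1), (nat_lit 0), (nat_lit 1), (nat_lit 3), (nat_lit 1), (nat_lit 3)],
  [(nat_lit 0), (nat_lit 1), (nat_lit 3), (nat_lit 1), (nat_lit 0), (nat_lit 2), (nat_lit 1), (nat_lit 3), (nat_lit 1), (nat_lit 2)],
  [(nat_lit 0), (nat_lit 2), (nat_lit 1), (nat_lit 3), (nat_lit 1), (nat_lit 0), (nat_lit 2), (nat_lit 1), (nat_lit 3)],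
  [(nat_lit 2), (nat_lit 3), (nat_lit 1), (nat_lit 0), (nat_lit 2), (nat_lit 1), (nat_lit 3), (nat_lit 1), (nat_lit 0)],
  [(nat_lit 2), (nat_lit 1), (nat_lit 0), (nat_lit 3), (nat_lit 2), (nat_lit 3)],
  [(nat_lit 1), (nat_lit 0), (nat_lit 3), (nat_lit 2), (nat_lit 1), (nat_lit 0), (nat_lit 3), (nat_lit 1), (nat_lit 3)],
  [(nat_lit 1), (nat_lit 1), (nat_lit 0), (nat_lit 3), (nat_lit 2), (nat_lit 1), (nat_lit 0)],
  [(nat_lit 0), (nat_lit 1), (nat_lit 0), (nat_lit 3), (nat_lit 2), (nat_lit 1), (nat_lit 0), (nat_lit 3), (nat_lit 1), (nat_lit 0), (nat_lit 3)],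
  [(nat_lit 1), (nat_lit 0), (nat_lit 1), (nat_lit 3), (nat_lit 2), (nat_lit 1)],
  [(nat_lit 0), (nat_lit 3), (nat_lit 2), (nat_lit 3)],
  [(nat_lit 0), (nat_lit 3), (nat_lit 1), (nat_lit 0), (nat_lit 2), (nat_lit 1), (nat_lit 3)],
  [(nat_lit 1), (nat_lit 1), (nat_lit 0), (nat_lit 3), (nat_lit 1), (nat_lit 0), (nat_lit 2), (nat_lit 1), (nat_lit 3), (nat_lit 1)],
  [(nat_lit 1), (nat_lit 3), (nat_lit 1), (nat_lit 0), (nat_lit 2), (nat_lit 1), (nat_lit 3), (nat_lit 1), (nat_lit 0), (nat_lit 1)],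
  [(nat_lit 0), (nat_lit 1), (nat_lit 3), (nat_lit 1), (nat_lit 1), (nat_lit 0), (nat_lit 3), (nat_lit 1), (nat_lit 1)],
  [(nat_lit 1), (nat_lit 1), (nat_lit 3), (nat_lit 1), (nat_lit 1), (nat_lit 0), (nat_lit 3), (nat_lit 1)],
  [(nat_lit 3), (nat_lit 1), (nat_lit 1), (nat_lit 0), (nat_lit 3)],
  [(nat_lit 0), (nat_lit 3), (nat_lit 1), (nat_lit 1), (nat_lit 3)],
  [(nat_lit 1), (nat_lit 0), (nat_lit 2), (nat_lit 1), (nat_lit 3), (nat_lit 2), (nat_lit 1)],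
  [(nat_lit 0), (nat_lit 1), (nat_lit 0), (nat_lit 2), (nat_lit 1), (nat_lit 3), (nat_lit 2), (nat_lit 1), (nat_lit 0)],
  [(nat_lit 1), (nat_lit 1), (nat_lit 0), (nat_lit 3), (nat_lit 2), (nat_lit 1), (nat_lit 0), (nat_lit 3), (nat_lit 1), (nat_lit 2), (nat_lit 3)],
  [(nat_lit 1), (nat_lit 0), (nat_lit 2), (nat_lit 3), (nat_lit 2), (nat_lit 1), (nat_lit 0), (nat_lit 3), (nat_lit 1), (nat_lit 3)],
  [(nat_lit 2), (nat_lit 1), (nat_lit 0), (nat_lit 3), (nat_lit 1), (nat_lit 1), (nat_lit 3)],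
  [(nat_lit 1), (nat_lit 3), (nat_lit 1), (nat_lit 0), (nat_lit 1), (nat_lit 3), (nat_lit 1), (nat_lit 0), (nat_lit 2)],
  [(nat_lit 0), (nat_lit 2), (nat_lit 1), (nat_lit 3), (nat_lit 1), (nat_lit 0), (nat_lit 1), (nat_lit 3)],
  [(nat_lit 0), (nat_lit 1), (nat_lit 3), (nat_lit 1), (nat_lit 0), (nat_lit 1), (nat_lit 3), (nat_lit 1), (nat_lit 2)],
  [(nat_lit 1), (nat_lit 2), (nat_lit 3), (nat_lit 1), (nat_lit 1), (nat_lit 0), (nat_lit 1), (nat_lit 3), (nat_lit 1), (nat_lit 3)],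
  [(nat_lit 3), (nat_lit 1), (nat_lit 0), (nat_lit 1), (nat_lit 3), (nat_lit 1), (nat_lit 0), (nat_lit 2), (nat_lit 1), (nat_lit 3), (nat_lit 1)],
  [(nat_lit 2), (nat_lit 3), (nat_lit 1), (nat_lit 0), (nat_lit 1), (nat_lit 1)],
  [(nat_lit 2), (nat_lit 3)],
  [(nat_lit 0), (nat_lit 1), (nat_lit 3), (nat_lit 1), (nat_lit 0), (nat_lit 1), (nat_lit 3), (nat_lit 1), (nat_lit 1)],
  [(nat_lit 0), (nat_lit 1), (nat_lit 1), (nat_lit 3), (nat_lit 1), (nat_lit 0), (nat_lit 1), (nat_lit 3), (nat_lit 1)],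
  [(nat_lit 1), (nat_lit 0), (nat_lit 1), (nat_lit 1), (nat_lit 3), (nat_lit 1), (nat_lit 1), (nat_lit 0), (nat_lit 3)],
  [(nat_lit 1), (nat_lit 1), (nat_lit 0), (nat_lit 1), (nat_lit 3), (nat_lit 1), (nat_lit 1), (nat_lit 3)],
  [(nat_lit 2), (nat_lit 3), (nat_lit 2), (nat_lit 1)],
  [(nat_lit 0), (nat_lit 2), (nat_lit 3), (nat_lit 2), (nat_lit 1), (nat_lit 0)],
  [(nat_lit 0), (nat_lit 1), (nat_lit 1), (nat_lit 3), (nat_lit 2), (nat_lit 1), (nat_lit 0), (nat_lit 3), (nat_lit 1), (nat_lit 2), (nat_lit 3)],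
  [(nat_lit 1), (nat_lit 2), (nat_lit 3), (nat_lit 2), (nat_lit 1), (nat_lit 0), (nat_lit 3), (nat_lit 1), (nat_lit 3)],
  [(nat_lit 0), (nat_lit 2), (nat_lit 1), (nat_lit 3), (nat_lit 1), (nat_lit 1), (nat_lit 3)],
  [(nat_lit 2), (nat_lit 3), (nat_lit 1), (nat_lit 1), (nat_lit 0), (nat_lit 3), (nat_lit 1)],
  [(nat_lit 2), (nat_lit 1), (nat_lit 3), (nat_lit 1), (nat_lit 1), (nat_lit 0), (nat_lit 3)],
  [(nat_lit 2), (nat_lit 3), (nat_lit 1), (nat_lit 0), (nat_lit 1), (nat_lit 3), (nat_lit 1), (nat_lit 0)],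
  [(nat_lit 1), (nat_lit 2), (nat_lit 3), (nat_lit 1), (nat_lit 0), (nat_lit 1), (nat_lit 1), (nat_lit 3), (nat_lit 1), (nat_lit 3)],
  [(nat_lit 1), (nat_lit 1), (nat_lit 3), (nat_lit 1), (nat_lit 0), (nat_lit 1), (nat_lit 1), (nat_lit 3), (nat_lit 1), (nat_lit 2), (nat_lit 3)],
  [(nat_lit 1), (nat_lit 0), (nat_lit 2), (nat_lit 1), (nat_lit 3), (nat_lit 1), (nat_lit 0), (nat_lit 1), (nat_lit 1)],
  [(nat_lit 1), (nat_lit 0), (nat_lit 2), (nat_lit 1), (nat_lit 3)],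
  [(nat_lit 0), (nat_lit 3), (nat_lit 2), (nat_lit 1), (nat_lit 0), (nat_lit 3), (nat_lit 1), (nat_lit 1)],
  [(nat_lit 1), (nat_lit 1), (nat_lit 3), (nat_lit 2), (nat_lit 1), (nat_lit 3)],
  [(nat_lit 1), (nat_lit 3), (nat_lit 2), (nat_lit 1), (nat_lit 0), (nat_lit 3), (nat_lit 1)],
  [(nat_lit 0), (nat_lit 1), (nat_lit 1), (nat_lit 3), (nat_lit 2), (nat_lit 1), (nat_lit 0), (nat_lit 3)],
  [(nat_lit 0), (nat_lit 1), (nat_lit 1), (nat_lit 3), (nat_lit 1), (nat_lit 0), (nat_lit 2), (nat_lit 1), (nat_lit 3), (nat_lit 1), (nat_lit 3)],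
  [(nat_lit 0), (nat_lit 1), (nat_lit 3), (nat_lit 1), (nat_lit 0), (nat_lit 2), (nat_lit 1), (nat_lit 3), (nat_lit 1), (nat_lit 1), (nat_lit 3)],
  [(nat_lit 1), (nat_lit 1), (nat_lit 0), (nat_lit 1), (nat_lit 3), (nat_lit 2)],
  [(nat_lit 1), (nat_lit 1), (nat_lit 0), (nat_lit 1), (nat_lit 3), (nat_lit 1), (nat_lit 0), (nat_lit 2), (nat_lit 1)],
  [(nat_lit 3), (nat_lit 1), (nat_lit 0), (nat_lit 1), (nat_lit 1), (nat_lit 3), (nat_lit 1), (nat_lit 1)],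
  [(nat_lit 1), (nat_lit 1)],
  [(nat_lit 1), (nat_lit 3), (nat_lit 1), (nat_lit 1), (nat_lit 0), (nat_lit 1), (nat_lit 3), (nat_lit 1)],
  [(nat_lit 0), (nat_lit 1), (nat_lit 1), (nat_lit 3), (nat_lit 1), (nat_lit 1), (nat_lit 0), (nat_lit 1), (nat_lit 3)],
  [(nat_lit 0), (nat_lit 2), (nat_lit 1), (nat_lit 3), (nat_lit 1), (nat_lit 0), (nat_lit 2), (nat_lit 1)],
  [(nat_lit 0), (nat_lit 1), (nat_lit 3), (nat_lit 1), (nat_lit 0), (nat_lit 2), (nat_lit 1), (nat_lit 3), (nat_lit 1), (nat_lit 2), (nat_lit 3)],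
  [(nat_lit 2), (nat_lit 1), (nat_lit 0), (nat_lit 3), (nat_lit 2)],
  [(nat_lit 2), (nat_lit 3), (nat_lit 1), (nat_lit 0), (nat_lit 2), (nat_lit 1), (nat_lit 3), (nat_lit 1), (nat_lit 0), (nat_lit 3)],
  [(nat_lit 3), (nat_lit 1), (nat_lit 0), (nat_lit 1), (nat_lit 1), (nat_lit 3), (nat_lit 1), (nat_lit 0), (nat_lit 1)],
  [(nat_lit 1), (nat_lit 0), (nat_lit 1)],
  [(nat_lit 1), (nat_lit 3), (nat_lit 1), (nat_lit 0), (nat_lit 1), (nat_lit 1), (nat_lit 3), (nat_lit 1)],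
  [(nat_lit 1), (nat_lit 1), (nat_lit 3), (nat_lit 1), (nat_lit 0), (nat_lit 1), (nat_lit 1), (nat_lit 3)],
  [(nat_lit 2), (nat_lit 1), (nat_lit 0), (nat_lit 3), (nat_lit 1), (nat_lit 0), (nat_lit 2), (nat_lit 1)],
  [(nat_lit 1), (nat_lit 3), (nat_lit 1), (nat_lit 0), (nat_lit 2), (nat_lit 1), (nat_lit 3), (nat_lit 1), (nat_lit 0), (nat_lit 2), (nat_lit 3)],
  [(nat_lit 0), (nat_lit 2), (nat_lit 1), (nat_lit 3), (nat_lit 2)],
  [(nat_lit 0), (nat_lit 2), (nat_lit 3), (nat_lit 1), (nat_lit 0), (nat_lit 2), (nat_lit 1), (nat_lit 3), (nat_lit 1), (nat_lit 3)],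
  [(nat_lit 0), (nat_lit 1), (nat_lit 0), (nat_lit 3), (nat_lit 2), (nat_lit 1), (nat_lit 0), (nat_lit 3), (nat_lit 1), (nat_lit 0)],
  [(nat_lit 1), (nat_lit 0), (nat_lit 1), (nat_lit 3), (nat_lit 2), (nat_lit 1), (nat_lit 3)],
  [(nat_lit 1), (nat_lit 0), (nat_lit 3), (nat_lit 2), (nat_lit 1), (nat_lit 0), (nat_lit 3), (nat_lit 1)],
  [(nat_lit 1), (nat_lit 1), (nat_lit 0), (nat_lit 3), (nat_lit 2), (nat_lit 1), (nat_lit 0), (nat_lit 3)],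
  [(nat_lit 1), (nat_lit 1), (nat_lit 0), (nat_lit 3), (nat_lit 1), (nat_lit 0), (nat_lit 2), (nat_lit 1), (nat_lit 3), (nat_lit 1), (nat_lit 3)],
  [(nat_lit 1), (nat_lit 3), (nat_lit 1), (nat_lit 0), (nat_lit 2), (nat_lit 1), (nat_lit 3), (nat_lit 1), (nat_lit 0), (nat_lit 1), (nat_lit 3)],
  [(nat_lit 0), (nat_lit 3), (nat_lit 2)],
  [(nat_lit 0), (nat_lit 3), (nat_lit 1), (nat_lit 0), (nat_lit 2), (nat_lit 1)],
  [(nat_lit 0), (nat_lit 1), (nat_lit 1), (nat_lit 3), (nat_lit 1), (nat_lit 0), (nat_lit 1), (nat_lit 3), (nat_lit 1), (nat_lit 3)],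
  [(nat_lit 0), (nat_lit 1), (nat_lit 3), (nat_lit 1), (nat_lit 0), (nat_lit 1), (nat_lit 3), (nat_lit 1), (nat_lit 1), (nat_lit 3)],
  [(nat_lit 1), (nat_lit 1), (nat_lit 0), (nat_lit 1), (nat_lit 3), (nat_lit 1), (nat_lit 1)],
  [(nat_lit 1), (nat_lit 0), (nat_lit 1), (nat_lit 1), (nat_lit 3), (nat_lit 1), (nat_lit 1), (nat_lit 0)],
  [(nat_lit 0), (nat_lit 2), (nat_lit 3), (nat_lit 2), (nat_lit 1), (nat_lit 0), (nat_lit 3)],
  [(nat_lit 2), (nat_lit 3), (nat_lit 2), (nat_lit 1), (nat_lit 3)],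
  [(nat_lit 1), (nat_lit 2), (nat_lit 3), (nat_lit 2), (nat_lit 1), (nat_lit 0), (nat_lit 3), (nat_lit 1)],
  [(nat_lit 0), (nat_lit 1), (nat_lit 1), (nat_lit 3), (nat_lit 2), (nat_lit 1), (nat_lit 0), (nat_lit 3), (nat_lit 1), (nat_lit 2)],
  [(nat_lit 0), (nat_lit 2), (nat_lit 1), (nat_lit 3), (nat_lit 1), (nat_lit 0), (nat_lit 1)],
  [(nat_lit 0), (nat_lit 1), (nat_lit 3), (nat_lit 1), (nat_lit 0), (nat_lit 1), (nat_lit 3), (nat_lit 1), (nat_lit 2), (nat_lit 3)],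
  [(nat_lit 2), (nat_lit 1), (nat_lit 0), (nat_lit 3), (nat_lit 1), (nat_lit 1)],
  [(nat_lit 1), (nat_lit 3), (nat_lit 1), (nat_lit 0), (nat_lit 1), (nat_lit 3), (nat_lit 1), (nat_lit 0), (nat_lit 2), (nat_lit 3)],
  [(nat_lit 2), (nat_lit 3), (nat_lit 1), (nat_lit 0), (nat_lit 1), (nat_lit 1), (nat_lit 3)],
  [(nat_lit 2)],
  [(nat_lit 1), (nat_lit 2), (nat_lit 3), (nat_lit 1), (nat_lit 1), (nat_lit 0), (nat_lit 1), (nat_lit 3), (nat_lit 1)],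
  [(nat_lit 0), (nat_lit 1), (nat_lit 1), (nat_lit 3), (nat_lit 1), (nat_lit 1), (nat_lit 0), (nat_lit 1), (nat_lit 3), (nat_lit 1), (nat_lit 2)],
  [(nat_lit 2), (nat_lit 1), (nat_lit 3), (nat_lit 1), (nat_lit 1), (nat_lit 0)],
  [(nat_lit 2), (nat_lit 3), (nat_lit 1), (nat_lit 0), (nat_lit 1), (nat_lit 3), (nat_lit 1), (nat_lit 0), (nat_lit 3)],
  [(nat_lit 0), (nat_lit 2), (nat_lit 1), (nat_lit 3), (nat_lit 1), (nat_lit 1)],
  [(nat_lit 2), (nat_lit 3), (nat_lit 1), (nat_lit 1), (nat_lit 0), (nat_lit 3), (nat_lit 1), (nat_lit 3)],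
  [(nat_lit 1), (nat_lit 0), (nat_lit 2), (nat_lit 1), (nat_lit 3), (nat_lit 1), (nat_lit 0), (nat_lit 1), (nat_lit 1), (nat_lit 3)],
  [(nat_lit 1), (nat_lit 0), (nat_lit 2), (nat_lit 1)],
  [(nat_lit 1), (nat_lit 2), (nat_lit 3), (nat_lit 1), (nat_lit 0), (nat_lit 1), (nat_lit 1), (nat_lit 3), (nat_lit 1)],
  [(nat_lit 1), (nat_lit 1), (nat_lit 3), (nat_lit 1), (nat_lit 0), (nat_lit 1), (nat_lit 1), (nat_lit 3), (nat_lit 1), (nat_lit 2)],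
  [(nat_lit 1), (nat_lit 1), (nat_lit 3), (nat_lit 1), (nat_lit 1), (nat_lit 0), (nat_lit 3), (nat_lit 1), (nat_lit 3)],
  [(nat_lit 0), (nat_lit 1), (nat_lit 3), (nat_lit 1), (nat_lit 1), (nat_lit 0), (nat_lit 3), (nat_lit 1), (nat_lit 1), (nat_lit 3)],
  [(nat_lit 0), (nat_lit 3), (nat_lit 1), (nat_lit 1)],
  [(nat_lit 3), (nat_lit 1), (nat_lit 1), (nat_lit 0)],
  [(nat_lit 0), (nat_lit 1), (nat_lit 0), (nat_lit 2), (nat_lit 1), (nat_lit 3), (nat_lit 2), (nat_lit 1), (nat_lit 0), (nat_lit 3)],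
  [(nat_lit 1), (nat_lit 0), (nat_lit 2), (nat_lit 1), (nat_lit 3), (nat_lit 2), (nat_lit 1), (nat_lit 3)],
  [(nat_lit 1), (nat_lit 0), (nat_lit 2), (nat_lit 3), (nat_lit 2), (nat_lit 1), (nat_lit 0), (nat_lit 3), (nat_lit 1)],
  [(nat_lit 1), (nat_lit 1), (nat_lit 0), (nat_lit 3), (nat_lit 2), (nat_lit 1), (nat_lit 0), (nat_lit 3), (nat_lit 1), (nat_lit 2)],
  [(nat_lit 3), (nat_lit 1), (nat_lit 1), (nat_lit 0), (nat_lit 1), (nat_lit 3), (nat_lit 1), (nat_lit 2)],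
  [(nat_lit 0), (nat_lit 1), (nat_lit 2)],
  [(nat_lit 0), (nat_lit 1), (nat_lit 2), (nat_lit 3), (nat_lit 1), (nat_lit 1), (nat_lit 0), (nat_lit 1), (nat_lit 3)],
  [(nat_lit 2), (nat_lit 1), (nat_lit 3), (nat_lit 1), (nat_lit 1), (nat_lit 0), (nat_lit 1), (nat_lit 3), (nat_lit 1)],
  [(nat_lit 2), (nat_lit 1), (nat_lit 3), (nat_lit 1), (nat_lit 0)],
  [(nat_lit 1), (nat_lit 3), (nat_lit 1), (nat_lit 0), (nat_lit 3), (nat_lit 1), (nat_lit 2), (nat_lit 3)],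
  [(nat_lit 0), (nat_lit 2), (nat_lit 1), (nat_lit 0), (nat_lit 3), (nat_lit 1)],
  [(nat_lit 1), (nat_lit 0), (nat_lit 2), (nat_lit 1), (nat_lit 3), (nat_lit 1), (nat_lit 0), (nat_lit 3), (nat_lit 1), (nat_lit 3)],
  [(nat_lit 3), (nat_lit 2), (nat_lit 1), (nat_lit 0), (nat_lit 3), (nat_lit 1), (nat_lit 2)],
  [(nat_lit 0), (nat_lit 1), (nat_lit 2), (nat_lit 3), (nat_lit 2), (nat_lit 1), (nat_lit 3)],
  [(nat_lit 0), (nat_lit 1), (nat_lit 2), (nat_lit 3), (nat_lit 2), (nat_lit 1), (nat_lit 0), (nat_lit 3)],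
  [(nat_lit 2), (nat_lit 1), (nat_lit 3), (nat_lit 2), (nat_lit 1), (nat_lit 0), (nat_lit 3), (nat_lit 1)],
  [(nat_lit 1), (nat_lit 1), (nat_lit 3), (nat_lit 1), (nat_lit 0), (nat_lit 3), (nat_lit 1), (nat_lit 3)],
  [(nat_lit 1), (nat_lit 3), (nat_lit 1), (nat_lit 0), (nat_lit 3), (nat_lit 1), (nat_lit 1), (nat_lit 3)],
  [(nat_lit 1), (nat_lit 0), (nat_lit 1), (nat_lit 1), (nat_lit 3), (nat_lit 1)],
  [(nat_lit 1), (nat_lit 0), (nat_lit 1), (nat_lit 1), (nat_lit 3), (nat_lit 1), (nat_lit 0)],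
  [(nat_lit 0), (nat_lit 2), (nat_lit 1), (nat_lit 0), (nat_lit 3), (nat_lit 2), (nat_lit 1), (nat_lit 0), (nat_lit 3), (nat_lit 1), (nat_lit 0)],
  [(nat_lit 0), (nat_lit 1), (nat_lit 0), (nat_lit 2), (nat_lit 3), (nat_lit 2), (nat_lit 1), (nat_lit 3)],
  [(nat_lit 0), (nat_lit 1), (nat_lit 0), (nat_lit 2), (nat_lit 3), (nat_lit 2), (nat_lit 1), (nat_lit 0), (nat_lit 3)],
  [(nat_lit 0), (nat_lit 2), (nat_lit 1), (nat_lit 0), (nat_lit 3), (nat_lit 2), (nat_lit 1), (nat_lit 0), (nat_lit 3), (nat_lit 1)],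
  [(nat_lit 1), (nat_lit 0), (nat_lit 1), (nat_lit 3), (nat_lit 1), (nat_lit 0), (nat_lit 3), (nat_lit 1), (nat_lit 3)],
  [(nat_lit 1), (nat_lit 0), (nat_lit 3), (nat_lit 1), (nat_lit 0), (nat_lit 3), (nat_lit 1), (nat_lit 1), (nat_lit 3)],
  [(nat_lit 3), (nat_lit 1)],
  [(nat_lit 3), (nat_lit 1), (nat_lit 0)],
  [(nat_lit 3), (nat_lit 1), (nat_lit 1), (nat_lit 0), (nat_lit 1), (nat_lit 3), (nat_lit 1), (nat_lit 0), (nat_lit 2)],
  [(nat_lit 0), (nat_lit 1), (nat_lit 0), (nat_lit 2)],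
  [(nat_lit 0), (nat_lit 1), (nat_lit 2), (nat_lit 3), (nat_lit 1), (nat_lit 0), (nat_lit 1), (nat_lit 1), (nat_lit 3)],
  [(nat_lit 0), (nat_lit 2), (nat_lit 1), (nat_lit 3), (nat_lit 1), (nat_lit 0), (nat_lit 1), (nat_lit 1), (nat_lit 3), (nat_lit 1)],
  [(nat_lit 0), (nat_lit 2), (nat_lit 1), (nat_lit 0), (nat_lit 3), (nat_lit 1), (nat_lit 0)],
  [(nat_lit 1), (nat_lit 0), (nat_lit 3), (nat_lit 1), (nat_lit 0), (nat_lit 3), (nat_lit 1), (nat_lit 2), (nat_lit 3)],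
  [(nat_lit 2), (nat_lit 1), (nat_lit 3), (nat_lit 1)],
  [(nat_lit 2), (nat_lit 3), (nat_lit 1), (nat_lit 0), (nat_lit 3), (nat_lit 1), (nat_lit 3)],
  [(nat_lit 1), (nat_lit 1), (nat_lit 3), (nat_lit 1), (nat_lit 0), (nat_lit 2), (nat_lit 3), (nat_lit 1), (nat_lit 3)],
  [(nat_lit 1), (nat_lit 3), (nat_lit 1), (nat_lit 0), (nat_lit 2), (nat_lit 3), (nat_lit 1), (nat_lit 1), (nat_lit 3)],
  [(nat_lit 1), (nat_lit 0), (nat_lit 1), (nat_lit 1), (nat_lit 3), (nat_lit 1), (nat_lit 2)],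
  [(nat_lit 1), (nat_lit 0), (nat_lit 1), (nat_lit 1), (nat_lit 3), (nat_lit 1), (nat_lit 0), (nat_lit 2)],
  [(nat_lit 3), (nat_lit 2), (nat_lit 1), (nat_lit 0), (nat_lit 3), (nat_lit 1)],
  [(nat_lit 0), (nat_lit 1), (nat_lit 3), (nat_lit 2), (nat_lit 1), (nat_lit 3)],
  [(nat_lit 0), (nat_lit 1), (nat_lit 3), (nat_lit 2), (nat_lit 1), (nat_lit 0), (nat_lit 3)],
  [(nat_lit 3), (nat_lit 2), (nat_lit 1), (nat_lit 0), (nat_lit 3), (nat_lit 1), (nat_lit 0)],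
  [(nat_lit 2), (nat_lit 1), (nat_lit 3), (nat_lit 1), (nat_lit 0), (nat_lit 2)],
  [(nat_lit 1), (nat_lit 3), (nat_lit 1), (nat_lit 0), (nat_lit 2), (nat_lit 3), (nat_lit 1), (nat_lit 2), (nat_lit 3)],
  [(nat_lit 0), (nat_lit 2), (nat_lit 1), (nat_lit 0), (nat_lit 3), (nat_lit 1), (nat_lit 2)],
  [(nat_lit 1), (nat_lit 0), (nat_lit 2), (nat_lit 1), (nat_lit 3), (nat_lit 1), (nat_lit 0), (nat_lit 2), (nat_lit 3), (nat_lit 1), (nat_lit 3)],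
  [(nat_lit 3), (nat_lit 1), (nat_lit 1), (nat_lit 0), (nat_lit 1), (nat_lit 3), (nat_lit 1)],
  [(nat_lit 0), (nat_lit 1)],
  [(nat_lit 0), (nat_lit 1), (nat_lit 3), (nat_lit 1), (nat_lit 1), (nat_lit 0), (nat_lit 1), (nat_lit 3)],
  [(nat_lit 1), (nat_lit 1), (nat_lit 3), (nat_lit 1), (nat_lit 1), (nat_lit 0), (nat_lit 1), (nat_lit 3), (nat_lit 1), (nat_lit 1)],
  [(nat_lit 1), (nat_lit 0), (nat_lit 1), (nat_lit 3), (nat_lit 1), (nat_lit 0), (nat_lit 2), (nat_lit 3), (nat_lit 1), (nat_lit 3)],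
  [(nat_lit 1), (nat_lit 0), (nat_lit 3), (nat_lit 1), (nat_lit 0), (nat_lit 2), (nat_lit 3), (nat_lit 1), (nat_lit 1), (nat_lit 3)],
  [(nat_lit 3), (nat_lit 1), (nat_lit 2)],
  [(nat_lit 3), (nat_lit 1), (nat_lit 0), (nat_lit 2)],
  [(nat_lit 1), (nat_lit 0), (nat_lit 1), (nat_lit 1), (nat_lit 3), (nat_lit 2), (nat_lit 1), (nat_lit 0), (nat_lit 3), (nat_lit 1)],
  [(nat_lit 0), (nat_lit 1), (nat_lit 0), (nat_lit 3), (nat_lit 2), (nat_lit 1), (nat_lit 3)],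
  [(nat_lit 0), (nat_lit 1), (nat_lit 0), (nat_lit 3), (nat_lit 2), (nat_lit 1), (nat_lit 0), (nat_lit 3)],
  [(nat_lit 1), (nat_lit 0), (nat_lit 1), (nat_lit 3), (nat_lit 2), (nat_lit 1), (nat_lit 0), (nat_lit 3), (nat_lit 1), (nat_lit 1)],
  [(nat_lit 0), (nat_lit 2), (nat_lit 1), (nat_lit 0), (nat_lit 3), (nat_lit 1), (nat_lit 0), (nat_lit 2)],
  [(nat_lit 1), (nat_lit 0), (nat_lit 3), (nat_lit 1), (nat_lit 0), (nat_lit 2), (nat_lit 3), (nat_lit 1), (nat_lit 2), (nat_lit 3)],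
  [(nat_lit 2), (nat_lit 1), (nat_lit 3), (nat_lit 1), (nat_lit 2)],
  [(nat_lit 2), (nat_lit 3), (nat_lit 1), (nat_lit 0), (nat_lit 2), (nat_lit 3), (nat_lit 1), (nat_lit 3)],
  [(nat_lit 3), (nat_lit 1), (nat_lit 1), (nat_lit 0), (nat_lit 1), (nat_lit 3), (nat_lit 1), (nat_lit 0)],
  [(nat_lit 0), (nat_lit 1), (nat_lit 0)],
  [(nat_lit 0), (nat_lit 1), (nat_lit 3), (nat_lit 1), (nat_lit 0), (nat_lit 1), (nat_lit 1), (nat_lit 3)],
  [(nat_lit 0), (nat_lit 1), (nat_lit 1), (nat_lit 3), (nat_lit 1), (nat_lit 0), (nat_lit 1), (nat_lit 1), (nat_lit 3), (nat_lit 1), (nat_lit 1)],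
  [(nat_lit 0), (nat_lit 1), (nat_lit 2), (nat_lit 3), (nat_lit 1), (nat_lit 1), (nat_lit 0), (nat_lit 1)],
  [(nat_lit 2), (nat_lit 1), (nat_lit 3), (nat_lit 1), (nat_lit 1), (nat_lit 0), (nat_lit 1), (nat_lit 3), (nat_lit 1), (nat_lit 3)],
  [(nat_lit 3), (nat_lit 1), (nat_lit 1), (nat_lit 0), (nat_lit 1), (nat_lit 3), (nat_lit 1), (nat_lit 2), (nat_lit 3)],
  [(nat_lit 0), (nat_lit 1), (nat_lit 2), (nat_lit 3)],
  [(nat_lit 0), (nat_lit 2), (nat_lit 1), (nat_lit 0), (nat_lit 3), (nat_lit 1), (nat_lit 3)],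
  [(nat_lit 1), (nat_lit 0), (nat_lit 2), (nat_lit 1), (nat_lit 3), (nat_lit 1), (nat_lit 0), (nat_lit 3), (nat_lit 1)],
  [(nat_lit 2), (nat_lit 1), (nat_lit 3), (nat_lit 1), (nat_lit 0), (nat_lit 3)],
  [(nat_lit 1), (nat_lit 3), (nat_lit 1), (nat_lit 0), (nat_lit 3), (nat_lit 1), (nat_lit 2)],
  [(nat_lit 0), (nat_lit 1), (nat_lit 0), (nat_lit 2), (nat_lit 3), (nat_lit 2), (nat_lit 1)],
  [(nat_lit 0), (nat_lit 2), (nat_lit 1), (nat_lit 0), (nat_lit 3), (nat_lit 2), (nat_lit 1), (nat_lit 0), (nat_lit 3), (nat_lit 1), (nat_lit 0), (nat_lit 3)],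
  [(nat_lit 0), (nat_lit 2), (nat_lit 1), (nat_lit 0), (nat_lit 3), (nat_lit 2), (nat_lit 1), (nat_lit 0), (nat_lit 3), (nat_lit 1), (nat_lit 3)],
  [(nat_lit 0), (nat_lit 1), (nat_lit 0), (nat_lit 2), (nat_lit 3), (nat_lit 2), (nat_lit 1), (nat_lit 0)],
  [(nat_lit 1), (nat_lit 0), (nat_lit 3), (nat_lit 1), (nat_lit 0), (nat_lit 3), (nat_lit 1), (nat_lit 1)],
  [(nat_lit 1), (nat_lit 0), (nat_lit 1), (nat_lit 3), (nat_lit 1), (nat_lit 0), (nat_lit 3), (nat_lit 1)],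
  [(nat_lit 3), (nat_lit 1), (nat_lit 0), (nat_lit 3)],
  [(nat_lit 3), (nat_lit 1), (nat_lit 3)],
  [(nat_lit 0), (nat_lit 1), (nat_lit 2), (nat_lit 3), (nat_lit 2), (nat_lit 1)],
  [(nat_lit 3), (nat_lit 2), (nat_lit 1), (nat_lit 0), (nat_lit 3), (nat_lit 1), (nat_lit 2), (nat_lit 3)],
  [(nat_lit 2), (nat_lit 1), (nat_lit 3), (nat_lit 2), (nat_lit 1), (nat_lit 0), (nat_lit 3), (nat_lit 1), (nat_lit 3)],
  [(nat_lit 0), (nat_lit 1), (nat_lit 2), (nat_lit 3), (nat_lit 2), (nat_lit 1), (nat_lit 0)],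
  [(nat_lit 1), (nat_lit 3), (nat_lit 1), (nat_lit 0), (nat_lit 3), (nat_lit 1), (nat_lit 1)],
  [(nat_lit 1), (nat_lit 1), (nat_lit 3), (nat_lit 1), (nat_lit 0), (nat_lit 3), (nat_lit 1)],
  [(nat_lit 1), (nat_lit 0), (nat_lit 1), (nat_lit 1), (nat_lit 3), (nat_lit 1), (nat_lit 0), (nat_lit 3)],
  [(nat_lit 1), (nat_lit 0), (nat_lit 1), (nat_lit 1), (nat_lit 3), (nat_lit 1), (nat_lit 3)],
  [(nat_lit 0), (nat_lit 1), (nat_lit 2), (nat_lit 3), (nat_lit 1), (nat_lit 0), (nat_lit 1), (nat_lit 1)],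
  [(nat_lit 0), (nat_lit 2), (nat_lit 1), (nat_lit 3), (nat_lit 1), (nat_lit 0), (nat_lit 1), (nat_lit 1), (nat_lit 3), (nat_lit 1), (nat_lit 3)],
  [(nat_lit 3), (nat_lit 1), (nat_lit 1), (nat_lit 0), (nat_lit 1), (nat_lit 3), (nat_lit 1), (nat_lit 0), (nat_lit 2), (nat_lit 3)],
  [(nat_lit 0), (nat_lit 1), (nat_lit 0), (nat_lit 2), (nat_lit 3)],
  [(nat_lit 2), (nat_lit 1), (nat_lit 3), (nat_lit 1), (nat_lit 3)],
  [(nat_lit 2), (nat_lit 3), (nat_lit 1), (nat_lit 0), (nat_lit 3), (nat_lit 1)],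
  [(nat_lit 0), (nat_lit 2), (nat_lit 1), (nat_lit 0), (nat_lit 3), (nat_lit 1), (nat_lit 0), (nat_lit 3)],
  [(nat_lit 1), (nat_lit 0), (nat_lit 3), (nat_lit 1), (nat_lit 0), (nat_lit 3), (nat_lit 1), (nat_lit 2)],
  [(nat_lit 1), (nat_lit 0), (nat_lit 1), (nat_lit 1), (nat_lit 3), (nat_lit 1), (nat_lit 2), (nat_lit 3)],
  [(nat_lit 1), (nat_lit 0), (nat_lit 1), (nat_lit 1), (nat_lit 3), (nat_lit 1), (nat_lit 0), (nat_lit 2), (nat_lit 3)],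
  [(nat_lit 1), (nat_lit 1), (nat_lit 3), (nat_lit 1), (nat_lit 0), (nat_lit 2), (nat_lit 3), (nat_lit 1)],
  [(nat_lit 1), (nat_lit 3), (nat_lit 1), (nat_lit 0), (nat_lit 2), (nat_lit 3), (nat_lit 1), (nat_lit 1)],
  [(nat_lit 0), (nat_lit 1), (nat_lit 3), (nat_lit 2), (nat_lit 1), (nat_lit 0)],
  [(nat_lit 3), (nat_lit 2), (nat_lit 1), (nat_lit 0), (nat_lit 3), (nat_lit 1), (nat_lit 0), (nat_lit 3)],
  [(nat_lit 3), (nat_lit 2), (nat_lit 1), (nat_lit 0), (nat_lit 3), (nat_lit 1), (nat_lit 3)],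
  [(nat_lit 0), (nat_lit 1), (nat_lit 3), (nat_lit 2), (nat_lit 1)],
  [(nat_lit 3), (nat_lit 1), (nat_lit 2), (nat_lit 3)],
  [(nat_lit 3), (nat_lit 1), (nat_lit 0), (nat_lit 2), (nat_lit 3)],
  [(nat_lit 1), (nat_lit 0), (nat_lit 1), (nat_lit 3), (nat_lit 1), (nat_lit 0), (nat_lit 2), (nat_lit 3), (nat_lit 1)],
  [(nat_lit 1), (nat_lit 0), (nat_lit 3), (nat_lit 1), (nat_lit 0), (nat_lit 2), (nat_lit 3), (nat_lit 1), (nat_lit 1)],
  [(nat_lit 0), (nat_lit 1), (nat_lit 0), (nat_lit 3), (nat_lit 2), (nat_lit 1), (nat_lit 0)],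
  [(nat_lit 0), (nat_lit 3), (nat_lit 1), (nat_lit 0), (nat_lit 3), (nat_lit 1), (nat_lit 0), (nat_lit 3), (nat_lit 1), (nat_lit 2)],
  [(nat_lit 0), (nat_lit 3), (nat_lit 1), (nat_lit 0), (nat_lit 2), (nat_lit 1), (nat_lit 3), (nat_lit 1), (nat_lit 0), (nat_lit 3), (nat_lit 1)],
  [(nat_lit 0), (nat_lit 1), (nat_lit 0), (nat_lit 3), (nat_lit 2), (nat_lit 1)],
  [(nat_lit 1), (nat_lit 0), (nat_lit 3), (nat_lit 1), (nat_lit 0), (nat_lit 2), (nat_lit 3), (nat_lit 1), (nat_lit 2)],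
  [(nat_lit 0), (nat_lit 2), (nat_lit 1), (nat_lit 0), (nat_lit 3), (nat_lit 1), (nat_lit 0), (nat_lit 2), (nat_lit 3)],
  [(nat_lit 2), (nat_lit 3), (nat_lit 1), (nat_lit 0), (nat_lit 2), (nat_lit 3), (nat_lit 1)],
  [(nat_lit 2), (nat_lit 1), (nat_lit 3), (nat_lit 1), (nat_lit 2), (nat_lit 3)],
  [(nat_lit 0), (nat_lit 1), (nat_lit 0), (nat_lit 3)],
  [(nat_lit 3), (nat_lit 1), (nat_lit 1), (nat_lit 0), (nat_lit 1), (nat_lit 3), (nat_lit 1), (nat_lit 0), (nat_lit 3)],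
  [(nat_lit 0), (nat_lit 3), (nat_lit 1), (nat_lit 0), (nat_lit 3), (nat_lit 1), (nat_lit 0), (nat_lit 3), (nat_lit 1), (nat_lit 1)],
  [(nat_lit 0), (nat_lit 1), (nat_lit 3), (nat_lit 1), (nat_lit 0), (nat_lit 1), (nat_lit 1)],
  [(nat_lit 1), (nat_lit 3), (nat_lit 1), (nat_lit 0), (nat_lit 2), (nat_lit 3), (nat_lit 1), (nat_lit 2)],
  [(nat_lit 2), (nat_lit 1), (nat_lit 3), (nat_lit 1), (nat_lit 0), (nat_lit 2), (nat_lit 3)],
  [(nat_lit 1), (nat_lit 0), (nat_lit 2), (nat_lit 1), (nat_lit 3), (nat_lit 1), (nat_lit 0), (nat_lit 2), (nat_lit 3), (nat_lit 1)],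
  [(nat_lit 0), (nat_lit 2), (nat_lit 1), (nat_lit 0), (nat_lit 3), (nat_lit 1), (nat_lit 2), (nat_lit 3)],
  [(nat_lit 0), (nat_lit 1), (nat_lit 3)],
  [(nat_lit 3), (nat_lit 1), (nat_lit 1), (nat_lit 0), (nat_lit 1), (nat_lit 3), (nat_lit 1), (nat_lit 3)],
  [(nat_lit 3), (nat_lit 1), (nat_lit 1), (nat_lit 0), (nat_lit 3), (nat_lit 1), (nat_lit 0), (nat_lit 3), (nat_lit 1)],
  [(nat_lit 0), (nat_lit 1), (nat_lit 3), (nat_lit 1), (nat_lit 1), (nat_lit 0), (nat_lit 1)],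
  [(nat_lit 1), (nat_lit 1), (nat_lit 0), (nat_lit 3), (nat_lit 2), (nat_lit 1)],
  [(nat_lit 1), (nat_lit 0), (nat_lit 3), (nat_lit 2), (nat_lit 1), (nat_lit 0), (nat_lit 3), (nat_lit 1), (nat_lit 0), (nat_lit 3)],
  [(nat_lit 1), (nat_lit 0), (nat_lit 1), (nat_lit 3), (nat_lit 2), (nat_lit 1), (nat_lit 0)],
  [(nat_lit 0), (nat_lit 1), (nat_lit 0), (nat_lit 3), (nat_lit 2), (nat_lit 1), (nat_lit 0), (nat_lit 3), (nat_lit 1), (nat_lit 3)],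
  [(nat_lit 1), (nat_lit 0), (nat_lit 3), (nat_lit 1), (nat_lit 0), (nat_lit 2), (nat_lit 1), (nat_lit 3), (nat_lit 1), (nat_lit 1)],
  [(nat_lit 1), (nat_lit 0), (nat_lit 1), (nat_lit 3), (nat_lit 1), (nat_lit 0), (nat_lit 2), (nat_lit 1), (nat_lit 3), (nat_lit 1)],
  [(nat_lit 3), (nat_lit 1), (nat_lit 0), (nat_lit 2), (nat_lit 1), (nat_lit 3)],
  [(nat_lit 3), (nat_lit 2), (nat_lit 3)],
  [(nat_lit 0), (nat_lit 1), (nat_lit 3), (nat_lit 1), (nat_lit 1), (nat_lit 0), (nat_lit 1), (nat_lit 3), (nat_lit 1), (nat_lit 3)],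
  [(nat_lit 1), (nat_lit 1), (nat_lit 3), (nat_lit 1), (nat_lit 1), (nat_lit 0), (nat_lit 1)],
  [(nat_lit 3), (nat_lit 1), (nat_lit 1), (nat_lit 0), (nat_lit 1), (nat_lit 3), (nat_lit 1), (nat_lit 1), (nat_lit 3)],
  [(nat_lit 0), (nat_lit 1), (nat_lit 1), (nat_lit 3)],
  [(nat_lit 0), (nat_lit 2), (nat_lit 1), (nat_lit 0), (nat_lit 3), (nat_lit 2), (nat_lit 3)],
  [(nat_lit 0), (nat_lit 2), (nat_lit 3), (nat_lit 1), (nat_lit 0), (nat_lit 2), (nat_lit 1), (nat_lit 3), (nat_lit 1), (nat_lit 0)],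
  [(nat_lit 2), (nat_lit 1), (nat_lit 3), (nat_lit 1), (nat_lit 0), (nat_lit 2), (nat_lit 1), (nat_lit 3)],
  [(nat_lit 1), (nat_lit 3), (nat_lit 1), (nat_lit 0), (nat_lit 2), (nat_lit 1), (nat_lit 3), (nat_lit 1), (nat_lit 2)],
  [(nat_lit 0), (nat_lit 1), (nat_lit 3), (nat_lit 1), (nat_lit 0), (nat_lit 1), (nat_lit 1), (nat_lit 3), (nat_lit 1), (nat_lit 3)],
  [(nat_lit 0), (nat_lit 1), (nat_lit 1), (nat_lit 3), (nat_lit 1), (nat_lit 0), (nat_lit 1), (nat_lit 1)],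
  [(nat_lit 1), (nat_lit 3), (nat_lit 1), (nat_lit 0), (nat_lit 1), (nat_lit 3), (nat_lit 1), (nat_lit 0), (nat_lit 3), (nat_lit 1)],
  [(nat_lit 1), (nat_lit 1), (nat_lit 0), (nat_lit 3)],
  [(nat_lit 2), (nat_lit 1), (nat_lit 3), (nat_lit 2), (nat_lit 3)],
  [(nat_lit 2), (nat_lit 3), (nat_lit 1), (nat_lit 0), (nat_lit 2), (nat_lit 1), (nat_lit 3), (nat_lit 1)],
  [(nat_lit 0), (nat_lit 2), (nat_lit 1), (nat_lit 0), (nat_lit 3), (nat_lit 1), (nat_lit 0), (nat_lit 2), (nat_lit 1), (nat_lit 3)],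
  [(nat_lit 1), (nat_lit 0), (nat_lit 3), (nat_lit 1), (nat_lit 0), (nat_lit 2), (nat_lit 1), (nat_lit 3), (nat_lit 1), (nat_lit 2)],
  [(nat_lit 0), (nat_lit 1), (nat_lit 1), (nat_lit 3), (nat_lit 2), (nat_lit 1)],
  [(nat_lit 3), (nat_lit 2), (nat_lit 1), (nat_lit 0), (nat_lit 3), (nat_lit 1), (nat_lit 1), (nat_lit 3)],
  [(nat_lit 1), (nat_lit 1), (nat_lit 3), (nat_lit 2), (nat_lit 1), (nat_lit 0)],
  [(nat_lit 0), (nat_lit 1), (nat_lit 3), (nat_lit 2), (nat_lit 1), (nat_lit 0), (nat_lit 3), (nat_lit 1), (nat_lit 3)],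
  [(nat_lit 1), (nat_lit 3), (nat_lit 1), (nat_lit 0), (nat_lit 2), (nat_lit 1), (nat_lit 3), (nat_lit 1), (nat_lit 1)],
  [(nat_lit 1), (nat_lit 1), (nat_lit 3), (nat_lit 1), (nat_lit 0), (nat_lit 2), (nat_lit 1), (nat_lit 3), (nat_lit 1)],
  [(nat_lit 1), (nat_lit 0), (nat_lit 1), (nat_lit 1), (nat_lit 3), (nat_lit 1), (nat_lit 0), (nat_lit 2), (nat_lit 1), (nat_lit 3)],
  [(nat_lit 1), (nat_lit 0), (nat_lit 1), (nat_lit 1), (nat_lit 3), (nat_lit 2), (nat_lit 3)],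
  [(nat_lit 1), (nat_lit 0), (nat_lit 1), (nat_lit 1), (nat_lit 3), (nat_lit 1), (nat_lit 1), (nat_lit 3)],
  [(nat_lit 1), (nat_lit 0), (nat_lit 1), (nat_lit 1), (nat_lit 3), (nat_lit 1), (nat_lit 0), (nat_lit 1), (nat_lit 3)],
  [(nat_lit 1), (nat_lit 1), (nat_lit 3), (nat_lit 1), (nat_lit 0), (nat_lit 1), (nat_lit 3), (nat_lit 1)],
  [(nat_lit 1), (nat_lit 3), (nat_lit 1), (nat_lit 0), (nat_lit 1), (nat_lit 3), (nat_lit 1), (nat_lit 1)],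
  [(nat_lit 0), (nat_lit 1), (nat_lit 2), (nat_lit 3), (nat_lit 2), (nat_lit 1), (nat_lit 0), (nat_lit 3), (nat_lit 1), (nat_lit 3)],
  [(nat_lit 1), (nat_lit 1), (nat_lit 3), (nat_lit 2), (nat_lit 1), (nat_lit 0), (nat_lit 3), (nat_lit 1), (nat_lit 2), (nat_lit 3)],
  [(nat_lit 2), (nat_lit 3), (nat_lit 2), (nat_lit 1), (nat_lit 0)],
  [(nat_lit 0), (nat_lit 2), (nat_lit 3), (nat_lit 2), (nat_lit 1)],
  [(nat_lit 1), (nat_lit 3), (nat_lit 1), (nat_lit 1), (nat_lit 0), (nat_lit 3), (nat_lit 1), (nat_lit 2)],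
  [(nat_lit 0), (nat_lit 2), (nat_lit 1), (nat_lit 3), (nat_lit 1), (nat_lit 1), (nat_lit 0), (nat_lit 3)],
  [(nat_lit 2), (nat_lit 3), (nat_lit 1), (nat_lit 0), (nat_lit 1), (nat_lit 3), (nat_lit 1)],
  [(nat_lit 2), (nat_lit 1), (nat_lit 3), (nat_lit 1), (nat_lit 1), (nat_lit 3)],
  [(nat_lit 0), (nat_lit 1), (nat_lit 0), (nat_lit 2), (nat_lit 1), (nat_lit 3)],
  [(nat_lit 1), (nat_lit 0), (nat_lit 2), (nat_lit 1), (nat_lit 3), (nat_lit 1), (nat_lit 1), (nat_lit 0), (nat_lit 1)],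
  [(nat_lit 1), (nat_lit 2), (nat_lit 3), (nat_lit 1), (nat_lit 0), (nat_lit 1), (nat_lit 3), (nat_lit 1), (nat_lit 0), (nat_lit 3), (nat_lit 1)],
  [(nat_lit 0), (nat_lit 1), (nat_lit 2), (nat_lit 3), (nat_lit 1), (nat_lit 0), (nat_lit 1), (nat_lit 1), (nat_lit 3), (nat_lit 1), (nat_lit 3)],
  [(nat_lit 3), (nat_lit 1), (nat_lit 1), (nat_lit 3)],
  [(nat_lit 3), (nat_lit 1), (nat_lit 0), (nat_lit 1), (nat_lit 3)],
  [(nat_lit 0), (nat_lit 1), (nat_lit 1), (nat_lit 3), (nat_lit 1), (nat_lit 1), (nat_lit 0), (nat_lit 3), (nat_lit 1)],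
  [(nat_lit 1), (nat_lit 3), (nat_lit 1), (nat_lit 1), (nat_lit 0), (nat_lit 3), (nat_lit 1), (nat_lit 1)],
  [(nat_lit 0), (nat_lit 1), (nat_lit 0), (nat_lit 2), (nat_lit 3), (nat_lit 2), (nat_lit 1), (nat_lit 0), (nat_lit 3), (nat_lit 1), (nat_lit 3)],
  [(nat_lit 1), (nat_lit 0), (nat_lit 1), (nat_lit 3), (nat_lit 2), (nat_lit 1), (nat_lit 0), (nat_lit 3), (nat_lit 1), (nat_lit 2), (nat_lit 3)],
  [(nat_lit 1), (nat_lit 0), (nat_lit 2), (nat_lit 1), (nat_lit 3), (nat_lit 2), (nat_lit 1), (nat_lit 0)],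
  [(nat_lit 0), (nat_lit 1), (nat_lit 0), (nat_lit 2), (nat_lit 1), (nat_lit 3), (nat_lit 2), (nat_lit 1)],
  [(nat_lit 1), (nat_lit 3), (nat_lit 1), (nat_lit 0), (nat_lit 1), (nat_lit 3), (nat_lit 1), (nat_lit 2)],
  [(nat_lit 2), (nat_lit 1), (nat_lit 3), (nat_lit 1), (nat_lit 0), (nat_lit 1), (nat_lit 3)],
  [(nat_lit 0), (nat_lit 1), (nat_lit 3), (nat_lit 1), (nat_lit 0), (nat_lit 1), (nat_lit 3), (nat_lit 1), (nat_lit 0), (nat_lit 2)],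
  [(nat_lit 0), (nat_lit 2), (nat_lit 1), (nat_lit 0), (nat_lit 3), (nat_lit 1), (nat_lit 1), (nat_lit 3)],
  [(nat_lit 0), (nat_lit 2), (nat_lit 3)],
  [(nat_lit 2), (nat_lit 3), (nat_lit 1), (nat_lit 1), (nat_lit 0), (nat_lit 1)],
  [(nat_lit 1), (nat_lit 1), (nat_lit 3), (nat_lit 1), (nat_lit 1), (nat_lit 0), (nat_lit 1), (nat_lit 3), (nat_lit 1), (nat_lit 2), (nat_lit 3)],
  [(nat_lit 0), (nat_lit 1), (nat_lit 2), (nat_lit 3), (nat_lit 1), (nat_lit 1), (nat_lit 0), (nat_lit 1), (nat_lit 3), (nat_lit 1), (nat_lit 3)],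
  [(nat_lit 1), (nat_lit 0), (nat_lit 1), (nat_lit 3), (nat_lit 2), (nat_lit 1), (nat_lit 0), (nat_lit 3)],
  [(nat_lit 0), (nat_lit 1), (nat_lit 0), (nat_lit 3), (nat_lit 2), (nat_lit 1), (nat_lit 0), (nat_lit 3), (nat_lit 1)],
  [(nat_lit 1), (nat_lit 1), (nat_lit 0), (nat_lit 3), (nat_lit 2), (nat_lit 1), (nat_lit 3)],
  [(nat_lit 1), (nat_lit 0), (nat_lit 3), (nat_lit 2), (nat_lit 1), (nat_lit 0), (nat_lit 3), (nat_lit 1), (nat_lit 0)],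
  [(nat_lit 3), (nat_lit 1), (nat_lit 0), (nat_lit 2), (nat_lit 1)],
  [(nat_lit 3), (nat_lit 2)],
  [(nat_lit 1), (nat_lit 0), (nat_lit 3), (nat_lit 1), (nat_lit 0), (nat_lit 2), (nat_lit 1), (nat_lit 3), (nat_lit 1), (nat_lit 1), (nat_lit 3)],
  [(nat_lit 1), (nat_lit 0), (nat_lit 1), (nat_lit 3), (nat_lit 1), (nat_lit 0), (nat_lit 2), (nat_lit 1), (nat_lit 3), (nat_lit 1), (nat_lit 3)],
  [(nat_lit 0), (nat_lit 1), (nat_lit 1), (nat_lit 3), (nat_lit 1), (nat_lit 0), (nat_lit 1), (nat_lit 1), (nat_lit 3)],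
  [(nat_lit 0), (nat_lit 1), (nat_lit 3), (nat_lit 1), (nat_lit 0), (nat_lit 1), (nat_lit 1), (nat_lit 3), (nat_lit 1)],
  [(nat_lit 1), (nat_lit 1), (nat_lit 0)],
  [(nat_lit 3), (nat_lit 1), (nat_lit 0), (nat_lit 1), (nat_lit 1), (nat_lit 3), (nat_lit 1), (nat_lit 1), (nat_lit 0)],
  [(nat_lit 2), (nat_lit 3), (nat_lit 1), (nat_lit 0), (nat_lit 2), (nat_lit 1), (nat_lit 3), (nat_lit 1), (nat_lit 3)],
  [(nat_lit 2), (nat_lit 1), (nat_lit 3), (nat_lit 2)],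
  [(nat_lit 1), (nat_lit 0), (nat_lit 3), (nat_lit 1), (nat_lit 0), (nat_lit 2), (nat_lit 1), (nat_lit 3), (nat_lit 1), (nat_lit 2), (nat_lit 3)],
  [(nat_lit 0), (nat_lit 2), (nat_lit 1), (nat_lit 0), (nat_lit 3), (nat_lit 1), (nat_lit 0), (nat_lit 2), (nat_lit 1)],
  [(nat_lit 1), (nat_lit 1), (nat_lit 3), (nat_lit 1), (nat_lit 1), (nat_lit 0), (nat_lit 1), (nat_lit 3)],
  [(nat_lit 0), (nat_lit 1), (nat_lit 3), (nat_lit 1), (nat_lit 1), (nat_lit 0), (nat_lit 1), (nat_lit 3), (nat_lit 1)],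
  [(nat_lit 0), (nat_lit 1), (nat_lit 1)],
  [(nat_lit 3), (nat_lit 1), (nat_lit 1), (nat_lit 0), (nat_lit 1), (nat_lit 3), (nat_lit 1), (nat_lit 1)],
  [(nat_lit 0), (nat_lit 2), (nat_lit 3), (nat_lit 1), (nat_lit 0), (nat_lit 2), (nat_lit 1), (nat_lit 3), (nat_lit 1), (nat_lit 0), (nat_lit 3)],
  [(nat_lit 0), (nat_lit 2), (nat_lit 1), (nat_lit 0), (nat_lit 3), (nat_lit 2)],
  [(nat_lit 1), (nat_lit 3), (nat_lit 1), (nat_lit 0), (nat_lit 2), (nat_lit 1), (nat_lit 3), (nat_lit 1), (nat_lit 2), (nat_lit 3)],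
  [(nat_lit 2), (nat_lit 1), (nat_lit 3), (nat_lit 1), (nat_lit 0), (nat_lit 2), (nat_lit 1)],
  [(nat_lit 1), (nat_lit 1), (nat_lit 3), (nat_lit 2), (nat_lit 1), (nat_lit 0), (nat_lit 3)],
  [(nat_lit 0), (nat_lit 1), (nat_lit 3), (nat_lit 2), (nat_lit 1), (nat_lit 0), (nat_lit 3), (nat_lit 1)],
  [(nat_lit 0), (nat_lit 1), (nat_lit 1), (nat_lit 3), (nat_lit 2), (nat_lit 1), (nat_lit 3)],
  [(nat_lit 3), (nat_lit 2), (nat_lit 1), (nat_lit 0), (nat_lit 3), (nat_lit 1), (nat_lit 1)],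
  [(nat_lit 1), (nat_lit 0), (nat_lit 1), (nat_lit 1), (nat_lit 3), (nat_lit 1), (nat_lit 0), (nat_lit 2), (nat_lit 1)],
  [(nat_lit 1), (nat_lit 0), (nat_lit 1), (nat_lit 1), (nat_lit 3), (nat_lit 2)],
  [(nat_lit 1), (nat_lit 3), (nat_lit 1), (nat_lit 0), (nat_lit 2), (nat_lit 1), (nat_lit 3), (nat_lit 1), (nat_lit 1), (nat_lit 3)],
  [(nat_lit 1), (nat_lit 1), (nat_lit 3), (nat_lit 1), (nat_lit 0), (nat_lit 2), (nat_lit 1), (nat_lit 3), (nat_lit 1), (nat_lit 3)],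
  [(nat_lit 3), (nat_lit 1), (nat_lit 0), (nat_lit 1)],
  [(nat_lit 3), (nat_lit 1), (nat_lit 1)],
  [(nat_lit 1), (nat_lit 3), (nat_lit 1), (nat_lit 1), (nat_lit 0), (nat_lit 3), (nat_lit 1), (nat_lit 1), (nat_lit 3)],
  [(nat_lit 0), (nat_lit 1), (nat_lit 1), (nat_lit 3), (nat_lit 1), (nat_lit 1), (nat_lit 0), (nat_lit 3), (nat_lit 1), (nat_lit 3)],
  [(nat_lit 1), (nat_lit 0), (nat_lit 1), (nat_lit 3), (nat_lit 2), (nat_lit 1), (nat_lit 0), (nat_lit 3), (nat_lit 1), (nat_lit 2)],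
  [(nat_lit 0), (nat_lit 1), (nat_lit 0), (nat_lit 2), (nat_lit 3), (nat_lit 2), (nat_lit 1), (nat_lit 0), (nat_lit 3), (nat_lit 1)],
  [(nat_lit 0), (nat_lit 1), (nat_lit 0), (nat_lit 2), (nat_lit 1), (nat_lit 3), (nat_lit 2), (nat_lit 1), (nat_lit 3)],
  [(nat_lit 1), (nat_lit 0), (nat_lit 2), (nat_lit 1), (nat_lit 3), (nat_lit 2), (nat_lit 1), (nat_lit 0), (nat_lit 3)],
  [(nat_lit 2), (nat_lit 3), (nat_lit 1), (nat_lit 0), (nat_lit 1), (nat_lit 3), (nat_lit 1), (nat_lit 3)],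
  [(nat_lit 2), (nat_lit 1), (nat_lit 3), (nat_lit 1), (nat_lit 1)],
  [(nat_lit 1), (nat_lit 3), (nat_lit 1), (nat_lit 1), (nat_lit 0), (nat_lit 3), (nat_lit 1), (nat_lit 2), (nat_lit 3)],
  [(nat_lit 0), (nat_lit 2), (nat_lit 1), (nat_lit 3), (nat_lit 1), (nat_lit 1), (nat_lit 0)],
  [(nat_lit 0), (nat_lit 1), (nat_lit 1), (nat_lit 3), (nat_lit 1), (nat_lit 0), (nat_lit 1), (nat_lit 1), (nat_lit 3), (nat_lit 1), (nat_lit 2)],
  [(nat_lit 0), (nat_lit 1), (nat_lit 2), (nat_lit 3), (nat_lit 1), (nat_lit 0), (nat_lit 1), (nat_lit 1), (nat_lit 3), (nat_lit 1)],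
  [(nat_lit 0), (nat_lit 1), (nat_lit 0), (nat_lit 2), (nat_lit 1)],
  [(nat_lit 1), (nat_lit 0), (nat_lit 2), (nat_lit 1), (nat_lit 3), (nat_lit 1), (nat_lit 1), (nat_lit 0), (nat_lit 1), (nat_lit 3)],
  [(nat_lit 0), (nat_lit 1), (nat_lit 3), (nat_lit 1), (nat_lit 0), (nat_lit 1), (nat_lit 3), (nat_lit 1), (nat_lit 0), (nat_lit 2), (nat_lit 3)],
  [(nat_lit 0), (nat_lit 2), (nat_lit 1), (nat_lit 0), (nat_lit 3), (nat_lit 1), (nat_lit 1)],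
  [(nat_lit 1), (nat_lit 3), (nat_lit 1), (nat_lit 0), (nat_lit 1), (nat_lit 3), (nat_lit 1), (nat_lit 2), (nat_lit 3)],
  [(nat_lit 2), (nat_lit 1), (nat_lit 3), (nat_lit 1), (nat_lit 0), (nat_lit 1)],
  [(nat_lit 1), (nat_lit 1), (nat_lit 3), (nat_lit 1), (nat_lit 1), (nat_lit 0), (nat_lit 1), (nat_lit 3), (nat_lit 1), (nat_lit 2)],
  [(nat_lit 0), (nat_lit 1), (nat_lit 2), (nat_lit 3), (nat_lit 1), (nat_lit 1), (nat_lit 0), (nat_lit 1), (nat_lit 3), (nat_lit 1)],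
  [(nat_lit 0), (nat_lit 2)],
  [(nat_lit 2), (nat_lit 3), (nat_lit 1), (nat_lit 1), (nat_lit 0), (nat_lit 1), (nat_lit 3)],
  [(nat_lit 1), (nat_lit 0), (nat_lit 1), (nat_lit 1), (nat_lit 3), (nat_lit 1), (nat_lit 0), (nat_lit 1)],
  [(nat_lit 1), (nat_lit 0), (nat_lit 1), (nat_lit 1), (nat_lit 3), (nat_lit 1), (nat_lit 1)],
  [(nat_lit 1), (nat_lit 3), (nat_lit 1), (nat_lit 0), (nat_lit 1), (nat_lit 3), (nat_lit 1), (nat_lit 1), (nat_lit 3)],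
  [(nat_lit 1), (nat_lit 1), (nat_lit 3), (nat_lit 1), (nat_lit 0), (nat_lit 1), (nat_lit 3), (nat_lit 1), (nat_lit 3)],
  [(nat_lit 1), (nat_lit 1), (nat_lit 3), (nat_lit 2), (nat_lit 1), (nat_lit 0), (nat_lit 3), (nat_lit 1), (nat_lit 2)],
  [(nat_lit 0), (nat_lit 1), (nat_lit 2), (nat_lit 3), (nat_lit 2), (nat_lit 1), (nat_lit 0), (nat_lit 3), (nat_lit 1)],
  [(nat_lit 0), (nat_lit 2), (nat_lit 3), (nat_lit 2), (nat_lit 1), (nat_lit 3)],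
  [(nat_lit 2), (nat_lit 3), (nat_lit 2), (nat_lit 1), (nat_lit 0), (nat_lit 3)],
  [(nat_lit 0), (nat_lit 1), (nat_lit 3), (nat_lit 1), (nat_lit 0), (nat_lit 1), (nat_lit 1), (nat_lit 3), (nat_lit 1), (nat_lit 2)],
  [(nat_lit 0), (nat_lit 2), (nat_lit 1), (nat_lit 3), (nat_lit 1), (nat_lit 0), (nat_lit 1), (nat_lit 1), (nat_lit 3)],
  [(nat_lit 0), (nat_lit 2), (nat_lit 1), (nat_lit 3), (nat_lit 1), (nat_lit 1), (nat_lit 0), (nat_lit 1)],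
  [(nat_lit 1), (nat_lit 3), (nat_lit 1), (nat_lit 1), (nat_lit 0), (nat_lit 1), (nat_lit 3), (nat_lit 1), (nat_lit 2), (nat_lit 3)],
  [(nat_lit 2), (nat_lit 3), (nat_lit 1), (nat_lit 0), (nat_lit 1), (nat_lit 1), (nat_lit 3), (nat_lit 1), (nat_lit 0)],
  [(nat_lit 2), (nat_lit 1), (nat_lit 0)],
  [(nat_lit 2), (nat_lit 1), (nat_lit 3)],
  [(nat_lit 2), (nat_lit 3), (nat_lit 1), (nat_lit 0), (nat_lit 1), (nat_lit 1), (nat_lit 3), (nat_lit 1), (nat_lit 3)],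
  [(nat_lit 0), (nat_lit 1), (nat_lit 0), (nat_lit 3), (nat_lit 2), (nat_lit 1), (nat_lit 0), (nat_lit 3), (nat_lit 1), (nat_lit 2)],
  [(nat_lit 0), (nat_lit 2), (nat_lit 1), (nat_lit 0), (nat_lit 3), (nat_lit 2), (nat_lit 1), (nat_lit 0), (nat_lit 3)],
  [(nat_lit 1), (nat_lit 0), (nat_lit 2), (nat_lit 1), (nat_lit 3), (nat_lit 2), (nat_lit 1), (nat_lit 0), (nat_lit 3), (nat_lit 1)],
  [(nat_lit 2), (nat_lit 1), (nat_lit 0), (nat_lit 3), (nat_lit 2), (nat_lit 1), (nat_lit 3)],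
  [(nat_lit 0), (nat_lit 1), (nat_lit 1), (nat_lit 3), (nat_lit 1), (nat_lit 1), (nat_lit 0), (nat_lit 1), (nat_lit 3), (nat_lit 1), (nat_lit 3)],
  [(nat_lit 1), (nat_lit 3), (nat_lit 1), (nat_lit 1), (nat_lit 0), (nat_lit 1), (nat_lit 3), (nat_lit 1), (nat_lit 1), (nat_lit 3)],
  [(nat_lit 3)],
  [(nat_lit 3), (nat_lit 1), (nat_lit 0), (nat_lit 1), (nat_lit 1)],
  [(nat_lit 0), (nat_lit 1), (nat_lit 3), (nat_lit 1), (nat_lit 1), (nat_lit 0), (nat_lit 1), (nat_lit 3), (nat_lit 1), (nat_lit 2)],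
  [(nat_lit 2), (nat_lit 1), (nat_lit 3), (nat_lit 1), (nat_lit 1), (nat_lit 0), (nat_lit 1), (nat_lit 3)],
  [(nat_lit 2), (nat_lit 1), (nat_lit 3), (nat_lit 1), (nat_lit 0), (nat_lit 1), (nat_lit 1)],
  [(nat_lit 1), (nat_lit 3), (nat_lit 1), (nat_lit 0), (nat_lit 1), (nat_lit 1), (nat_lit 3), (nat_lit 1), (nat_lit 2), (nat_lit 3)],
  [(nat_lit 2), (nat_lit 3), (nat_lit 1), (nat_lit 1), (nat_lit 0), (nat_lit 1), (nat_lit 3), (nat_lit 1)],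
  [(nat_lit 0), (nat_lit 2), (nat_lit 1)],
  [(nat_lit 0), (nat_lit 2), (nat_lit 1), (nat_lit 0), (nat_lit 3)],
  [(nat_lit 2), (nat_lit 3), (nat_lit 1), (nat_lit 1), (nat_lit 0), (nat_lit 1), (nat_lit 3), (nat_lit 1), (nat_lit 0), (nat_lit 3)],
  [(nat_lit 0), (nat_lit 1), (nat_lit 0), (nat_lit 2), (nat_lit 1), (nat_lit 3), (nat_lit 2), (nat_lit 1), (nat_lit 0), (nat_lit 3), (nat_lit 1), (nat_lit 3)],
  [(nat_lit 0), (nat_lit 2), (nat_lit 1), (nat_lit 0), (nat_lit 3), (nat_lit 2), (nat_lit 1)],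
  [(nat_lit 1), (nat_lit 0), (nat_lit 3), (nat_lit 2), (nat_lit 1), (nat_lit 0), (nat_lit 3), (nat_lit 1), (nat_lit 2), (nat_lit 3)],
  [(nat_lit 2), (nat_lit 1), (nat_lit 0), (nat_lit 3), (nat_lit 2), (nat_lit 1), (nat_lit 0)],
  [(nat_lit 0)],
  [(nat_lit 3), (nat_lit 1), (nat_lit 1), (nat_lit 0), (nat_lit 1), (nat_lit 3)],
  [(nat_lit 1), (nat_lit 1), (nat_lit 3), (nat_lit 1), (nat_lit 1), (nat_lit 0), (nat_lit 1), (nat_lit 3), (nat_lit 1)],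
  [(nat_lit 0), (nat_lit 1), (nat_lit 3), (nat_lit 1), (nat_lit 1), (nat_lit 0), (nat_lit 1), (nat_lit 3), (nat_lit 1), (nat_lit 1)],
  [(nat_lit 1), (nat_lit 1), (nat_lit 0), (nat_lit 1), (nat_lit 3), (nat_lit 2), (nat_lit 1), (nat_lit 0)],
  [(nat_lit 1), (nat_lit 0), (nat_lit 1), (nat_lit 1), (nat_lit 3), (nat_lit 2), (nat_lit 1)],
  [(nat_lit 0), (nat_lit 3), (nat_lit 2), (nat_lit 1), (nat_lit 3)],
  [(nat_lit 3), (nat_lit 2), (nat_lit 1), (nat_lit 0), (nat_lit 3)],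
  [(nat_lit 1), (nat_lit 0), (nat_lit 3), (nat_lit 2), (nat_lit 1), (nat_lit 0), (nat_lit 3), (nat_lit 1), (nat_lit 1), (nat_lit 3)],
  [(nat_lit 1), (nat_lit 1), (nat_lit 0), (nat_lit 3), (nat_lit 2), (nat_lit 1), (nat_lit 0), (nat_lit 3), (nat_lit 1), (nat_lit 3)],
  [(nat_lit 1), (nat_lit 1), (nat_lit 3), (nat_lit 2), (nat_lit 1), (nat_lit 0), (nat_lit 3), (nat_lit 1)],
  [(nat_lit 0), (nat_lit 1), (nat_lit 3), (nat_lit 2), (nat_lit 1), (nat_lit 0), (nat_lit 3), (nat_lit 1), (nat_lit 1)],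
  [(nat_lit 0), (nat_lit 1), (nat_lit 3), (nat_lit 2), (nat_lit 1), (nat_lit 0), (nat_lit 3), (nat_lit 1), (nat_lit 2)],
  [(nat_lit 2), (nat_lit 1), (nat_lit 3), (nat_lit 2), (nat_lit 1), (nat_lit 0), (nat_lit 3)],
  [(nat_lit 2), (nat_lit 3), (nat_lit 2), (nat_lit 1), (nat_lit 0), (nat_lit 3), (nat_lit 1)],
  [(nat_lit 0), (nat_lit 2), (nat_lit 1), (nat_lit 3), (nat_lit 2), (nat_lit 1), (nat_lit 3)],
  [(nat_lit 1), (nat_lit 1), (nat_lit 3), (nat_lit 1), (nat_lit 0), (nat_lit 1), (nat_lit 1), (nat_lit 3), (nat_lit 1), (nat_lit 3)],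
  [(nat_lit 1), (nat_lit 3), (nat_lit 1), (nat_lit 0), (nat_lit 1), (nat_lit 1), (nat_lit 3), (nat_lit 1), (nat_lit 1), (nat_lit 3)],
  [(nat_lit 1), (nat_lit 0), (nat_lit 1), (nat_lit 1), (nat_lit 3)],
  [(nat_lit 1), (nat_lit 0), (nat_lit 1), (nat_lit 1), (nat_lit 3), (nat_lit 1), (nat_lit 0), (nat_lit 1), (nat_lit 1)],
  [(nat_lit 0), (nat_lit 3), (nat_lit 2), (nat_lit 1), (nat_lit 0)],
  [(nat_lit 3), (nat_lit 2), (nat_lit 1)],
  [(nat_lit 1), (nat_lit 1), (nat_lit 0), (nat_lit 1), (nat_lit 3), (nat_lit 2), (nat_lit 1), (nat_lit 3)],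
  [(nat_lit 1), (nat_lit 0), (nat_lit 1), (nat_lit 1), (nat_lit 3), (nat_lit 2), (nat_lit 1), (nat_lit 0), (nat_lit 3)],
  [(nat_lit 1), (nat_lit 3), (nat_lit 2), (nat_lit 1), (nat_lit 0), (nat_lit 3), (nat_lit 1), (nat_lit 1), (nat_lit 3)],
  [(nat_lit 0), (nat_lit 1), (nat_lit 1), (nat_lit 3), (nat_lit 2), (nat_lit 1), (nat_lit 0), (nat_lit 3), (nat_lit 1), (nat_lit 3)],
  [(nat_lit 1), (nat_lit 0), (nat_lit 1), (nat_lit 3), (nat_lit 2), (nat_lit 1), (nat_lit 0), (nat_lit 3), (nat_lit 1)],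
  [(nat_lit 0), (nat_lit 1), (nat_lit 0), (nat_lit 3), (nat_lit 2), (nat_lit 1), (nat_lit 0), (nat_lit 3), (nat_lit 1), (nat_lit 1)],
  [(nat_lit 0), (nat_lit 2), (nat_lit 3), (nat_lit 2), (nat_lit 1), (nat_lit 0), (nat_lit 3), (nat_lit 1), (nat_lit 3)],
  [(nat_lit 2), (nat_lit 1), (nat_lit 3), (nat_lit 2), (nat_lit 1)],
  [(nat_lit 1), (nat_lit 3), (nat_lit 2), (nat_lit 1), (nat_lit 0), (nat_lit 3), (nat_lit 1), (nat_lit 2), (nat_lit 3)],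
  [(nat_lit 0), (nat_lit 2), (nat_lit 1), (nat_lit 3), (nat_lit 2), (nat_lit 1), (nat_lit 0)],
  [(nat_lit 1), (nat_lit 1), (nat_lit 0), (nat_lit 1)],
  [(nat_lit 1), (nat_lit 0), (nat_lit 1), (nat_lit 1), (nat_lit 3), (nat_lit 1), (nat_lit 1), (nat_lit 0), (nat_lit 1), (nat_lit 3)],
  [(nat_lit 0), (nat_lit 1), (nat_lit 1), (nat_lit 3), (nat_lit 1), (nat_lit 0), (nat_lit 1), (nat_lit 1), (nat_lit 3), (nat_lit 1)],
  [(nat_lit 0), (nat_lit 1), (nat_lit 3), (nat_lit 1), (nat_lit 0), (nat_lit 1), (nat_lit 1), (nat_lit 3), (nat_lit 1), (nat_lit 1)],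
  [(nat_lit 2), (nat_lit 1)],
  [(nat_lit 2), (nat_lit 3), (nat_lit 1), (nat_lit 0), (nat_lit 1), (nat_lit 1), (nat_lit 3), (nat_lit 1)],
  [(nat_lit 2), (nat_lit 3), (nat_lit 1), (nat_lit 0), (nat_lit 1), (nat_lit 1), (nat_lit 3), (nat_lit 1), (nat_lit 0), (nat_lit 3)],
  [(nat_lit 2), (nat_lit 1), (nat_lit 0), (nat_lit 3)],
  [(nat_lit 0), (nat_lit 2), (nat_lit 1), (nat_lit 3), (nat_lit 1), (nat_lit 1), (nat_lit 0), (nat_lit 1), (nat_lit 3)],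
  [(nat_lit 1), (nat_lit 3), (nat_lit 1), (nat_lit 1), (nat_lit 0), (nat_lit 1), (nat_lit 3), (nat_lit 1), (nat_lit 2)],
  [(nat_lit 0), (nat_lit 1), (nat_lit 3), (nat_lit 1), (nat_lit 0), (nat_lit 1), (nat_lit 1), (nat_lit 3), (nat_lit 1), (nat_lit 2), (nat_lit 3)],
  [(nat_lit 0), (nat_lit 2), (nat_lit 1), (nat_lit 3), (nat_lit 1), (nat_lit 0), (nat_lit 1), (nat_lit 1)],
  [(nat_lit 2), (nat_lit 1), (nat_lit 3), (nat_lit 2), (nat_lit 1), (nat_lit 3)],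
  [(nat_lit 0), (nat_lit 2), (nat_lit 3), (nat_lit 2), (nat_lit 1), (nat_lit 0), (nat_lit 3), (nat_lit 1)],
  [(nat_lit 0), (nat_lit 2), (nat_lit 1), (nat_lit 3), (nat_lit 2), (nat_lit 1), (nat_lit 0), (nat_lit 3)],
  [(nat_lit 1), (nat_lit 3), (nat_lit 2), (nat_lit 1), (nat_lit 0), (nat_lit 3), (nat_lit 1), (nat_lit 2)],
  [(nat_lit 1), (nat_lit 0), (nat_lit 1), (nat_lit 1), (nat_lit 3), (nat_lit 1), (nat_lit 1), (nat_lit 0), (nat_lit 1)],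
  [(nat_lit 1), (nat_lit 1), (nat_lit 0), (nat_lit 1), (nat_lit 3)],
  [(nat_lit 0), (nat_lit 1), (nat_lit 3), (nat_lit 1), (nat_lit 0), (nat_lit 1), (nat_lit 1), (nat_lit 3), (nat_lit 1), (nat_lit 1), (nat_lit 3)],
  [(nat_lit 0), (nat_lit 1), (nat_lit 1), (nat_lit 3), (nat_lit 1), (nat_lit 0), (nat_lit 1), (nat_lit 1), (nat_lit 3), (nat_lit 1), (nat_lit 3)],
  [(nat_lit 0), (nat_lit 2), (nat_lit 1), (nat_lit 0)],
  [(nat_lit 2), (nat_lit 3), (nat_lit 1), (nat_lit 1), (nat_lit 0), (nat_lit 1), (nat_lit 3), (nat_lit 1), (nat_lit 0)],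
  [(nat_lit 2), (nat_lit 3), (nat_lit 1), (nat_lit 1), (nat_lit 0), (nat_lit 1), (nat_lit 3), (nat_lit 1), (nat_lit 3)],
  [(nat_lit 0), (nat_lit 2), (nat_lit 1), (nat_lit 3)],
  [(nat_lit 2), (nat_lit 1), (nat_lit 3), (nat_lit 1), (nat_lit 0), (nat_lit 1), (nat_lit 1), (nat_lit 3)],
  [(nat_lit 1), (nat_lit 3), (nat_lit 1), (nat_lit 0), (nat_lit 1), (nat_lit 1), (nat_lit 3), (nat_lit 1), (nat_lit 2)],
  [(nat_lit 2), (nat_lit 3), (nat_lit 1), (nat_lit 0), (nat_lit 1), (nat_lit 3), (nat_lit 1), (nat_lit 0), (nat_lit 3), (nat_lit 1)],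
  [(nat_lit 2), (nat_lit 1), (nat_lit 3), (nat_lit 1), (nat_lit 1), (nat_lit 0), (nat_lit 1)],
  [(nat_lit 2), (nat_lit 1), (nat_lit 3), (nat_lit 2), (nat_lit 1), (nat_lit 0)],
  [(nat_lit 0), (nat_lit 1), (nat_lit 3), (nat_lit 2), (nat_lit 1), (nat_lit 0), (nat_lit 3), (nat_lit 1), (nat_lit 2), (nat_lit 3)],
  [(nat_lit 0), (nat_lit 2), (nat_lit 1), (nat_lit 3), (nat_lit 2), (nat_lit 1)],
  [(nat_lit 2), (nat_lit 3), (nat_lit 2), (nat_lit 1), (nat_lit 0), (nat_lit 3), (nat_lit 1), (nat_lit 3)],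
  [(nat_lit 1), (nat_lit 3), (nat_lit 1), (nat_lit 0), (nat_lit 1), (nat_lit 1), (nat_lit 3), (nat_lit 1), (nat_lit 1)],
  [(nat_lit 1), (nat_lit 1), (nat_lit 3), (nat_lit 1), (nat_lit 0), (nat_lit 1), (nat_lit 1), (nat_lit 3), (nat_lit 1)],
  [(nat_lit 1), (nat_lit 0), (nat_lit 1), (nat_lit 1), (nat_lit 3), (nat_lit 1), (nat_lit 0), (nat_lit 1), (nat_lit 1), (nat_lit 3)],
  [(nat_lit 1), (nat_lit 0), (nat_lit 1), (nat_lit 1)],
  [(nat_lit 1), (nat_lit 1), (nat_lit 3), (nat_lit 2), (nat_lit 1), (nat_lit 0), (nat_lit 3), (nat_lit 1), (nat_lit 3)],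
  [(nat_lit 0), (nat_lit 1), (nat_lit 3), (nat_lit 2), (nat_lit 1), (nat_lit 0), (nat_lit 3), (nat_lit 1), (nat_lit 1), (nat_lit 3)],
  [(nat_lit 1), (nat_lit 0), (nat_lit 3), (nat_lit 2), (nat_lit 1), (nat_lit 0), (nat_lit 3), (nat_lit 1), (nat_lit 1)],
  [(nat_lit 1), (nat_lit 1), (nat_lit 0), (nat_lit 3), (nat_lit 2), (nat_lit 1), (nat_lit 0), (nat_lit 3), (nat_lit 1)],
  [(nat_lit 0), (nat_lit 3), (nat_lit 2), (nat_lit 1)],
  [(nat_lit 3), (nat_lit 2), (nat_lit 1), (nat_lit 0)],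
  [(nat_lit 1), (nat_lit 1), (nat_lit 0), (nat_lit 1), (nat_lit 3), (nat_lit 2), (nat_lit 1), (nat_lit 0), (nat_lit 3)],
  [(nat_lit 1), (nat_lit 0), (nat_lit 1), (nat_lit 1), (nat_lit 3), (nat_lit 2), (nat_lit 1), (nat_lit 3)],
  [(nat_lit 0), (nat_lit 2), (nat_lit 1), (nat_lit 0), (nat_lit 3), (nat_lit 2), (nat_lit 1), (nat_lit 3)],
  [(nat_lit 0), (nat_lit 1), (nat_lit 0), (nat_lit 2), (nat_lit 1), (nat_lit 3), (nat_lit 2), (nat_lit 1), (nat_lit 0), (nat_lit 3), (nat_lit 1)],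
  [(nat_lit 2), (nat_lit 1), (nat_lit 0), (nat_lit 3), (nat_lit 2), (nat_lit 1), (nat_lit 0), (nat_lit 3)],
  [(nat_lit 1), (nat_lit 0), (nat_lit 3), (nat_lit 2), (nat_lit 1), (nat_lit 0), (nat_lit 3), (nat_lit 1), (nat_lit 2)],
  [(nat_lit 3), (nat_lit 1), (nat_lit 1), (nat_lit 0), (nat_lit 1)],
  [(nat_lit 0), (nat_lit 3)],
  [(nat_lit 0), (nat_lit 1), (nat_lit 3), (nat_lit 1), (nat_lit 1), (nat_lit 0), (nat_lit 1), (nat_lit 3), (nat_lit 1), (nat_lit 1), (nat_lit 3)],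
  [(nat_lit 1), (nat_lit 1), (nat_lit 3), (nat_lit 1), (nat_lit 1), (nat_lit 0), (nat_lit 1), (nat_lit 3), (nat_lit 1), (nat_lit 3)],
  [(nat_lit 1), (nat_lit 0), (nat_lit 1), (nat_lit 3), (nat_lit 2), (nat_lit 1), (nat_lit 0), (nat_lit 3), (nat_lit 1), (nat_lit 3)],
  [(nat_lit 0), (nat_lit 1), (nat_lit 0), (nat_lit 3), (nat_lit 2), (nat_lit 1), (nat_lit 0), (nat_lit 3), (nat_lit 1), (nat_lit 1), (nat_lit 3)],
  [(nat_lit 1), (nat_lit 3), (nat_lit 2), (nat_lit 1), (nat_lit 0), (nat_lit 3), (nat_lit 1), (nat_lit 1)],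
  [(nat_lit 0), (nat_lit 1), (nat_lit 1), (nat_lit 3), (nat_lit 2), (nat_lit 1), (nat_lit 0), (nat_lit 3), (nat_lit 1)],
  [(nat_lit 1), (nat_lit 1), (nat_lit 0), (nat_lit 1), (nat_lit 3), (nat_lit 2), (nat_lit 1)],
  [(nat_lit 1), (nat_lit 0), (nat_lit 1), (nat_lit 1), (nat_lit 3), (nat_lit 2), (nat_lit 1), (nat_lit 0)],
  [(nat_lit 0), (nat_lit 3), (nat_lit 2), (nat_lit 1), (nat_lit 0), (nat_lit 3)],
  [(nat_lit 3), (nat_lit 2), (nat_lit 1), (nat_lit 3)],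
  [(nat_lit 0), (nat_lit 2), (nat_lit 1), (nat_lit 0), (nat_lit 3), (nat_lit 2), (nat_lit 1), (nat_lit 0)],
  [(nat_lit 0), (nat_lit 1), (nat_lit 0), (nat_lit 3), (nat_lit 2), (nat_lit 1), (nat_lit 0), (nat_lit 3), (nat_lit 1), (nat_lit 2), (nat_lit 3)],
  [(nat_lit 2), (nat_lit 1), (nat_lit 0), (nat_lit 3), (nat_lit 2), (nat_lit 1)],
  [(nat_lit 1), (nat_lit 0), (nat_lit 2), (nat_lit 1), (nat_lit 3), (nat_lit 2), (nat_lit 1), (nat_lit 0), (nat_lit 3), (nat_lit 1), (nat_lit 3)],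
  [(nat_lit 1), (nat_lit 3), (nat_lit 1), (nat_lit 1), (nat_lit 0), (nat_lit 1), (nat_lit 3), (nat_lit 1), (nat_lit 1)],
  [(nat_lit 0), (nat_lit 1), (nat_lit 1), (nat_lit 3), (nat_lit 1), (nat_lit 1), (nat_lit 0), (nat_lit 1), (nat_lit 3), (nat_lit 1)],
  [(nat_lit 3), (nat_lit 1), (nat_lit 0), (nat_lit 1), (nat_lit 1), (nat_lit 3)],
  []]
noncomputable def AP_lS_h (c : ℕ) : ℕ := Nat.mod c (nat_lit 246563)
noncomputable def AP_lS_T0 : ST := (.node (nat_lit 0x222cdd3f17e6d7029b336563d48bce91ff450c20) (.node (nat_lit 0x19df6ce1baef249a098ab977171abf42e1e24c20) (.node (nat_lit 0x11b5b65f9d8e4923cda8b2b0f1ae09f52a5fb820) (.node (nat_lit 0x11af1cb37aef25340eca6adf821ff5727d0a1420) (.node (nat_lit 0x11a37e6d9dd664458deac22cd99e1e4babf2d020) (.node (nat_lit 0x1199bd5e39e764458deac22cd99ebf2d21e4b820) (.node (nat_lit 0x11999d7637e6d63521f3c1ecd9129f2c1de4d420) (.node (nat_lit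 0x11997e6e39d754459db2b230f98ebe2ba1f4d020) (.leaf (nat_lit 0x11997d6e3de654899df2c12cd58e1f2babe4d020)) (.leaf (nat_lit 0x11997e6e39d754459db2b230f98ebe2ba1f4d020))) (.node (nat_lit 0x11999e763bd5d67921b3b0f0f511de2c29f4d420) (.leaf (nat_lit 0x11999d7637e6d63521f3c1ecd9129f2c1de4d420)) (.leaf (nat_lit 0x11999e763bd5d67921b3b0f0f511de2c29f4d420)))) (.node (nat_lit 0x1199dd663be5e67911ebc0ecd521df2d69e4c020) (.node (nat_lit 0x1199be5e3dd664898daab130f59e1e2d2bf4b820) (.leaf (nat_lit 0x1199bd5e39e764458deac22cd99ebf2d21e4b820)) (.leaf (nat_lit 0x1199be5e3dd664898daab130f59e1e2d2bf4b820))) (.node (nat_lit 0x1199de6637d6e63511abb1f0f9229e2d5df4c020) (.leaf (nat_lit 0x1199dd663be5e67911ebc0ecd521df2d69e4c020)) (.node (nat_lit 0x11a37d6d99e764898daab130f59ebf4ba1e2d020) (.leaf (nat_lit 0x1199de6637d6e63511abb1f0f9229e2d5df4c020)) (.leaf (nat_lit 0x11a37d6d99e764898daab130f59ebf4ba1e2d020))))))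 (.node (nat_lit 0x11a3be5d99d754899df2c12cd58ebe4d21f2b820) (.node (nat_lit 0x11a39e7597d6e67911ebc0ecd5229e4c1df2d420) (.node (nat_lit 0x11a39d759be5e63511abb1f0f921df4c29e2d420) (.leaf (nat_lit 0x11a37e6d9dd664458deac22cd99e1e4babf2d020)) (.leaf (nat_lit 0x11a39d759be5e63511abb1f0f921df4c29e2d420))) (.node (nat_lit 0x11a3bd5d9de654459db2b230f98e1f4d2be2b820) (.leaf (nat_lit 0x11a39e7597d6e67911ebc0ecd5229e4c1df2d420)) (.leaf (nat_lit 0x11a3bd5d9de654459db2b230f98e1f4d2be2b820)))) (.node (nat_lit 0x11a3de659bd5d63521f3c1ecd911de4d69f2c020) (.node (nat_lit 0x11a3dd6597e6d67921b3b0f0f5129f4d5de2c020) (.leaf (nat_lit 0x11a3be5d99d754899df2c12cd58ebe4d21f2b820)) (.leaf (nat_lit 0x11a3dd6597e6d67921b3b0f0f5129f4d5de2c020))) (.node (nat_lit 0x11aeccc77cee94b21ed26cdf840fd5717f0a2420) (.leaf (nat_lit 0x11a3de659bd5d63521f3c1ecd911de4d69f2c020)) (.node (nat_lit 0x11aecec77acf15341f127adb620ff0717d5a2420)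 (.leaf (nat_lit 0x11aeccc77cee94b21ed26cdf840fd5717f0a2420)) (.leaf (nat_lit 0x11aecec77acf15341f127adb620ff0717d5a2420))))))) (.node (nat_lit 0x11b31db3babf26a192cb6c9f83a3ee827d4a9420) (.node (nat_lit 0x11afcceb71eb08794ec868df852cb577d30a7820) (.node (nat_lit 0x11afacf36cec50352ec469df894d35778b0a7c20) (.node (nat_lit 0x11af1eb37ccea4b20f0a7cdb641fd0727f5a1420) (.leaf (nat_lit 0x11af1cb37aef25340eca6adf821ff5727d0a1420)) (.leaf (nat_lit 0x11af1eb37ccea4b20f0a7cdb641fd0727f5a1420))) (.node (nat_lit 0x11afaef371cb10792f0478db654cb077935a7c20) (.leaf (nat_lit 0x11afacf36cec50352ec469df894d35778b0a7c20)) (.leaf (nat_lit 0x11afaef371cb10792f0478db654cb077935a7c20)))) (.node (nat_lit 0x11b2cbc7badf16a1a3137c9b6393f4817ceaa420) (.node (nat_lit 0x11afceeb6ccc48354f0879db692d3077cb5a7820) (.leaf (nat_lit 0x11afcceb71eb08794ec868df852cb577d30a7820)) (.leaf (nat_lit 0x11afceeb6ccc48354f0879db692d3077cb5a7820)))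 (.node (nat_lit 0x11b2cdc7bcbe9723a2d36a9f8193ce817f4aa420) (.leaf (nat_lit 0x11b2cbc7badf16a1a3137c9b6393f4817ceaa420)) (.node (nat_lit 0x11b31bb3bcdea723930b7a9b61a3d4827eea9420) (.leaf (nat_lit 0x11b2cdc7bcbe9723a2d36a9f8193ce817f4aa420)) (.leaf (nat_lit 0x11b31bb3bcdea723930b7a9b61a3d4827eea9420)))))) (.node (nat_lit 0x11b3cdebb1bb0e89aac3691f85c8ae87d34af820) (.node (nat_lit 0x11b3adf3acbc4645cac76a1f89a92e878b4afc20) (.node (nat_lit 0x11b3abf3b1db0689cb07791b65a8b48792eafc20) (.leaf (nat_lit 0x11b31db3babf26a192cb6c9f83a3ee827d4a9420)) (.leaf (nat_lit 0x11b3abf3b1db0689cb07791b65a8b48792eafc20))) (.node (nat_lit 0x11b3cbebacdc4e45ab037a1b69c93487caeaf820) (.leaf (nat_lit 0x11b3adf3acbc4645cac76a1f89a92e878b4afc20)) (.leaf (nat_lit 0x11b3cbebacdc4e45ab037a1b69c93487caeaf820)))) (.node (nat_lit 0x11b578ef9d665123ade4c2acd1ce05f3aa9fd020) (.node (nat_lit 0x11b5766f998f50a1ada4b4b0f3cea9f3a05fd020)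 (.leaf (nat_lit 0x11b3cdebb1bb0e89aac3691f85c8ae87d34af820)) (.leaf (nat_lit 0x11b5766f998f50a1ada4b4b0f3cea9f3a05fd020))) (.node (nat_lit 0x11b596779b8dc6b249a7b4f0f429c9f4285fd420) (.leaf (nat_lit 0x11b578ef9d665123ade4c2acd1ce05f3aa9fd020)) (.node (nat_lit 0x11b598f79766c73449e7c2ecd22a85f41c9fd420) (.leaf (nat_lit 0x11b596779b8dc6b249a7b4f0f429c9f4285fd420)) (.leaf (nat_lit 0x11b598f79766c73449e7c2ecd22a85f41c9fd420)))))))) (.node (nat_lit 0x11b9d6675b8dc73449e7c2ecd229c9fd685f4020) (.node (nat_lit 0x11b7aef2eccc48794ec868df852d30a78b577c20) (.node (nat_lit 0x11b6ccc6faef24b20f0a7cdb641ff5a17d072420) (.node (nat_lit 0x11b5d667978ecf3429a3b2f0f24a89f55c5fc020) (.node (nat_lit 0x11b5b8df996748a1cde8c4acd3aea5f5209fb820) (.leaf (nat_lit 0x11b5b65f9d8e4923cda8b2b0f1ae09f52a5fb820)) (.leaf (nat_lit 0x11b5b8df996748a1cde8c4acd3aea5f5209fb820))) (.node (nat_lit 0x11b5d8e79b65ceb229e3c4ecd449c5f5689fc020)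 (.leaf (nat_lit 0x11b5d667978ecf3429a3b2f0f24a89f55c5fc020)) (.leaf (nat_lit 0x11b5d8e79b65ceb229e3c4ecd449c5f5689fc020)))) (.node (nat_lit 0x11b71cb2fcee95341f127adb620fd5a27f071420) (.node (nat_lit 0x11b6cec6fccea5340eca6adf821fd0a17f572420) (.leaf (nat_lit 0x11b6ccc6faef24b20f0a7cdb641ff5a17d072420)) (.leaf (nat_lit 0x11b6cec6fccea5340eca6adf821fd0a17f572420))) (.node (nat_lit 0x11b71eb2facf14b21ed26cdf840ff0a27d571420) (.leaf (nat_lit 0x11b71cb2fcee95341f127adb620fd5a27f071420)) (.node (nat_lit 0x11b7acf2f1eb08354f0879db692cb5a793077c20) (.leaf (nat_lit 0x11b71eb2facf14b21ed26cdf840ff0a27d571420)) (.leaf (nat_lit 0x11b7acf2f1eb08354f0879db692cb5a793077c20)))))) (.node (nat_lit 0x11b978ef59674923cda8b2b0f1aea5fba09f5020) (.node (nat_lit 0x11b7ceeaf1cb10352ec469df894cb0a7d3577820) (.node (nat_lit 0x11b7cceaecec50792f0478db654d35a7cb077820) (.leaf (nat_lit 0x11b7aef2eccc48794ec868df852d30a78b577c20))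 (.leaf (nat_lit 0x11b7cceaecec50792f0478db654d35a7cb077820))) (.node (nat_lit 0x11b9766f5d8e48a1cde8c4acd3ae09fbaa5f5020) (.leaf (nat_lit 0x11b7ceeaf1cb10352ec469df894cb0a7d3577820)) (.leaf (nat_lit 0x11b9766f5d8e48a1cde8c4acd3ae09fbaa5f5020)))) (.node (nat_lit 0x11b998f75b65cf3429a3b2f0f249c5fc289f5420) (.node (nat_lit 0x11b99677578eceb229e3c4ecd44a89fc1c5f5420) (.leaf (nat_lit 0x11b978ef59674923cda8b2b0f1aea5fba09f5020)) (.leaf (nat_lit 0x11b99677578eceb229e3c4ecd44a89fc1c5f5420))) (.node (nat_lit 0x11b9b65f598f5123ade4c2acd1cea9fd205f3820) (.leaf (nat_lit 0x11b998f75b65cf3429a3b2f0f249c5fc289f5420)) (.node (nat_lit 0x11b9b8df5d6650a1ada4b4b0f3ce05fd2a9f3820) (.leaf (nat_lit 0x11b9b65f598f5123ade4c2acd1cea9fd205f3820)) (.leaf (nat_lit 0x11b9b8df5d6650a1ada4b4b0f3ce05fd2a9f3820))))))) (.node (nat_lit 0x11bbcdeb2cbc4689cb07791b65a92eafcb487820) (.node (nat_lit 0x11bb1bb33adf1723a2d36a9f8193f4aa7ce81420)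 (.node (nat_lit 0x11bacbc73cdea6a192cb6c9f83a3d4a97ee82420) (.node (nat_lit 0x11b9d8e75766c6b249a7b4f0f42a85fd5c9f4020) (.leaf (nat_lit 0x11b9d6675b8dc73449e7c2ecd229c9fd685f4020)) (.leaf (nat_lit 0x11b9d8e75766c6b249a7b4f0f42a85fd5c9f4020))) (.node (nat_lit 0x11bacdc73abf2723930b7a9b61a3eea97d482420) (.leaf (nat_lit 0x11bacbc73cdea6a192cb6c9f83a3d4a97ee82420)) (.leaf (nat_lit 0x11bacdc73abf2723930b7a9b61a3eea97d482420)))) (.node (nat_lit 0x11bbabf32cdc4e89aac3691f85c934af8ae87c20) (.node (nat_lit 0x11bb1db33cbe96a1a3137c9b6393ceaa7f481420) (.leaf (nat_lit 0x11bb1bb33adf1723a2d36a9f8193f4aa7ce81420)) (.leaf (nat_lit 0x11bb1db33cbe96a1a3137c9b6393ceaa7f481420))) (.node (nat_lit 0x11bbadf331bb0e45ab037a1b69c8aeaf93487c20) (.leaf (nat_lit 0x11bbabf32cdc4e89aac3691f85c934af8ae87c20)) (.node (nat_lit 0x11bbcbeb31db0645cac76a1f89a8b4afd2e87820) (.leaf (nat_lit 0x11bbadf331bb0e45ab037a1b69c8aeaf93487c20))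 (.leaf (nat_lit 0x11bbcbeb31db0645cac76a1f89a8b4afd2e87820)))))) (.node (nat_lit 0x19db8ed9fccea49a098ab977171a1e24ebf42c20) (.node (nat_lit 0x19db6ee1facf14571992ba771a0abe22e1f44c20) (.node (nat_lit 0x19db6ce1fcee949a1a32d96ec70a1f22ebe44c20) (.leaf (nat_lit 0x11bbcdeb2cbc4689cb07791b65a92eafcb487820)) (.leaf (nat_lit 0x19db6ce1fcee949a1a32d96ec70a1f22ebe44c20))) (.node (nat_lit 0x19db8cd9faef24570a2ada6eca1abf24e1e42c20) (.leaf (nat_lit 0x19db6ee1facf14571992ba771a0abe22e1f44c20)) (.leaf (nat_lit 0x19db8cd9faef24570a2ada6eca1abf24e1e42c20)))) (.node (nat_lit 0x19dbaef1f8cd9c692594b8b715157e2427f45420) (.node (nat_lit 0x19dbacf1f6ee1c252634d9aec9167f2417e45420) (.leaf (nat_lit 0x19db8ed9fccea49a098ab977171a1e24ebf42c20)) (.leaf (nat_lit 0x19dbacf1f6ee1c252634d9aec9167f2417e45420))) (.node (nat_lit 0x19dbcce9f8eda869162ed8aec5257f2567e44020) (.leaf (nat_lit 0x19dbaef1f8cd9c692594b8b715157e2427f45420))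 (.node (nat_lit 0x19dbcee9f6ce2825158eb9b719267e2557f44020) (.leaf (nat_lit 0x19dbcce9f8eda869162ed8aec5257f2567e44020)) (.leaf (nat_lit 0x19dbcee9f6ce2825158eb9b719267e2557f44020))))))))) (.node (nat_lit 0x19f59b778fc3449a4b6689597728938790bafc20) (.node (nat_lit 0x19f0fd36dde655449b728b99728bd59a3f059020) (.node (nat_lit 0x19ecde3f19d755449b728b99728bf0593d59a020) (.node (nat_lit 0x19dfacf1b8eda825158eb9b719257f4427e25420) (.node (nat_lit 0x19df8cd9bcee94571992ba771a0a1f44ebe22c20) (.node (nat_lit 0x19df6ee1bccea4570a2ada6eca1a1e42ebf24c20) (.leaf (nat_lit 0x19df6ce1baef249a098ab977171abf42e1e24c20)) (.leaf (nat_lit 0x19df6ee1bccea4570a2ada6eca1a1e42ebf24c20))) (.node (nat_lit 0x19df8ed9bacf149a1a32d96ec70abe44e1f22c20) (.leaf (nat_lit 0x19df8cd9bcee94571992ba771a0a1f44ebe22c20)) (.leaf (nat_lit 0x19df8ed9bacf149a1a32d96ec70abe44e1f22c20)))) (.node (nat_lit 0x19dfcce9b6ee1c692594b8b715167f4557e24020)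 (.node (nat_lit 0x19dfaef1b6ce2869162ed8aec5267e4417f25420) (.leaf (nat_lit 0x19dfacf1b8eda825158eb9b719257f4427e25420)) (.leaf (nat_lit 0x19dfaef1b6ce2869162ed8aec5267e4417f25420))) (.node (nat_lit 0x19dfcee9b8cd9c252634d9aec9157e4567f24020) (.leaf (nat_lit 0x19dfcce9b6ee1c692594b8b715167f4557e24020)) (.node (nat_lit 0x19ecdd3f1de654e29af26523b48bd5593f09a020) (.leaf (nat_lit 0x19dfcee9b8cd9c252634d9aec9157e4567f24020)) (.leaf (nat_lit 0x19ecdd3f1de654e29af26523b48bd5593f09a020)))))) (.node (nat_lit 0x19ed9e770fd352693b6588997550905f9159fc20) (.node (nat_lit 0x19ecfe371dd664e28b6a8d19749bd05a3f599020) (.node (nat_lit 0x19ecfd3719e765448aea63a3b29bf55a3d099020) (.leaf (nat_lit 0x19ecde3f19d755449b728b99728bf0593d59a020)) (.leaf (nat_lit 0x19ecfd3719e765448aea63a3b29bf55a3d099020))) (.node (nat_lit 0x19ed9d770de3d2253ae561a3b951155f8909fc20) (.leaf (nat_lit 0x19ecfe371dd664e28b6a8d19749bd05a3f599020))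 (.leaf (nat_lit 0x19ed9d770de3d2253ae561a3b951155f8909fc20)))) (.node (nat_lit 0x19edde670dd3ca25536989997939105fc959f820) (.node (nat_lit 0x19eddd670fe34a6952e960a3b538955fd109f820) (.leaf (nat_lit 0x19ed9e770fd352693b6588997550905f9159fc20)) (.leaf (nat_lit 0x19eddd670fe34a6952e960a3b538955fd109f820))) (.node (nat_lit 0x19f0dd3ed9e764e28b6a8d19749bf5993d05a020) (.leaf (nat_lit 0x19edde670dd3ca25536989997939105fc959f820)) (.node (nat_lit 0x19f0de3eddd665448aea63a3b29bd0993f55a020) (.leaf (nat_lit 0x19f0dd3ed9e764e28b6a8d19749bf5993d05a020)) (.leaf (nat_lit 0x19f0de3eddd665448aea63a3b29bd0993f55a020))))))) (.node (nat_lit 0x19f387dbba6f0aa15229dcaec33aa4f4e08fac20) (.node (nat_lit 0x19f1dd66cde3d2693b6588997551159fc905f820) (.node (nat_lit 0x19f19d76cfe34a25536989997938959f9105fc20) (.node (nat_lit 0x19f0fe36d9d754e29af26523b48bf09a3d559020) (.leaf (nat_lit 0x19f0fd36dde655449b728b99728bd59a3f059020))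 (.leaf (nat_lit 0x19f0fe36d9d754e29af26523b48bf09a3d559020))) (.node (nat_lit 0x19f19e76cdd3ca6952e960a3b539109f8955fc20) (.leaf (nat_lit 0x19f19d76cfe34a25536989997938959f9105fc20)) (.leaf (nat_lit 0x19f19e76cdd3ca6952e960a3b539109f8955fc20)))) (.node (nat_lit 0x19f366e3ba7f12a13985bcb71352a8f2e04fcc20) (.node (nat_lit 0x19f1de66cfd352253ae561a3b950909fd155f820) (.leaf (nat_lit 0x19f1dd66cde3d2693b6588997551159fc905f820)) (.leaf (nat_lit 0x19f1de66cfd352253ae561a3b950909fd155f820))) (.node (nat_lit 0x19f367e3bc6e93233a25daaec15204f2ea8fcc20) (.leaf (nat_lit 0x19f366e3ba7f12a13985bcb71352a8f2e04fcc20)) (.node (nat_lit 0x19f386dbbc7e8b235189bab7113a08f4ea4fac20) (.leaf (nat_lit 0x19f367e3bc6e93233a25daaec15204f2ea8fcc20)) (.leaf (nat_lit 0x19f386dbbc7e8b235189bab7113a08f4ea4fac20)))))) (.node (nat_lit 0x19f3c7ebb86d8ce2aa22dd2ec4c964f5668fc020) (.node (nat_lit 0x19f3a7f3b66e0544ca26dbaec2aa64f4168fd420)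 (.node (nat_lit 0x19f3a6f3b87d84e2c986bd3714a968f4264fd420) (.leaf (nat_lit 0x19f387dbba6f0aa15229dcaec33aa4f4e08fac20)) (.leaf (nat_lit 0x19f3a6f3b87d84e2c986bd3714a968f4264fd420))) (.node (nat_lit 0x19f3c6ebb67e0d44a982bbb712ca68f5564fc020) (.leaf (nat_lit 0x19f3a7f3b66e0544ca26dbaec2aa64f4168fd420)) (.leaf (nat_lit 0x19f3c6ebb67e0d44a982bbb712ca68f5564fc020)))) (.node (nat_lit 0x19f4dc3f9db65d2326f462a3b117cb813f3aa020) (.node (nat_lit 0x19f4db3f99c75ca127748c997317f3813cbaa020) (.leaf (nat_lit 0x19f3c7ebb86d8ce2aa22dd2ec4c964f5668fc020)) (.leaf (nat_lit 0x19f4db3f99c75ca127748c997317f3813cbaa020))) (.node (nat_lit 0x19f4fb379dc66923176e8a997127d3823eba9020) (.leaf (nat_lit 0x19f4dc3f9db65d2326f462a3b117cb813f3aa020)) (.node (nat_lit 0x19f4fc3799b768a116ee64a3b327eb823d3a9020) (.leaf (nat_lit 0x19f4fb379dc66923176e8a997127d3823eba9020)) (.leaf (nat_lit 0x19f4fc3799b768a116ee64a3b327eb823d3a9020))))))))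 (.node (nat_lit 0x19fbc6eb387d8544ca26dbaec2a968fd664f4020) (.node (nat_lit 0x19f99c774fb34c572b628a597a488baf91387c20) (.node (nat_lit 0x19f8db3f5dc668a116ee64a3b327d3a93eb82020) (.node (nat_lit 0x19f5db678dc3cc572b628a597a491387c8baf820) (.node (nat_lit 0x19f59c778db3c4574ae66263ba290b87893afc20) (.leaf (nat_lit 0x19f59b778fc3449a4b6689597728938790bafc20)) (.leaf (nat_lit 0x19f59c778db3c4574ae66263ba290b87893afc20))) (.node (nat_lit 0x19f5dc678fb34c9a2ae26163b7488b87d13af820) (.leaf (nat_lit 0x19f5db678dc3cc572b628a597a491387c8baf820)) (.leaf (nat_lit 0x19f5dc678fb34c9a2ae26163b7488b87d13af820)))) (.node (nat_lit 0x19f8fb3759c75d2326f462a3b117f3aa3cb81020) (.node (nat_lit 0x19f8dc3f59b76923176e8a997127eba93d382020) (.leaf (nat_lit 0x19f8db3f5dc668a116ee64a3b327d3a93eb82020)) (.leaf (nat_lit 0x19f8dc3f59b76923176e8a997127eba93d382020))) (.node (nat_lit 0x19f8fc375db65ca127748c997317cbaa3f381020)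 (.leaf (nat_lit 0x19f8fb3759c75d2326f462a3b117f3aa3cb81020)) (.node (nat_lit 0x19f99b774dc3cc9a2ae26163b74913af88b87c20) (.leaf (nat_lit 0x19f8fc375db65ca127748c997317cbaa3f381020)) (.leaf (nat_lit 0x19f99b774dc3cc9a2ae26163b74913af88b87c20)))))) (.node (nat_lit 0x19fb67e33a6f0b235189bab7113aa4fae08f4c20) (.node (nat_lit 0x19f9dc674db3c49a4b66895977290bafc9387820) (.node (nat_lit 0x19f9db674fc344574ae66263ba2893afd0b87820) (.leaf (nat_lit 0x19f99c774fb34c572b628a597a488baf91387c20)) (.leaf (nat_lit 0x19f9db674fc344574ae66263ba2893afd0b87820))) (.node (nat_lit 0x19fb66e33c7e8aa15229dcaec33a08faea4f4c20) (.leaf (nat_lit 0x19f9dc674db3c49a4b66895977290bafc9387820)) (.leaf (nat_lit 0x19fb66e33c7e8aa15229dcaec33a08faea4f4c20)))) (.node (nat_lit 0x19fb87db3c6e92a13985bcb7135204fcea8f2c20) (.node (nat_lit 0x19fb86db3a7f13233a25daaec152a8fce04f2c20) (.leaf (nat_lit 0x19fb67e33a6f0b235189bab7113aa4fae08f4c20))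 (.leaf (nat_lit 0x19fb86db3a7f13233a25daaec152a8fce04f2c20))) (.node (nat_lit 0x19fba6f3367e0ce2aa22dd2ec4ca68fc164f5420) (.leaf (nat_lit 0x19fb87db3c6e92a13985bcb7135204fcea8f2c20)) (.node (nat_lit 0x19fba7f3386d8d44a982bbb712c964fc268f5420) (.leaf (nat_lit 0x19fba6f3367e0ce2aa22dd2ec4ca68fc164f5420)) (.leaf (nat_lit 0x19fba7f3386d8d44a982bbb712c964fc268f5420))))))) (.node (nat_lit 0x221bcde9f8bdaa699630e8b2c5a65f3b95e1d020) (.node (nat_lit 0x221b8bd9fcdea69a898bc97b181a9e3a9df1c820) (.node (nat_lit 0x221b6be1fadf16581993ca7b1a89de3ca9f1a820) (.node (nat_lit 0x19fbc7eb366e04e2c986bd3714aa64fd568f4020) (.leaf (nat_lit 0x19fbc6eb387d8544ca26dbaec2a968fd664f4020)) (.leaf (nat_lit 0x19fbc7eb366e04e2c986bd3714aa64fd568f4020))) (.node (nat_lit 0x221b6de1fcbe969a9a33e972c80a9f3c9de1a820) (.leaf (nat_lit 0x221b6be1fadf16581993ca7b1a89de3ca9f1a820)) (.leaf (nat_lit 0x221b6de1fcbe969a9a33e972c80a9f3c9de1a820))))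 (.node (nat_lit 0x221babf1f8dda069a595c8bb15965e3d15f1b820) (.node (nat_lit 0x221b8dd9fabf26580a2bea72ca99df3aa9e1c820) (.leaf (nat_lit 0x221b8bd9fcdea69a898bc97b181a9e3a9df1c820)) (.leaf (nat_lit 0x221b8dd9fabf26580a2bea72ca99df3aa9e1c820))) (.node (nat_lit 0x221badf1f6be2025a635e9b2c9955f3d25e1b820) (.leaf (nat_lit 0x221babf1f8dda069a595c8bb15965e3d15f1b820)) (.node (nat_lit 0x221bcbe9f6de2a259590c9bb19a55e3ba5f1d020) (.leaf (nat_lit 0x221badf1f6be2025a635e9b2c9955f3d25e1b820)) (.leaf (nat_lit 0x221bcbe9f6de2a259590c9bb19a55e3ba5f1d020)))))) (.node (nat_lit 0x221f8dd9bcbe96581993ca7b1a8a9f1a9de3c820) (.node (nat_lit 0x221f6de1babf269a898bc97b1819df1ca9e3a820) (.node (nat_lit 0x221f6be1bcdea6580a2bea72ca9a9e1c9df3a820) (.leaf (nat_lit 0x221bcde9f8bdaa699630e8b2c5a65f3b95e1d020)) (.leaf (nat_lit 0x221f6be1bcdea6580a2bea72ca9a9e1c9df3a820))) (.node (nat_lit 0x221f8bd9badf169a9a33e972c809de1aa9f3c820)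 (.leaf (nat_lit 0x221f6de1babf269a898bc97b1819df1ca9e3a820)) (.leaf (nat_lit 0x221f8bd9badf169a9a33e972c809de1aa9f3c820)))) (.node (nat_lit 0x221fadf1b8bdaa259590c9bb19a65f1d15e3b820) (.node (nat_lit 0x221fabf1b6de2a699630e8b2c5a55e1d25f3b820) (.leaf (nat_lit 0x221f8dd9bcbe96581993ca7b1a8a9f1a9de3c820)) (.leaf (nat_lit 0x221fabf1b6de2a699630e8b2c5a55e1d25f3b820))) (.node (nat_lit 0x221fcbe9b8dda025a635e9b2c9965e1b95f3d020) (.leaf (nat_lit 0x221fadf1b8bdaa259590c9bb19a65f1d15e3b820)) (.node (nat_lit 0x221fcde9b6be2069a595c8bb15955f1ba5e3d020) (.leaf (nat_lit 0x221fcbe9b8dda025a635e9b2c9965e1b95f3d020)) (.leaf (nat_lit 0x221fcde9b6be2069a595c8bb15955f1ba5e3d020)))))))))) (.node (nat_lit 0x2a6eccc776ee1d021f546d5fc40fcb91bf350820) (.node (nat_lit 0x2237a6f2f87d8502cd86cd7b14ae43f5147fb820) (.node (nat_lit 0x2230fd36d7e6d7549bb38c19928bce50ff491c20) (.node (nat_lit 0x222f67e37a6f0b335589cafb1141c7fca83f2820)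 (.node (nat_lit 0x222d7d6f0fe34a69d72960a3d5c0ee97c7457820) (.node (nat_lit 0x222cfd371be5e7548b2b6423d29bee90fd451c20) (.node (nat_lit 0x222cde3f1bd5d7549bb38c19928bf491fce50c20) (.leaf (nat_lit 0x222cdd3f17e6d7029b336563d48bce91ff450c20)) (.leaf (nat_lit 0x222cde3f1bd5d7549bb38c19928bf491fce50c20))) (.node (nat_lit 0x222cfe3717d6e7028bab8d59949bd490fee51c20) (.leaf (nat_lit 0x222cfd371be5e7548b2b6423d29bee90fd451c20)) (.leaf (nat_lit 0x222cfe3717d6e7028bab8d59949bd490fee51c20)))) (.node (nat_lit 0x222dbd5f0de3d225c32561a3d9d46e978f457c20) (.node (nat_lit 0x222d7e6f0dd3ca25d7a9899999c07497cee57820) (.leaf (nat_lit 0x222d7d6f0fe34a69d72960a3d5c0ee97c7457820)) (.leaf (nat_lit 0x222d7e6f0dd3ca25d7a9899999c07497cee57820))) (.node (nat_lit 0x222dbe5f0fd35269c3a5889995d4f49786e57c20) (.leaf (nat_lit 0x222dbd5f0de3d225c32561a3d9d46e978f457c20)) (.node (nat_lit 0x222f66e37c7e8ab15629ecf2c34283fc9c7f2820)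 (.leaf (nat_lit 0x222dbe5f0fd35269c3a5889995d4f49786e57c20)) (.leaf (nat_lit 0x222f66e37c7e8ab15629ecf2c34283fc9c7f2820)))))) (.node (nat_lit 0x222fa7f3786d8d54ad82cc3b12ce47fd143f3820) (.node (nat_lit 0x222f87db7c6e92b14185ccfb135687fa9c3f4820) (.node (nat_lit 0x222f86db7a7f13334225eaf2c155c3faa87f4820) (.leaf (nat_lit 0x222f67e37a6f0b335589cafb1141c7fca83f2820)) (.leaf (nat_lit 0x222f86db7a7f13334225eaf2c155c3faa87f4820))) (.node (nat_lit 0x222fa6f3767e0d02ae22ed72c4cd43fd247f3820) (.leaf (nat_lit 0x222f87db7c6e92b14185ccfb135687fa9c3f4820)) (.leaf (nat_lit 0x222fa6f3767e0d02ae22ed72c4cd43fd247f3820)))) (.node (nat_lit 0x222fc7eb766e0502cd86cd7b14ad47fba43f5020) (.node (nat_lit 0x222fc6eb787d8554ce26ec32c2ae43fb947f5020) (.leaf (nat_lit 0x222fa7f3786d8d54ad82cc3b12ce47fd143f3820)) (.leaf (nat_lit 0x222fc6eb787d8554ce26ec32c2ae43fb947f5020))) (.node (nat_lit 0x2230dd3edbe5e7028bab8d59949bee51fd490c20)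 (.leaf (nat_lit 0x222fc7eb766e0502cd86cd7b14ad47fba43f5020)) (.node (nat_lit 0x2230de3ed7d6e7548b2b6423d29bd451fee90c20) (.leaf (nat_lit 0x2230dd3edbe5e7028bab8d59949bee51fd490c20)) (.leaf (nat_lit 0x2230de3ed7d6e7548b2b6423d29bd451fee90c20))))))) (.node (nat_lit 0x2234fc379bb5eab1173064e3d327f2a0fca71c20) (.node (nat_lit 0x2231bd5ecfe34a25d7a9899999c0ee5787497c20) (.node (nat_lit 0x22317d6ecde3d269c3a5889995d46e57cf497820) (.node (nat_lit 0x2230fe36dbd5d7029b336563d48bf450fce91c20) (.leaf (nat_lit 0x2230fd36d7e6d7549bb38c19928bce50ff491c20)) (.leaf (nat_lit 0x2230fe36dbd5d7029b336563d48bf450fce91c20))) (.node (nat_lit 0x22317e6ecfd35225c32561a3d9d4f457c6e97820) (.leaf (nat_lit 0x22317d6ecde3d269c3a5889995d46e57cf497820)) (.leaf (nat_lit 0x22317e6ecfd35225c32561a3d9d4f457c6e97820)))) (.node (nat_lit 0x2234db3f9bc5e0b127b58cd99317eaa1fd270c20) (.node (nat_lit 0x2231be5ecdd3ca69d72960a3d5c074578ee97c20)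 (.leaf (nat_lit 0x2231bd5ecfe34a25d7a9899999c0ee5787497c20)) (.leaf (nat_lit 0x2231be5ecdd3ca69d72960a3d5c074578ee97c20))) (.node (nat_lit 0x2234dc3f97b6e133273562e3d117d2a1fea70c20) (.leaf (nat_lit 0x2234db3f9bc5e0b127b58cd99317eaa1fd270c20)) (.node (nat_lit 0x2234fb3797c6eb3317b08ad99127caa0ff271c20) (.leaf (nat_lit 0x2234dc3f97b6e133273562e3d117d2a1fea70c20)) (.leaf (nat_lit 0x2234fb3797c6eb3317b08ad99127caa0ff271c20)))))) (.node (nat_lit 0x2235bc5f8db3c4584f266263daac72a78ea77c20) (.node (nat_lit 0x22357c6f8fb34c9aaf226163d84cf2a7c6a77820) (.node (nat_lit 0x22357b6f8dc3cc582fa28a599acc6aa7cf277820) (.leaf (nat_lit 0x2234fc379bb5eab1173064e3d327f2a0fca71c20)) (.leaf (nat_lit 0x22357b6f8dc3cc582fa28a599acc6aa7cf277820))) (.node (nat_lit 0x2235bb5f8fc3449acfa68959982ceaa787277c20) (.leaf (nat_lit 0x22357c6f8fb34c9aaf226163d84cf2a7c6a77820)) (.leaf (nat_lit 0x2235bb5f8fc3449acfa68959982ceaa787277c20))))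 (.node (nat_lit 0x223767e2fc6e93334225eaf2c15687f49c3fa820) (.node (nat_lit 0x223766e2fa7f12b14185ccfb1355c3f4a87fa820) (.leaf (nat_lit 0x2235bc5f8db3c4584f266263daac72a78ea77c20)) (.leaf (nat_lit 0x223766e2fa7f12b14185ccfb1355c3f4a87fa820))) (.node (nat_lit 0x223786dafc7e8b335589cafb114283f29c7fc820) (.leaf (nat_lit 0x223767e2fc6e93334225eaf2c15687f49c3fa820)) (.node (nat_lit 0x223787dafa6f0ab15629ecf2c341c7f2a83fc820) (.leaf (nat_lit 0x223786dafc7e8b335589cafb114283f29c7fc820)) (.leaf (nat_lit 0x223787dafa6f0ab15629ecf2c341c7f2a83fc820)))))))) (.node (nat_lit 0x2a59db6637c6ea3711b0d1f8fa215e32e5f14c20) (.node (nat_lit 0x22397c6f4db3c49acfa68959982c7277ceaa7820) (.node (nat_lit 0x2238db3f57c6eab1173064e3d327ca71ff2a0c20) (.node (nat_lit 0x2237c6eaf67e0d54ad82cc3b12cd43f3a47fd020) (.node (nat_lit 0x2237a7f2f66e0554ce26ec32c2ad47f5243fb820) (.leaf (nat_lit 0x2237a6f2f87d8502cd86cd7b14ae43f5147fb820))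 (.leaf (nat_lit 0x2237a7f2f66e0554ce26ec32c2ad47f5243fb820))) (.node (nat_lit 0x2237c7eaf86d8d02ae22ed72c4ce47f3943fd020) (.leaf (nat_lit 0x2237c6eaf67e0d54ad82cc3b12cd43f3a47fd020)) (.leaf (nat_lit 0x2237c7eaf86d8d02ae22ed72c4ce47f3943fd020)))) (.node (nat_lit 0x2238fb375bc5e133273562e3d117ea70fd2a1c20) (.node (nat_lit 0x2238dc3f5bb5eb3317b08ad99127f271fcaa0c20) (.leaf (nat_lit 0x2238db3f57c6eab1173064e3d327ca71ff2a0c20)) (.leaf (nat_lit 0x2238dc3f5bb5eb3317b08ad99127f271fcaa0c20))) (.node (nat_lit 0x2238fc3757b6e0b127b58cd99317d270feaa1c20) (.leaf (nat_lit 0x2238fb375bc5e133273562e3d117ea70fd2a1c20)) (.node (nat_lit 0x22397b6f4fc344584f266263daacea77c72a7820) (.leaf (nat_lit 0x2238fc3757b6e0b127b58cd99317d270feaa1c20)) (.leaf (nat_lit 0x22397b6f4fc344584f266263daacea77c72a7820)))))) (.node (nat_lit 0x2a597c6e3db65c8a9df4e134d80e7f3497e12820) (.node (nat_lit 0x2239bc5f4fb34c582fa28a599accf27786aa7c20)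 (.node (nat_lit 0x2239bb5f4dc3cc9aaf226163d84c6a778f2a7c20) (.leaf (nat_lit 0x22397c6f4db3c49acfa68959982c7277ceaa7820)) (.leaf (nat_lit 0x2239bb5f4dc3cc9aaf226163d84c6a778f2a7c20))) (.node (nat_lit 0x2a597b6e39c75c481db4d238fa8d7e34a7f12820) (.leaf (nat_lit 0x2239bc5f4fb34c582fa28a599accf27786aa7c20)) (.leaf (nat_lit 0x2a597b6e39c75c481db4d238fa8d7e34a7f12820)))) (.node (nat_lit 0x2a599c7637b6e03721f5e1f4da115f34e5e12c20) (.node (nat_lit 0x2a599b763bc5e07a21b5d0f8f7125e34d5f12c20) (.leaf (nat_lit 0x2a597c6e3db65c8a9df4e134d80e7f3497e12820)) (.leaf (nat_lit 0x2a599b763bc5e07a21b5d0f8f7125e34d5f12c20))) (.node (nat_lit 0x2a59bb5e3dc6688a8daed138f81e7e3297f14820) (.leaf (nat_lit 0x2a599c7637b6e03721f5e1f4da115f34e5e12c20)) (.node (nat_lit 0x2a59bc5e39b768480deee234da9d7f32a7e14820) (.leaf (nat_lit 0x2a59bb5e3dc6688a8daed138f81e7e3297f14820)) (.leaf (nat_lit 0x2a59bc5e39b768480deee234da9d7f32a7e14820)))))))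 (.node (nat_lit 0x2a63dc6597b6e07a21b5d0f8f7115f12e5e34c20) (.node (nat_lit 0x2a639b7597c6ea7a11f0e0f4d7215e14e5f32c20) (.node (nat_lit 0x2a637b6d9dc668480deee234da9e7e1497f32820) (.node (nat_lit 0x2a59dc663bb5ea7a11f0e0f4d7225f32d5e14c20) (.leaf (nat_lit 0x2a59db6637c6ea3711b0d1f8fa215e32e5f14c20)) (.leaf (nat_lit 0x2a59dc663bb5ea7a11f0e0f4d7225f32d5e14c20))) (.node (nat_lit 0x2a637c6d99b7688a8daed138f81d7f14a7e32820) (.leaf (nat_lit 0x2a637b6d9dc668480deee234da9e7e1497f32820)) (.leaf (nat_lit 0x2a637c6d99b7688a8daed138f81d7f14a7e32820)))) (.node (nat_lit 0x2a63bb5d99c75c8a9df4e134d80d7e12a7f34820) (.node (nat_lit 0x2a639c759bb5ea3711b0d1f8fa225f14d5e32c20) (.leaf (nat_lit 0x2a639b7597c6ea7a11f0e0f4d7215e14e5f32c20)) (.leaf (nat_lit 0x2a639c759bb5ea3711b0d1f8fa225f14d5e32c20))) (.node (nat_lit 0x2a63bc5d9db65c481db4d238fa8e7f1297e34820) (.leaf (nat_lit 0x2a63bb5d99c75c8a9df4e134d80d7e12a7f34820))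 (.node (nat_lit 0x2a63db659bc5e03721f5e1f4da125e12d5f34c20) (.leaf (nat_lit 0x2a63bc5d9db65c481db4d238fa8e7f1297e34820)) (.leaf (nat_lit 0x2a63db659bc5e03721f5e1f4da125e12d5f34c20)))))) (.node (nat_lit 0x2a6d98f71b65cf5439a3d438f25246fcd42f2c20) (.node (nat_lit 0x2a6d78ef19674943d5a8d3b8f1c166fca62f2820) (.node (nat_lit 0x2a6d766f1d8e48e1d5e8e534d3c262fc966f2820) (.leaf (nat_lit 0x2a63dc6597b6e07a21b5d0f8f7115f12e5e34c20)) (.leaf (nat_lit 0x2a6d766f1d8e48e1d5e8e534d3c262fc966f2820))) (.node (nat_lit 0x2a6d9677178ecf0239e3e574d45142fce46f2c20) (.leaf (nat_lit 0x2a6d78ef19674943d5a8d3b8f1c166fca62f2820)) (.leaf (nat_lit 0x2a6d9677178ecf0239e3e574d45142fce46f2c20)))) (.node (nat_lit 0x2a6db8df1d6650e1c1a4d538f3d666fa962f4820) (.node (nat_lit 0x2a6db65f198f5143c1e4e3b4d1d562faa66f4820) (.leaf (nat_lit 0x2a6d98f71b65cf5439a3d438f25246fcd42f2c20)) (.leaf (nat_lit 0x2a6db65f198f5143c1e4e3b4d1d562faa66f4820)))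 (.node (nat_lit 0x2a6dd6671b8dc75451e7e434d23a42fad46f4c20) (.leaf (nat_lit 0x2a6db8df1d6650e1c1a4d538f3d666fa962f4820)) (.node (nat_lit 0x2a6dd8e71766c70251a7d578f43946fae42f4c20) (.leaf (nat_lit 0x2a6dd6671b8dc75451e7e434d23a42fad46f4c20)) (.leaf (nat_lit 0x2a6dd8e71766c70251a7d578f43946fae42f4c20))))))))) (.node (nat_lit 0x2a7b6be331db064853476a1fcab8ca5fc529f820) (.node (nat_lit 0x2a731bb3b6de2b4393907b9ba1a3ca98bf259820) (.node (nat_lit 0x2a7178eedd665143c1e4e3b4d1d666f4962fa820) (.node (nat_lit 0x2a6f6ce371eb087a574868dfc740cb97c5357820) (.node (nat_lit 0x2a6f1cb378eda9540f4e6c1fc21feb90bd351820) (.node (nat_lit 0x2a6ecec778cd9d541f947c1ba20ff391bcb50820) (.leaf (nat_lit 0x2a6eccc776ee1d021f546d5fc40fcb91bf350820)) (.leaf (nat_lit 0x2a6ecec778cd9d541f947c1ba20ff391bcb50820))) (.node (nat_lit 0x2a6f1eb376ce29020f8e7d5ba41fd390beb51820) (.leaf (nat_lit 0x2a6f1cb378eda9540f4e6c1fc21feb90bd351820))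 (.leaf (nat_lit 0x2a6f1eb376ce29020f8e7d5ba41fd390beb51820)))) (.node (nat_lit 0x2a6f8cdb6cec5037434469dfca544b978d357c20) (.node (nat_lit 0x2a6f6ee36ccc4837578879dbaa405397ccb57820) (.leaf (nat_lit 0x2a6f6ce371eb087a574868dfc740cb97c5357820)) (.leaf (nat_lit 0x2a6f6ee36ccc4837578879dbaa405397ccb57820))) (.node (nat_lit 0x2a6f8edb71cb107a438478dba754d39784b57c20) (.leaf (nat_lit 0x2a6f8cdb6cec5037434469dfca544b978d357c20)) (.node (nat_lit 0x2a71766ed98f50e1c1a4d538f3d562f4a66fa820) (.leaf (nat_lit 0x2a6f8edb71cb107a438478dba754d39784b57c20)) (.leaf (nat_lit 0x2a71766ed98f50e1c1a4d538f3d562f4a66fa820)))))) (.node (nat_lit 0x2a71b8ded96748e1d5e8e534d3c166f2a62fc820) (.node (nat_lit 0x2a7198f6d766c75451e7e434d23946f4e42fac20) (.node (nat_lit 0x2a719676db8dc70251a7d578f43a42f4d46fac20) (.leaf (nat_lit 0x2a7178eedd665143c1e4e3b4d1d666f4962fa820)) (.leaf (nat_lit 0x2a719676db8dc70251a7d578f43a42f4d46fac20)))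 (.node (nat_lit 0x2a71b65edd8e4943d5a8d3b8f1c262f2966fc820) (.leaf (nat_lit 0x2a7198f6d766c75451e7e434d23946f4e42fac20)) (.leaf (nat_lit 0x2a71b65edd8e4943d5a8d3b8f1c262f2966fc820)))) (.node (nat_lit 0x2a71d8e6db65cf0239e3e574d45246f2d42fcc20) (.node (nat_lit 0x2a71d666d78ecf5439a3d438f25142f2e46fcc20) (.leaf (nat_lit 0x2a71b8ded96748e1d5e8e534d3c166f2a62fc820)) (.leaf (nat_lit 0x2a71d666d78ecf5439a3d438f25142f2e46fcc20))) (.node (nat_lit 0x2a72cbc7b8dda0e1a3957d1ba393ea99bd258820) (.leaf (nat_lit 0x2a71d8e6db65cf0239e3e574d45246f2d42fcc20)) (.node (nat_lit 0x2a72cdc7b6be2143a3556b9fc193d299bea58820) (.leaf (nat_lit 0x2a72cbc7b8dda0e1a3957d1ba393ea99bd258820)) (.leaf (nat_lit 0x2a72cdc7b6be2143a3556b9fc193d299bea58820))))))) (.node (nat_lit 0x2a771eb2f8cd9d021f546d5fc40ff350bcb91820) (.node (nat_lit 0x2a738bdbb1db068ad387791ba838ca9f8525fc20) (.node (nat_lit 0x2a736be3acdc4e483b837a1baad04a9fcd25f820)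 (.node (nat_lit 0x2a731db3b8bdaae193506d1fc3a3f298bca59820) (.leaf (nat_lit 0x2a731bb3b6de2b4393907b9ba1a3ca98bf259820)) (.leaf (nat_lit 0x2a731db3b8bdaae193506d1fc3a3f298bca59820))) (.node (nat_lit 0x2a736de3b1bb0e8abb43691fc850d29fc4a5f820) (.leaf (nat_lit 0x2a736be3acdc4e483b837a1baad04a9fcd25f820)) (.leaf (nat_lit 0x2a736de3b1bb0e8abb43691fc850d29fc4a5f820)))) (.node (nat_lit 0x2a76ccc6f8eda9020f8e7d5ba41feb51bd390820) (.node (nat_lit 0x2a738ddbacbc464853476a1fcab8529f8ca5fc20) (.leaf (nat_lit 0x2a738bdbb1db068ad387791ba838ca9f8525fc20)) (.leaf (nat_lit 0x2a738ddbacbc464853476a1fcab8529f8ca5fc20))) (.node (nat_lit 0x2a76cec6f6ce29540f4e6c1fc21fd351beb90820) (.leaf (nat_lit 0x2a76ccc6f8eda9020f8e7d5ba41feb51bd390820)) (.node (nat_lit 0x2a771cb2f6ee1d541f947c1ba20fcb50bf391820) (.leaf (nat_lit 0x2a76cec6f6ce29540f4e6c1fc21fd351beb90820)) (.leaf (nat_lit 0x2a771cb2f6ee1d541f947c1ba20fcb50bf391820))))))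 (.node (nat_lit 0x2a778edaeccc487a574868dfc74053578cb97c20) (.node (nat_lit 0x2a776ee2f1cb1037434469dfca54d357c4b97820) (.node (nat_lit 0x2a776ce2ecec507a438478dba7544b57cd397820) (.leaf (nat_lit 0x2a771eb2f8cd9d021f546d5fc40ff350bcb91820)) (.leaf (nat_lit 0x2a776ce2ecec507a438478dba7544b57cd397820))) (.node (nat_lit 0x2a778cdaf1eb0837578879dbaa40cb5785397c20) (.leaf (nat_lit 0x2a776ee2f1cb1037434469dfca54d357c4b97820)) (.leaf (nat_lit 0x2a778cdaf1eb0837578879dbaa40cb5785397c20)))) (.node (nat_lit 0x2a7acdc738bdab4393907b9ba1a3f259bca98820) (.node (nat_lit 0x2a7acbc736de2ae193506d1fc3a3ca59bf298820) (.leaf (nat_lit 0x2a778edaeccc487a574868dfc74053578cb97c20)) (.leaf (nat_lit 0x2a7acbc736de2ae193506d1fc3a3ca59bf298820))) (.node (nat_lit 0x2a7b1bb338dda143a3556b9fc193ea58bd299820) (.leaf (nat_lit 0x2a7acdc738bdab4393907b9ba1a3f259bca98820)) (.node (nat_lit 0x2a7b1db336be20e1a3957d1ba393d258bea99820)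 (.leaf (nat_lit 0x2a7b1bb338dda143a3556b9fc193ea58bd299820)) (.leaf (nat_lit 0x2a7b1db336be20e1a3957d1ba393d258bea99820)))))))) (.node (nat_lit 0x30a3dd659be5e63921ebb1f0d5129e2c1df4d420) (.node (nat_lit 0x3099be5e39d754498df2b230d59e1f4babe2d020) (.node (nat_lit 0x30997d6e39e764499daac22cf58e1e4d2bf2b820) (.node (nat_lit 0x2a7b8bdb2cdc4e8abb43691fc8504a5f8d29fc20) (.node (nat_lit 0x2a7b6de32cbc468ad387791ba838525fcca9f820) (.leaf (nat_lit 0x2a7b6be331db064853476a1fcab8ca5fc529f820)) (.leaf (nat_lit 0x2a7b6de32cbc468ad387791ba838525fcca9f820))) (.node (nat_lit 0x2a7b8ddb31bb0e483b837a1baad0d25f84a9fc20) (.leaf (nat_lit 0x2a7b8bdb2cdc4e8abb43691fc8504a5f8d29fc20)) (.leaf (nat_lit 0x2a7b8ddb31bb0e483b837a1baad0d25f84a9fc20)))) (.node (nat_lit 0x30999d763be5e67521abc0ecf9129e4d5df2c020) (.node (nat_lit 0x30997e6e3dd664859deab130d98ebf4d21e2b820) (.leaf (nat_lit 0x30997d6e39e764499daac22cf58e1e4d2bf2b820))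 (.leaf (nat_lit 0x30997e6e3dd664859deab130d98ebf4d21e2b820))) (.node (nat_lit 0x30999e7637d6e63921ebb1f0d511df4d69e2c020) (.leaf (nat_lit 0x30999d763be5e67521abc0ecf9129e4d5df2c020)) (.node (nat_lit 0x3099bd5e3de654858db2c12cf99ebe4ba1f2d020) (.leaf (nat_lit 0x30999e7637d6e63921ebb1f0d511df4d69e2c020)) (.leaf (nat_lit 0x3099bd5e3de654858db2c12cf99ebe4ba1f2d020)))))) (.node (nat_lit 0x30a37e6d99d754858db2c12cf99e1f2d2be4b820) (.node (nat_lit 0x3099de663bd5d67511f3b0f0d9229f4c1de2d420) (.node (nat_lit 0x3099dd6637e6d63911b3c1ecf521de4c29f2d420) (.leaf (nat_lit 0x3099be5e39d754498df2b230d59e1f4babe2d020)) (.leaf (nat_lit 0x3099dd6637e6d63911b3c1ecf521de4c29f2d420))) (.node (nat_lit 0x30a37d6d9de654498df2b230d59ebe2d21f4b820) (.leaf (nat_lit 0x3099de663bd5d67511f3b0f0d9229f4c1de2d420)) (.leaf (nat_lit 0x30a37d6d9de654498df2b230d59ebe2d21f4b820)))) (.node (nat_lit 0x30a39e759bd5d63911b3c1ecf5229f2d5de4c020)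 (.node (nat_lit 0x30a39d7597e6d67511f3b0f0d921de2d69f4c020) (.leaf (nat_lit 0x30a37e6d99d754858db2c12cf99e1f2d2be4b820)) (.leaf (nat_lit 0x30a39d7597e6d67511f3b0f0d921de2d69f4c020))) (.node (nat_lit 0x30a3bd5d99e764859deab130d98e1e2babf4d020) (.leaf (nat_lit 0x30a39e759bd5d63911b3c1ecf5229f2d5de4c020)) (.node (nat_lit 0x30a3be5d9dd664499daac22cf58ebf2ba1e4d020) (.leaf (nat_lit 0x30a3bd5d99e764859deab130d98e1e2babf4d020)) (.leaf (nat_lit 0x30a3be5d9dd664499daac22cf58ebf2ba1e4d020))))))) (.node (nat_lit 0x30afceeb71cb10754ec478db892d35a78b077c20) (.node (nat_lit 0x30af1cb37cee94b40f126cdf621ff0a17d572420) (.node (nat_lit 0x30aeccc77aef25321f0a6adf640fd0a27f571420) (.node (nat_lit 0x30a3de6597d6e67521abc0ecf911df2c29e4d420) (.leaf (nat_lit 0x30a3dd659be5e63921ebb1f0d5129e2c1df4d420)) (.leaf (nat_lit 0x30a3de6597d6e67521abc0ecf911df2c29e4d420))) (.node (nat_lit 0x30aecec77ccea4b41eca7cdb820ff5a27d071420)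 (.leaf (nat_lit 0x30aeccc77aef25321f0a6adf640fd0a27f571420)) (.leaf (nat_lit 0x30aecec77ccea4b41eca7cdb820ff5a27d071420)))) (.node (nat_lit 0x30afacf371eb08752f0868df694d30a7cb577820) (.node (nat_lit 0x30af1eb37acf15320ed27adb841fd5a17f072420) (.leaf (nat_lit 0x30af1cb37cee94b40f126cdf621ff0a17d572420)) (.leaf (nat_lit 0x30af1eb37acf15320ed27adb841fd5a17f072420))) (.node (nat_lit 0x30afaef36ccc48392ec879db854cb5a7d3077820) (.leaf (nat_lit 0x30afacf371eb08752f0868df694d30a7cb577820)) (.node (nat_lit 0x30afcceb6cec50394f0469df652cb0a793577c20) (.leaf (nat_lit 0x30afaef36ccc48392ec879db854cb5a7d3077820)) (.leaf (nat_lit 0x30afcceb6cec50394f0469df652cb0a793577c20)))))) (.node (nat_lit 0x30b31db3bcbe972193136a9f63a3f4a97ce82420) (.node (nat_lit 0x30b2cdc7babf26a3a30b6c9f6193d4aa7ee81420) (.node (nat_lit 0x30b2cbc7bcdea721a2cb7a9b8393eeaa7d481420) (.leaf (nat_lit 0x30afceeb71cb10754ec478db892d35a78b077c20))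 (.leaf (nat_lit 0x30b2cbc7bcdea721a2cb7a9b8393eeaa7d481420))) (.node (nat_lit 0x30b31bb3badf16a392d37c9b81a3cea97f482420) (.leaf (nat_lit 0x30b2cdc7babf26a3a30b6c9f6193d4aa7ee81420)) (.leaf (nat_lit 0x30b31bb3badf16a392d37c9b81a3cea97f482420)))) (.node (nat_lit 0x30b3adf3b1bb0e85cb03691f69a934afcae87820) (.node (nat_lit 0x30b3abf3acdc4e49cac37a1b85a8aeafd3487820) (.leaf (nat_lit 0x30b31db3bcbe972193136a9f63a3f4a97ce82420)) (.leaf (nat_lit 0x30b3abf3acdc4e49cac37a1b85a8aeafd3487820))) (.node (nat_lit 0x30b3cbebb1db0685aac7791b89c92eaf8b487c20) (.leaf (nat_lit 0x30b3adf3b1bb0e85cb03691f69a934afcae87820)) (.node (nat_lit 0x30b3cdebacbc4649ab076a1f65c8b4af92e87c20) (.leaf (nat_lit 0x30b3cbebb1db0685aac7791b89c92eaf8b487c20)) (.leaf (nat_lit 0x30b3cdebacbc4649ab076a1f65c8b4af92e87c20)))))))))))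
noncomputable def AP_lS_T1 : ST := (.node (nat_lit 0x413766e2fc7e8b314229cafac355c7faa83f4820) (.node (nat_lit 0x38f4db3f9dc6692126ee8a99b317ebaa3d381020) (.node (nat_lit 0x38dbacf1f8eda865258ed8af19167e4557f24020) (.node (nat_lit 0x30b996775b8dc73229a7c2ecf44a85f55c9fc020) (.node (nat_lit 0x30b6cec6facf14b40f126cdf621fd5727f0a1420) (.node (nat_lit 0x30b5b65f998f50a3cde4b4b0d1ae05fbaa9f5020) (.node (nat_lit 0x30b59677978ecf3249e3b2f0d429c5fd689f4020) (.node (nat_lit 0x30b578ef996748a3ada8c4acf1ce09fd2a5f3820) (.leaf (nat_lit 0x30b5766f9d8e4921ade8b2b0d3cea5fd209f3820)) (.leaf (nat_lit 0x30b578ef996748a3ada8c4acf1ce09fd2a5f3820))) (.node (nat_lit 0x30b598f79b65ceb449a3c4ecf22a89fd5c5f4020) (.leaf (nat_lit 0x30b59677978ecf3249e3b2f0d429c5fd689f4020)) (.leaf (nat_lit 0x30b598f79b65ceb449a3c4ecf22a89fd5c5f4020)))) (.node (nat_lit 0x30b5d6679b8dc6b429e7b4f0d24a85fc1c9f5420)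 (.node (nat_lit 0x30b5b8df9d665121cda4c2acf3aea9fba05f5020) (.leaf (nat_lit 0x30b5b65f998f50a3cde4b4b0d1ae05fbaa9f5020)) (.leaf (nat_lit 0x30b5b8df9d665121cda4c2acf3aea9fba05f5020))) (.node (nat_lit 0x30b5d8e79766c73229a7c2ecf449c9fc285f5420) (.leaf (nat_lit 0x30b5d6679b8dc6b429e7b4f0d24a85fc1c9f5420)) (.node (nat_lit 0x30b6ccc6fcee95320ed27adb841ff0727d5a1420) (.leaf (nat_lit 0x30b5d8e79766c73229a7c2ecf449c9fc285f5420)) (.leaf (nat_lit 0x30b6ccc6fcee95320ed27adb841ff0727d5a1420)))))) (.node (nat_lit 0x30b7aef2f1cb10394f0469df652d3577cb0a7820) (.node (nat_lit 0x30b71eb2fccea5321f0a6adf640ff5717d0a2420) (.node (nat_lit 0x30b71cb2faef24b41eca7cdb820fd0717f5a2420) (.leaf (nat_lit 0x30b6cec6facf14b40f126cdf621fd5727f0a1420)) (.leaf (nat_lit 0x30b71cb2faef24b41eca7cdb820fd0717f5a2420))) (.node (nat_lit 0x30b7acf2ecec50754ec478db892cb077d35a7820) (.leaf (nat_lit 0x30b71eb2fccea5321f0a6adf640ff5717d0a2420))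 (.leaf (nat_lit 0x30b7acf2ecec50754ec478db892cb077d35a7820)))) (.node (nat_lit 0x30b7ceeaeccc48752f0868df694cb577930a7c20) (.node (nat_lit 0x30b7cceaf1eb08392ec879db854d30778b5a7c20) (.leaf (nat_lit 0x30b7aef2f1cb10394f0469df652d3577cb0a7820)) (.leaf (nat_lit 0x30b7cceaf1eb08392ec879db854d30778b5a7c20))) (.node (nat_lit 0x30b9766f598f5121cda4c2acf3ae05f52a9fb820) (.leaf (nat_lit 0x30b7ceeaeccc48752f0868df694cb577930a7c20)) (.node (nat_lit 0x30b978ef5d6650a3cde4b4b0d1aea9f5205fb820) (.leaf (nat_lit 0x30b9766f598f5121cda4c2acf3ae05f52a9fb820)) (.leaf (nat_lit 0x30b978ef5d6650a3cde4b4b0d1aea9f5205fb820))))))) (.node (nat_lit 0x30bb1db33abf2721a2cb7a9b8393d4817eeaa420) (.node (nat_lit 0x30b9d667578eceb449a3c4ecf229c5f4289fd420) (.node (nat_lit 0x30b9b65f5d8e48a3ada8c4acf1cea5f3a09fd020) (.node (nat_lit 0x30b998f75766c6b429e7b4f0d249c9f5685fc020) (.leaf (nat_lit 0x30b996775b8dc73229a7c2ecf44a85f55c9fc020))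 (.leaf (nat_lit 0x30b998f75766c6b429e7b4f0d249c9f5685fc020))) (.node (nat_lit 0x30b9b8df59674921ade8b2b0d3ce09f3aa5fd020) (.leaf (nat_lit 0x30b9b65f5d8e48a3ada8c4acf1cea5f3a09fd020)) (.leaf (nat_lit 0x30b9b8df59674921ade8b2b0d3ce09f3aa5fd020)))) (.node (nat_lit 0x30bacbc73adf172193136a9f63a3ce827f4a9420) (.node (nat_lit 0x30b9d8e75b65cf3249e3b2f0d42a89f41c5fd420) (.leaf (nat_lit 0x30b9d667578eceb449a3c4ecf229c5f4289fd420)) (.leaf (nat_lit 0x30b9d8e75b65cf3249e3b2f0d42a89f41c5fd420))) (.node (nat_lit 0x30bacdc73cbe96a392d37c9b81a3f4827cea9420) (.leaf (nat_lit 0x30bacbc73adf172193136a9f63a3ce827f4a9420)) (.node (nat_lit 0x30bb1bb33cdea6a3a30b6c9f6193ee817d4aa420) (.leaf (nat_lit 0x30bacdc73cbe96a392d37c9b81a3f4827cea9420)) (.leaf (nat_lit 0x30bb1bb33cdea6a3a30b6c9f6193ee817d4aa420)))))) (.node (nat_lit 0x30bbcdeb31bb0e49cac37a1b85a934878aeafc20) (.node (nat_lit 0x30bbadf32cbc4685aac7791b89c8b487d2eaf820)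 (.node (nat_lit 0x30bbabf331db0649ab076a1f65c92e87cb4af820) (.leaf (nat_lit 0x30bb1db33abf2721a2cb7a9b8393d4817eeaa420)) (.leaf (nat_lit 0x30bbabf331db0649ab076a1f65c92e87cb4af820))) (.node (nat_lit 0x30bbcbeb2cdc4e85cb03691f69a8ae87934afc20) (.leaf (nat_lit 0x30bbadf32cbc4685aac7791b89c8b487d2eaf820)) (.leaf (nat_lit 0x30bbcbeb2cdc4e85cb03691f69a8ae87934afc20)))) (.node (nat_lit 0x38db6ee1fccea4971a2ab976ca0abf44e1e22c20) (.node (nat_lit 0x38db6ce1faef245a198ada6f170a1e44ebf22c20) (.leaf (nat_lit 0x30bbcdeb31bb0e49cac37a1b85a934878aeafc20)) (.leaf (nat_lit 0x38db6ce1faef245a198ada6f170a1e44ebf22c20))) (.node (nat_lit 0x38db8cd9fcee94970992d96f1a1abe42e1f24c20) (.leaf (nat_lit 0x38db6ee1fccea4971a2ab976ca0abf44e1e22c20)) (.node (nat_lit 0x38db8ed9facf145a0a32ba76c71a1f42ebe24c20) (.leaf (nat_lit 0x38db8cd9fcee94970992d96f1a1abe42e1f24c20)) (.leaf (nat_lit 0x38db8ed9facf145a0a32ba76c71a1f42ebe24c20))))))))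 (.node (nat_lit 0x38eddd670de3d229536561a37538909f9155fc20) (.node (nat_lit 0x38dfaef1b8cd9c291594d9af15267f2557e44020) (.node (nat_lit 0x38df6ce1bcee945a0a32ba76c71abe24e1f42c20) (.node (nat_lit 0x38dbcce9f6ee1c291594d9af15257e4427f25420) (.node (nat_lit 0x38dbaef1f6ce2829262eb9b6c5157f4567e24020) (.leaf (nat_lit 0x38dbacf1f8eda865258ed8af19167e4557f24020)) (.leaf (nat_lit 0x38dbaef1f6ce2829262eb9b6c5157f4567e24020))) (.node (nat_lit 0x38dbcee9f8cd9c651634b8b6c9267f4417e25420) (.leaf (nat_lit 0x38dbcce9f6ee1c291594d9af15257e4427f25420)) (.leaf (nat_lit 0x38dbcee9f8cd9c651634b8b6c9267f4417e25420)))) (.node (nat_lit 0x38df8cd9baef24971a2ab976ca0a1e22ebf44c20) (.node (nat_lit 0x38df6ee1bacf14970992d96f1a1a1f24ebe42c20) (.leaf (nat_lit 0x38df6ce1bcee945a0a32ba76c71abe24e1f42c20)) (.leaf (nat_lit 0x38df6ee1bacf14970992d96f1a1a1f24ebe42c20))) (.node (nat_lit 0x38df8ed9bccea45a198ada6f170abf22e1e44c20)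 (.leaf (nat_lit 0x38df8cd9baef24971a2ab976ca0a1e22ebf44c20)) (.node (nat_lit 0x38dfacf1b6ee1c651634b8b6c9257e2567f44020) (.leaf (nat_lit 0x38df8ed9bccea45a198ada6f170abf22e1e44c20)) (.leaf (nat_lit 0x38dfacf1b6ee1c651634b8b6c9257e2567f44020)))))) (.node (nat_lit 0x38ecde3f1dd664e49aea8d19b28bf59a3d059020) (.node (nat_lit 0x38dfcee9b6ce2865258ed8af19157f2427e45420) (.node (nat_lit 0x38dfcce9b8eda829262eb9b6c5167e2417f45420) (.leaf (nat_lit 0x38dfaef1b8cd9c291594d9af15267f2557e44020)) (.leaf (nat_lit 0x38dfcce9b8eda829262eb9b6c5167e2417f45420))) (.node (nat_lit 0x38ecdd3f19e765429b6a63a3748bd09a3f559020) (.leaf (nat_lit 0x38dfcee9b6ce2865258ed8af19157f2427e45420)) (.leaf (nat_lit 0x38ecdd3f19e765429b6a63a3748bd09a3f559020)))) (.node (nat_lit 0x38ecfe3719d755428af28b99b49bd5993f05a020) (.node (nat_lit 0x38ecfd371de654e48b726523729bf0993d55a020) (.leaf (nat_lit 0x38ecde3f1dd664e49aea8d19b28bf59a3d059020))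 (.leaf (nat_lit 0x38ecfd371de654e48b726523729bf0993d55a020))) (.node (nat_lit 0x38ed9d770fe34a653b6960a37951109fc955f820) (.leaf (nat_lit 0x38ecfe3719d755428af28b99b49bd5993f05a020)) (.node (nat_lit 0x38ed9e770dd3ca293ae98999b550959fd105f820) (.leaf (nat_lit 0x38ed9d770fe34a653b6960a37951109fc955f820)) (.leaf (nat_lit 0x38ed9e770dd3ca293ae98999b550959fd105f820))))))) (.node (nat_lit 0x38f1de66cdd3ca653b6960a37950955f9109fc20) (.node (nat_lit 0x38f0fd36d9e764e49aea8d19b28bd0593f59a020) (.node (nat_lit 0x38f0dd3edde655428af28b99b49bf05a3d599020) (.node (nat_lit 0x38edde670fd3526552e58899b939159f8905fc20) (.leaf (nat_lit 0x38eddd670de3d229536561a37538909f9155fc20)) (.leaf (nat_lit 0x38edde670fd3526552e58899b939159f8905fc20))) (.node (nat_lit 0x38f0de3ed9d754e48b726523729bd55a3f099020) (.leaf (nat_lit 0x38f0dd3edde655428af28b99b49bf05a3d599020)) (.leaf (nat_lit 0x38f0de3ed9d754e48b726523729bd55a3f099020))))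 (.node (nat_lit 0x38f19d76cde3d26552e58899b938905fd159f820) (.node (nat_lit 0x38f0fe36ddd665429b6a63a3748bf5593d09a020) (.leaf (nat_lit 0x38f0fd36d9e764e49aea8d19b28bd0593f59a020)) (.leaf (nat_lit 0x38f0fe36ddd665429b6a63a3748bf5593d09a020))) (.node (nat_lit 0x38f19e76cfd35229536561a37539155fc909f820) (.leaf (nat_lit 0x38f19d76cde3d26552e58899b938905fd159f820)) (.node (nat_lit 0x38f1dd66cfe34a293ae98999b551105f8959fc20) (.leaf (nat_lit 0x38f19e76cfd35229536561a37539155fc909f820)) (.leaf (nat_lit 0x38f1dd66cfe34a293ae98999b551105f8959fc20)))))) (.node (nat_lit 0x38f387dbbc6e93215185daaf133aa8fae04f4c20) (.node (nat_lit 0x38f367e3ba6f0aa33989dcaf115208fcea4f2c20) (.node (nat_lit 0x38f366e3bc7e8b213a29bab6c352a4fce08f2c20) (.leaf (nat_lit 0x38f1de66cdd3ca653b6960a37950955f9109fc20)) (.leaf (nat_lit 0x38f366e3bc7e8b213a29bab6c352a4fce08f2c20))) (.node (nat_lit 0x38f386dbba7f12a35225bcb6c13a04faea8f4c20)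 (.leaf (nat_lit 0x38f367e3ba6f0aa33989dcaf115208fcea4f2c20)) (.leaf (nat_lit 0x38f386dbba7f12a35225bcb6c13a04faea8f4c20)))) (.node (nat_lit 0x38f3a7f3b86d8ce4c982dd2f12aa68fd564f4020) (.node (nat_lit 0x38f3a6f3b67e0d42ca22bbb6c4a964fd668f4020) (.leaf (nat_lit 0x38f387dbbc6e93215185daaf133aa8fae04f4c20)) (.leaf (nat_lit 0x38f3a6f3b67e0d42ca22bbb6c4a964fd668f4020))) (.node (nat_lit 0x38f3c6ebb87d84e4aa26bd36c2ca64fc168f5420) (.leaf (nat_lit 0x38f3a7f3b86d8ce4c982dd2f12aa68fd564f4020)) (.node (nat_lit 0x38f3c7ebb66e0542a986dbaf14c968fc264f5420) (.leaf (nat_lit 0x38f3c6ebb87d84e4aa26bd36c2ca64fc168f5420)) (.leaf (nat_lit 0x38f3c7ebb66e0542a986dbaf14c968fc264f5420))))))))) (.node (nat_lit 0x411fabf1b8dda0299595e9b315a55f3ba5e1d020) (.node (nat_lit 0x38fb86db3c7e8aa33989dcaf1152a4f2e08fcc20) (.node (nat_lit 0x38f8dc3f5db65ca316f48c99b127f3823cba9020) (.node (nat_lit 0x38f59b778dc3cc5a4ae28a59b7288bafd1387820)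 (.node (nat_lit 0x38f4fb3799c75ca316f48c99b127cba93f382020) (.node (nat_lit 0x38f4dc3f99b768a3276e64a37117d3aa3eb81020) (.leaf (nat_lit 0x38f4db3f9dc6692126ee8a99b317ebaa3d381020)) (.leaf (nat_lit 0x38f4dc3f99b768a3276e64a37117d3aa3eb81020))) (.node (nat_lit 0x38f4fc379db65d21177462a37327f3a93cb82020) (.leaf (nat_lit 0x38f4fb3799c75ca316f48c99b127cba93f382020)) (.leaf (nat_lit 0x38f4fc379db65d21177462a37327f3a93cb82020)))) (.node (nat_lit 0x38f5db678fc344972ae68959ba490baf89387c20) (.node (nat_lit 0x38f59c778fb34c974b6261637a2913afc8b87820) (.leaf (nat_lit 0x38f59b778dc3cc5a4ae28a59b7288bafd1387820)) (.leaf (nat_lit 0x38f59c778fb34c974b6261637a2913afc8b87820))) (.node (nat_lit 0x38f5dc678db3c45a2b666263774893af90b87c20) (.leaf (nat_lit 0x38f5db678fc344972ae68959ba490baf89387c20)) (.node (nat_lit 0x38f8db3f59c75d21177462a37327cb823f3a9020) (.leaf (nat_lit 0x38f5dc678db3c45a2b666263774893af90b87c20))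 (.leaf (nat_lit 0x38f8db3f59c75d21177462a37327cb823f3a9020)))))) (.node (nat_lit 0x38f99c774db3c4972ae68959ba489387d0baf820) (.node (nat_lit 0x38f8fc3759b7692126ee8a99b317d3813ebaa020) (.node (nat_lit 0x38f8fb375dc668a3276e64a37117eb813d3aa020) (.leaf (nat_lit 0x38f8dc3f5db65ca316f48c99b127f3823cba9020)) (.leaf (nat_lit 0x38f8fb375dc668a3276e64a37117eb813d3aa020))) (.node (nat_lit 0x38f99b774fc3445a2b66626377490b87c93af820) (.leaf (nat_lit 0x38f8fc3759b7692126ee8a99b317d3813ebaa020)) (.leaf (nat_lit 0x38f99b774fc3445a2b66626377490b87c93af820)))) (.node (nat_lit 0x38f9dc674fb34c5a4ae28a59b729138788bafc20) (.node (nat_lit 0x38f9db674dc3cc974b6261637a288b87913afc20) (.leaf (nat_lit 0x38f99c774db3c4972ae68959ba489387d0baf820)) (.leaf (nat_lit 0x38f9db674dc3cc974b6261637a288b87913afc20))) (.node (nat_lit 0x38fb66e33a7f13215185daaf133a04f4ea8fac20) (.leaf (nat_lit 0x38f9dc674fb34c5a4ae28a59b729138788bafc20))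 (.node (nat_lit 0x38fb67e33c6e92a35225bcb6c13aa8f4e04fac20) (.leaf (nat_lit 0x38fb66e33a7f13215185daaf133a04f4ea8fac20)) (.leaf (nat_lit 0x38fb67e33c6e92a35225bcb6c13aa8f4e04fac20))))))) (.node (nat_lit 0x411b8dd9fcbe96980993e9731a99de1ca9f3a820) (.node (nat_lit 0x38fbc6eb367e0ce4c982dd2f12a964f4268fd420) (.node (nat_lit 0x38fba6f3387d8542a986dbaf14ca64f5568fc020) (.node (nat_lit 0x38fb87db3a6f0b213a29bab6c35208f2ea4fcc20) (.leaf (nat_lit 0x38fb86db3c7e8aa33989dcaf1152a4f2e08fcc20)) (.leaf (nat_lit 0x38fb87db3a6f0b213a29bab6c35208f2ea4fcc20))) (.node (nat_lit 0x38fba7f3366e04e4aa26bd36c2c968f5664fc020) (.leaf (nat_lit 0x38fba6f3387d8542a986dbaf14ca64f5568fc020)) (.leaf (nat_lit 0x38fba7f3366e04e4aa26bd36c2c968f5664fc020)))) (.node (nat_lit 0x411b6be1fcdea6981a2bc97aca89df1aa9e3c820) (.node (nat_lit 0x38fbc7eb386d8d42ca22bbb6c4aa68f4164fd420) (.leaf (nat_lit 0x38fbc6eb367e0ce4c982dd2f12a964f4268fd420))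 (.leaf (nat_lit 0x38fbc7eb386d8d42ca22bbb6c4aa68f4164fd420))) (.node (nat_lit 0x411b6de1fabf265a998bea73180a9e1a9df3c820) (.leaf (nat_lit 0x411b6be1fcdea6981a2bc97aca89df1aa9e3c820)) (.node (nat_lit 0x411b8bd9fadf165a8a33ca7ac81a9f1c9de3a820) (.leaf (nat_lit 0x411b6de1fabf265a998bea73180a9e1a9df3c820)) (.leaf (nat_lit 0x411b8bd9fadf165a8a33ca7ac81a9f1c9de3a820)))))) (.node (nat_lit 0x411bcde9f6be20299595e9b315a65e1d15f3b820) (.node (nat_lit 0x411badf1f8bdaa65a590e8b319955e1ba5f3d020) (.node (nat_lit 0x411babf1f6de2a29a630c9bac5965f1b95e3d020) (.leaf (nat_lit 0x411b8dd9fcbe96980993e9731a99de1ca9f3a820)) (.leaf (nat_lit 0x411babf1f6de2a29a630c9bac5965f1b95e3d020))) (.node (nat_lit 0x411bcbe9f8dda0659635c8bac9a55f1d25e3b820) (.leaf (nat_lit 0x411badf1f8bdaa65a590e8b319955e1ba5f3d020)) (.leaf (nat_lit 0x411bcbe9f8dda0659635c8bac9a55f1d25e3b820)))) (.node (nat_lit 0x411f6de1bcbe965a8a33ca7ac819de3aa9f1c820)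 (.node (nat_lit 0x411f6be1badf16980993e9731a9a9f3a9de1c820) (.leaf (nat_lit 0x411bcde9f6be20299595e9b315a65e1d15f3b820)) (.leaf (nat_lit 0x411f6be1badf16980993e9731a9a9f3a9de1c820))) (.node (nat_lit 0x411f8bd9bcdea65a998bea731809df3ca9e1a820) (.leaf (nat_lit 0x411f6de1bcbe965a8a33ca7ac819de3aa9f1c820)) (.node (nat_lit 0x411f8dd9babf26981a2bc97aca8a9e3c9df1a820) (.leaf (nat_lit 0x411f8bd9bcdea65a998bea731809df3ca9e1a820)) (.leaf (nat_lit 0x411f8dd9babf26981a2bc97aca8a9e3c9df1a820)))))))) (.node (nat_lit 0x412fc6eb767e0d04cd82ed7312ae47f5143fb820) (.node (nat_lit 0x412d7e6f0fd35265d7258899d9c06e578f497c20) (.node (nat_lit 0x412cdd3f1be5e7529bab6423948bd450fee91c20) (.node (nat_lit 0x411fcbe9b6de2a65a590e8b319965f3d15e1b820) (.node (nat_lit 0x411fadf1b6be20659635c8bac9a65e3b95f1d020) (.leaf (nat_lit 0x411fabf1b8dda0299595e9b315a55f3ba5e1d020)) (.leaf (nat_lit 0x411fadf1b6be20659635c8bac9a65e3b95f1d020)))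 (.node (nat_lit 0x411fcde9b8bdaa29a630c9bac5955e3d25f1b820) (.leaf (nat_lit 0x411fcbe9b6de2a65a590e8b319965f3d15e1b820)) (.leaf (nat_lit 0x411fcde9b8bdaa29a630c9bac5955e3d25f1b820)))) (.node (nat_lit 0x412cfd3717e6d7048bb36563929bf451fce90c20) (.node (nat_lit 0x412cde3f17d6e7049b2b8d59d28bee50fd491c20) (.leaf (nat_lit 0x412cdd3f1be5e7529bab6423948bd450fee91c20)) (.leaf (nat_lit 0x412cde3f17d6e7049b2b8d59d28bee50fd491c20))) (.node (nat_lit 0x412cfe371bd5d7528b338c19d49bce51ff490c20) (.leaf (nat_lit 0x412cfd3717e6d7048bb36563929bf451fce90c20)) (.node (nat_lit 0x412d7d6f0de3d229d7a561a395c0f45786e97c20) (.leaf (nat_lit 0x412cfe371bd5d7528b338c19d49bce51ff490c20)) (.leaf (nat_lit 0x412d7d6f0de3d229d7a561a395c0f45786e97c20)))))) (.node (nat_lit 0x412f67e37c6e92b35625ccfac141c3f2a87fc820) (.node (nat_lit 0x412dbe5f0dd3ca29c3298999d5d4ee57c7497820) (.node (nat_lit 0x412dbd5f0fe34a65c3a960a399d47457cee97820)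 (.leaf (nat_lit 0x412d7e6f0fd35265d7258899d9c06e578f497c20)) (.leaf (nat_lit 0x412dbd5f0fe34a65c3a960a399d47457cee97820))) (.node (nat_lit 0x412f66e37a7f13315585eaf3134287f29c3fc820) (.leaf (nat_lit 0x412dbe5f0dd3ca29c3298999d5d4ee57c7497820)) (.leaf (nat_lit 0x412f66e37a7f13315585eaf3134287f29c3fc820)))) (.node (nat_lit 0x412f87db7a6f0b314229cafac35683f49c7fa820) (.node (nat_lit 0x412f86db7c7e8ab34189ecf31155c7f4a83fa820) (.leaf (nat_lit 0x412f67e37c6e92b35625ccfac141c3f2a87fc820)) (.leaf (nat_lit 0x412f86db7c7e8ab34189ecf31155c7f4a83fa820))) (.node (nat_lit 0x412fa6f3787d8552ad86ec3314cd47f3a43fd020) (.leaf (nat_lit 0x412f87db7a6f0b314229cafac35683f49c7fa820)) (.node (nat_lit 0x412fa7f3766e0504ae26cd7ac2ce43f3947fd020) (.leaf (nat_lit 0x412fa6f3787d8552ad86ec3314cd47f3a43fd020)) (.leaf (nat_lit 0x412fa7f3766e0504ae26cd7ac2ce43f3947fd020))))))) (.node (nat_lit 0x4131be5ecfd35229d7a561a395c06e97cf457820)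 (.node (nat_lit 0x4130fd36dbe5e7049b2b8d59d28bd491fee50c20) (.node (nat_lit 0x4130dd3ed7e6d7528b338c19d49bf490fce51c20) (.node (nat_lit 0x412fc7eb786d8d52ce22cc3ac4ad43f5247fb820) (.leaf (nat_lit 0x412fc6eb767e0d04cd82ed7312ae47f5143fb820)) (.leaf (nat_lit 0x412fc7eb786d8d52ce22cc3ac4ad43f5247fb820))) (.node (nat_lit 0x4130de3edbd5d7048bb36563929bce90ff451c20) (.leaf (nat_lit 0x4130dd3ed7e6d7528b338c19d49bf490fce51c20)) (.leaf (nat_lit 0x4130de3edbd5d7048bb36563929bce90ff451c20)))) (.node (nat_lit 0x41317d6ecfe34a29c3298999d5d474978ee57c20) (.node (nat_lit 0x4130fe36d7d6e7529bab6423948bee91fd450c20) (.leaf (nat_lit 0x4130fd36dbe5e7049b2b8d59d28bd491fee50c20)) (.leaf (nat_lit 0x4130fe36d7d6e7529bab6423948bee91fd450c20))) (.node (nat_lit 0x41317e6ecdd3ca65c3a960a399d4ee9787457c20) (.leaf (nat_lit 0x41317d6ecfe34a29c3298999d5d474978ee57c20)) (.node (nat_lit 0x4131bd5ecde3d265d7258899d9c0f497c6e57820)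 (.leaf (nat_lit 0x41317e6ecdd3ca65c3a960a399d4ee9787457c20)) (.leaf (nat_lit 0x4131bd5ecde3d265d7258899d9c0f497c6e57820)))))) (.node (nat_lit 0x4134fc3797b6e13117b562e39327ea71fd2a0c20) (.node (nat_lit 0x4134dc3f9bb5eab327b064e39117ca70ff2a1c20) (.node (nat_lit 0x4134db3f97c6eb3127308ad9d317f270fcaa1c20) (.leaf (nat_lit 0x4131be5ecfd35229d7a561a395c06e97cf457820)) (.leaf (nat_lit 0x4134db3f97c6eb3127308ad9d317f270fcaa1c20))) (.node (nat_lit 0x4134fb379bc5e0b317358cd9d127d271feaa0c20) (.leaf (nat_lit 0x4134dc3f9bb5eab327b064e39117ca70ff2a1c20)) (.leaf (nat_lit 0x4134fb379bc5e0b317358cd9d127d271feaa0c20)))) (.node (nat_lit 0x41357c6f8db3c45aafa66263984cea77872a7c20) (.node (nat_lit 0x41357b6f8fc344982f268959dacc72778eaa7c20) (.leaf (nat_lit 0x4134fc3797b6e13117b562e39327ea71fd2a0c20)) (.leaf (nat_lit 0x41357b6f8fc344982f268959dacc72778eaa7c20))) (.node (nat_lit 0x4135bb5f8dc3cc5acf228a59d82cf277c6aa7820)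 (.leaf (nat_lit 0x41357c6f8db3c45aafa66263984cea77872a7c20)) (.node (nat_lit 0x4135bc5f8fb34c984fa261639aac6a77cf2a7820) (.leaf (nat_lit 0x4135bb5f8dc3cc5acf228a59d82cf277c6aa7820)) (.leaf (nat_lit 0x4135bc5f8fb34c984fa261639aac6a77cf2a7820)))))))))) (.node (nat_lit 0x497acbc738dda14193956b9fa3a3d298bea59820) (.node (nat_lit 0x496db65f1d8e48e3c1a8e534f1d566f4a62fa820) (.node (nat_lit 0x49599b7637c6ea3a21f0d1f8d7125f12d5e34c20) (.node (nat_lit 0x4138dc3f57b6e0b317358cd9d127eaa0fd271c20) (.node (nat_lit 0x4137a6f2f67e0d52ce22cc3ac4ae47fb943f5020) (.node (nat_lit 0x413786dafa7f12b35625ccfac14287fc9c3f2820) (.node (nat_lit 0x413767e2fa6f0ab34189ecf3115683fa9c7f4820) (.leaf (nat_lit 0x413766e2fc7e8b314229cafac355c7faa83f4820)) (.leaf (nat_lit 0x413767e2fa6f0ab34189ecf3115683fa9c7f4820))) (.node (nat_lit 0x413787dafc6e93315585eaf31341c3fca87f2820) (.leaf (nat_lit 0x413786dafa7f12b35625ccfac14287fc9c3f2820))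 (.leaf (nat_lit 0x413787dafc6e93315585eaf31341c3fca87f2820)))) (.node (nat_lit 0x4137c6eaf87d8504ae26cd7ac2cd47fd243f3820) (.node (nat_lit 0x4137a7f2f86d8d04cd82ed7312ad43fba47f5020) (.leaf (nat_lit 0x4137a6f2f67e0d52ce22cc3ac4ae47fb943f5020)) (.leaf (nat_lit 0x4137a7f2f86d8d04cd82ed7312ad43fba47f5020))) (.node (nat_lit 0x4137c7eaf66e0552ad86ec3314ce43fd147f3820) (.leaf (nat_lit 0x4137c6eaf87d8504ae26cd7ac2cd47fd243f3820)) (.node (nat_lit 0x4138db3f5bc5e13117b562e39327d2a0fea71c20) (.leaf (nat_lit 0x4137c7eaf66e0552ad86ec3314ce43fd147f3820)) (.leaf (nat_lit 0x4138db3f5bc5e13117b562e39327d2a0fea71c20)))))) (.node (nat_lit 0x41397c6f4fb34c5acf228a59d82c6aa78f277c20) (.node (nat_lit 0x4138fc375bb5eb3127308ad9d317caa1ff270c20) (.node (nat_lit 0x4138fb3757c6eab327b064e39117f2a1fca70c20) (.leaf (nat_lit 0x4138dc3f57b6e0b317358cd9d127eaa0fd271c20)) (.leaf (nat_lit 0x4138fb3757c6eab327b064e39117f2a1fca70c20)))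 (.node (nat_lit 0x41397b6f4dc3cc984fa261639aacf2a786a77c20) (.leaf (nat_lit 0x4138fc375bb5eb3127308ad9d317caa1ff270c20)) (.leaf (nat_lit 0x41397b6f4dc3cc984fa261639aacf2a786a77c20)))) (.node (nat_lit 0x4139bc5f4db3c4982f268959dacceaa7c7277820) (.node (nat_lit 0x4139bb5f4fc3445aafa66263984c72a7cea77820) (.leaf (nat_lit 0x41397c6f4fb34c5acf228a59d82c6aa78f277c20)) (.leaf (nat_lit 0x4139bb5f4fc3445aafa66263984c72a7cea77820))) (.node (nat_lit 0x49597b6e3dc668881deed138da8d7f12a7e34820) (.leaf (nat_lit 0x4139bc5f4db3c4982f268959dacceaa7c7277820)) (.node (nat_lit 0x49597c6e39b7684a9daee234f80e7e1297f34820) (.leaf (nat_lit 0x49597b6e3dc668881deed138da8d7f12a7e34820)) (.leaf (nat_lit 0x49597c6e39b7684a9daee234f80e7e1297f34820))))))) (.node (nat_lit 0x49639c7597b6e07711f5d0f8da225e32d5f14c20) (.node (nat_lit 0x4959db663bc5e07711f5d0f8da215f14e5e32c20) (.node (nat_lit 0x4959bb5e39c75c4a8df4d238d81e7f1497e32820)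 (.node (nat_lit 0x49599c763bb5ea7721b0e0f4fa115e12e5f34c20) (.leaf (nat_lit 0x49599b7637c6ea3a21f0d1f8d7125f12d5e34c20)) (.leaf (nat_lit 0x49599c763bb5ea7721b0e0f4fa115e12e5f34c20))) (.node (nat_lit 0x4959bc5e3db65c880db4e134fa9d7e14a7f32820) (.leaf (nat_lit 0x4959bb5e39c75c4a8df4d238d81e7f1497e32820)) (.leaf (nat_lit 0x4959bc5e3db65c880db4e134fa9d7e14a7f32820)))) (.node (nat_lit 0x49637b6d99c75c880db4e134fa9e7f3297e14820) (.node (nat_lit 0x4959dc6637b6e03a11b5e1f4f7225e14d5f32c20) (.leaf (nat_lit 0x4959db663bc5e07711f5d0f8da215f14e5e32c20)) (.leaf (nat_lit 0x4959dc6637b6e03a11b5e1f4f7225e14d5f32c20))) (.node (nat_lit 0x49637c6d9db65c4a8df4d238d81d7e32a7f14820) (.leaf (nat_lit 0x49637b6d99c75c880db4e134fa9e7f3297e14820)) (.node (nat_lit 0x49639b759bc5e03a11b5e1f4f7215f32e5e14c20) (.leaf (nat_lit 0x49637c6d9db65c4a8df4d238d81d7e32a7f14820)) (.leaf (nat_lit 0x49639b759bc5e03a11b5e1f4f7215f32e5e14c20))))))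 (.node (nat_lit 0x4963dc659bb5ea3a21f0d1f8d7115e34e5f12c20) (.node (nat_lit 0x4963bc5d99b768881deed138da8e7e3497f12820) (.node (nat_lit 0x4963bb5d9dc6684a9daee234f80d7f34a7e12820) (.leaf (nat_lit 0x49639c7597b6e07711f5d0f8da225e32d5f14c20)) (.leaf (nat_lit 0x4963bb5d9dc6684a9daee234f80d7f34a7e12820))) (.node (nat_lit 0x4963db6597c6ea7721b0e0f4fa125f34d5e12c20) (.leaf (nat_lit 0x4963bc5d99b768881deed138da8e7e3497f12820)) (.leaf (nat_lit 0x4963db6597c6ea7721b0e0f4fa125f34d5e12c20)))) (.node (nat_lit 0x496d78ef1d6650e3d5e4d538d1c162f2a66fc820) (.node (nat_lit 0x496d766f198f5141d5a4e3b4f3c266f2962fc820) (.leaf (nat_lit 0x4963dc659bb5ea3a21f0d1f8d7115e34e5f12c20)) (.leaf (nat_lit 0x496d766f198f5141d5a4e3b4f3c266f2962fc820))) (.node (nat_lit 0x496d96771b8dc75239a7e434f45146f2e42fcc20) (.leaf (nat_lit 0x496d78ef1d6650e3d5e4d538d1c162f2a66fc820)) (.node (nat_lit 0x496d98f71766c70439e7d578d25242f2d46fcc20)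 (.leaf (nat_lit 0x496d96771b8dc75239a7e434f45146f2e42fcc20)) (.leaf (nat_lit 0x496d98f71766c70439e7d578d25242f2d46fcc20)))))))) (.node (nat_lit 0x4971d666db8dc70439e7d578d25146fce42f2c20) (.node (nat_lit 0x496f6ee371cb1077574478dbca404b578d397c20) (.node (nat_lit 0x496eccc778eda9521f8e6c1fa40fd350beb91820) (.node (nat_lit 0x496dd667178ecf0451a3e574f23a46f4d42fac20) (.node (nat_lit 0x496db8df19674941c1e8d3b8d3d662f4966fa820) (.leaf (nat_lit 0x496db65f1d8e48e3c1a8e534f1d566f4a62fa820)) (.leaf (nat_lit 0x496db8df19674941c1e8d3b8d3d662f4966fa820))) (.node (nat_lit 0x496dd8e71b65cf5251e3d438d43942f4e46fac20) (.leaf (nat_lit 0x496dd667178ecf0451a3e574f23a46f4d42fac20)) (.leaf (nat_lit 0x496dd8e71b65cf5251e3d438d43942f4e46fac20)))) (.node (nat_lit 0x496f1cb376ee1d040f946d5fa21ff351bcb90820) (.node (nat_lit 0x496ecec776ce29041f4e7d5bc20feb50bd391820) (.leaf (nat_lit 0x496eccc778eda9521f8e6c1fa40fd350beb91820))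 (.leaf (nat_lit 0x496ecec776ce29041f4e7d5bc20feb50bd391820))) (.node (nat_lit 0x496f1eb378cd9d520f547c1bc41fcb51bf390820) (.leaf (nat_lit 0x496f1cb376ee1d040f946d5fa21ff351bcb90820)) (.node (nat_lit 0x496f6ce36cec503a578469dfa740d35784b97c20) (.leaf (nat_lit 0x496f1eb378cd9d520f547c1bc41fcb51bf390820)) (.leaf (nat_lit 0x496f6ce36cec503a578469dfa740d35784b97c20)))))) (.node (nat_lit 0x497178eed96748e3c1a8e534f1d662fa966f4820) (.node (nat_lit 0x496f8edb6ccc483a434879dbc754cb57c5397820) (.node (nat_lit 0x496f8cdb71eb0877438868dfaa545357ccb97820) (.leaf (nat_lit 0x496f6ee371cb1077574478dbca404b578d397c20)) (.leaf (nat_lit 0x496f8cdb71eb0877438868dfaa545357ccb97820))) (.node (nat_lit 0x4971766edd8e4941c1e8d3b8d3d566faa62f4820) (.leaf (nat_lit 0x496f8edb6ccc483a434879dbc754cb57c5397820)) (.leaf (nat_lit 0x4971766edd8e4941c1e8d3b8d3d566faa62f4820)))) (.node (nat_lit 0x497198f6db65cf0451a3e574f23942fae46f4c20)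 (.node (nat_lit 0x49719676d78ecf5251e3d438d43a46fad42f4c20) (.leaf (nat_lit 0x497178eed96748e3c1a8e534f1d662fa966f4820)) (.leaf (nat_lit 0x49719676d78ecf5251e3d438d43a46fad42f4c20))) (.node (nat_lit 0x4971b65ed98f50e3d5e4d538d1c266fc962f2820) (.leaf (nat_lit 0x497198f6db65cf0451a3e574f23942fae46f4c20)) (.node (nat_lit 0x4971b8dedd665141d5a4e3b4f3c162fca66f2820) (.leaf (nat_lit 0x4971b65ed98f50e3d5e4d538d1c266fc962f2820)) (.leaf (nat_lit 0x4971b8dedd665141d5a4e3b4f3c162fca66f2820))))))) (.node (nat_lit 0x49738ddbb1bb0e885383691faab84a5fcd29f820) (.node (nat_lit 0x49731bb3b8dda0e393557d1bc1a3d259bea98820) (.node (nat_lit 0x4972cbc7b6de2b41a3507b9bc393f258bca99820) (.node (nat_lit 0x4971d8e6d766c75239a7e434f45242fcd46f2c20) (.leaf (nat_lit 0x4971d666db8dc70439e7d578d25146fce42f2c20)) (.leaf (nat_lit 0x4971d8e6d766c75239a7e434f45242fcd46f2c20))) (.node (nat_lit 0x4972cdc7b8bdaae3a3906d1fa193ca58bf299820)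 (.leaf (nat_lit 0x4972cbc7b6de2b41a3507b9bc393f258bca99820)) (.leaf (nat_lit 0x4972cdc7b8bdaae3a3906d1fa193ca58bf299820)))) (.node (nat_lit 0x49736be3b1db06883b47791bcad0525f8ca9fc20) (.node (nat_lit 0x49731db3b6be214193956b9fa3a3ea59bd298820) (.leaf (nat_lit 0x49731bb3b8dda0e393557d1bc1a3d259bea98820)) (.leaf (nat_lit 0x49731db3b6be214193956b9fa3a3ea59bd298820))) (.node (nat_lit 0x49736de3acbc464abb876a1fa850ca5f8529fc20) (.leaf (nat_lit 0x49736be3b1db06883b47791bcad0525f8ca9fc20)) (.node (nat_lit 0x49738bdbacdc4e4ad3437a1bc838d25fc4a9f820) (.leaf (nat_lit 0x49736de3acbc464abb876a1fa850ca5f8529fc20)) (.leaf (nat_lit 0x49738bdbacdc4e4ad3437a1bc838d25fc4a9f820)))))) (.node (nat_lit 0x49771eb2f6ce29521f8e6c1fa40feb91bd350820) (.node (nat_lit 0x4976cec6f8cd9d040f946d5fa21fcb90bf351820) (.node (nat_lit 0x4976ccc6f6ee1d520f547c1bc41ff390bcb51820) (.leaf (nat_lit 0x49738ddbb1bb0e885383691faab84a5fcd29f820))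 (.leaf (nat_lit 0x4976ccc6f6ee1d520f547c1bc41ff390bcb51820))) (.node (nat_lit 0x49771cb2f8eda9041f4e7d5bc20fd391beb50820) (.leaf (nat_lit 0x4976cec6f8cd9d040f946d5fa21fcb90bf351820)) (.leaf (nat_lit 0x49771cb2f8eda9041f4e7d5bc20fd391beb50820)))) (.node (nat_lit 0x49776ee2eccc4877438868dfaa54cb9785357c20) (.node (nat_lit 0x49776ce2f1eb083a434879dbc75453978cb57c20) (.leaf (nat_lit 0x49771eb2f6ce29521f8e6c1fa40feb91bd350820)) (.leaf (nat_lit 0x49776ce2f1eb083a434879dbc75453978cb57c20))) (.node (nat_lit 0x49778cdaecec5077574478dbca40d397c4b57820) (.leaf (nat_lit 0x49776ee2eccc4877438868dfaa54cb9785357c20)) (.node (nat_lit 0x49778edaf1cb103a578469dfa7404b97cd357820) (.leaf (nat_lit 0x49778cdaecec5077574478dbca40d397c4b57820)) (.leaf (nat_lit 0x49778edaf1cb103a578469dfa7404b97cd357820))))))))) (.node (nat_lit 0x54a37b6d8dc3cde80fa2e7f59a9e68a156472420) (.node (nat_lit 0x549b1bb1f8dda063ff55c8bbc1f8895d1059b820)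 (.node (nat_lit 0x5498dc3e3bb5ea737bb0e0f5917ca472d28a4c20) (.node (nat_lit 0x497b6be32cdc4e885383691faab8d29f84a5fc20) (.node (nat_lit 0x497b1bb336de2ae3a3906d1fa193f299bca58820) (.node (nat_lit 0x497acdc736be20e393557d1bc1a3ea98bd259820) (.leaf (nat_lit 0x497acbc738dda14193956b9fa3a3d298bea59820)) (.leaf (nat_lit 0x497acdc736be20e393557d1bc1a3ea98bd259820))) (.node (nat_lit 0x497b1db338bdab41a3507b9bc393ca99bf258820) (.leaf (nat_lit 0x497b1bb336de2ae3a3906d1fa193f299bca58820)) (.leaf (nat_lit 0x497b1db338bdab41a3507b9bc393ca99bf258820)))) (.node (nat_lit 0x497b8bdb31db064abb876a1fa850529fcca5f820) (.node (nat_lit 0x497b6de331bb0e4ad3437a1bc8384a9f8d25fc20) (.leaf (nat_lit 0x497b6be32cdc4e885383691faab8d29f84a5fc20)) (.leaf (nat_lit 0x497b6de331bb0e4ad3437a1bc8384a9f8d25fc20))) (.node (nat_lit 0x497b8ddb2cbc46883b47791bcad0ca9fc525f820) (.leaf (nat_lit 0x497b8bdb31db064abb876a1fa850529fcca5f820))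 (.node (nat_lit 0x5498db3e37c6ea317b30d1f9d37d2872ca4a4c20) (.leaf (nat_lit 0x497b8ddb2cbc46883b47791bcad0ca9fc525f820)) (.leaf (nat_lit 0x5498db3e37c6ea317b30d1f9d37d2872ca4a4c20)))))) (.node (nat_lit 0x54997c6e2db3c5fa9fa6e7b5980e6471568a2420) (.node (nat_lit 0x5498fc3637b6e0317fb5e1f593792474ca8a2c20) (.node (nat_lit 0x5498fb363bc5e0737f35d0f9d178a874d24a2c20) (.leaf (nat_lit 0x5498dc3e3bb5ea737bb0e0f5917ca472d28a4c20)) (.leaf (nat_lit 0x5498fb363bc5e0737f35d0f9d178a874d24a2c20))) (.node (nat_lit 0x54997b6e2fc345e81f26d7f9da8d6871664a2420) (.leaf (nat_lit 0x5498fc3637b6e0317fb5e1f593792474ca8a2c20)) (.leaf (nat_lit 0x54997b6e2fc345e81f26d7f9da8d6871664a2420)))) (.node (nat_lit 0x5499bc5e2fb34de80fa2e7f59a9d6472668a1420) (.node (nat_lit 0x5499bb5e2dc3cdfa8f22d7b9d81e6872564a1420) (.leaf (nat_lit 0x54997c6e2db3c5fa9fa6e7b5980e6471568a2420)) (.leaf (nat_lit 0x5499bb5e2dc3cdfa8f22d7b9d81e6872564a1420)))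 (.node (nat_lit 0x549acbc5f6de2a21fb50c9bbc3fd095b8859d020) (.leaf (nat_lit 0x5499bc5e2fb34de80fa2e7f59a9d6472668a1420)) (.node (nat_lit 0x549acdc5f8bdaa63fb90e8b3a1fc855b9099d020) (.leaf (nat_lit 0x549acbc5f6de2a21fb50c9bbc3fd095b8859d020)) (.leaf (nat_lit 0x549acdc5f8bdaa63fb90e8b3a1fc855b9099d020))))))) (.node (nat_lit 0x549f1db1b8bdaa21fb50c9bbc3fc859d1095b820) (.node (nat_lit 0x549b8bd9ecdc4ffa8b43cfbbc81a895a1c599020) (.node (nat_lit 0x549b6be1f1db07e81b47cffbca89c9592859a020) (.node (nat_lit 0x549b1db1f6be2021ff95e9b3a3f9055d0899b820) (.leaf (nat_lit 0x549b1bb1f8dda063ff55c8bbc1f8895d1059b820)) (.leaf (nat_lit 0x549b1db1f6be2021ff95e9b3a3f9055d0899b820))) (.node (nat_lit 0x549b6de1ecbc47fa9b87efb3a80a85591c99a020) (.leaf (nat_lit 0x549b6be1f1db07e81b47cffbca89c9592859a020)) (.leaf (nat_lit 0x549b6de1ecbc47fa9b87efb3a80a85591c99a020)))) (.node (nat_lit 0x549ecbc5b8dda021ff95e9b3a3f8899b9055d020)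 (.node (nat_lit 0x549b8dd9f1bb0fe80b83eff3aa99c55a28999020) (.leaf (nat_lit 0x549b8bd9ecdc4ffa8b43cfbbc81a895a1c599020)) (.leaf (nat_lit 0x549b8dd9f1bb0fe80b83eff3aa99c55a28999020))) (.node (nat_lit 0x549ecdc5b6be2063ff55c8bbc1f9059b8895d020) (.leaf (nat_lit 0x549ecbc5b8dda021ff95e9b3a3f8899b9055d020)) (.node (nat_lit 0x549f1bb1b6de2a63fb90e8b3a1fd099d0855b820) (.leaf (nat_lit 0x549ecdc5b6be2063ff55c8bbc1f9059b8895d020)) (.leaf (nat_lit 0x549f1bb1b6de2a63fb90e8b3a1fd099d0855b820)))))) (.node (nat_lit 0x549f8dd9acbc47e81b47cffbca8a859a1c959020) (.node (nat_lit 0x549f6de1b1bb0ffa8b43cfbbc819c5992895a020) (.node (nat_lit 0x549f6be1acdc4fe80b83eff3aa9a89991c55a020) (.leaf (nat_lit 0x549f1db1b8bdaa21fb50c9bbc3fc859d1095b820)) (.leaf (nat_lit 0x549f6be1acdc4fe80b83eff3aa9a89991c55a020))) (.node (nat_lit 0x549f8bd9b1db07fa9b87efb3a809c99a28559020) (.leaf (nat_lit 0x549f6de1b1bb0ffa8b43cfbbc819c5992895a020))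 (.leaf (nat_lit 0x549f8bd9b1db07fa9b87efb3a809c99a28559020)))) (.node (nat_lit 0x54a2dc3d97b6e0737f35d0f9d17924a2ca874c20) (.node (nat_lit 0x54a2db3d9bc5e0317fb5e1f59378a8a2d2474c20) (.leaf (nat_lit 0x549f8dd9acbc47e81b47cffbca8a859a1c959020)) (.leaf (nat_lit 0x54a2db3d9bc5e0317fb5e1f59378a8a2d2474c20))) (.node (nat_lit 0x54a2fb3597c6ea737bb0e0f5917d28a4ca472c20) (.leaf (nat_lit 0x54a2dc3d97b6e0737f35d0f9d17924a2ca874c20)) (.node (nat_lit 0x54a2fc359bb5ea317b30d1f9d37ca4a4d2872c20) (.leaf (nat_lit 0x54a2fb3597c6ea737bb0e0f5917d28a4ca472c20)) (.leaf (nat_lit 0x54a2fc359bb5ea317b30d1f9d37ca4a4d2872c20)))))))) (.node (nat_lit 0x54af86db717b3e73439ee8f3a155d32a28b49020) (.node (nat_lit 0x54ad78ef0f637c63d73fd0b9d1c16e2167442420) (.node (nat_lit 0x54acd63f1b8dc75f9ba7e4359f08b422d2e44c20) (.node (nat_lit 0x54a3bb5d8fc345fa9fa6e7b5980d68a266471420) (.node (nat_lit 0x54a37c6d8fb34dfa8f22d7b9d81d64a166872420)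 (.leaf (nat_lit 0x54a37b6d8dc3cde80fa2e7f59a9e68a156472420)) (.leaf (nat_lit 0x54a37c6d8fb34dfa8f22d7b9d81d64a166872420))) (.node (nat_lit 0x54a3bc5d8db3c5e81f26d7f9da8e64a256871420) (.leaf (nat_lit 0x54a3bb5d8fc345fa9fa6e7b5980d68a266471420)) (.leaf (nat_lit 0x54a3bc5d8db3c5e81f26d7f9da8e64a256871420)))) (.node (nat_lit 0x54acf637178ecf0f0ba3e5759f993424cae42c20) (.node (nat_lit 0x54acd8bf1766c70f1b27d579df892e22cb444c20) (.leaf (nat_lit 0x54acd63f1b8dc75f9ba7e4359f08b422d2e44c20)) (.leaf (nat_lit 0x54acd8bf1766c70f1b27d579df892e22cb444c20))) (.node (nat_lit 0x54acf8b71b65cf5f8b23d439df18ae24d3442c20) (.leaf (nat_lit 0x54acf637178ecf0f0ba3e5759f993424cae42c20)) (.node (nat_lit 0x54ad766f0d8bfc21d7bfe1b593c2742156e42420) (.leaf (nat_lit 0x54acf8b71b65cf5f8b23d439df18ae24d3442c20)) (.leaf (nat_lit 0x54ad766f0d8bfc21d7bfe1b593c2742156e42420)))))) (.node (nat_lit 0x54aec7c7766e050f1f46cd7bcf8d0b2b8934d020)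 (.node (nat_lit 0x54adb8df0d63fe21c33ed1b9d3d66e2257441420) (.node (nat_lit 0x54adb65f0f8b7e63c3bee0b591d5742266e41420) (.leaf (nat_lit 0x54ad78ef0f637c63d73fd0b9d1c16e2167442420)) (.leaf (nat_lit 0x54adb65f0f8b7e63c3bee0b591d5742266e41420))) (.node (nat_lit 0x54aec6c7787d855f9f86ec33af0c932b90b4d020) (.leaf (nat_lit 0x54adb8df0d63fe21c33ed1b9d3d66e2257441420)) (.leaf (nat_lit 0x54aec6c7787d855f9f86ec33af0c932b90b4d020)))) (.node (nat_lit 0x54af17b3786d8d5f8f42cc3bcf1c8b2d1134b820) (.node (nat_lit 0x54af16b3767e0d0f0f82ed73af9d132d08b4b820) (.leaf (nat_lit 0x54aec7c7766e050f1f46cd7bcf8d0b2b8934d020)) (.leaf (nat_lit 0x54af16b3767e0d0f0f82ed73af9d132d08b4b820))) (.node (nat_lit 0x54af66e36c7c7c31579fe9f3a34293291cb4a020) (.leaf (nat_lit 0x54af17b3786d8d5f8f42cc3bcf1c8b2d1134b820)) (.node (nat_lit 0x54af67e3716b3c73575fc8fbc141cb292934a020) (.leaf (nat_lit 0x54af66e36c7c7c31579fe9f3a34293291cb4a020))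 (.leaf (nat_lit 0x54af67e3716b3c73575fc8fbc141cb292934a020))))))) (.node (nat_lit 0x54b1b8decf637c21d7bfe1b593c16e4267421420) (.node (nat_lit 0x54b0f636db8dc70f1b27d579df88b444d2e22c20) (.node (nat_lit 0x54b0d63ed78ecf5f8b23d439df193442cae24c20) (.node (nat_lit 0x54af87db6c6c7e31435ec9fbc3568b2a1d349020) (.leaf (nat_lit 0x54af86db717b3e73439ee8f3a155d32a28b49020)) (.leaf (nat_lit 0x54af87db6c6c7e31435ec9fbc3568b2a1d349020))) (.node (nat_lit 0x54b0d8bedb65cf0f0ba3e5759f98ae42d3424c20) (.leaf (nat_lit 0x54b0d63ed78ecf5f8b23d439df193442cae24c20)) (.leaf (nat_lit 0x54b0d8bedb65cf0f0ba3e5759f98ae42d3424c20)))) (.node (nat_lit 0x54b1766ecf8b7e21c33ed1b9d3d5744166e22420) (.node (nat_lit 0x54b0f8b6d766c75f9ba7e4359f092e44cb422c20) (.leaf (nat_lit 0x54b0f636db8dc70f1b27d579df88b444d2e22c20)) (.leaf (nat_lit 0x54b0f8b6d766c75f9ba7e4359f092e44cb422c20))) (.node (nat_lit 0x54b178eecd63fe63c3bee0b591d66e4157422420)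 (.leaf (nat_lit 0x54b1766ecf8b7e21c33ed1b9d3d5744166e22420)) (.node (nat_lit 0x54b1b65ecd8bfc63d73fd0b9d1c2744256e21420) (.leaf (nat_lit 0x54b178eecd63fe63c3bee0b591d66e4157422420)) (.leaf (nat_lit 0x54b1b65ecd8bfc63d73fd0b9d1c2744256e21420)))))) (.node (nat_lit 0x54b717b2f66e055f9f86ec33af0d0b4d0932b820) (.node (nat_lit 0x54b6c7c6f86d8d0f0f82ed73af9c8b4b9132d020) (.node (nat_lit 0x54b6c6c6f67e0d5f8f42cc3bcf1d134b88b2d020) (.leaf (nat_lit 0x54b1b8decf637c21d7bfe1b593c16e4267421420)) (.leaf (nat_lit 0x54b6c6c6f67e0d5f8f42cc3bcf1d134b88b2d020))) (.node (nat_lit 0x54b716b2f87d850f1f46cd7bcf8c934d10b2b820) (.leaf (nat_lit 0x54b6c7c6f86d8d0f0f82ed73af9c8b4b9132d020)) (.leaf (nat_lit 0x54b716b2f87d850f1f46cd7bcf8c934d10b2b820)))) (.node (nat_lit 0x54b767e2ec6c7e73439ee8f3a1568b491d32a020) (.node (nat_lit 0x54b766e2f17b3e31435ec9fbc355d34928b2a020) (.leaf (nat_lit 0x54b717b2f66e055f9f86ec33af0d0b4d0932b820))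 (.leaf (nat_lit 0x54b766e2f17b3e31435ec9fbc355d34928b2a020))) (.node (nat_lit 0x54b786daec7c7c73575fc8fbc142934a1cb29020) (.leaf (nat_lit 0x54b767e2ec6c7e73439ee8f3a1568b491d32a020)) (.node (nat_lit 0x54b787daf16b3c31579fe9f3a341cb4a29329020) (.leaf (nat_lit 0x54b786daec7c7c73575fc8fbc142934a1cb29020)) (.leaf (nat_lit 0x54b787daf16b3c31579fe9f3a341cb4a29329020)))))))))))
noncomputable def AP_lS_T2 : ST := (.node (nat_lit 0x855eccc5bcee94527ed2ba778478e274c66a2c20) (.node (nat_lit 0x751acbc5fadf1651fb13ca7b63fd0284886aa820) (.node (nat_lit 0x5ced96770d8bfc223affe1b5b45155396501a420) (.node (nat_lit 0x5cdf1cb1b6ee1c647b94b8b7a27c69554e594020) (.node (nat_lit 0x5cdacec5f8cd9c647b94b8b7a27ce59406955420) (.node (nat_lit 0x5cd99b762fc345ea2366d7f977124381547aa420) (.node (nat_lit 0x5cd8fb363dc668837f6ed1397178a382927ac820) (.node (nat_lit 0x5cd8dc3e3db65c837af4e135b17ca784923aa820)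 (.leaf (nat_lit 0x5cd8db3e39c75c417b74d239737d23848a7aa820)) (.leaf (nat_lit 0x5cd8dc3e3db65c837af4e135b17ca784923aa820))) (.node (nat_lit 0x5cd8fc3639b768417eeee235b37927828a3ac820) (.leaf (nat_lit 0x5cd8fb363dc668837f6ed1397178a382927ac820)) (.leaf (nat_lit 0x5cd8fc3639b768417eeee235b37927828a3ac820)))) (.node (nat_lit 0x5cd9db662dc3cdf71362d7b97a214382647a9420) (.node (nat_lit 0x5cd99c762db3c5f722e6e7b5ba114781643aa420) (.leaf (nat_lit 0x5cd99b762fc345ea2366d7f977124381547aa420)) (.leaf (nat_lit 0x5cd99c762db3c5f722e6e7b5ba114781643aa420))) (.node (nat_lit 0x5cd9dc662fb34dea12e2e7f5b7224782543a9420) (.leaf (nat_lit 0x5cd9db662dc3cdf71362d7b97a214382647a9420)) (.node (nat_lit 0x5cdaccc5f6ee1c227b54d9afc47c69940e555420) (.leaf (nat_lit 0x5cd9dc662fb34dea12e2e7f5b7224782543a9420)) (.leaf (nat_lit 0x5cdaccc5f6ee1c227b54d9afc47c69940e555420)))))) (.node (nat_lit 0x5cdb6ee1eccc49f71b88bfb7aa0aa591e0950c20)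 (.node (nat_lit 0x5cdb1eb1f6ce28227f8eb9b7a47865954e954020) (.node (nat_lit 0x5cdb1cb1f8eda8647f4ed8afc278e99546554020) (.leaf (nat_lit 0x5cdacec5f8cd9c647b94b8b7a27ce59406955420)) (.leaf (nat_lit 0x5cdb1cb1f8eda8647f4ed8afc278e99546554020))) (.node (nat_lit 0x5cdb6ce1f1eb09ea1b48dfefc70a0991ea550c20) (.leaf (nat_lit 0x5cdb1eb1f6ce28227f8eb9b7a47865954e954020)) (.leaf (nat_lit 0x5cdb6ce1f1eb09ea1b48dfefc70a0991ea550c20)))) (.node (nat_lit 0x5cdb8ed9f1cb11ea0b84bff7a71a0590ea951c20) (.node (nat_lit 0x5cdb8cd9ecec51f70b44dfafca1aa990e0551c20) (.leaf (nat_lit 0x5cdb6ee1eccc49f71b88bfb7aa0aa591e0950c20)) (.leaf (nat_lit 0x5cdb8cd9ecec51f70b44dfafca1aa990e0551c20))) (.node (nat_lit 0x5cdeccc5b8eda8227f8eb9b7a478e95406595420) (.leaf (nat_lit 0x5cdb8ed9f1cb11ea0b84bff7a71a0590ea951c20)) (.node (nat_lit 0x5cdecec5b6ce28647f4ed8afc27865540e995420) (.leaf (nat_lit 0x5cdeccc5b8eda8227f8eb9b7a478e95406595420))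 (.leaf (nat_lit 0x5cdecec5b6ce28647f4ed8afc27865540e995420))))))) (.node (nat_lit 0x5ce2fc359db65c417b74d239737ca7aa92384820) (.node (nat_lit 0x5cdf8cd9b1eb09f71b88bfb7aa0a0950ea591c20) (.node (nat_lit 0x5cdf6ce1acec51ea0b84bff7a71aa951e0590c20) (.node (nat_lit 0x5cdf1eb1b8cd9c227b54d9afc47ce55546994020) (.leaf (nat_lit 0x5cdf1cb1b6ee1c647b94b8b7a27c69554e594020)) (.leaf (nat_lit 0x5cdf1eb1b8cd9c227b54d9afc47ce55546994020))) (.node (nat_lit 0x5cdf6ee1b1cb11f70b44dfafca1a0551ea990c20) (.leaf (nat_lit 0x5cdf6ce1acec51ea0b84bff7a71aa951e0590c20)) (.leaf (nat_lit 0x5cdf6ee1b1cb11f70b44dfafca1a0551ea990c20)))) (.node (nat_lit 0x5ce2db3d9dc668417eeee235b378a3ac92782820) (.node (nat_lit 0x5cdf8ed9accc49ea1b48dfefc70aa550e0991c20) (.leaf (nat_lit 0x5cdf8cd9b1eb09f71b88bfb7aa0a0950ea591c20)) (.leaf (nat_lit 0x5cdf8ed9accc49ea1b48dfefc70aa550e0991c20))) (.node (nat_lit 0x5ce2dc3d99b768837f6ed139717927ac8a382820)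 (.leaf (nat_lit 0x5ce2db3d9dc668417eeee235b378a3ac92782820)) (.node (nat_lit 0x5ce2fb3599c75c837af4e135b17d23aa8a784820) (.leaf (nat_lit 0x5ce2dc3d99b768837f6ed139717927ac8a382820)) (.leaf (nat_lit 0x5ce2fb3599c75c837af4e135b17d23aa8a784820)))))) (.node (nat_lit 0x5ce3dc658db3c5ea2366d7f9771147aa64381420) (.node (nat_lit 0x5ce39c758fb34df71362d7b97a2247a954382420) (.node (nat_lit 0x5ce39b758dc3cdea12e2e7f5b72143a964782420) (.leaf (nat_lit 0x5ce2fc359db65c417b74d239737ca7aa92384820)) (.leaf (nat_lit 0x5ce39b758dc3cdea12e2e7f5b72143a964782420))) (.node (nat_lit 0x5ce3db658fc345f722e6e7b5ba1243aa54781420) (.leaf (nat_lit 0x5ce39c758fb34df71362d7b97a2247a954382420)) (.leaf (nat_lit 0x5ce3db658fc345f722e6e7b5ba1243aa54781420)))) (.node (nat_lit 0x5cecd8bf1967494f1b68d3b97f89303c8b51a820) (.node (nat_lit 0x5cecd63f1d8e48ef9ae8e535bf08b53c9301a820) (.leaf (nat_lit 0x5ce3dc658db3c5ea2366d7f9771147aa64381420))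 (.leaf (nat_lit 0x5cecd63f1d8e48ef9ae8e535bf08b53c9301a820))) (.node (nat_lit 0x5cecf637198f514f0ae4e3b5bf99353a8b01c820) (.leaf (nat_lit 0x5cecd8bf1967494f1b68d3b97f89303c8b51a820)) (.node (nat_lit 0x5cecf8b71d6650ef8b64d5397f18b03a9351c820) (.leaf (nat_lit 0x5cecf637198f514f0ae4e3b5bf99353a8b01c820)) (.leaf (nat_lit 0x5cecf8b71d6650ef8b64d5397f18b03a9351c820)))))))) (.node (nat_lit 0x5cf386dbb17b3e83539eb937a13a0a28eb249c20) (.node (nat_lit 0x5cf198f6cd63fe6452fee0b5b23950196553a420) (.node (nat_lit 0x5cf0d63ed98f50ef8b64d5397f19351c8b03a820) (.node (nat_lit 0x5cedd6670f8b7e6452fee0b5b23a553a55019420) (.node (nat_lit 0x5ced98f70f637c643b7fd0b9725250395551a420) (.leaf (nat_lit 0x5ced96770d8bfc223affe1b5b45155396501a420)) (.leaf (nat_lit 0x5ced98f70f637c643b7fd0b9725250395551a420))) (.node (nat_lit 0x5cedd8e70d63fe22537ed1b97439503a65519420) (.leaf (nat_lit 0x5cedd6670f8b7e6452fee0b5b23a553a55019420))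 (.leaf (nat_lit 0x5cedd8e70d63fe22537ed1b97439503a65519420)))) (.node (nat_lit 0x5cf0f636dd8e494f1b68d3b97f88b51a9303c820) (.node (nat_lit 0x5cf0d8bedd66514f0ae4e3b5bf98b01c9353a820) (.leaf (nat_lit 0x5cf0d63ed98f50ef8b64d5397f19351c8b03a820)) (.leaf (nat_lit 0x5cf0d8bedd66514f0ae4e3b5bf98b01c9353a820))) (.node (nat_lit 0x5cf0f8b6d96748ef9ae8e535bf09301a8b53c820) (.leaf (nat_lit 0x5cf0f636dd8e494f1b68d3b97f88b51a9303c820)) (.node (nat_lit 0x5cf19676cf8b7e22537ed1b9743a55195503a420) (.leaf (nat_lit 0x5cf0f8b6d96748ef9ae8e535bf09301a8b53c820)) (.leaf (nat_lit 0x5cf19676cf8b7e22537ed1b9743a55195503a420)))))) (.node (nat_lit 0x5cf2c7c7b66e054f2346dbafcf90722c0ea4d420) (.node (nat_lit 0x5cf1d8e6cf637c223affe1b5b452501a55539420) (.node (nat_lit 0x5cf1d666cd8bfc643b7fd0b97251551a65039420) (.leaf (nat_lit 0x5cf198f6cd63fe6452fee0b5b23950196553a420)) (.leaf (nat_lit 0x5cf1d666cd8bfc643b7fd0b97251551a65039420)))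 (.node (nat_lit 0x5cf2c6c7b87d84efa386bd37af10ea2c0724d420) (.leaf (nat_lit 0x5cf1d8e6cf637c223affe1b5b452501a55539420)) (.leaf (nat_lit 0x5cf2c6c7b87d84efa386bd37af10ea2c0724d420)))) (.node (nat_lit 0x5cf317b3b86d8cef9342dd2fcf20f22d46a4c020) (.node (nat_lit 0x5cf316b3b67e0d4f1382bbb7afa06a2d4f24c020) (.leaf (nat_lit 0x5cf2c7c7b66e054f2346dbafcf90722c0ea4d420)) (.leaf (nat_lit 0x5cf316b3b67e0d4f1382bbb7afa06a2d4f24c020))) (.node (nat_lit 0x5cf366e3ac7c7c413b9fba37a352aa29e1248c20) (.leaf (nat_lit 0x5cf317b3b86d8cef9342dd2fcf20f22d46a4c020)) (.node (nat_lit 0x5cf367e3b16b3c833b5fd92fc1521229eaa48c20) (.leaf (nat_lit 0x5cf366e3ac7c7c413b9fba37a352aa29e1248c20)) (.leaf (nat_lit 0x5cf367e3b16b3c833b5fd92fc1521229eaa48c20))))))) (.node (nat_lit 0x5cfb87db316b3c413b9fba37a3521248eaa29c20) (.node (nat_lit 0x5cfb16b3387d854f2346dbafcf90ea4d4722c020) (.node (nat_lit 0x5cfac6c7367e0cef9342dd2fcf206a4c0f22d420)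 (.node (nat_lit 0x5cf387dbac6c7e41535eda2fc33ab228e0a49c20) (.leaf (nat_lit 0x5cf386dbb17b3e83539eb937a13a0a28eb249c20)) (.leaf (nat_lit 0x5cf387dbac6c7e41535eda2fc33ab228e0a49c20))) (.node (nat_lit 0x5cfac7c7386d8d4f1382bbb7afa0f24c06a2d420) (.leaf (nat_lit 0x5cfac6c7367e0cef9342dd2fcf206a4c0f22d420)) (.leaf (nat_lit 0x5cfac7c7386d8d4f1382bbb7afa0f24c06a2d420)))) (.node (nat_lit 0x5cfb66e3317b3e41535eda2fc33a0a49eb228c20) (.node (nat_lit 0x5cfb17b3366e04efa386bd37af10724d4ea2c020) (.leaf (nat_lit 0x5cfb16b3387d854f2346dbafcf90ea4d4722c020)) (.leaf (nat_lit 0x5cfb17b3366e04efa386bd37af10724d4ea2c020))) (.node (nat_lit 0x5cfb67e32c6c7e83539eb937a13ab249e0a28c20) (.leaf (nat_lit 0x5cfb66e3317b3e41535eda2fc33a0a49eb228c20)) (.node (nat_lit 0x5cfb86db2c7c7c833b5fd92fc152aa48e1229c20) (.leaf (nat_lit 0x5cfb67e32c6c7e83539eb937a13ab249e0a28c20)) (.leaf (nat_lit 0x5cfb86db2c7c7c833b5fd92fc152aa48e1229c20))))))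 (.node (nat_lit 0x7518fe3637d6e632ffabb1f194f844954c854020) (.node (nat_lit 0x7518de3e3bd5d674fbb3b0f192fcc49404855420) (.node (nat_lit 0x7518dd3e37e6d632fb33c1edd4fc48940c455420) (.leaf (nat_lit 0x5cfb87db316b3c413b9fba37a3521248eaa29c20)) (.leaf (nat_lit 0x7518dd3e37e6d632fb33c1edd4fc48940c455420))) (.node (nat_lit 0x7518fd363be5e674ff2bc0edd2f8c89544454020) (.leaf (nat_lit 0x7518de3e3bd5d674fbb3b0f192fcc49404855420)) (.leaf (nat_lit 0x7518fd363be5e674ff2bc0edd2f8c89544454020)))) (.node (nat_lit 0x75197e6e2dd3cbf59fa9b7b1998ea491a0850820) (.node (nat_lit 0x75197d6e2fe34be99f29c7edd58e0891aa450820) (.leaf (nat_lit 0x7518fe3637d6e632ffabb1f194f844954c854020)) (.leaf (nat_lit 0x75197d6e2fe34be99f29c7edd58e0891aa450820))) (.node (nat_lit 0x7519bd5e2de3d3f58f25c7add99ea890a0451820) (.leaf (nat_lit 0x75197e6e2dd3cbf59fa9b7b1998ea491a0850820)) (.node (nat_lit 0x7519be5e2fd353e98fa5b7f1959e0490aa851820)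 (.leaf (nat_lit 0x7519bd5e2de3d3f58f25c7add99ea890a0451820)) (.leaf (nat_lit 0x7519be5e2fd353e98fa5b7f1959e0490aa851820))))))))) (.node (nat_lit 0x7535766f8d8bfc51afbfb27193ceaa21a1240820) (.node (nat_lit 0x7522fd3597e6d674fbb3b0f192fc48554c494020) (.node (nat_lit 0x751ecdc5babf2693ff0bc97b61f906ac88282820) (.node (nat_lit 0x751babf1f1db07e9a707cffb65964281146aa020) (.node (nat_lit 0x751b1bb1fcdea693ff0bc97b61f88282906ac820) (.node (nat_lit 0x751acdc5fcbe9693fad3e97381fc8684902aa820) (.leaf (nat_lit 0x751acbc5fadf1651fb13ca7b63fd0284886aa820)) (.leaf (nat_lit 0x751acdc5fcbe9693fad3e97381fc8684902aa820))) (.node (nat_lit 0x751b1db1fabf2651fecbea7383f90682882ac820) (.leaf (nat_lit 0x751b1bb1fcdea693ff0bc97b61f88282906ac820)) (.leaf (nat_lit 0x751b1db1fabf2651fecbea7383f90682882ac820)))) (.node (nat_lit 0x751bcbe9ecdc4ff59703cfbb69a54282246a9020) (.node (nat_lit 0x751badf1ecbc47f5a6c7efb389954681242aa020)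 (.leaf (nat_lit 0x751babf1f1db07e9a707cffb65964281146aa020)) (.leaf (nat_lit 0x751badf1ecbc47f5a6c7efb389954681242aa020))) (.node (nat_lit 0x751bcde9f1bb0fe996c3eff385a64682142a9020) (.leaf (nat_lit 0x751bcbe9ecdc4ff59703cfbb69a54282246a9020)) (.node (nat_lit 0x751ecbc5bcdea651fecbea7383f882ac90682820) (.leaf (nat_lit 0x751bcde9f1bb0fe996c3eff385a64682142a9020)) (.leaf (nat_lit 0x751ecbc5bcdea651fecbea7383f882ac90682820)))))) (.node (nat_lit 0x751fadf1b1bb0ff59703cfbb69a646a914282020) (.node (nat_lit 0x751f1db1bcbe9651fb13ca7b63fc86aa90284820) (.node (nat_lit 0x751f1bb1badf1693fad3e97381fd02aa88684820) (.leaf (nat_lit 0x751ecdc5babf2693ff0bc97b61f906ac88282820)) (.leaf (nat_lit 0x751f1bb1badf1693fad3e97381fd02aa88684820))) (.node (nat_lit 0x751fabf1acdc4fe996c3eff385a542a924682020) (.leaf (nat_lit 0x751f1db1bcbe9651fb13ca7b63fc86aa90284820)) (.leaf (nat_lit 0x751fabf1acdc4fe996c3eff385a542a924682020))))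 (.node (nat_lit 0x751fcde9acbc47e9a707cffb659546aa24281020) (.node (nat_lit 0x751fcbe9b1db07f5a6c7efb3899642aa14681020) (.leaf (nat_lit 0x751fadf1b1bb0ff59703cfbb69a646a914282020)) (.leaf (nat_lit 0x751fcbe9b1db07f5a6c7efb3899642aa14681020))) (.node (nat_lit 0x7522dd3d9be5e632ffabb1f194f8c85404495420) (.leaf (nat_lit 0x751fcde9acbc47e9a707cffb659546aa24281020)) (.node (nat_lit 0x7522de3d97d6e674ff2bc0edd2f844540c895420) (.leaf (nat_lit 0x7522dd3d9be5e632ffabb1f194f8c85404495420)) (.leaf (nat_lit 0x7522de3d97d6e674ff2bc0edd2f844540c895420))))))) (.node (nat_lit 0x752f17b37c6e92bf8f05ccfb6f1c903291514820) (.node (nat_lit 0x7523bd5d8fe34bf59fa9b7b1998e0850aa491820) (.node (nat_lit 0x75237d6d8de3d3e98fa5b7f1959ea851a0490820) (.node (nat_lit 0x7522fe359bd5d632fb33c1edd4fcc45544894020) (.leaf (nat_lit 0x7522fd3597e6d674fbb3b0f192fc48554c494020)) (.leaf (nat_lit 0x7522fe359bd5d632fb33c1edd4fcc45544894020)))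 (.node (nat_lit 0x75237e6d8fd353f58f25c7add99e0451aa890820) (.leaf (nat_lit 0x75237d6d8de3d3e98fa5b7f1959ea851a0490820)) (.leaf (nat_lit 0x75237e6d8fd353f58f25c7add99e0451aa890820)))) (.node (nat_lit 0x752ec6c77c7e8abf9ec9ecf38f0c953491012820) (.node (nat_lit 0x7523be5d8dd3cbe99f29c7edd58ea450a0891820) (.leaf (nat_lit 0x7523bd5d8fe34bf59fa9b7b1998e0850aa491820)) (.leaf (nat_lit 0x7523be5d8dd3cbe99f29c7edd58ea450a0891820))) (.node (nat_lit 0x752ec7c77a6f0b3f1f09cafb6f8d103489512820) (.leaf (nat_lit 0x752ec6c77c7e8abf9ec9ecf38f0c953491012820)) (.node (nat_lit 0x752f16b37a7f133f0ec5eaf38f9d153289014820) (.leaf (nat_lit 0x752ec7c77a6f0b3f1f09cafb6f8d103489512820)) (.leaf (nat_lit 0x752f16b37a7f133f0ec5eaf38f9d153289014820)))))) (.node (nat_lit 0x752fc7eb6c6c7e32cf1ec9fb64ad503225511020) (.node (nat_lit 0x752fa7f3716b3c74af1fc8fb62ce503115512020) (.node (nat_lit 0x752fa6f36c7c7c32aedfe9f384cd553125012020)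 (.leaf (nat_lit 0x752f17b37c6e92bf8f05ccfb6f1c903291514820)) (.leaf (nat_lit 0x752fa6f36c7c7c32aedfe9f384cd553125012020))) (.node (nat_lit 0x752fc6eb717b3e74cedee8f382ae553215011020) (.leaf (nat_lit 0x752fa7f3716b3c74af1fc8fb62ce503115512020)) (.leaf (nat_lit 0x752fc6eb717b3e74cedee8f382ae553215011020)))) (.node (nat_lit 0x7534d8bf9766c73f2727c2eddf9452240ca45420) (.node (nat_lit 0x7534d63f9b8dc6bfa7a7b4f19f14ca2405245420) (.leaf (nat_lit 0x752fc7eb6c6c7e32cf1ec9fb64ad503225511020)) (.leaf (nat_lit 0x7534d63f9b8dc6bfa7a7b4f19f14ca2405245420))) (.node (nat_lit 0x7534f637978ecf3f17a3b2f19fa44a254d244020) (.leaf (nat_lit 0x7534d8bf9766c73f2727c2eddf9452240ca45420)) (.node (nat_lit 0x7534f8b79b65cebf9723c4eddf24d22544a44020) (.leaf (nat_lit 0x7534f637978ecf3f17a3b2f19fa44a254d244020)) (.leaf (nat_lit 0x7534f8b79b65cebf9723c4eddf24d22544a44020)))))))) (.node (nat_lit 0x7539b65f4d8bfc93af3fc16dd1ceaa40a1221820)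 (.node (nat_lit 0x7537a7f2ec6c7e74cedee8f382ad501125532020) (.node (nat_lit 0x7536c6c6fa7f12bf8f05ccfb6f1d151489032820) (.node (nat_lit 0x7535b65f8f8b7e93cfbeb17191ae0a20ab241820) (.node (nat_lit 0x753578ef8f637c93af3fc16dd1ce1221aaa40820) (.leaf (nat_lit 0x7535766f8d8bfc51afbfb27193ceaa21a1240820)) (.leaf (nat_lit 0x753578ef8f637c93af3fc16dd1ce1221aaa40820))) (.node (nat_lit 0x7535b8df8d63fe51cf3ec26dd3aeb220a0a41820) (.leaf (nat_lit 0x7535b65f8f8b7e93cfbeb17191ae0a20ab241820)) (.leaf (nat_lit 0x7535b8df8d63fe51cf3ec26dd3aeb220a0a41820)))) (.node (nat_lit 0x753716b2fc7e8b3f1f09cafb6f8c951291034820) (.node (nat_lit 0x7536c7c6fc6e933f0ec5eaf38f9c901491532820) (.leaf (nat_lit 0x7536c6c6fa7f12bf8f05ccfb6f1d151489032820)) (.leaf (nat_lit 0x7536c7c6fc6e933f0ec5eaf38f9c901491532820))) (.node (nat_lit 0x753717b2fa6f0abf9ec9ecf38f0d101289534820) (.leaf (nat_lit 0x753716b2fc7e8b3f1f09cafb6f8c951291034820))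 (.node (nat_lit 0x7537a6f2f17b3e32cf1ec9fb64ae551115032020) (.leaf (nat_lit 0x753717b2fa6f0abf9ec9ecf38f0d101289534820)) (.leaf (nat_lit 0x7537a6f2f17b3e32cf1ec9fb64ae551115032020)))))) (.node (nat_lit 0x7538d8bf5b65cf3f17a3b2f19fa4d24404a25420) (.node (nat_lit 0x7537c7eaf16b3c32aedfe9f384ce501215531020) (.node (nat_lit 0x7537c6eaec7c7c74af1fc8fb62cd551225031020) (.leaf (nat_lit 0x7537a7f2ec6c7e74cedee8f382ad501125532020)) (.leaf (nat_lit 0x7537c6eaec7c7c74af1fc8fb62cd551225031020))) (.node (nat_lit 0x7538d63f578ecebf9723c4eddf244a440d225420) (.leaf (nat_lit 0x7537c7eaf16b3c32aedfe9f384ce501215531020)) (.leaf (nat_lit 0x7538d63f578ecebf9723c4eddf244a440d225420)))) (.node (nat_lit 0x7538f8b75766c6bfa7a7b4f19f1452454ca24020) (.node (nat_lit 0x7538f6375b8dc73f2727c2eddf94ca4545224020) (.leaf (nat_lit 0x7538d8bf5b65cf3f17a3b2f19fa4d24404a25420)) (.leaf (nat_lit 0x7538f6375b8dc73f2727c2eddf94ca4545224020)))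 (.node (nat_lit 0x7539766f4f8b7e51cf3ec26dd3ae0a41ab220820) (.leaf (nat_lit 0x7538f8b75766c6bfa7a7b4f19f1452454ca24020)) (.node (nat_lit 0x753978ef4d63fe93cfbeb17191aeb241a0a20820) (.leaf (nat_lit 0x7539766f4f8b7e51cf3ec26dd3ae0a41ab220820)) (.leaf (nat_lit 0x753978ef4d63fe93cfbeb17191aeb241a0a20820))))))) (.node (nat_lit 0x8559de662fd353e512e5b7f1b92287989c359820) (.node (nat_lit 0x8558fd363de65484ff72c12d72f8c39b8475d020) (.node (nat_lit 0x8558dd3e39e76442fb6ac22d74fc439d0c75b820) (.node (nat_lit 0x7539b8df4f637c51afbfb27193ce1240aaa21820) (.leaf (nat_lit 0x7539b65f4d8bfc93af3fc16dd1ceaa40a1221820)) (.leaf (nat_lit 0x7539b8df4f637c51afbfb27193ce1240aaa21820))) (.node (nat_lit 0x8558de3e3dd66484faeab131b2fcc79d0435b820) (.leaf (nat_lit 0x8558dd3e39e76442fb6ac22d74fc439d0c75b820)) (.leaf (nat_lit 0x8558de3e3dd66484faeab131b2fcc79d0435b820)))) (.node (nat_lit 0x85599d762fe34be52369c7ed791283999c758820)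 (.node (nat_lit 0x8558fe3639d75442fef2b231b4f8479b8c35d020) (.leaf (nat_lit 0x8558fd363de65484ff72c12d72f8c39b8475d020)) (.leaf (nat_lit 0x8558fe3639d75442fef2b231b4f8479b8c35d020))) (.node (nat_lit 0x85599e762dd3cbf922e9b7b1b511c799a8358820) (.leaf (nat_lit 0x85599d762fe34be52369c7ed791283999c758820)) (.node (nat_lit 0x8559dd662de3d3f91365c7ad7521c398a8759820) (.leaf (nat_lit 0x85599e762dd3cbf922e9b7b1b511c799a8358820)) (.leaf (nat_lit 0x8559dd662de3d3f91365c7ad7521c398a8759820)))))) (.node (nat_lit 0x855b1eb1facf14527ed2ba77847866a2ce274c20) (.node (nat_lit 0x855acec5fccea4947acab977827ce6a4c6272c20) (.node (nat_lit 0x855accc5faef24527b0ada6f647c62a4ce672c20) (.leaf (nat_lit 0x8559de662fd353e512e5b7f1b92287989c359820)) (.leaf (nat_lit 0x855accc5faef24527b0ada6f647c62a4ce672c20))) (.node (nat_lit 0x855b1cb1fcee94947f12d96f6278e2a2c6674c20) (.leaf (nat_lit 0x855acec5fccea4947acab977827ce6a4c6272c20))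 (.leaf (nat_lit 0x855b1cb1fcee94947f12d96f6278e2a2c6674c20)))) (.node (nat_lit 0x855baef1eccc49f926c8bfb7851566a1e6270c20) (.node (nat_lit 0x855bacf1f1eb09e52708dfef691662a1d6670c20) (.leaf (nat_lit 0x855b1eb1facf14527ed2ba77847866a2ce274c20)) (.leaf (nat_lit 0x855bacf1f1eb09e52708dfef691662a1d6670c20))) (.node (nat_lit 0x855bcce9ecec51f91704dfaf652562a0e6671c20) (.leaf (nat_lit 0x855baef1eccc49f926c8bfb7851566a1e6270c20)) (.node (nat_lit 0x855bcee9f1cb11e516c4bff7892666a0d6271c20) (.leaf (nat_lit 0x855bcce9ecec51f91704dfaf652562a0e6671c20)) (.leaf (nat_lit 0x855bcee9f1cb11e516c4bff7892666a0d6271c20)))))))))) (.node (nat_lit 0x92a2db3d97c6ea717f30e0f5d378a474d28a2c20) (.node (nat_lit 0x857996774f8b7e522b7ec26d744a8b199d338820) (.node (nat_lit 0x857316b3ba7f12af12c5bcb78fa06e32cf414c20) (.node (nat_lit 0x8562de3d99d75484ff72c12d72f8475d0c39b820) (.node (nat_lit 0x855facf1acec51e516c4bff789256271e66a0c20)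 (.node (nat_lit 0x855f1cb1baef24947acab977827c6272ce6a4c20) (.node (nat_lit 0x855ecec5bacf14947f12d96f62786674ce2a2c20) (.leaf (nat_lit 0x855eccc5bcee94527ed2ba778478e274c66a2c20)) (.leaf (nat_lit 0x855ecec5bacf14947f12d96f62786674ce2a2c20))) (.node (nat_lit 0x855f1eb1bccea4527b0ada6f647ce672c62a4c20) (.leaf (nat_lit 0x855f1cb1baef24947acab977827c6272ce6a4c20)) (.leaf (nat_lit 0x855f1eb1bccea4527b0ada6f647ce672c62a4c20)))) (.node (nat_lit 0x855fcce9b1eb09f926c8bfb785166270d66a1c20) (.node (nat_lit 0x855faef1b1cb11f91704dfaf65266671d62a0c20) (.leaf (nat_lit 0x855facf1acec51e516c4bff789256271e66a0c20)) (.leaf (nat_lit 0x855faef1b1cb11f91704dfaf65266671d62a0c20))) (.node (nat_lit 0x855fcee9accc49e52708dfef69156670e62a1c20) (.leaf (nat_lit 0x855fcce9b1eb09f926c8bfb785166270d66a1c20)) (.node (nat_lit 0x8562dd3d9de65442fef2b231b4f8c35d0479b820) (.leaf (nat_lit 0x855fcee9accc49e52708dfef69156670e62a1c20))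 (.leaf (nat_lit 0x8562dd3d9de65442fef2b231b4f8c35d0479b820)))))) (.node (nat_lit 0x85639e758fd353f91365c7ad752287599c398820) (.node (nat_lit 0x8562fe359dd66442fb6ac22d74fcc75b8439d020) (.node (nat_lit 0x8562fd3599e76484faeab131b2fc435b8c79d020) (.leaf (nat_lit 0x8562de3d99d75484ff72c12d72f8475d0c39b820)) (.leaf (nat_lit 0x8562fd3599e76484faeab131b2fc435b8c79d020))) (.node (nat_lit 0x85639d758de3d3e512e5b7f1b921c359a8798820) (.leaf (nat_lit 0x8562fe359dd66442fb6ac22d74fcc75b8439d020)) (.leaf (nat_lit 0x85639d758de3d3e512e5b7f1b921c359a8798820)))) (.node (nat_lit 0x8563de658dd3cbe52369c7ed7911c758a8399820) (.node (nat_lit 0x8563dd658fe34bf922e9b7b1b51283589c799820) (.leaf (nat_lit 0x85639e758fd353f91365c7ad752287599c398820)) (.leaf (nat_lit 0x8563dd658fe34bf922e9b7b1b51283589c799820))) (.node (nat_lit 0x8572c6c7bc7e8b2fa2c9bab78f10ee34c7412c20) (.leaf (nat_lit 0x8563de658dd3cbe52369c7ed7911c758a8399820))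 (.node (nat_lit 0x8572c7c7ba6f0aaf2309dcaf6f907434cee12c20) (.leaf (nat_lit 0x8572c6c7bc7e8b2fa2c9bab78f10ee34c7412c20)) (.leaf (nat_lit 0x8572c7c7ba6f0aaf2309dcaf6f907434cee12c20))))))) (.node (nat_lit 0x8574f8b79d66512f9764c2ad7f24d33b84b1d020) (.node (nat_lit 0x8573c6ebb17b3e84aadeb93782ca6e30d7411c20) (.node (nat_lit 0x8573a6f3ac7c7c42cadfba3784a96e31e7410c20) (.node (nat_lit 0x857317b3bc6e932f9305daaf6f20f432c6e14c20) (.leaf (nat_lit 0x857316b3ba7f12af12c5bcb78fa06e32cf414c20)) (.leaf (nat_lit 0x857317b3bc6e932f9305daaf6f20f432c6e14c20))) (.node (nat_lit 0x8573a7f3b16b3c84cb1fd92f62aa7431d6e10c20) (.leaf (nat_lit 0x8573a6f3ac7c7c42cadfba3784a96e31e7410c20)) (.leaf (nat_lit 0x8573a7f3b16b3c84cb1fd92f62aa7431d6e10c20)))) (.node (nat_lit 0x8574d63f9d8e492fa6e8b2b1bf14cb3d0531b820) (.node (nat_lit 0x8573c7ebac6c7e42ab1eda2f64c97430e6e11c20) (.leaf (nat_lit 0x8573c6ebb17b3e84aadeb93782ca6e30d7411c20))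 (.leaf (nat_lit 0x8573c7ebac6c7e42ab1eda2f64c97430e6e11c20))) (.node (nat_lit 0x8574d8bf996748af2768c4ad7f94533d0cb1b820) (.leaf (nat_lit 0x8574d63f9d8e492fa6e8b2b1bf14cb3d0531b820)) (.node (nat_lit 0x8574f637998f50af16e4b4b1bfa44b3b8d31d020) (.leaf (nat_lit 0x8574d8bf996748af2768c4ad7f94533d0cb1b820)) (.leaf (nat_lit 0x8574f637998f50af16e4b4b1bfa44b3b8d31d020)))))) (.node (nat_lit 0x8575d8e78d63fe522b7ec26d7449d338a8b19820) (.node (nat_lit 0x857598f78f637c944b7fc16d722a93399cb18820) (.node (nat_lit 0x857596778d8bfc524affb271b429cb39a9318820) (.leaf (nat_lit 0x8574f8b79d66512f9764c2ad7f24d33b84b1d020)) (.leaf (nat_lit 0x857596778d8bfc524affb271b429cb39a9318820))) (.node (nat_lit 0x8575d6678f8b7e942afeb171b24a8b389d319820) (.leaf (nat_lit 0x857598f78f637c944b7fc16d722a93399cb18820)) (.leaf (nat_lit 0x8575d6678f8b7e942afeb171b24a8b389d319820)))) (.node (nat_lit 0x8578d8bf5d6650af16e4b4b1bfa4d31d04b3b820)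 (.node (nat_lit 0x8578d63f598f512f9764c2ad7f244b1d0d33b820) (.leaf (nat_lit 0x8575d8e78d63fe522b7ec26d7449d338a8b19820)) (.leaf (nat_lit 0x8578d63f598f512f9764c2ad7f244b1d0d33b820))) (.node (nat_lit 0x8578f6375d8e48af2768c4ad7f94cb1b8533d020) (.leaf (nat_lit 0x8578d8bf5d6650af16e4b4b1bfa4d31d04b3b820)) (.node (nat_lit 0x8578f8b75967492fa6e8b2b1bf14531b8cb3d020) (.leaf (nat_lit 0x8578f6375d8e48af2768c4ad7f94cb1b8533d020)) (.leaf (nat_lit 0x8578f8b75967492fa6e8b2b1bf14531b8cb3d020)))))))) (.node (nat_lit 0x9299bb5e2fc345ea8fa6d7f9981e64a156872420) (.node (nat_lit 0x857ba7f32c6c7e84aadeb93782c97411e6e30c20) (.node (nat_lit 0x857ac6c73a7f132f9305daaf6f206e14cf432c20) (.node (nat_lit 0x8579d6674d8bfc944b7fc16d7229cb18a9339820) (.node (nat_lit 0x857998f74d63fe942afeb171b249d319a8b38820) (.leaf (nat_lit 0x857996774f8b7e522b7ec26d744a8b199d338820)) (.leaf (nat_lit 0x857998f74d63fe942afeb171b249d319a8b38820)))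 (.node (nat_lit 0x8579d8e74f637c524affb271b42a93189cb39820) (.leaf (nat_lit 0x8579d6674d8bfc944b7fc16d7229cb18a9339820)) (.leaf (nat_lit 0x8579d8e74f637c524affb271b42a93189cb39820)))) (.node (nat_lit 0x857b16b33c7e8aaf2309dcaf6f90ee12c7434c20) (.node (nat_lit 0x857ac7c73c6e92af12c5bcb78fa0f414c6e32c20) (.leaf (nat_lit 0x857ac6c73a7f132f9305daaf6f206e14cf432c20)) (.leaf (nat_lit 0x857ac7c73c6e92af12c5bcb78fa0f414c6e32c20))) (.node (nat_lit 0x857b17b33a6f0b2fa2c9bab78f107412cee34c20) (.leaf (nat_lit 0x857b16b33c7e8aaf2309dcaf6f90ee12c7434c20)) (.node (nat_lit 0x857ba6f3317b3e42ab1eda2f64ca6e11d7430c20) (.leaf (nat_lit 0x857b17b33a6f0b2fa2c9bab78f107412cee34c20)) (.leaf (nat_lit 0x857ba6f3317b3e42ab1eda2f64ca6e11d7430c20)))))) (.node (nat_lit 0x9298dc3e37b6e0337b35e1f5d17ca8a4d2472c20) (.node (nat_lit 0x857bc7eb316b3c42cadfba3784aa7410d6e31c20) (.node (nat_lit 0x857bc6eb2c7c7c84cb1fd92f62a96e10e7431c20)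 (.leaf (nat_lit 0x857ba7f32c6c7e84aadeb93782c97411e6e30c20)) (.leaf (nat_lit 0x857bc6eb2c7c7c84cb1fd92f62a96e10e7431c20))) (.node (nat_lit 0x9298db3e3bc5e0717bb5d0f9937d24a4ca872c20) (.leaf (nat_lit 0x857bc7eb316b3c42cadfba3784aa7410d6e31c20)) (.leaf (nat_lit 0x9298db3e3bc5e0717bb5d0f9937d24a4ca872c20)))) (.node (nat_lit 0x9298fc363bb5ea717f30e0f5d37928a2ca474c20) (.node (nat_lit 0x9298fb3637c6ea337fb0d1f99178a4a2d2874c20) (.leaf (nat_lit 0x9298dc3e37b6e0337b35e1f5d17ca8a4d2472c20)) (.leaf (nat_lit 0x9298fb3637c6ea337fb0d1f99178a4a2d2874c20))) (.node (nat_lit 0x92997b6e2dc3cdf81fa2d7b99a8d64a266871420) (.leaf (nat_lit 0x9298fc363bb5ea717f30e0f5d37928a2ca474c20)) (.node (nat_lit 0x92997c6e2fb34dea9f22e7f5d80e68a256471420) (.leaf (nat_lit 0x92997b6e2dc3cdf81fa2d7b99a8d64a266871420)) (.leaf (nat_lit 0x92997c6e2fb34dea9f22e7f5d80e68a256471420))))))) (.node (nat_lit 0x929b8dd9ecbc47f80b47efb3ca99c9992855a020)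 (.node (nat_lit 0x929b1bb1f6de2a23ff90c9bba1f8859b9095d020) (.node (nat_lit 0x929acbc5f8dda061fb95c8bba3fd059d0895b820) (.node (nat_lit 0x9299bc5e2db3c5f80f26e7b5da9d68a166472420) (.leaf (nat_lit 0x9299bb5e2fc345ea8fa6d7f9981e64a156872420)) (.leaf (nat_lit 0x9299bc5e2db3c5f80f26e7b5da9d68a166472420))) (.node (nat_lit 0x929acdc5f6be2023fb55e9b3c1fc899d1055b820) (.leaf (nat_lit 0x929acbc5f8dda061fb95c8bba3fd059d0895b820)) (.leaf (nat_lit 0x929acdc5f6be2023fb55e9b3c1fc899d1055b820)))) (.node (nat_lit 0x929b6be1ecdc4ff81b83cfbbaa89c59a28959020) (.node (nat_lit 0x929b1db1f8bdaa61ff50e8b3c3f9099b8855d020) (.leaf (nat_lit 0x929b1bb1f6de2a23ff90c9bba1f8859b9095d020)) (.leaf (nat_lit 0x929b1db1f8bdaa61ff50e8b3c3f9099b8855d020))) (.node (nat_lit 0x929b6de1f1bb0fea9b43eff3c80a899a1c559020) (.leaf (nat_lit 0x929b6be1ecdc4ff81b83cfbbaa89c59a28959020)) (.node (nat_lit 0x929b8bd9f1db07ea8b87cffba81a85991c95a020)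 (.leaf (nat_lit 0x929b6de1f1bb0fea9b43eff3c80a899a1c559020)) (.leaf (nat_lit 0x929b8bd9f1db07ea8b87cffba81a85991c95a020)))))) (.node (nat_lit 0x929f1db1b6be2061fb95c8bba3fc895b9059d020) (.node (nat_lit 0x929ecdc5b8bdaa23ff90c9bba1f9095d0859b820) (.node (nat_lit 0x929ecbc5b6de2a61ff50e8b3c3f8855d1099b820) (.leaf (nat_lit 0x929b8dd9ecbc47f80b47efb3ca99c9992855a020)) (.leaf (nat_lit 0x929ecbc5b6de2a61ff50e8b3c3f8855d1099b820))) (.node (nat_lit 0x929f1bb1b8dda023fb55e9b3c1fd055b8899d020) (.leaf (nat_lit 0x929ecdc5b8bdaa23ff90c9bba1f9095d0859b820)) (.leaf (nat_lit 0x929f1bb1b8dda023fb55e9b3c1fd055b8899d020)))) (.node (nat_lit 0x929f6de1acbc47ea8b87cffba819c95a28599020) (.node (nat_lit 0x929f6be1b1db07f80b47efb3ca9a855a1c999020) (.leaf (nat_lit 0x929f1db1b6be2061fb95c8bba3fc895b9059d020)) (.leaf (nat_lit 0x929f6be1b1db07f80b47efb3ca9a855a1c999020))) (.node (nat_lit 0x929f8bd9acdc4fea9b43eff3c809c5592899a020)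 (.leaf (nat_lit 0x929f6de1acbc47ea8b87cffba819c95a28599020)) (.node (nat_lit 0x929f8dd9b1bb0ff81b83cfbbaa8a89591c59a020) (.leaf (nat_lit 0x929f8bd9acdc4fea9b43eff3c809c5592899a020)) (.leaf (nat_lit 0x929f8dd9b1bb0ff81b83cfbbaa8a89591c59a020))))))))) (.node (nat_lit 0x92b766e2ec7c7c71439fc8fba355cb2a29349020) (.node (nat_lit 0x92af16b3787d855f0f46ec33cf9d0b4b8932d020) (.node (nat_lit 0x92acd8bf1b65cf5f1ba3d4399f893444cae22c20) (.node (nat_lit 0x92a37b6d8fc345f80f26e7b5da9e6472568a1420) (.node (nat_lit 0x92a2fb359bc5e0337b35e1f5d17d2472ca8a4c20) (.node (nat_lit 0x92a2dc3d9bb5ea337fb0d1f991792874ca4a2c20) (.leaf (nat_lit 0x92a2db3d97c6ea717f30e0f5d378a474d28a2c20)) (.leaf (nat_lit 0x92a2dc3d9bb5ea337fb0d1f991792874ca4a2c20))) (.node (nat_lit 0x92a2fc3597b6e0717bb5d0f9937ca872d24a4c20) (.leaf (nat_lit 0x92a2fb359bc5e0337b35e1f5d17d2472ca8a4c20)) (.leaf (nat_lit 0x92a2fc3597b6e0717bb5d0f9937ca872d24a4c20))))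 (.node (nat_lit 0x92a3bb5d8dc3cdea9f22e7f5d80d6471668a2420) (.node (nat_lit 0x92a37c6d8db3c5ea8fa6d7f9981d6872664a1420) (.leaf (nat_lit 0x92a37b6d8fc345f80f26e7b5da9e6472568a1420)) (.leaf (nat_lit 0x92a37c6d8db3c5ea8fa6d7f9981d6872664a1420))) (.node (nat_lit 0x92a3bc5d8fb34df81fa2d7b99a8e6871564a2420) (.leaf (nat_lit 0x92a3bb5d8dc3cdea9f22e7f5d80d6471668a2420)) (.node (nat_lit 0x92acd63f178ecf0f9b23e575df08ae44d3422c20) (.leaf (nat_lit 0x92a3bc5d8fb34df81fa2d7b99a8e6871564a2420)) (.leaf (nat_lit 0x92acd63f178ecf0f9b23e575df08ae44d3422c20)))))) (.node (nat_lit 0x92ad78ef0d63fe23d7bed1b991c1744266e21420) (.node (nat_lit 0x92acf8b71766c70f8ba7d5799f18b442d2e24c20) (.node (nat_lit 0x92acf6371b8dc75f0b27e435df992e42cb424c20) (.leaf (nat_lit 0x92acd8bf1b65cf5f1ba3d4399f893444cae22c20)) (.leaf (nat_lit 0x92acf6371b8dc75f0b27e435df992e42cb424c20))) (.node (nat_lit 0x92ad766f0f8b7e61d73ee0b5d3c26e4257421420)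 (.leaf (nat_lit 0x92acf8b71766c70f8ba7d5799f18b442d2e24c20)) (.leaf (nat_lit 0x92ad766f0f8b7e61d73ee0b5d3c26e4257421420)))) (.node (nat_lit 0x92adb8df0f637c61c3bfd0b993d6744156e22420) (.node (nat_lit 0x92adb65f0d8bfc23c33fe1b5d1d56e4167422420) (.leaf (nat_lit 0x92ad78ef0d63fe23d7bed1b991c1744266e21420)) (.leaf (nat_lit 0x92adb65f0d8bfc23c33fe1b5d1d56e4167422420))) (.node (nat_lit 0x92aec6c7767e0d0f9f42ed73cf0c8b4d1132b820) (.leaf (nat_lit 0x92adb8df0f637c61c3bfd0b993d6744156e22420)) (.node (nat_lit 0x92aec7c7786d8d5f1f82cc3baf8d134d08b2b820) (.leaf (nat_lit 0x92aec6c7767e0d0f9f42ed73cf0c8b4d1132b820)) (.leaf (nat_lit 0x92aec7c7786d8d5f1f82cc3baf8d134d08b2b820))))))) (.node (nat_lit 0x92b0f8b6db65cf0f9b23e575df093422cae44c20) (.node (nat_lit 0x92af86db6c7c7c33435fe9f3c155cb492932a020) (.node (nat_lit 0x92af66e3717b3e71575ee8f3c3428b4a1d329020) (.node (nat_lit 0x92af17b3766e050f8f86cd7baf1c934b90b2d020)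 (.leaf (nat_lit 0x92af16b3787d855f0f46ec33cf9d0b4b8932d020)) (.leaf (nat_lit 0x92af17b3766e050f8f86cd7baf1c934b90b2d020))) (.node (nat_lit 0x92af67e36c6c7e33579ec9fba141d34a28b29020) (.leaf (nat_lit 0x92af66e3717b3e71575ee8f3c3428b4a1d329020)) (.leaf (nat_lit 0x92af67e36c6c7e33579ec9fba141d34a28b29020)))) (.node (nat_lit 0x92b0d63edb8dc70f8ba7d5799f192e24cb442c20) (.node (nat_lit 0x92af87db716b3c71439fc8fba35693491cb2a020) (.leaf (nat_lit 0x92af86db6c7c7c33435fe9f3c155cb492932a020)) (.leaf (nat_lit 0x92af87db716b3c71439fc8fba35693491cb2a020))) (.node (nat_lit 0x92b0d8bed766c75f0b27e435df98b424d2e42c20) (.leaf (nat_lit 0x92b0d63edb8dc70f8ba7d5799f192e24cb442c20)) (.node (nat_lit 0x92b0f636d78ecf5f1ba3d4399f88ae22d3444c20) (.leaf (nat_lit 0x92b0d8bed766c75f0b27e435df98b424d2e42c20)) (.leaf (nat_lit 0x92b0f636d78ecf5f1ba3d4399f88ae22d3444c20)))))) (.node (nat_lit 0x92b1b8decd63fe61d73ee0b5d3c1742166e42420)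 (.node (nat_lit 0x92b178eecf637c23c33fe1b5d1d6742256e41420) (.node (nat_lit 0x92b1766ecd8bfc61c3bfd0b993d56e2267441420) (.leaf (nat_lit 0x92b0f8b6db65cf0f9b23e575df093422cae44c20)) (.leaf (nat_lit 0x92b1766ecd8bfc61c3bfd0b993d56e2267441420))) (.node (nat_lit 0x92b1b65ecf8b7e23d7bed1b991c26e2157442420) (.leaf (nat_lit 0x92b178eecf637c23c33fe1b5d1d6742256e41420)) (.leaf (nat_lit 0x92b1b65ecf8b7e23d7bed1b991c26e2157442420)))) (.node (nat_lit 0x92b6c7c6f66e055f0f46ec33cf9c932d10b4b820) (.node (nat_lit 0x92b6c6c6f87d850f8f86cd7baf1d0b2d0934b820) (.leaf (nat_lit 0x92b1b8decd63fe61d73ee0b5d3c1742166e42420)) (.leaf (nat_lit 0x92b6c6c6f87d850f8f86cd7baf1d0b2d0934b820))) (.node (nat_lit 0x92b716b2f67e0d5f1f82cc3baf8c8b2b9134d020) (.leaf (nat_lit 0x92b6c7c6f66e055f0f46ec33cf9c932d10b4b820)) (.node (nat_lit 0x92b717b2f86d8d0f9f42ed73cf0d132b88b4d020) (.leaf (nat_lit 0x92b716b2f67e0d5f1f82cc3baf8c8b2b9134d020))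 (.leaf (nat_lit 0x92b717b2f86d8d0f9f42ed73cf0d132b88b4d020)))))))) (.node (nat_lit 0x9adb8cd9f1eb09e70b88dfefaa1aa551e0990c20) (.node (nat_lit 0x9ad99c762fb34de72362e7f57a1143aa64781420) (.node (nat_lit 0x9ad8db3e3dc668817aeed139b37d27aa8a384820) (.node (nat_lit 0x92b786daf17b3e33579ec9fba1428b291d34a020) (.node (nat_lit 0x92b767e2f16b3c33435fe9f3c156932a1cb49020) (.leaf (nat_lit 0x92b766e2ec7c7c71439fc8fba355cb2a29349020)) (.leaf (nat_lit 0x92b767e2f16b3c33435fe9f3c156932a1cb49020))) (.node (nat_lit 0x92b787daec6c7e71575ee8f3c341d32928b4a020) (.leaf (nat_lit 0x92b786daf17b3e33579ec9fba1428b291d34a020)) (.leaf (nat_lit 0x92b787daec6c7e71575ee8f3c341d32928b4a020)))) (.node (nat_lit 0x9ad8fb3639c75c437ef4d239b178a7ac92382820) (.node (nat_lit 0x9ad8dc3e39b768437b6ee235717ca3aa92784820) (.leaf (nat_lit 0x9ad8db3e3dc668817aeed139b37d27aa8a384820)) (.leaf (nat_lit 0x9ad8dc3e39b768437b6ee235717ca3aa92784820)))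 (.node (nat_lit 0x9ad8fc363db65c817f74e135737923ac8a782820) (.leaf (nat_lit 0x9ad8fb3639c75c437ef4d239b178a7ac92382820)) (.node (nat_lit 0x9ad99b762dc3cdfa22e2d7b9b71247aa54381420) (.leaf (nat_lit 0x9ad8fc363db65c817f74e135737923ac8a782820)) (.leaf (nat_lit 0x9ad99b762dc3cdfa22e2d7b9b71247aa54381420)))))) (.node (nat_lit 0x9adacec5f6ce28247b4eb9b7c27ce95546594020) (.node (nat_lit 0x9ad9dc662db3c5fa1366e7b5772243a954782420) (.node (nat_lit 0x9ad9db662fc345e712e6d7f9ba2147a964382420) (.leaf (nat_lit 0x9ad99c762fb34de72362e7f57a1143aa64781420)) (.leaf (nat_lit 0x9ad9db662fc345e712e6d7f9ba2147a964382420))) (.node (nat_lit 0x9adaccc5f8eda8627b8ed8afa47c65554e994020) (.leaf (nat_lit 0x9ad9dc662db3c5fa1366e7b5772243a954782420)) (.leaf (nat_lit 0x9adaccc5f8eda8627b8ed8afa47c65554e994020)))) (.node (nat_lit 0x9adb1eb1f8cd9c627f54b8b7c47869540e595420) (.node (nat_lit 0x9adb1cb1f6ee1c247f94d9afa278e55406995420)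 (.leaf (nat_lit 0x9adacec5f6ce28247b4eb9b7c27ce95546594020)) (.leaf (nat_lit 0x9adb1cb1f6ee1c247f94d9afa278e55406995420))) (.node (nat_lit 0x9adb6ce1ecec51fa1b84dfafa70a0550ea991c20) (.leaf (nat_lit 0x9adb1eb1f8cd9c627f54b8b7c47869540e595420)) (.node (nat_lit 0x9adb6ee1f1cb11e71b44bff7ca0aa950e0591c20) (.leaf (nat_lit 0x9adb6ce1ecec51fa1b84dfafa70a0550ea991c20)) (.leaf (nat_lit 0x9adb6ee1f1cb11e71b44bff7ca0aa950e0591c20))))))) (.node (nat_lit 0x9adf8ed9b1cb11fa1b84dfafa70aa991e0550c20) (.node (nat_lit 0x9adf1cb1b8eda8247b4eb9b7c27c65940e955420) (.node (nat_lit 0x9adeccc5b6ee1c627f54b8b7c478e59546954020) (.node (nat_lit 0x9adb8ed9eccc49fa0b48bfb7c71a0951ea590c20) (.leaf (nat_lit 0x9adb8cd9f1eb09e70b88dfefaa1aa551e0990c20)) (.leaf (nat_lit 0x9adb8ed9eccc49fa0b48bfb7c71a0951ea590c20))) (.node (nat_lit 0x9adecec5b8cd9c247f94d9afa27869954e554020) (.leaf (nat_lit 0x9adeccc5b6ee1c627f54b8b7c478e59546954020))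 (.leaf (nat_lit 0x9adecec5b8cd9c247f94d9afa27869954e554020)))) (.node (nat_lit 0x9adf6ce1b1eb09fa0b48bfb7c71aa590e0951c20) (.node (nat_lit 0x9adf1eb1b6ce28627b8ed8afa47ce99406555420) (.leaf (nat_lit 0x9adf1cb1b8eda8247b4eb9b7c27c65940e955420)) (.leaf (nat_lit 0x9adf1eb1b6ce28627b8ed8afa47ce99406555420))) (.node (nat_lit 0x9adf6ee1accc49e70b88dfefaa1a0990ea551c20) (.leaf (nat_lit 0x9adf6ce1b1eb09fa0b48bfb7c71aa590e0951c20)) (.node (nat_lit 0x9adf8cd9acec51e71b44bff7ca0a0591ea950c20) (.leaf (nat_lit 0x9adf6ee1accc49e70b88dfefaa1a0990ea551c20)) (.leaf (nat_lit 0x9adf8cd9acec51e71b44bff7ca0a0591ea950c20)))))) (.node (nat_lit 0x9ae2fc3599b768817aeed139b37ca384927aa820) (.node (nat_lit 0x9ae2dc3d9db65c437ef4d239b17923828a7ac820) (.node (nat_lit 0x9ae2db3d99c75c817f74e1357378a782923ac820) (.leaf (nat_lit 0x9adf8ed9b1cb11fa1b84dfafa70aa991e0550c20)) (.leaf (nat_lit 0x9ae2db3d99c75c817f74e1357378a782923ac820)))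 (.node (nat_lit 0x9ae2fb359dc668437b6ee235717d27848a3aa820) (.leaf (nat_lit 0x9ae2dc3d9db65c437ef4d239b17923828a7ac820)) (.leaf (nat_lit 0x9ae2fb359dc668437b6ee235717d27848a3aa820)))) (.node (nat_lit 0x9ae39c758db3c5e712e6d7f9ba224382547a9420) (.node (nat_lit 0x9ae39b758fc345fa1366e7b577214782643a9420) (.leaf (nat_lit 0x9ae2fc3599b768817aeed139b37ca384927aa820)) (.leaf (nat_lit 0x9ae39b758fc345fa1366e7b577214782643a9420))) (.node (nat_lit 0x9ae3db658dc3cde72362e7f57a124781543aa420) (.leaf (nat_lit 0x9ae39c758db3c5e712e6d7f9ba224382547a9420)) (.node (nat_lit 0x9ae3dc658fb34dfa22e2d7b9b7114381647aa420) (.leaf (nat_lit 0x9ae3db658dc3cde72362e7f57a124781543aa420)) (.leaf (nat_lit 0x9ae3dc658fb34dfa22e2d7b9b7114381647aa420)))))))))))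
noncomputable def AP_lS_T3 : ST := (.node (nat_lit 0xac38d63f5d8e48af96e8c4adbf24533b8cb1d020) (.node (nat_lit 0xa3b4d63f978ecf3fa723b2f1df14d24544a24020) (.node (nat_lit 0xa3997d6e2de3d3f99fa5c7ad958e0450aa891820) (.node (nat_lit 0x9af316b3b87d84ef1346bd37cfa0724c0ea2d420) (.node (nat_lit 0x9af0d8bed96748ef0b68e5357f98b53a9301c820) (.node (nat_lit 0x9aed96770f8b7e623b7ee0b57451501a65539420) (.node (nat_lit 0x9aecf6371d8e48ef0b68e5357f99301c8b53a820) (.node (nat_lit 0x9aecd8bf1d6650ef1ae4d539bf89351a8b03c820) (.leaf (nat_lit 0x9aecd63f198f514f9b64e3b57f08b01a9353c820)) (.leaf (nat_lit 0x9aecd8bf1d6650ef1ae4d539bf89351a8b03c820))) (.node (nat_lit 0x9aecf8b71967494f8ae8d3b9bf18b51c9303a820) (.leaf (nat_lit 0x9aecf6371d8e48ef0b68e5357f99301c8b53a820)) (.leaf (nat_lit 0x9aecf8b71967494f8ae8d3b9bf18b51c9303a820)))) (.node (nat_lit 0x9aedd6670d8bfc24537fe1b5723a50195553a420)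 (.node (nat_lit 0x9aed98f70d63fe243afed1b9b252551a55039420) (.leaf (nat_lit 0x9aed96770f8b7e623b7ee0b57451501a65539420)) (.leaf (nat_lit 0x9aed98f70d63fe243afed1b9b252551a55039420))) (.node (nat_lit 0x9aedd8e70f637c6252ffd0b9b43955196503a420) (.leaf (nat_lit 0x9aedd6670d8bfc24537fe1b5723a50195553a420)) (.node (nat_lit 0x9af0d63edd8e494f8ae8d3b9bf19303a8b51c820) (.leaf (nat_lit 0x9aedd8e70f637c6252ffd0b9b43955196503a420)) (.leaf (nat_lit 0x9af0d63edd8e494f8ae8d3b9bf19303a8b51c820)))))) (.node (nat_lit 0x9af198f6cf637c24537fe1b57239553a65019420) (.node (nat_lit 0x9af0f8b6dd66514f9b64e3b57f09353c8b01a820) (.node (nat_lit 0x9af0f636d98f50ef1ae4d539bf88b03c9351a820) (.leaf (nat_lit 0x9af0d8bed96748ef0b68e5357f98b53a9301c820)) (.leaf (nat_lit 0x9af0f636d98f50ef1ae4d539bf88b03c9351a820))) (.node (nat_lit 0x9af19676cd8bfc6252ffd0b9b43a503a55519420) (.leaf (nat_lit 0x9af0f8b6dd66514f9b64e3b57f09353c8b01a820))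 (.leaf (nat_lit 0x9af19676cd8bfc6252ffd0b9b43a503a55519420)))) (.node (nat_lit 0x9af1d8e6cd63fe623b7ee0b5745255395501a420) (.node (nat_lit 0x9af1d666cf8b7e243afed1b9b25150396551a420) (.leaf (nat_lit 0x9af198f6cf637c24537fe1b57239553a65019420)) (.leaf (nat_lit 0x9af1d666cf8b7e243afed1b9b25150396551a420))) (.node (nat_lit 0x9af2c6c7b67e0d4fa342bbb7cf10f24d46a2c020) (.leaf (nat_lit 0x9af1d8e6cd63fe623b7ee0b5745255395501a420)) (.node (nat_lit 0x9af2c7c7b86d8cef2382dd2faf906a4d4f22c020) (.leaf (nat_lit 0x9af2c6c7b67e0d4fa342bbb7cf10f24d46a2c020)) (.leaf (nat_lit 0x9af2c7c7b86d8cef2382dd2faf906a4d4f22c020))))))) (.node (nat_lit 0x9afb17b3386d8d4fa342bbb7cf106a2c0f24d420) (.node (nat_lit 0x9af386dbac7c7c43535fba37c13a1249eaa28c20) (.node (nat_lit 0x9af366e3b17b3e813b5eb937c352b248e0a29c20) (.node (nat_lit 0x9af317b3b66e054f9386dbafaf20ea4c0722d420) (.leaf (nat_lit 0x9af316b3b87d84ef1346bd37cfa0724c0ea2d420))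 (.leaf (nat_lit 0x9af317b3b66e054f9386dbafaf20ea4c0722d420))) (.node (nat_lit 0x9af367e3ac6c7e433b9eda2fa1520a48eb229c20) (.leaf (nat_lit 0x9af366e3b17b3e813b5eb937c352b248e0a29c20)) (.leaf (nat_lit 0x9af367e3ac6c7e433b9eda2fa1520a48eb229c20)))) (.node (nat_lit 0x9afac6c7387d854f9386dbafaf20722d4ea4c020) (.node (nat_lit 0x9af387dbb16b3c81539fd92fa33aaa49e1228c20) (.leaf (nat_lit 0x9af386dbac7c7c43535fba37c13a1249eaa28c20)) (.leaf (nat_lit 0x9af387dbb16b3c81539fd92fa33aaa49e1228c20))) (.node (nat_lit 0x9afac7c7366e04ef1346bd37cfa0ea2d4724c020) (.leaf (nat_lit 0x9afac6c7387d854f9386dbafaf20722d4ea4c020)) (.node (nat_lit 0x9afb16b3367e0cef2382dd2faf90f22c06a4d420) (.leaf (nat_lit 0x9afac7c7366e04ef1346bd37cfa0ea2d4724c020)) (.leaf (nat_lit 0x9afb16b3367e0cef2382dd2faf90f22c06a4d420)))))) (.node (nat_lit 0x9afb87db2c6c7e813b5eb937c3520a29eb248c20) (.node (nat_lit 0x9afb67e3316b3c43535fba37c13aaa28e1249c20)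 (.node (nat_lit 0x9afb66e32c7c7c81539fd92fa33a1228eaa49c20) (.leaf (nat_lit 0x9afb17b3386d8d4fa342bbb7cf106a2c0f24d420)) (.leaf (nat_lit 0x9afb66e32c7c7c81539fd92fa33a1228eaa49c20))) (.node (nat_lit 0x9afb86db317b3e433b9eda2fa152b229e0a48c20) (.leaf (nat_lit 0x9afb67e3316b3c43535fba37c13aaa28e1249c20)) (.leaf (nat_lit 0x9afb86db317b3e433b9eda2fa152b229e0a48c20)))) (.node (nat_lit 0xa398de3e37d6e634fb2bb1f1d2fcc85544494020) (.node (nat_lit 0xa398dd3e3be5e672fbabc0ed94fc44554c894020) (.leaf (nat_lit 0x9afb87db2c6c7e813b5eb937c3520a29eb248c20)) (.leaf (nat_lit 0xa398dd3e3be5e672fbabc0ed94fc44554c894020))) (.node (nat_lit 0xa398fd3637e6d634ffb3c1ed92f8c45404895420) (.leaf (nat_lit 0xa398de3e37d6e634fb2bb1f1d2fcc85544494020)) (.node (nat_lit 0xa398fe363bd5d672ff33b0f1d4f848540c495420) (.leaf (nat_lit 0xa398fd3637e6d634ffb3c1ed92f8c45404895420)) (.leaf (nat_lit 0xa398fe363bd5d672ff33b0f1d4f848540c495420))))))))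 (.node (nat_lit 0xa39fcbe9acdc4fe5a703eff369964681142aa020) (.node (nat_lit 0xa39badf1f1bb0fe5a703eff3699542aa24681020) (.node (nat_lit 0xa39acbc5fcdea691facbc97b83fd06aa88284820) (.node (nat_lit 0xa399bd5e2fe34be58fa9c7ed999ea451a0890820) (.node (nat_lit 0xa3997e6e2fd353e59f25b7f1d98ea850a0491820) (.leaf (nat_lit 0xa3997d6e2de3d3f99fa5c7ad958e0450aa891820)) (.leaf (nat_lit 0xa3997e6e2fd353e59f25b7f1d98ea850a0491820))) (.node (nat_lit 0xa399be5e2dd3cbf98f29b7b1d59e0851aa490820) (.leaf (nat_lit 0xa399bd5e2fe34be58fa9c7ed999ea451a0890820)) (.leaf (nat_lit 0xa399be5e2dd3cbf98f29b7b1d59e0851aa490820)))) (.node (nat_lit 0xa39b1bb1fadf1653fed3ca7b81f886ac90282820) (.node (nat_lit 0xa39acdc5fabf2653fb0bea7361fc82aa90684820) (.leaf (nat_lit 0xa39acbc5fcdea691facbc97b83fd06aa88284820)) (.leaf (nat_lit 0xa39acdc5fabf2653fb0bea7361fc82aa90684820))) (.node (nat_lit 0xa39b1db1fcbe9691ff13e97363f902ac88682820)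 (.leaf (nat_lit 0xa39b1bb1fadf1653fed3ca7b81f886ac90282820)) (.node (nat_lit 0xa39babf1ecdc4ff9a6c3cfbb859646aa14281020) (.leaf (nat_lit 0xa39b1db1fcbe9691ff13e97363f902ac88682820)) (.leaf (nat_lit 0xa39babf1ecdc4ff9a6c3cfbb859646aa14281020)))))) (.node (nat_lit 0xa39ecdc5bcbe9653fed3ca7b81f90282886ac820) (.node (nat_lit 0xa39bcde9ecbc47f99707efb365a642a914682020) (.node (nat_lit 0xa39bcbe9f1db07e596c7cffb89a546a924282020) (.leaf (nat_lit 0xa39badf1f1bb0fe5a703eff3699542aa24681020)) (.leaf (nat_lit 0xa39bcbe9f1db07e596c7cffb89a546a924282020))) (.node (nat_lit 0xa39ecbc5badf1691ff13e97363f88682902ac820) (.leaf (nat_lit 0xa39bcde9ecbc47f99707efb365a642a914682020)) (.leaf (nat_lit 0xa39ecbc5badf1691ff13e97363f88682902ac820)))) (.node (nat_lit 0xa39f1db1babf2691facbc97b83fc8284906aa820) (.node (nat_lit 0xa39f1bb1bcdea653fb0bea7361fd0684882aa820) (.leaf (nat_lit 0xa39ecdc5bcbe9653fed3ca7b81f90282886ac820))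 (.leaf (nat_lit 0xa39f1bb1bcdea653fb0bea7361fd0684882aa820))) (.node (nat_lit 0xa39fabf1b1db07f99707efb365a54682242a9020) (.leaf (nat_lit 0xa39f1db1babf2691facbc97b83fc8284906aa820)) (.node (nat_lit 0xa39fadf1acbc47e596c7cffb89a64282146a9020) (.leaf (nat_lit 0xa39fabf1b1db07f99707efb365a54682242a9020)) (.leaf (nat_lit 0xa39fadf1acbc47e596c7cffb89a64282146a9020))))))) (.node (nat_lit 0xa3a3be5d8fd353f99fa5c7ad958ea891a0450820) (.node (nat_lit 0xa3a2fd359be5e634fb2bb1f1d2fc44940c855420) (.node (nat_lit 0xa3a2dd3d97e6d672ff33b0f1d4f8c49544854020) (.node (nat_lit 0xa39fcde9b1bb0ff9a6c3cfbb85954281246aa020) (.leaf (nat_lit 0xa39fcbe9acdc4fe5a703eff369964681142aa020)) (.leaf (nat_lit 0xa39fcde9b1bb0ff9a6c3cfbb85954281246aa020))) (.node (nat_lit 0xa3a2de3d9bd5d634ffb3c1ed92f848954c454020) (.leaf (nat_lit 0xa3a2dd3d97e6d672ff33b0f1d4f8c49544854020)) (.leaf (nat_lit 0xa3a2de3d9bd5d634ffb3c1ed92f848954c454020))))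 (.node (nat_lit 0xa3a37d6d8fe34bf98f29b7b1d59ea490a0851820) (.node (nat_lit 0xa3a2fe3597d6e672fbabc0ed94fcc89404455420) (.leaf (nat_lit 0xa3a2fd359be5e634fb2bb1f1d2fc44940c855420)) (.leaf (nat_lit 0xa3a2fe3597d6e672fbabc0ed94fcc89404455420))) (.node (nat_lit 0xa3a37e6d8dd3cbe58fa9c7ed999e0890aa451820) (.leaf (nat_lit 0xa3a37d6d8fe34bf98f29b7b1d59ea490a0851820)) (.node (nat_lit 0xa3a3bd5d8de3d3e59f25b7f1d98e0491aa850820) (.leaf (nat_lit 0xa3a37e6d8dd3cbe58fa9c7ed999e0890aa451820)) (.leaf (nat_lit 0xa3a3bd5d8de3d3e59f25b7f1d98e0491aa850820)))))) (.node (nat_lit 0xa3af17b37a6f0b3f8ec9cafb8f1c951491032820) (.node (nat_lit 0xa3aec7c77c6e92bf1ec5ccfb8f8d151289034820) (.node (nat_lit 0xa3aec6c77a7f133f9f05eaf36f0c901291534820) (.leaf (nat_lit 0xa3a3be5d8fd353f99fa5c7ad958ea891a0450820)) (.leaf (nat_lit 0xa3aec6c77a7f133f9f05eaf36f0c901291534820))) (.node (nat_lit 0xa3af16b37c7e8abf0f09ecf36f9d101489532820)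 (.leaf (nat_lit 0xa3aec7c77c6e92bf1ec5ccfb8f8d151289034820)) (.leaf (nat_lit 0xa3af16b37c7e8abf0f09ecf36f9d101489532820)))) (.node (nat_lit 0xa3afa7f36c6c7e34aedec9fb82ce551215031020) (.node (nat_lit 0xa3afa6f3717b3e72af1ee8f364cd501225531020) (.leaf (nat_lit 0xa3af17b37a6f0b3f8ec9cafb8f1c951491032820)) (.leaf (nat_lit 0xa3afa6f3717b3e72af1ee8f364cd501225531020))) (.node (nat_lit 0xa3afc6eb6c7c7c34cf1fe9f362ae501115532020) (.leaf (nat_lit 0xa3afa7f36c6c7e34aedec9fb82ce551215031020)) (.node (nat_lit 0xa3afc7eb716b3c72cedfc8fb84ad551125032020) (.leaf (nat_lit 0xa3afc6eb6c7c7c34cf1fe9f362ae501115532020)) (.leaf (nat_lit 0xa3afc7eb716b3c72cedfc8fb84ad551125032020))))))))) (.node (nat_lit 0xac1bacf1ecec51f526c4dfaf89166670d62a1c20) (.node (nat_lit 0xa3b8f637578ecebf27a3c4ed9f94d22404a45420) (.node (nat_lit 0xa3b6c7c6fa6f0abf0f09ecf36f9c953291014820) (.node (nat_lit 0xa3b5766f8f8b7e91af3eb171d3ceb240a0a21820)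 (.node (nat_lit 0xa3b4f6379b8dc6bf1727b4f1dfa452440ca25420) (.node (nat_lit 0xa3b4d8bf9b65cebf27a3c4ed9f944a454d224020) (.leaf (nat_lit 0xa3b4d63f978ecf3fa723b2f1df14d24544a24020)) (.leaf (nat_lit 0xa3b4d8bf9b65cebf27a3c4ed9f944a454d224020))) (.node (nat_lit 0xa3b4f8b79766c73f97a7c2ed9f24ca4405225420) (.leaf (nat_lit 0xa3b4f6379b8dc6bf1727b4f1dfa452440ca25420)) (.leaf (nat_lit 0xa3b4f8b79766c73f97a7c2ed9f24ca4405225420)))) (.node (nat_lit 0xa3b5b65f8d8bfc53cf3fb271d1ae1241aaa20820) (.node (nat_lit 0xa3b578ef8d63fe53afbec26d91ce0a40ab221820) (.leaf (nat_lit 0xa3b5766f8f8b7e91af3eb171d3ceb240a0a21820)) (.leaf (nat_lit 0xa3b578ef8d63fe53afbec26d91ce0a40ab221820))) (.node (nat_lit 0xa3b5b8df8f637c91cfbfc16d93aeaa41a1220820) (.leaf (nat_lit 0xa3b5b65f8d8bfc53cf3fb271d1ae1241aaa20820)) (.node (nat_lit 0xa3b6c6c6fc7e8b3f8ec9cafb8f1d103289514820) (.leaf (nat_lit 0xa3b5b8df8f637c91cfbfc16d93aeaa41a1220820))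 (.leaf (nat_lit 0xa3b6c6c6fc7e8b3f8ec9cafb8f1d103289514820)))))) (.node (nat_lit 0xa3b7a7f2f16b3c34cf1fe9f362ad553225011020) (.node (nat_lit 0xa3b717b2fc6e933f9f05eaf36f0d153489012820) (.node (nat_lit 0xa3b716b2fa7f12bf1ec5ccfb8f8c903491512820) (.leaf (nat_lit 0xa3b6c7c6fa6f0abf0f09ecf36f9c953291014820)) (.leaf (nat_lit 0xa3b716b2fa7f12bf1ec5ccfb8f8c903491512820))) (.node (nat_lit 0xa3b7a6f2ec7c7c72cedfc8fb84ae503215511020) (.leaf (nat_lit 0xa3b717b2fc6e933f9f05eaf36f0d153489012820)) (.leaf (nat_lit 0xa3b7a6f2ec7c7c72cedfc8fb84ae503215511020)))) (.node (nat_lit 0xa3b7c7eaec6c7e72af1ee8f364ce553115012020) (.node (nat_lit 0xa3b7c6eaf17b3e34aedec9fb82cd503125512020) (.leaf (nat_lit 0xa3b7a7f2f16b3c34cf1fe9f362ad553225011020)) (.leaf (nat_lit 0xa3b7c6eaf17b3e34aedec9fb82cd503125512020))) (.node (nat_lit 0xa3b8d63f5b8dc73f97a7c2ed9f2452254ca44020) (.leaf (nat_lit 0xa3b7c7eaec6c7e72af1ee8f364ce553115012020))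 (.node (nat_lit 0xa3b8d8bf5766c6bf1727b4f1dfa4ca2545244020) (.leaf (nat_lit 0xa3b8d63f5b8dc73f97a7c2ed9f2452254ca44020)) (.leaf (nat_lit 0xa3b8d8bf5766c6bf1727b4f1dfa4ca2545244020))))))) (.node (nat_lit 0xac18fe363dd66482ff6ab13174f8435d0c79b820) (.node (nat_lit 0xa3b9b65f4f8b7e53afbec26d91ceb221a0a40820) (.node (nat_lit 0xa3b9766f4d8bfc91cfbfc16d93ae1220aaa41820) (.node (nat_lit 0xa3b8f8b75b65cf3fa723b2f1df144a240d245420) (.leaf (nat_lit 0xa3b8f637578ecebf27a3c4ed9f94d22404a45420)) (.leaf (nat_lit 0xa3b8f8b75b65cf3fa723b2f1df144a240d245420))) (.node (nat_lit 0xa3b978ef4f637c53cf3fb271d1aeaa20a1241820) (.leaf (nat_lit 0xa3b9766f4d8bfc91cfbfc16d93ae1220aaa41820)) (.leaf (nat_lit 0xa3b978ef4f637c53cf3fb271d1aeaa20a1241820)))) (.node (nat_lit 0xac18dd3e3de65482faf2c12db4fc475b8c39d020) (.node (nat_lit 0xa3b9b8df4d63fe91af3eb171d3ce0a21ab240820) (.leaf (nat_lit 0xa3b9b65f4f8b7e53afbec26d91ceb221a0a40820))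 (.leaf (nat_lit 0xa3b9b8df4d63fe91af3eb171d3ce0a21ab240820))) (.node (nat_lit 0xac18de3e39d75444fb72b23172fcc35b8479d020) (.leaf (nat_lit 0xac18dd3e3de65482faf2c12db4fc475b8c39d020)) (.node (nat_lit 0xac18fd3639e76444feeac22db2f8c75d0439b820) (.leaf (nat_lit 0xac18de3e39d75444fb72b23172fcc35b8479d020)) (.leaf (nat_lit 0xac18fd3639e76444feeac22db2f8c75d0439b820)))))) (.node (nat_lit 0xac19de662dd3cbf51369b7b1792283599c798820) (.node (nat_lit 0xac199e762fd353e92365b7f17511c358a8799820) (.node (nat_lit 0xac199d762de3d3f522e5c7adb91287589c399820) (.leaf (nat_lit 0xac18fe363dd66482ff6ab13174f8435d0c79b820)) (.leaf (nat_lit 0xac199d762de3d3f522e5c7adb91287589c399820))) (.node (nat_lit 0xac19dd662fe34be912e9c7edb521c759a8398820) (.leaf (nat_lit 0xac199e762fd353e92365b7f17511c358a8799820)) (.leaf (nat_lit 0xac19dd662fe34be912e9c7edb521c759a8398820)))) (.node (nat_lit 0xac1acec5facf14547b12ba77627ce272c66a4c20)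 (.node (nat_lit 0xac1accc5fcee94927ad2d96f847c6672ce2a4c20) (.leaf (nat_lit 0xac19de662dd3cbf51369b7b1792283599c798820)) (.leaf (nat_lit 0xac1accc5fcee94927ad2d96f847c6672ce2a4c20))) (.node (nat_lit 0xac1b1cb1faef24547ecada6f8278e674c62a2c20) (.leaf (nat_lit 0xac1acec5facf14547b12ba77627ce272c66a4c20)) (.node (nat_lit 0xac1b1eb1fccea4927f0ab97764786274ce6a2c20) (.leaf (nat_lit 0xac1b1cb1faef24547ecada6f8278e674c62a2c20)) (.leaf (nat_lit 0xac1b1eb1fccea4927f0ab97764786274ce6a2c20)))))))) (.node (nat_lit 0xac23dd658de3d3e92365b7f1751287999c358820) (.node (nat_lit 0xac1faef1accc49e916c8dfef852662a0d6671c20) (.node (nat_lit 0xac1eccc5baef24927f0ab9776478e6a2c6274c20) (.node (nat_lit 0xac1bcce9f1eb09e916c8dfef85256671e62a0c20) (.node (nat_lit 0xac1baef1f1cb11e92704bff765156270e66a1c20) (.leaf (nat_lit 0xac1bacf1ecec51f526c4dfaf89166670d62a1c20)) (.leaf (nat_lit 0xac1baef1f1cb11e92704bff765156270e66a1c20)))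 (.node (nat_lit 0xac1bcee9eccc49f51708bfb769266271d66a0c20) (.leaf (nat_lit 0xac1bcce9f1eb09e916c8dfef85256671e62a0c20)) (.leaf (nat_lit 0xac1bcee9eccc49f51708bfb769266271d66a0c20)))) (.node (nat_lit 0xac1f1cb1bcee94547b12ba77627c66a4ce272c20) (.node (nat_lit 0xac1ecec5bccea4547ecada6f827862a2ce674c20) (.leaf (nat_lit 0xac1eccc5baef24927f0ab9776478e6a2c6274c20)) (.leaf (nat_lit 0xac1ecec5bccea4547ecada6f827862a2ce674c20))) (.node (nat_lit 0xac1f1eb1bacf14927ad2d96f847ce2a4c6672c20) (.leaf (nat_lit 0xac1f1cb1bcee94547b12ba77627c66a4ce272c20)) (.node (nat_lit 0xac1facf1b1eb09f51708bfb7692566a0e6271c20) (.leaf (nat_lit 0xac1f1eb1bacf14927ad2d96f847ce2a4c6672c20)) (.leaf (nat_lit 0xac1facf1b1eb09f51708bfb7692566a0e6271c20)))))) (.node (nat_lit 0xac22de3d9dd66444feeac22db2f8439b8c75d020) (.node (nat_lit 0xac1fcee9b1cb11f526c4dfaf891562a1e6670c20) (.node (nat_lit 0xac1fcce9acec51e92704bff7651666a1d6270c20)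 (.leaf (nat_lit 0xac1faef1accc49e916c8dfef852662a0d6671c20)) (.leaf (nat_lit 0xac1fcce9acec51e92704bff7651666a1d6270c20))) (.node (nat_lit 0xac22dd3d99e76482ff6ab13174f8c79b8435d020) (.leaf (nat_lit 0xac1fcee9b1cb11f526c4dfaf891562a1e6670c20)) (.leaf (nat_lit 0xac22dd3d99e76482ff6ab13174f8c79b8435d020)))) (.node (nat_lit 0xac22fe3599d75482faf2c12db4fcc39d0475b820) (.node (nat_lit 0xac22fd359de65444fb72b23172fc479d0c35b820) (.leaf (nat_lit 0xac22de3d9dd66444feeac22db2f8439b8c75d020)) (.leaf (nat_lit 0xac22fd359de65444fb72b23172fc479d0c35b820))) (.node (nat_lit 0xac239d758fe34bf51369b7b17921c798a8359820) (.leaf (nat_lit 0xac22fe3599d75482faf2c12db4fcc39d0475b820)) (.node (nat_lit 0xac239e758dd3cbe912e9c7edb52283989c759820) (.leaf (nat_lit 0xac239d758fe34bf51369b7b17921c798a8359820)) (.leaf (nat_lit 0xac239e758dd3cbe912e9c7edb52283989c759820))))))) (.node (nat_lit 0xac33c7ebb16b3c82aadfd92f84c96e11e7430c20)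 (.node (nat_lit 0xac3316b3bc7e8b2f1309bab76fa07414cee32c20) (.node (nat_lit 0xac32c6c7ba7f12afa305bcb76f10f412c6e34c20) (.node (nat_lit 0xac23de658fd353f522e5c7adb911c399a8758820) (.leaf (nat_lit 0xac23dd658de3d3e92365b7f1751287999c358820)) (.leaf (nat_lit 0xac23de658fd353f522e5c7adb911c399a8758820))) (.node (nat_lit 0xac32c7c7bc6e932f22c5daaf8f906e12cf434c20) (.leaf (nat_lit 0xac32c6c7ba7f12afa305bcb76f10f412c6e34c20)) (.leaf (nat_lit 0xac32c7c7bc6e932f22c5daaf8f906e12cf434c20)))) (.node (nat_lit 0xac33a6f3b17b3e82cb1eb93764a97410e6e31c20) (.node (nat_lit 0xac3317b3ba6f0aaf92c9dcaf8f20ee14c7432c20) (.leaf (nat_lit 0xac3316b3bc7e8b2f1309bab76fa07414cee32c20)) (.leaf (nat_lit 0xac3317b3ba6f0aaf92c9dcaf8f20ee14c7432c20))) (.node (nat_lit 0xac33a7f3ac6c7e44cadeda2f82aa6e10d7431c20) (.leaf (nat_lit 0xac33a6f3b17b3e82cb1eb93764a97410e6e31c20)) (.node (nat_lit 0xac33c6ebac7c7c44ab1fba3762ca7411d6e30c20)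 (.leaf (nat_lit 0xac33a7f3ac6c7e44cadeda2f82aa6e10d7431c20)) (.leaf (nat_lit 0xac33c6ebac7c7c44ab1fba3762ca7411d6e30c20)))))) (.node (nat_lit 0xac34f8b7996748af96e8c4adbf24cb1d0533b820) (.node (nat_lit 0xac34d8bf9d66512f26e4c2adbf944b1b8d33d020) (.node (nat_lit 0xac34d63f998f50afa764b4b17f14d31b84b3d020) (.leaf (nat_lit 0xac33c7ebb16b3c82aadfd92f84c96e11e7430c20)) (.leaf (nat_lit 0xac34d63f998f50afa764b4b17f14d31b84b3d020))) (.node (nat_lit 0xac34f6379d8e492f1768b2b17fa4531d0cb3b820) (.leaf (nat_lit 0xac34d8bf9d66512f26e4c2adbf944b1b8d33d020)) (.leaf (nat_lit 0xac34f6379d8e492f1768b2b17fa4531d0cb3b820)))) (.node (nat_lit 0xac3598f78d63fe544afec26db22a8b189d339820) (.node (nat_lit 0xac3596778f8b7e924b7eb1717429d318a8b39820) (.leaf (nat_lit 0xac34f8b7996748af96e8c4adbf24cb1d0533b820)) (.leaf (nat_lit 0xac3596778f8b7e924b7eb1717429d318a8b39820))) (.node (nat_lit 0xac35d6678d8bfc542b7fb271724a93199cb38820)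 (.leaf (nat_lit 0xac3598f78d63fe544afec26db22a8b189d339820)) (.node (nat_lit 0xac35d8e78f637c922affc16db449cb19a9338820) (.leaf (nat_lit 0xac35d6678d8bfc542b7fb271724a93199cb38820)) (.leaf (nat_lit 0xac35d8e78f637c922affc16db449cb19a9338820)))))))))) (.node (nat_lit 0xf7fb6be33cdea6a8522b6c9ecab8c8194443a420) (.node (nat_lit 0xf7f1bd5edde65545d5b28b98f9c0e24a06629020) (.node (nat_lit 0xf7ed9d7717e6d70539f36562d9510229c8648c20) (.node (nat_lit 0xac3ac7c73a6f0b2f1309bab76fa0ee32c7414c20) (.node (nat_lit 0xac3996774d8bfc922affc16db44a93389cb19820) (.node (nat_lit 0xac38f637598f512f26e4c2adbf94d33d04b1b820) (.node (nat_lit 0xac38d8bf5967492f1768b2b17fa4cb3b8531d020) (.leaf (nat_lit 0xac38d63f5d8e48af96e8c4adbf24533b8cb1d020)) (.leaf (nat_lit 0xac38d8bf5967492f1768b2b17fa4cb3b8531d020))) (.node (nat_lit 0xac38f8b75d6650afa764b4b17f144b3d0d31b820) (.leaf (nat_lit 0xac38f637598f512f26e4c2adbf94d33d04b1b820))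 (.leaf (nat_lit 0xac38f8b75d6650afa764b4b17f144b3d0d31b820)))) (.node (nat_lit 0xac39d6674f8b7e544afec26db229d339a8b18820) (.node (nat_lit 0xac3998f74f637c542b7fb2717249cb38a9319820) (.leaf (nat_lit 0xac3996774d8bfc922affc16db44a93389cb19820)) (.leaf (nat_lit 0xac3998f74f637c542b7fb2717249cb38a9319820))) (.node (nat_lit 0xac39d8e74d63fe924b7eb171742a8b399d318820) (.leaf (nat_lit 0xac39d6674f8b7e544afec26db229d339a8b18820)) (.node (nat_lit 0xac3ac6c73c7e8aaf92c9dcaf8f207432cee14c20) (.leaf (nat_lit 0xac39d8e74d63fe924b7eb171742a8b399d318820)) (.leaf (nat_lit 0xac3ac6c73c7e8aaf92c9dcaf8f207432cee14c20)))))) (.node (nat_lit 0xac3ba7f3316b3c44ab1fba3762c96e30e7411c20) (.node (nat_lit 0xac3b17b33c6e92afa305bcb76f106e34cf412c20) (.node (nat_lit 0xac3b16b33a7f132f22c5daaf8f90f434c6e12c20) (.leaf (nat_lit 0xac3ac7c73a6f0b2f1309bab76fa0ee32c7414c20)) (.leaf (nat_lit 0xac3b16b33a7f132f22c5daaf8f90f434c6e12c20)))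 (.node (nat_lit 0xac3ba6f32c7c7c82aadfd92f84ca7430d6e11c20) (.leaf (nat_lit 0xac3b17b33c6e92afa305bcb76f106e34cf412c20)) (.leaf (nat_lit 0xac3ba6f32c7c7c82aadfd92f84ca7430d6e11c20)))) (.node (nat_lit 0xac3bc7eb2c6c7e82cb1eb93764aa6e31d7410c20) (.node (nat_lit 0xac3bc6eb317b3e44cadeda2f82a97431e6e10c20) (.leaf (nat_lit 0xac3ba7f3316b3c44ab1fba3762c96e30e7411c20)) (.leaf (nat_lit 0xac3bc6eb317b3e44cadeda2f82a97431e6e10c20))) (.node (nat_lit 0xf7ed7d6f1de654e9d5f26522d5c0e2290664a020) (.leaf (nat_lit 0xac3bc7eb2c6c7e82cb1eb93764aa6e31d7410c20)) (.node (nat_lit 0xf7ed7e6f19d75545d5b28b98f9c066290e24a020) (.leaf (nat_lit 0xf7ed7d6f1de654e9d5f26522d5c0e2290664a020)) (.leaf (nat_lit 0xf7ed7e6f19d75545d5b28b98f9c066290e24a020))))))) (.node (nat_lit 0xf7ef8edb7ccea4ba418a7cdb1754c72244341420) (.node (nat_lit 0xf7eddd671be5e75951eb6422d5388228d0649c20) (.node (nat_lit 0xf7edbd5f19e76545c1ea63a2d9d4622a0e649020)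 (.node (nat_lit 0xf7ed9e771bd5d75939b38c18f5508629d0248c20) (.leaf (nat_lit 0xf7ed9d7717e6d70539f36562d9510229c8648c20)) (.leaf (nat_lit 0xf7ed9e771bd5d75939b38c18f5508629d0248c20))) (.node (nat_lit 0xf7edbe5f1dd664e9c1aa8d18f5d4e62a06249020) (.leaf (nat_lit 0xf7edbd5f19e76545c1ea63a2d9d4622a0e649020)) (.leaf (nat_lit 0xf7edbe5f1dd664e9c1aa8d18f5d4e62a06249020)))) (.node (nat_lit 0xf7ef6ce37cee94ba56326cdec740c32144742420) (.node (nat_lit 0xf7edde6717d6e70551ab8d58f9390628c8249c20) (.leaf (nat_lit 0xf7eddd671be5e75951eb6422d5388228d0649c20)) (.leaf (nat_lit 0xf7edde6717d6e70551ab8d58f9390628c8249c20))) (.node (nat_lit 0xf7ef6ee37acf153755927adb1a4047214c342420) (.leaf (nat_lit 0xf7ef6ce37cee94ba56326cdec740c32144742420)) (.node (nat_lit 0xf7ef8cdb7aef2537422a6adeca5443224c741420) (.leaf (nat_lit 0xf7ef6ee37acf153755927adb1a4047214c342420)) (.leaf (nat_lit 0xf7ef8cdb7aef2537422a6adeca5443224c741420))))))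 (.node (nat_lit 0xf7efceeb76ce29054d8e7d5b192d27208a341820) (.node (nat_lit 0xf7efaef378cd9d592d947c1b154ca72192340820) (.node (nat_lit 0xf7efacf376ee1d052e346d5ec94d23218a740820) (.leaf (nat_lit 0xf7ef8edb7ccea4ba418a7cdb1754c72244341420)) (.leaf (nat_lit 0xf7efacf376ee1d052e346d5ec94d23218a740820))) (.node (nat_lit 0xf7efcceb78eda9594e2e6c1ec52ca32092741820) (.leaf (nat_lit 0xf7efaef378cd9d592d947c1b154ca72192340820)) (.leaf (nat_lit 0xf7efcceb78eda9594e2e6c1ec52ca32092741820)))) (.node (nat_lit 0xf7f17e6eddd66545c1ea63a2d9d4e6490622a020) (.node (nat_lit 0xf7f17d6ed9e764e9c1aa8d18f5d462490e62a020) (.leaf (nat_lit 0xf7efceeb76ce29054d8e7d5b192d27208a341820)) (.leaf (nat_lit 0xf7f17d6ed9e764e9c1aa8d18f5d462490e62a020))) (.node (nat_lit 0xf7f19d76dbe5e70551ab8d58f9388249d0628c20) (.leaf (nat_lit 0xf7f17e6eddd66545c1ea63a2d9d4e6490622a020)) (.node (nat_lit 0xf7f19e76d7d6e75951eb6422d5390649c8228c20)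 (.leaf (nat_lit 0xf7f19d76dbe5e70551ab8d58f9388249d0628c20)) (.leaf (nat_lit 0xf7f19e76d7d6e75951eb6422d5390649c8228c20)))))))) (.node (nat_lit 0xf7f5db6797c6eb3729b08ad8fa490930c8511c20) (.node (nat_lit 0xf7f3adf3b6be2145ca356b9ec9a924398a818820) (.node (nat_lit 0xf7f36be3badf16a839937c9b1ad048394c41a420) (.node (nat_lit 0xf7f1dd66d7e6d75939b38c18f5510248c8629c20) (.node (nat_lit 0xf7f1be5ed9d754e9d5f26522d5c0664a0e229020) (.leaf (nat_lit 0xf7f1bd5edde65545d5b28b98f9c0e24a06629020)) (.leaf (nat_lit 0xf7f1be5ed9d754e9d5f26522d5c0664a0e229020))) (.node (nat_lit 0xf7f1de66dbd5d70539f36562d9508648d0229c20) (.leaf (nat_lit 0xf7f1dd66d7e6d75939b38c18f5510248c8629c20)) (.leaf (nat_lit 0xf7f1de66dbd5d70539f36562d9508648d0229c20)))) (.node (nat_lit 0xf7f38bdbbcdea72ad18b7a9b1838c83a44419420) (.node (nat_lit 0xf7f36de3bcbe972aba336a9ec850c4394481a420) (.leaf (nat_lit 0xf7f36be3badf16a839937c9b1ad048394c41a420))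 (.leaf (nat_lit 0xf7f36de3bcbe972aba336a9ec850c4394481a420))) (.node (nat_lit 0xf7f38ddbbabf26a8522b6c9ecab8443a4c819420) (.leaf (nat_lit 0xf7f38bdbbcdea72ad18b7a9b1838c83a44419420)) (.node (nat_lit 0xf7f3abf3b8dda0e9c9957d1b15a8a83992418820) (.leaf (nat_lit 0xf7f38ddbbabf26a8522b6c9ecab8443a4c819420)) (.leaf (nat_lit 0xf7f3abf3b8dda0e9c9957d1b15a8a83992418820)))))) (.node (nat_lit 0xf7f57c6f9db65d2aadf462a2d84ce53106912020) (.node (nat_lit 0xf7f3cdebb8bdaae9aa306d1ec5c8a43892819820) (.node (nat_lit 0xf7f3cbebb6de2b45a9907b9b19c928388a419820) (.leaf (nat_lit 0xf7f3adf3b6be2145ca356b9ec9a924398a818820)) (.leaf (nat_lit 0xf7f3cbebb6de2b45a9907b9b19c928388a419820))) (.node (nat_lit 0xf7f57b6f99c75ca82db48c98facc69310e512020) (.leaf (nat_lit 0xf7f3cdebb8bdaae9aa306d1ec5c8a43892819820)) (.leaf (nat_lit 0xf7f57b6f99c75ca82db48c98facc69310e512020)))) (.node (nat_lit 0xf7f59c7797b6e13749f562e2da290531c8910c20)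 (.node (nat_lit 0xf7f59b779bc5e0ba49b58cd8f7288931d0510c20) (.leaf (nat_lit 0xf7f57c6f9db65d2aadf462a2d84ce53106912020)) (.leaf (nat_lit 0xf7f59b779bc5e0ba49b58cd8f7288931d0510c20))) (.node (nat_lit 0xf7f5bb5f9dc6692acdae8a98f82ce93206511020) (.leaf (nat_lit 0xf7f59c7797b6e13749f562e2da290531c8910c20)) (.node (nat_lit 0xf7f5bc5f99b768a84dee64a2daac65320e911020) (.leaf (nat_lit 0xf7f5bb5f9dc6692acdae8a98f82ce93206511020)) (.leaf (nat_lit 0xf7f5bc5f99b768a84dee64a2daac65320e911020))))))) (.node (nat_lit 0xf7f7ceeaf8cd9d052e346d5ec94ca74092321820) (.node (nat_lit 0xf7f78cdafcee953755927adb1a40c34244721420) (.node (nat_lit 0xf7f76ce2faef24ba418a7cdb175443414c722420) (.node (nat_lit 0xf7f5dc679bb5eaba29f064e2d7488530d0911c20) (.leaf (nat_lit 0xf7f5db6797c6eb3729b08ad8fa490930c8511c20)) (.leaf (nat_lit 0xf7f5dc679bb5eaba29f064e2d7488530d0911c20))) (.node (nat_lit 0xf7f76ee2fccea537422a6adeca54c74144322420)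 (.leaf (nat_lit 0xf7f76ce2faef24ba418a7cdb175443414c722420)) (.leaf (nat_lit 0xf7f76ee2fccea537422a6adeca54c74144322420)))) (.node (nat_lit 0xf7f7acf2f8eda9054d8e7d5b192ca34192720820) (.node (nat_lit 0xf7f78edafacf14ba56326cdec74047424c321420) (.leaf (nat_lit 0xf7f78cdafcee953755927adb1a40c34244721420)) (.leaf (nat_lit 0xf7f78edafacf14ba56326cdec74047424c321420))) (.node (nat_lit 0xf7f7aef2f6ce29594e2e6c1ec52d27418a320820) (.leaf (nat_lit 0xf7f7acf2f8eda9054d8e7d5b192ca34192720820)) (.node (nat_lit 0xf7f7cceaf6ee1d592d947c1b154d23408a721820) (.leaf (nat_lit 0xf7f7aef2f6ce29594e2e6c1ec52d27418a320820)) (.leaf (nat_lit 0xf7f7cceaf6ee1d592d947c1b154d23408a721820)))))) (.node (nat_lit 0xf7f99c775bb5eb3729b08ad8fa488511d0930c20) (.node (nat_lit 0xf7f97c6f59b7692acdae8a98f82c65110e932020) (.node (nat_lit 0xf7f97b6f5dc668a84dee64a2daace91106532020) (.leaf (nat_lit 0xf7f7ceeaf8cd9d052e346d5ec94ca74092321820))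 (.leaf (nat_lit 0xf7f97b6f5dc668a84dee64a2daace91106532020))) (.node (nat_lit 0xf7f99b7757c6eaba29f064e2d7490911c8530c20) (.leaf (nat_lit 0xf7f97c6f59b7692acdae8a98f82c65110e932020)) (.leaf (nat_lit 0xf7f99b7757c6eaba29f064e2d7490911c8530c20)))) (.node (nat_lit 0xf7f9bc5f5db65ca82db48c98facce51206931020) (.node (nat_lit 0xf7f9bb5f59c75d2aadf462a2d84c69120e531020) (.leaf (nat_lit 0xf7f99c775bb5eb3729b08ad8fa488511d0930c20)) (.leaf (nat_lit 0xf7f9bb5f59c75d2aadf462a2d84c69120e531020))) (.node (nat_lit 0xf7f9db675bc5e13749f562e2da288910d0531c20) (.leaf (nat_lit 0xf7f9bc5f5db65ca82db48c98facce51206931020)) (.node (nat_lit 0xf7f9dc6757b6e0ba49b58cd8f7290510c8931c20) (.leaf (nat_lit 0xf7f9db675bc5e13749f562e2da288910d0531c20)) (.leaf (nat_lit 0xf7f9dc6757b6e0ba49b58cd8f7290510c8931c20))))))))) (.node (nat_lit 0xffb3abf3b6de2b49ca307b9ac5a8a41892839820) (.node (nat_lit 0xffaf8cdb7cee94b741926cdf1a5447414c322420)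 (.node (nat_lit 0xffad7e6f1dd664e5d5ea8d18d9c0624a0e629020) (.node (nat_lit 0xf7fbabf336de2ae9aa306d1ec5c928198a438820) (.node (nat_lit 0xf7fb8bdb3adf172aba336a9ec850481a4c439420) (.node (nat_lit 0xf7fb6de33abf272ad18b7a9b183844194c83a420) (.leaf (nat_lit 0xf7fb6be33cdea6a8522b6c9ecab8c8194443a420)) (.leaf (nat_lit 0xf7fb6de33abf272ad18b7a9b183844194c83a420))) (.node (nat_lit 0xf7fb8ddb3cbe96a839937c9b1ad0c41a44839420) (.leaf (nat_lit 0xf7fb8bdb3adf172aba336a9ec850481a4c439420)) (.leaf (nat_lit 0xf7fb8ddb3cbe96a839937c9b1ad0c41a44839420)))) (.node (nat_lit 0xf7fbcbeb38dda145ca356b9ec9a8a81892439820) (.node (nat_lit 0xf7fbadf338bdab45a9907b9b19c8a41992838820) (.leaf (nat_lit 0xf7fbabf336de2ae9aa306d1ec5c928198a438820)) (.leaf (nat_lit 0xf7fbadf338bdab45a9907b9b19c8a41992838820))) (.node (nat_lit 0xf7fbcdeb36be20e9c9957d1b15a924188a839820) (.leaf (nat_lit 0xf7fbcbeb38dda145ca356b9ec9a8a81892439820))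 (.node (nat_lit 0xffad7d6f19e76549d5aa63a2f5c0e64a06229020) (.leaf (nat_lit 0xf7fbcdeb36be20e9c9957d1b15a924188a839820)) (.leaf (nat_lit 0xffad7d6f19e76549d5aa63a2f5c0e64a06229020)))))) (.node (nat_lit 0xffadbe5f19d75549c1f28b98d5d4e2490662a020) (.node (nat_lit 0xffad9e7717d6e70939eb8d58d5508248d0629c20) (.node (nat_lit 0xffad9d771be5e75539ab6422f9510648c8229c20) (.leaf (nat_lit 0xffad7e6f1dd664e5d5ea8d18d9c0624a0e629020)) (.leaf (nat_lit 0xffad9d771be5e75539ab6422f9510648c8229c20))) (.node (nat_lit 0xffadbd5f1de654e5c1b26522f9d466490e22a020) (.leaf (nat_lit 0xffad9e7717d6e70939eb8d58d5508248d0629c20)) (.leaf (nat_lit 0xffadbd5f1de654e5c1b26522f9d466490e22a020)))) (.node (nat_lit 0xffadde671bd5d75551f38c18d9390249c8628c20) (.node (nat_lit 0xffaddd6717e6d70951b36562f5388649d0228c20) (.leaf (nat_lit 0xffadbe5f19d75549c1f28b98d5d4e2490662a020)) (.leaf (nat_lit 0xffaddd6717e6d70951b36562f5388649d0228c20)))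 (.node (nat_lit 0xffaf6ce37aef253a558a6adf1740c74244321420) (.leaf (nat_lit 0xffadde671bd5d75551f38c18d9390249c8628c20)) (.node (nat_lit 0xffaf6ee37ccea4b7562a7cdaca4043424c721420) (.leaf (nat_lit 0xffaf6ce37aef253a558a6adf1740c74244321420)) (.leaf (nat_lit 0xffaf6ee37ccea4b7562a7cdaca4043424c721420))))))) (.node (nat_lit 0xffb19e76dbd5d70951b36562f5390228c8649c20) (.node (nat_lit 0xffafcceb76ee1d094d946d5f152ca74192320820) (.node (nat_lit 0xffafacf378eda9552d8e6c1f194d27408a321820) (.node (nat_lit 0xffaf8edb7acf153a42327adac754c34144722420) (.leaf (nat_lit 0xffaf8cdb7cee94b741926cdf1a5447414c322420)) (.leaf (nat_lit 0xffaf8edb7acf153a42327adac754c34144722420))) (.node (nat_lit 0xffafaef376ce29092e2e7d5ac54ca34092721820) (.leaf (nat_lit 0xffafacf378eda9552d8e6c1f194d27408a321820)) (.leaf (nat_lit 0xffafaef376ce29092e2e7d5ac54ca34092721820)))) (.node (nat_lit 0xffb17d6edde65549c1f28b98d5d4662a0e249020)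 (.node (nat_lit 0xffafceeb78cd9d554e347c1ac92d23418a720820) (.leaf (nat_lit 0xffafcceb76ee1d094d946d5f152ca74192320820)) (.leaf (nat_lit 0xffafceeb78cd9d554e347c1ac92d23418a720820))) (.node (nat_lit 0xffb17e6ed9d754e5c1b26522f9d4e22a06649020) (.leaf (nat_lit 0xffb17d6edde65549c1f28b98d5d4662a0e249020)) (.node (nat_lit 0xffb19d76d7e6d75551f38c18d9388628d0249c20) (.leaf (nat_lit 0xffb17e6ed9d754e5c1b26522f9d4e22a06649020)) (.leaf (nat_lit 0xffb19d76d7e6d75551f38c18d9388628d0249c20)))))) (.node (nat_lit 0xffb1de66d7d6e75539ab6422f9508229d0648c20) (.node (nat_lit 0xffb1be5eddd66549d5aa63a2f5c062290e64a020) (.node (nat_lit 0xffb1bd5ed9e764e5d5ea8d18d9c0e6290624a020) (.leaf (nat_lit 0xffb19e76dbd5d70951b36562f5390228c8649c20)) (.leaf (nat_lit 0xffb1bd5ed9e764e5d5ea8d18d9c0e6290624a020))) (.node (nat_lit 0xffb1dd66dbe5e70939eb8d58d5510629c8248c20) (.leaf (nat_lit 0xffb1be5eddd66549d5aa63a2f5c062290e64a020))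 (.leaf (nat_lit 0xffb1dd66dbe5e70939eb8d58d5510629c8248c20)))) (.node (nat_lit 0xffb36de3babf26aab98b6c9f1850c81a44439420) (.node (nat_lit 0xffb36be3bcdea7283a2b7a9acad0441a4c839420) (.leaf (nat_lit 0xffb1de66d7d6e75539ab6422f9508229d0648c20)) (.leaf (nat_lit 0xffb36be3bcdea7283a2b7a9acad0441a4c839420))) (.node (nat_lit 0xffb38bdbbadf16aad2337c9ac838c4194483a420) (.leaf (nat_lit 0xffb36de3babf26aab98b6c9f1850c81a44439420)) (.node (nat_lit 0xffb38ddbbcbe972851936a9f1ab848194c43a420) (.leaf (nat_lit 0xffb38bdbbadf16aad2337c9ac838c4194483a420)) (.leaf (nat_lit 0xffb38ddbbcbe972851936a9f1ab848194c43a420)))))))) (.node (nat_lit 0xffb7cceaf8eda9092e2e7d5ac54d27218a340820) (.node (nat_lit 0xffb5bc5f9db65d284db462a2faac69110e532020) (.node (nat_lit 0xffb57b6f9dc669282dee8a98dacc65120e931020) (.node (nat_lit 0xffb3cbebb8dda0e5aa357d1ac9c924198a838820) (.node (nat_lit 0xffb3adf3b8bdaae5c9906d1f19a928188a439820)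 (.leaf (nat_lit 0xffb3abf3b6de2b49ca307b9ac5a8a41892839820)) (.leaf (nat_lit 0xffb3adf3b8bdaae5c9906d1f19a928188a439820))) (.node (nat_lit 0xffb3cdebb6be2149a9956b9f15c8a81992438820) (.leaf (nat_lit 0xffb3cbebb8dda0e5aa357d1ac9c924198a838820)) (.leaf (nat_lit 0xffb3cdebb6be2149a9956b9f15c8a81992438820)))) (.node (nat_lit 0xffb59b7797c6eb3a49f08ad8d7288510d0931c20) (.node (nat_lit 0xffb57c6f99b768aaadae64a2f84ce91206531020) (.leaf (nat_lit 0xffb57b6f9dc669282dee8a98dacc65120e931020)) (.leaf (nat_lit 0xffb57c6f99b768aaadae64a2f84ce91206531020))) (.node (nat_lit 0xffb59c779bb5eab749b064e2fa290910c8531c20) (.leaf (nat_lit 0xffb59b7797c6eb3a49f08ad8d7288510d0931c20)) (.node (nat_lit 0xffb5bb5f99c75caacdf48c98d82ce51106932020) (.leaf (nat_lit 0xffb59c779bb5eab749b064e2fa290910c8531c20)) (.leaf (nat_lit 0xffb5bb5f99c75caacdf48c98d82ce51106932020)))))) (.node (nat_lit 0xffb76ee2facf14b741926cdf1a54c32244741420)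 (.node (nat_lit 0xffb5dc6797b6e13a29b562e2f7488911d0530c20) (.node (nat_lit 0xffb5db679bc5e0b729f58cd8da490511c8930c20) (.leaf (nat_lit 0xffb5bc5f9db65d284db462a2faac69110e532020)) (.leaf (nat_lit 0xffb5db679bc5e0b729f58cd8da490511c8930c20))) (.node (nat_lit 0xffb76ce2fcee953a42327adac75447224c341420) (.leaf (nat_lit 0xffb5dc6797b6e13a29b562e2f7488911d0530c20)) (.leaf (nat_lit 0xffb76ce2fcee953a42327adac75447224c341420)))) (.node (nat_lit 0xffb78edafccea53a558a6adf174043214c742420) (.node (nat_lit 0xffb78cdafaef24b7562a7cdaca40c72144342420) (.leaf (nat_lit 0xffb76ee2facf14b741926cdf1a54c32244741420)) (.leaf (nat_lit 0xffb78cdafaef24b7562a7cdaca40c72144342420))) (.node (nat_lit 0xffb7acf2f6ee1d554e347c1ac92ca72092341820) (.leaf (nat_lit 0xffb78edafccea53a558a6adf174043214c742420)) (.node (nat_lit 0xffb7aef2f8cd9d094d946d5f152d23208a741820) (.leaf (nat_lit 0xffb7acf2f6ee1d554e347c1ac92ca72092341820))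 (.leaf (nat_lit 0xffb7aef2f8cd9d094d946d5f152d23208a741820))))))) (.node (nat_lit 0xffb9dc675bb5eb3a49f08ad8d7290931c8510c20) (.node (nat_lit 0xffb99b775bc5e13a29b562e2f7490530c8911c20) (.node (nat_lit 0xffb97b6f59c75d284db462a2faace53206911020) (.node (nat_lit 0xffb7ceeaf6ce29552d8e6c1f194ca32192740820) (.leaf (nat_lit 0xffb7cceaf8eda9092e2e7d5ac54d27218a340820)) (.leaf (nat_lit 0xffb7ceeaf6ce29552d8e6c1f194ca32192740820))) (.node (nat_lit 0xffb97c6f5db65caacdf48c98d82c69320e511020) (.leaf (nat_lit 0xffb97b6f59c75d284db462a2faace53206911020)) (.leaf (nat_lit 0xffb97c6f5db65caacdf48c98d82c69320e511020)))) (.node (nat_lit 0xffb9bb5f5dc668aaadae64a2f84c65310e912020) (.node (nat_lit 0xffb99c7757b6e0b729f58cd8da488930d0511c20) (.leaf (nat_lit 0xffb99b775bc5e13a29b562e2f7490530c8911c20)) (.leaf (nat_lit 0xffb99c7757b6e0b729f58cd8da488930d0511c20))) (.node (nat_lit 0xffb9bc5f59b769282dee8a98dacce93106512020)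 (.leaf (nat_lit 0xffb9bb5f5dc668aaadae64a2f84c65310e912020)) (.node (nat_lit 0xffb9db6757c6eab749b064e2fa288531d0910c20) (.leaf (nat_lit 0xffb9bc5f59b769282dee8a98dacce93106512020)) (.leaf (nat_lit 0xffb9db6757c6eab749b064e2fa288531d0910c20)))))) (.node (nat_lit 0xffbb8ddb3abf27283a2b7a9acad0c8394441a420) (.node (nat_lit 0xffbb6de33cbe96aad2337c9ac838483a4c419420) (.node (nat_lit 0xffbb6be33adf172851936a9f1ab8c43a44819420) (.leaf (nat_lit 0xffb9dc675bb5eb3a49f08ad8d7290931c8510c20)) (.leaf (nat_lit 0xffbb6be33adf172851936a9f1ab8c43a44819420))) (.node (nat_lit 0xffbb8bdb3cdea6aab98b6c9f185044394c81a420) (.leaf (nat_lit 0xffbb6de33cbe96aad2337c9ac838483a4c419420)) (.leaf (nat_lit 0xffbb8bdb3cdea6aab98b6c9f185044394c81a420)))) (.node (nat_lit 0xffbbadf336be20e5aa357d1ac9c8a83892419820) (.node (nat_lit 0xffbbabf338dda149a9956b9f15c924388a819820) (.leaf (nat_lit 0xffbb8ddb3abf27283a2b7a9acad0c8394441a420))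 (.leaf (nat_lit 0xffbbabf338dda149a9956b9f15c924388a819820))) (.node (nat_lit 0xffbbcbeb36de2ae5c9906d1f19a8a43992818820) (.leaf (nat_lit 0xffbbadf336be20e5aa357d1ac9c8a83892419820)) (.node (nat_lit 0xffbbcdeb38bdab49ca307b9ac5a928398a418820) (.leaf (nat_lit 0xffbbcbeb36de2ae5c9906d1f19a8a43992818820)) (.leaf (nat_lit 0xffbbcdeb38bdab49ca307b9ac5a928398a418820)))))))))))
noncomputable def AP_lS_T : ST := (.node (nat_lit 0x5cd8db3e39c75c417b74d239737d23848a7aa820) (.node (nat_lit 0x30b5766f9d8e4921ade8b2b0d3cea5fd209f3820) AP_lS_T0 AP_lS_T1) (.node (nat_lit 0x9aecd63f198f514f9b64e3b57f08b01a9353c820) AP_lS_T2 AP_lS_T3))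
theorem AP_lS_E {G : Type*} [Group G] {R : ℕ → G → Prop} {z u v a b i j k l x y r s t : G}
    (M : Md0 AP_o AP_cs R [z, u, v, a, b, i, j, k, l, x, y, r, s, t]) :
    EnumS R AP_lS (sp [i, x, r, t]) :=
  enumS_tree M.μ.1 (M.reps.tms M.μ.1 [(.v (nat_lit 5)), (.v (nat_lit 9)), (.v (nat_lit 11)), (.v (nat_lit 13))] (cs' := [(nat_lit 0xf7f3abf3b8dda0e9c9957d1b15a8a83992418820), (nat_lit 0x54b786daec7c7c73575fc8fbc142934a1cb29020), (nat_lit 0x857598f78f637c944b7fc16d722a93399cb18820), (nat_lit 0xf7efcceb78eda9594e2e6c1ec52ca32092741820)]) (by decide +kernel))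
    (Ws := AP_lS_W) (T := AP_lS_T) (by decide +kernel) (by decide +kernel)
theorem AP_lS_c {G : Type*} [Group G] {R : ℕ → G → Prop} {z u v a b i j k l x y r s t : G}
    (M : Md0 AP_o AP_cs R [z, u, v, a, b, i, j, k, l, x, y, r, s, t]) :
    #(sp [i, x, r, t]) = 1152 :=
  (AP_lS_E M).card M.μ (h := AP_lS_h) (by decide +kernel)
noncomputable def AP_lK : List ℕ := [(nat_lit 0x11999d7637e6d63521f3c1ecd9129f2c1de4d420), (nat_lit 0x11999e763bd5d67921b3b0f0f511de2c29f4d420), (nat_lit 0x1199dd663be5e67911ebc0ecd521df2d69e4c020), (nat_lit 0x1199de6637d6e63511abb1f0f9229e2d5df4c020), (nat_lit 0x11a39d759be5e63511abb1f0f921df4c29e2d420), (nat_lit 0x11a39e7597d6e67911ebc0ecd5229e4c1df2d420), (nat_lit 0x11a3dd6597e6d67921b3b0f0f5129f4d5de2c020), (nat_lit 0x11a3de659bd5d63521f3c1ecd911de4d69f2c020), (nat_lit 0x11afacf36cec50352ec469df894d35778b0a7c20), (nat_lit 0x11afaef371cb10792f0478db654cb077935a7c20),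 (nat_lit 0x11afcceb71eb08794ec868df852cb577d30a7820), (nat_lit 0x11afceeb6ccc48354f0879db692d3077cb5a7820), (nat_lit 0x11b2cbc7badf16a1a3137c9b6393f4817ceaa420), (nat_lit 0x11b2cdc7bcbe9723a2d36a9f8193ce817f4aa420), (nat_lit 0x11b31bb3bcdea723930b7a9b61a3d4827eea9420), (nat_lit 0x11b31db3babf26a192cb6c9f83a3ee827d4a9420), (nat_lit 0x11b5766f998f50a1ada4b4b0f3cea9f3a05fd020), (nat_lit 0x11b578ef9d665123ade4c2acd1ce05f3aa9fd020), (nat_lit 0x11b5b65f9d8e4923cda8b2b0f1ae09f52a5fb820), (nat_lit 0x11b5b8df996748a1cde8c4acd3aea5f5209fb820), (nat_lit 0x11b7acf2f1eb08354f0879db692cb5a793077c20), (nat_lit 0x11b7aef2eccc48794ec868df852d30a78b577c20), (nat_lit 0x11b7cceaecec50792f0478db654d35a7cb077820), (nat_lit 0x11b7ceeaf1cb10352ec469df894cb0a7d3577820), (nat_lit 0x11b9766f5d8e48a1cde8c4acd3ae09fbaa5f5020), (nat_lit 0x11b978ef59674923cda8b2b0f1aea5fba09f5020), (nat_lit 0x11b9b65f598f5123ade4c2acd1cea9fd205f3820),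 (nat_lit 0x11b9b8df5d6650a1ada4b4b0f3ce05fd2a9f3820), (nat_lit 0x11bacbc73cdea6a192cb6c9f83a3d4a97ee82420), (nat_lit 0x11bacdc73abf2723930b7a9b61a3eea97d482420), (nat_lit 0x11bb1bb33adf1723a2d36a9f8193f4aa7ce81420), (nat_lit 0x11bb1db33cbe96a1a3137c9b6393ceaa7f481420), (nat_lit 0x19dbacf1f6ee1c252634d9aec9167f2417e45420), (nat_lit 0x19dbaef1f8cd9c692594b8b715157e2427f45420), (nat_lit 0x19dbcce9f8eda869162ed8aec5257f2567e44020), (nat_lit 0x19dbcee9f6ce2825158eb9b719267e2557f44020), (nat_lit 0x19dfacf1b8eda825158eb9b719257f4427e25420), (nat_lit 0x19dfaef1b6ce2869162ed8aec5267e4417f25420), (nat_lit 0x19dfcce9b6ee1c692594b8b715167f4557e24020), (nat_lit 0x19dfcee9b8cd9c252634d9aec9157e4567f24020), (nat_lit 0x19ed9d770de3d2253ae561a3b951155f8909fc20), (nat_lit 0x19ed9e770fd352693b6588997550905f9159fc20), (nat_lit 0x19eddd670fe34a6952e960a3b538955fd109f820), (nat_lit 0x19edde670dd3ca25536989997939105fc959f820),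 (nat_lit 0x19f19d76cfe34a25536989997938959f9105fc20), (nat_lit 0x19f19e76cdd3ca6952e960a3b539109f8955fc20), (nat_lit 0x19f1dd66cde3d2693b6588997551159fc905f820), (nat_lit 0x19f1de66cfd352253ae561a3b950909fd155f820), (nat_lit 0x19f366e3ba7f12a13985bcb71352a8f2e04fcc20), (nat_lit 0x19f367e3bc6e93233a25daaec15204f2ea8fcc20), (nat_lit 0x19f386dbbc7e8b235189bab7113a08f4ea4fac20), (nat_lit 0x19f387dbba6f0aa15229dcaec33aa4f4e08fac20), (nat_lit 0x19f4db3f99c75ca127748c997317f3813cbaa020), (nat_lit 0x19f4dc3f9db65d2326f462a3b117cb813f3aa020), (nat_lit 0x19f4fb379dc66923176e8a997127d3823eba9020), (nat_lit 0x19f4fc3799b768a116ee64a3b327eb823d3a9020), (nat_lit 0x19f8db3f5dc668a116ee64a3b327d3a93eb82020), (nat_lit 0x19f8dc3f59b76923176e8a997127eba93d382020), (nat_lit 0x19f8fb3759c75d2326f462a3b117f3aa3cb81020), (nat_lit 0x19f8fc375db65ca127748c997317cbaa3f381020), (nat_lit 0x19fb66e33c7e8aa15229dcaec33a08faea4f4c20),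 (nat_lit 0x19fb67e33a6f0b235189bab7113aa4fae08f4c20), (nat_lit 0x19fb86db3a7f13233a25daaec152a8fce04f2c20), (nat_lit 0x19fb87db3c6e92a13985bcb7135204fcea8f2c20), (nat_lit 0x221b6be1fadf16581993ca7b1a89de3ca9f1a820), (nat_lit 0x221b6de1fcbe969a9a33e972c80a9f3c9de1a820), (nat_lit 0x221b8bd9fcdea69a898bc97b181a9e3a9df1c820), (nat_lit 0x221b8dd9fabf26580a2bea72ca99df3aa9e1c820), (nat_lit 0x221f6be1bcdea6580a2bea72ca9a9e1c9df3a820), (nat_lit 0x221f6de1babf269a898bc97b1819df1ca9e3a820), (nat_lit 0x221f8bd9badf169a9a33e972c809de1aa9f3c820), (nat_lit 0x221f8dd9bcbe96581993ca7b1a8a9f1a9de3c820), (nat_lit 0x222cdd3f17e6d7029b336563d48bce91ff450c20), (nat_lit 0x222cde3f1bd5d7549bb38c19928bf491fce50c20), (nat_lit 0x222cfd371be5e7548b2b6423d29bee90fd451c20), (nat_lit 0x222cfe3717d6e7028bab8d59949bd490fee51c20), (nat_lit 0x222fa6f3767e0d02ae22ed72c4cd43fd247f3820), (nat_lit 0x222fa7f3786d8d54ad82cc3b12ce47fd143f3820),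 (nat_lit 0x222fc6eb787d8554ce26ec32c2ae43fb947f5020), (nat_lit 0x222fc7eb766e0502cd86cd7b14ad47fba43f5020), (nat_lit 0x2230dd3edbe5e7028bab8d59949bee51fd490c20), (nat_lit 0x2230de3ed7d6e7548b2b6423d29bd451fee90c20), (nat_lit 0x2230fd36d7e6d7549bb38c19928bce50ff491c20), (nat_lit 0x2230fe36dbd5d7029b336563d48bf450fce91c20), (nat_lit 0x22357b6f8dc3cc582fa28a599acc6aa7cf277820), (nat_lit 0x22357c6f8fb34c9aaf226163d84cf2a7c6a77820), (nat_lit 0x2235bb5f8fc3449acfa68959982ceaa787277c20), (nat_lit 0x2235bc5f8db3c4584f266263daac72a78ea77c20), (nat_lit 0x2237a6f2f87d8502cd86cd7b14ae43f5147fb820), (nat_lit 0x2237a7f2f66e0554ce26ec32c2ad47f5243fb820), (nat_lit 0x2237c6eaf67e0d54ad82cc3b12cd43f3a47fd020), (nat_lit 0x2237c7eaf86d8d02ae22ed72c4ce47f3943fd020), (nat_lit 0x22397b6f4fc344584f266263daacea77c72a7820), (nat_lit 0x22397c6f4db3c49acfa68959982c7277ceaa7820), (nat_lit 0x2239bb5f4dc3cc9aaf226163d84c6a778f2a7c20),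 (nat_lit 0x2239bc5f4fb34c582fa28a599accf27786aa7c20), (nat_lit 0x2a597b6e39c75c481db4d238fa8d7e34a7f12820), (nat_lit 0x2a597c6e3db65c8a9df4e134d80e7f3497e12820), (nat_lit 0x2a59bb5e3dc6688a8daed138f81e7e3297f14820), (nat_lit 0x2a59bc5e39b768480deee234da9d7f32a7e14820), (nat_lit 0x2a637b6d9dc668480deee234da9e7e1497f32820), (nat_lit 0x2a637c6d99b7688a8daed138f81d7f14a7e32820), (nat_lit 0x2a63bb5d99c75c8a9df4e134d80d7e12a7f34820), (nat_lit 0x2a63bc5d9db65c481db4d238fa8e7f1297e34820), (nat_lit 0x2a6d9677178ecf0239e3e574d45142fce46f2c20), (nat_lit 0x2a6d98f71b65cf5439a3d438f25246fcd42f2c20), (nat_lit 0x2a6dd6671b8dc75451e7e434d23a42fad46f4c20), (nat_lit 0x2a6dd8e71766c70251a7d578f43946fae42f4c20), (nat_lit 0x2a6eccc776ee1d021f546d5fc40fcb91bf350820), (nat_lit 0x2a6ecec778cd9d541f947c1ba20ff391bcb50820), (nat_lit 0x2a6f1cb378eda9540f4e6c1fc21feb90bd351820), (nat_lit 0x2a6f1eb376ce29020f8e7d5ba41fd390beb51820),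 (nat_lit 0x2a719676db8dc70251a7d578f43a42f4d46fac20), (nat_lit 0x2a7198f6d766c75451e7e434d23946f4e42fac20), (nat_lit 0x2a71d666d78ecf5439a3d438f25142f2e46fcc20), (nat_lit 0x2a71d8e6db65cf0239e3e574d45246f2d42fcc20), (nat_lit 0x2a736be3acdc4e483b837a1baad04a9fcd25f820), (nat_lit 0x2a736de3b1bb0e8abb43691fc850d29fc4a5f820), (nat_lit 0x2a738bdbb1db068ad387791ba838ca9f8525fc20), (nat_lit 0x2a738ddbacbc464853476a1fcab8529f8ca5fc20), (nat_lit 0x2a76ccc6f8eda9020f8e7d5ba41feb51bd390820), (nat_lit 0x2a76cec6f6ce29540f4e6c1fc21fd351beb90820), (nat_lit 0x2a771cb2f6ee1d541f947c1ba20fcb50bf391820), (nat_lit 0x2a771eb2f8cd9d021f546d5fc40ff350bcb91820), (nat_lit 0x2a7b6be331db064853476a1fcab8ca5fc529f820), (nat_lit 0x2a7b6de32cbc468ad387791ba838525fcca9f820), (nat_lit 0x2a7b8bdb2cdc4e8abb43691fc8504a5f8d29fc20), (nat_lit 0x2a7b8ddb31bb0e483b837a1baad0d25f84a9fc20), (nat_lit 0x30999d763be5e67521abc0ecf9129e4d5df2c020),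 (nat_lit 0x30999e7637d6e63921ebb1f0d511df4d69e2c020), (nat_lit 0x3099dd6637e6d63911b3c1ecf521de4c29f2d420), (nat_lit 0x3099de663bd5d67511f3b0f0d9229f4c1de2d420), (nat_lit 0x30a39d7597e6d67511f3b0f0d921de2d69f4c020), (nat_lit 0x30a39e759bd5d63911b3c1ecf5229f2d5de4c020), (nat_lit 0x30a3dd659be5e63921ebb1f0d5129e2c1df4d420), (nat_lit 0x30a3de6597d6e67521abc0ecf911df2c29e4d420), (nat_lit 0x30afacf371eb08752f0868df694d30a7cb577820), (nat_lit 0x30afaef36ccc48392ec879db854cb5a7d3077820), (nat_lit 0x30afcceb6cec50394f0469df652cb0a793577c20), (nat_lit 0x30afceeb71cb10754ec478db892d35a78b077c20), (nat_lit 0x30b2cbc7bcdea721a2cb7a9b8393eeaa7d481420), (nat_lit 0x30b2cdc7babf26a3a30b6c9f6193d4aa7ee81420), (nat_lit 0x30b31bb3badf16a392d37c9b81a3cea97f482420), (nat_lit 0x30b31db3bcbe972193136a9f63a3f4a97ce82420), (nat_lit 0x30b5766f9d8e4921ade8b2b0d3cea5fd209f3820), (nat_lit 0x30b578ef996748a3ada8c4acf1ce09fd2a5f3820),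 (nat_lit 0x30b5b65f998f50a3cde4b4b0d1ae05fbaa9f5020), (nat_lit 0x30b5b8df9d665121cda4c2acf3aea9fba05f5020), (nat_lit 0x30b7acf2ecec50754ec478db892cb077d35a7820), (nat_lit 0x30b7aef2f1cb10394f0469df652d3577cb0a7820), (nat_lit 0x30b7cceaf1eb08392ec879db854d30778b5a7c20), (nat_lit 0x30b7ceeaeccc48752f0868df694cb577930a7c20), (nat_lit 0x30b9766f598f5121cda4c2acf3ae05f52a9fb820), (nat_lit 0x30b978ef5d6650a3cde4b4b0d1aea9f5205fb820), (nat_lit 0x30b9b65f5d8e48a3ada8c4acf1cea5f3a09fd020), (nat_lit 0x30b9b8df59674921ade8b2b0d3ce09f3aa5fd020), (nat_lit 0x30bacbc73adf172193136a9f63a3ce827f4a9420), (nat_lit 0x30bacdc73cbe96a392d37c9b81a3f4827cea9420), (nat_lit 0x30bb1bb33cdea6a3a30b6c9f6193ee817d4aa420), (nat_lit 0x30bb1db33abf2721a2cb7a9b8393d4817eeaa420), (nat_lit 0x38dbacf1f8eda865258ed8af19167e4557f24020), (nat_lit 0x38dbaef1f6ce2829262eb9b6c5157f4567e24020), (nat_lit 0x38dbcce9f6ee1c291594d9af15257e4427f25420),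 (nat_lit 0x38dbcee9f8cd9c651634b8b6c9267f4417e25420), (nat_lit 0x38dfacf1b6ee1c651634b8b6c9257e2567f44020), (nat_lit 0x38dfaef1b8cd9c291594d9af15267f2557e44020), (nat_lit 0x38dfcce9b8eda829262eb9b6c5167e2417f45420), (nat_lit 0x38dfcee9b6ce2865258ed8af19157f2427e45420), (nat_lit 0x38ed9d770fe34a653b6960a37951109fc955f820), (nat_lit 0x38ed9e770dd3ca293ae98999b550959fd105f820), (nat_lit 0x38eddd670de3d229536561a37538909f9155fc20), (nat_lit 0x38edde670fd3526552e58899b939159f8905fc20), (nat_lit 0x38f19d76cde3d26552e58899b938905fd159f820), (nat_lit 0x38f19e76cfd35229536561a37539155fc909f820), (nat_lit 0x38f1dd66cfe34a293ae98999b551105f8959fc20), (nat_lit 0x38f1de66cdd3ca653b6960a37950955f9109fc20), (nat_lit 0x38f366e3bc7e8b213a29bab6c352a4fce08f2c20), (nat_lit 0x38f367e3ba6f0aa33989dcaf115208fcea4f2c20), (nat_lit 0x38f386dbba7f12a35225bcb6c13a04faea8f4c20), (nat_lit 0x38f387dbbc6e93215185daaf133aa8fae04f4c20),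 (nat_lit 0x38f4db3f9dc6692126ee8a99b317ebaa3d381020), (nat_lit 0x38f4dc3f99b768a3276e64a37117d3aa3eb81020), (nat_lit 0x38f4fb3799c75ca316f48c99b127cba93f382020), (nat_lit 0x38f4fc379db65d21177462a37327f3a93cb82020), (nat_lit 0x38f8db3f59c75d21177462a37327cb823f3a9020), (nat_lit 0x38f8dc3f5db65ca316f48c99b127f3823cba9020), (nat_lit 0x38f8fb375dc668a3276e64a37117eb813d3aa020), (nat_lit 0x38f8fc3759b7692126ee8a99b317d3813ebaa020), (nat_lit 0x38fb66e33a7f13215185daaf133a04f4ea8fac20), (nat_lit 0x38fb67e33c6e92a35225bcb6c13aa8f4e04fac20), (nat_lit 0x38fb86db3c7e8aa33989dcaf1152a4f2e08fcc20), (nat_lit 0x38fb87db3a6f0b213a29bab6c35208f2ea4fcc20), (nat_lit 0x411b6be1fcdea6981a2bc97aca89df1aa9e3c820), (nat_lit 0x411b6de1fabf265a998bea73180a9e1a9df3c820), (nat_lit 0x411b8bd9fadf165a8a33ca7ac81a9f1c9de3a820), (nat_lit 0x411b8dd9fcbe96980993e9731a99de1ca9f3a820), (nat_lit 0x411f6be1badf16980993e9731a9a9f3a9de1c820),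 (nat_lit 0x411f6de1bcbe965a8a33ca7ac819de3aa9f1c820), (nat_lit 0x411f8bd9bcdea65a998bea731809df3ca9e1a820), (nat_lit 0x411f8dd9babf26981a2bc97aca8a9e3c9df1a820), (nat_lit 0x412cdd3f1be5e7529bab6423948bd450fee91c20), (nat_lit 0x412cde3f17d6e7049b2b8d59d28bee50fd491c20), (nat_lit 0x412cfd3717e6d7048bb36563929bf451fce90c20), (nat_lit 0x412cfe371bd5d7528b338c19d49bce51ff490c20), (nat_lit 0x412fa6f3787d8552ad86ec3314cd47f3a43fd020), (nat_lit 0x412fa7f3766e0504ae26cd7ac2ce43f3947fd020), (nat_lit 0x412fc6eb767e0d04cd82ed7312ae47f5143fb820), (nat_lit 0x412fc7eb786d8d52ce22cc3ac4ad43f5247fb820), (nat_lit 0x4130dd3ed7e6d7528b338c19d49bf490fce51c20), (nat_lit 0x4130de3edbd5d7048bb36563929bce90ff451c20), (nat_lit 0x4130fd36dbe5e7049b2b8d59d28bd491fee50c20), (nat_lit 0x4130fe36d7d6e7529bab6423948bee91fd450c20), (nat_lit 0x41357b6f8fc344982f268959dacc72778eaa7c20), (nat_lit 0x41357c6f8db3c45aafa66263984cea77872a7c20),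 (nat_lit 0x4135bb5f8dc3cc5acf228a59d82cf277c6aa7820), (nat_lit 0x4135bc5f8fb34c984fa261639aac6a77cf2a7820), (nat_lit 0x4137a6f2f67e0d52ce22cc3ac4ae47fb943f5020), (nat_lit 0x4137a7f2f86d8d04cd82ed7312ad43fba47f5020), (nat_lit 0x4137c6eaf87d8504ae26cd7ac2cd47fd243f3820), (nat_lit 0x4137c7eaf66e0552ad86ec3314ce43fd147f3820), (nat_lit 0x41397b6f4dc3cc984fa261639aacf2a786a77c20), (nat_lit 0x41397c6f4fb34c5acf228a59d82c6aa78f277c20), (nat_lit 0x4139bb5f4fc3445aafa66263984c72a7cea77820), (nat_lit 0x4139bc5f4db3c4982f268959dacceaa7c7277820), (nat_lit 0x49597b6e3dc668881deed138da8d7f12a7e34820), (nat_lit 0x49597c6e39b7684a9daee234f80e7e1297f34820), (nat_lit 0x4959bb5e39c75c4a8df4d238d81e7f1497e32820), (nat_lit 0x4959bc5e3db65c880db4e134fa9d7e14a7f32820), (nat_lit 0x49637b6d99c75c880db4e134fa9e7f3297e14820), (nat_lit 0x49637c6d9db65c4a8df4d238d81d7e32a7f14820), (nat_lit 0x4963bb5d9dc6684a9daee234f80d7f34a7e12820),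 (nat_lit 0x4963bc5d99b768881deed138da8e7e3497f12820), (nat_lit 0x496d96771b8dc75239a7e434f45146f2e42fcc20), (nat_lit 0x496d98f71766c70439e7d578d25242f2d46fcc20), (nat_lit 0x496dd667178ecf0451a3e574f23a46f4d42fac20), (nat_lit 0x496dd8e71b65cf5251e3d438d43942f4e46fac20), (nat_lit 0x496eccc778eda9521f8e6c1fa40fd350beb91820), (nat_lit 0x496ecec776ce29041f4e7d5bc20feb50bd391820), (nat_lit 0x496f1cb376ee1d040f946d5fa21ff351bcb90820), (nat_lit 0x496f1eb378cd9d520f547c1bc41fcb51bf390820), (nat_lit 0x49719676d78ecf5251e3d438d43a46fad42f4c20), (nat_lit 0x497198f6db65cf0451a3e574f23942fae46f4c20), (nat_lit 0x4971d666db8dc70439e7d578d25146fce42f2c20), (nat_lit 0x4971d8e6d766c75239a7e434f45242fcd46f2c20), (nat_lit 0x49736be3b1db06883b47791bcad0525f8ca9fc20), (nat_lit 0x49736de3acbc464abb876a1fa850ca5f8529fc20), (nat_lit 0x49738bdbacdc4e4ad3437a1bc838d25fc4a9f820), (nat_lit 0x49738ddbb1bb0e885383691faab84a5fcd29f820),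 (nat_lit 0x4976ccc6f6ee1d520f547c1bc41ff390bcb51820), (nat_lit 0x4976cec6f8cd9d040f946d5fa21fcb90bf351820), (nat_lit 0x49771cb2f8eda9041f4e7d5bc20fd391beb50820), (nat_lit 0x49771eb2f6ce29521f8e6c1fa40feb91bd350820), (nat_lit 0x497b6be32cdc4e885383691faab8d29f84a5fc20), (nat_lit 0x497b6de331bb0e4ad3437a1bc8384a9f8d25fc20), (nat_lit 0x497b8bdb31db064abb876a1fa850529fcca5f820), (nat_lit 0x497b8ddb2cbc46883b47791bcad0ca9fc525f820), (nat_lit 0x5498db3e37c6ea317b30d1f9d37d2872ca4a4c20), (nat_lit 0x5498dc3e3bb5ea737bb0e0f5917ca472d28a4c20), (nat_lit 0x5498fb363bc5e0737f35d0f9d178a874d24a2c20), (nat_lit 0x5498fc3637b6e0317fb5e1f593792474ca8a2c20), (nat_lit 0x549acbc5f6de2a21fb50c9bbc3fd095b8859d020), (nat_lit 0x549acdc5f8bdaa63fb90e8b3a1fc855b9099d020), (nat_lit 0x549b1bb1f8dda063ff55c8bbc1f8895d1059b820), (nat_lit 0x549b1db1f6be2021ff95e9b3a3f9055d0899b820), (nat_lit 0x549ecbc5b8dda021ff95e9b3a3f8899b9055d020),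 (nat_lit 0x549ecdc5b6be2063ff55c8bbc1f9059b8895d020), (nat_lit 0x549f1bb1b6de2a63fb90e8b3a1fd099d0855b820), (nat_lit 0x549f1db1b8bdaa21fb50c9bbc3fc859d1095b820), (nat_lit 0x54a2db3d9bc5e0317fb5e1f59378a8a2d2474c20), (nat_lit 0x54a2dc3d97b6e0737f35d0f9d17924a2ca874c20), (nat_lit 0x54a2fb3597c6ea737bb0e0f5917d28a4ca472c20), (nat_lit 0x54a2fc359bb5ea317b30d1f9d37ca4a4d2872c20), (nat_lit 0x54ad766f0d8bfc21d7bfe1b593c2742156e42420), (nat_lit 0x54ad78ef0f637c63d73fd0b9d1c16e2167442420), (nat_lit 0x54adb65f0f8b7e63c3bee0b591d5742266e41420), (nat_lit 0x54adb8df0d63fe21c33ed1b9d3d66e2257441420), (nat_lit 0x54af66e36c7c7c31579fe9f3a34293291cb4a020), (nat_lit 0x54af67e3716b3c73575fc8fbc141cb292934a020), (nat_lit 0x54af86db717b3e73439ee8f3a155d32a28b49020), (nat_lit 0x54af87db6c6c7e31435ec9fbc3568b2a1d349020), (nat_lit 0x54b1766ecf8b7e21c33ed1b9d3d5744166e22420), (nat_lit 0x54b178eecd63fe63c3bee0b591d66e4157422420),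 (nat_lit 0x54b1b65ecd8bfc63d73fd0b9d1c2744256e21420), (nat_lit 0x54b1b8decf637c21d7bfe1b593c16e4267421420), (nat_lit 0x54b766e2f17b3e31435ec9fbc355d34928b2a020), (nat_lit 0x54b767e2ec6c7e73439ee8f3a1568b491d32a020), (nat_lit 0x54b786daec7c7c73575fc8fbc142934a1cb29020), (nat_lit 0x54b787daf16b3c31579fe9f3a341cb4a29329020), (nat_lit 0x5cd99b762fc345ea2366d7f977124381547aa420), (nat_lit 0x5cd99c762db3c5f722e6e7b5ba114781643aa420), (nat_lit 0x5cd9db662dc3cdf71362d7b97a214382647a9420), (nat_lit 0x5cd9dc662fb34dea12e2e7f5b7224782543a9420), (nat_lit 0x5cdb6ce1f1eb09ea1b48dfefc70a0991ea550c20), (nat_lit 0x5cdb6ee1eccc49f71b88bfb7aa0aa591e0950c20), (nat_lit 0x5cdb8cd9ecec51f70b44dfafca1aa990e0551c20), (nat_lit 0x5cdb8ed9f1cb11ea0b84bff7a71a0590ea951c20), (nat_lit 0x5cdf6ce1acec51ea0b84bff7a71aa951e0590c20), (nat_lit 0x5cdf6ee1b1cb11f70b44dfafca1a0551ea990c20), (nat_lit 0x5cdf8cd9b1eb09f71b88bfb7aa0a0950ea591c20),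 (nat_lit 0x5cdf8ed9accc49ea1b48dfefc70aa550e0991c20), (nat_lit 0x5ce39b758dc3cdea12e2e7f5b72143a964782420), (nat_lit 0x5ce39c758fb34df71362d7b97a2247a954382420), (nat_lit 0x5ce3db658fc345f722e6e7b5ba1243aa54781420), (nat_lit 0x5ce3dc658db3c5ea2366d7f9771147aa64381420), (nat_lit 0x5cecd63f1d8e48ef9ae8e535bf08b53c9301a820), (nat_lit 0x5cecd8bf1967494f1b68d3b97f89303c8b51a820), (nat_lit 0x5cecf637198f514f0ae4e3b5bf99353a8b01c820), (nat_lit 0x5cecf8b71d6650ef8b64d5397f18b03a9351c820), (nat_lit 0x5cf0d63ed98f50ef8b64d5397f19351c8b03a820), (nat_lit 0x5cf0d8bedd66514f0ae4e3b5bf98b01c9353a820), (nat_lit 0x5cf0f636dd8e494f1b68d3b97f88b51a9303c820), (nat_lit 0x5cf0f8b6d96748ef9ae8e535bf09301a8b53c820), (nat_lit 0x5cf2c6c7b87d84efa386bd37af10ea2c0724d420), (nat_lit 0x5cf2c7c7b66e054f2346dbafcf90722c0ea4d420), (nat_lit 0x5cf316b3b67e0d4f1382bbb7afa06a2d4f24c020), (nat_lit 0x5cf317b3b86d8cef9342dd2fcf20f22d46a4c020),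 (nat_lit 0x5cfac6c7367e0cef9342dd2fcf206a4c0f22d420), (nat_lit 0x5cfac7c7386d8d4f1382bbb7afa0f24c06a2d420), (nat_lit 0x5cfb16b3387d854f2346dbafcf90ea4d4722c020), (nat_lit 0x5cfb17b3366e04efa386bd37af10724d4ea2c020), (nat_lit 0x75197d6e2fe34be99f29c7edd58e0891aa450820), (nat_lit 0x75197e6e2dd3cbf59fa9b7b1998ea491a0850820), (nat_lit 0x7519bd5e2de3d3f58f25c7add99ea890a0451820), (nat_lit 0x7519be5e2fd353e98fa5b7f1959e0490aa851820), (nat_lit 0x751babf1f1db07e9a707cffb65964281146aa020), (nat_lit 0x751badf1ecbc47f5a6c7efb389954681242aa020), (nat_lit 0x751bcbe9ecdc4ff59703cfbb69a54282246a9020), (nat_lit 0x751bcde9f1bb0fe996c3eff385a64682142a9020), (nat_lit 0x751fabf1acdc4fe996c3eff385a542a924682020), (nat_lit 0x751fadf1b1bb0ff59703cfbb69a646a914282020), (nat_lit 0x751fcbe9b1db07f5a6c7efb3899642aa14681020), (nat_lit 0x751fcde9acbc47e9a707cffb659546aa24281020), (nat_lit 0x75237d6d8de3d3e98fa5b7f1959ea851a0490820),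 (nat_lit 0x75237e6d8fd353f58f25c7add99e0451aa890820), (nat_lit 0x7523bd5d8fe34bf59fa9b7b1998e0850aa491820), (nat_lit 0x7523be5d8dd3cbe99f29c7edd58ea450a0891820), (nat_lit 0x752ec6c77c7e8abf9ec9ecf38f0c953491012820), (nat_lit 0x752ec7c77a6f0b3f1f09cafb6f8d103489512820), (nat_lit 0x752f16b37a7f133f0ec5eaf38f9d153289014820), (nat_lit 0x752f17b37c6e92bf8f05ccfb6f1c903291514820), (nat_lit 0x7534d63f9b8dc6bfa7a7b4f19f14ca2405245420), (nat_lit 0x7534d8bf9766c73f2727c2eddf9452240ca45420), (nat_lit 0x7534f637978ecf3f17a3b2f19fa44a254d244020), (nat_lit 0x7534f8b79b65cebf9723c4eddf24d22544a44020), (nat_lit 0x7536c6c6fa7f12bf8f05ccfb6f1d151489032820), (nat_lit 0x7536c7c6fc6e933f0ec5eaf38f9c901491532820), (nat_lit 0x753716b2fc7e8b3f1f09cafb6f8c951291034820), (nat_lit 0x753717b2fa6f0abf9ec9ecf38f0d101289534820), (nat_lit 0x7538d63f578ecebf9723c4eddf244a440d225420), (nat_lit 0x7538d8bf5b65cf3f17a3b2f19fa4d24404a25420),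 (nat_lit 0x7538f6375b8dc73f2727c2eddf94ca4545224020), (nat_lit 0x7538f8b75766c6bfa7a7b4f19f1452454ca24020), (nat_lit 0x8558dd3e39e76442fb6ac22d74fc439d0c75b820), (nat_lit 0x8558de3e3dd66484faeab131b2fcc79d0435b820), (nat_lit 0x8558fd363de65484ff72c12d72f8c39b8475d020), (nat_lit 0x8558fe3639d75442fef2b231b4f8479b8c35d020), (nat_lit 0x855accc5faef24527b0ada6f647c62a4ce672c20), (nat_lit 0x855acec5fccea4947acab977827ce6a4c6272c20), (nat_lit 0x855b1cb1fcee94947f12d96f6278e2a2c6674c20), (nat_lit 0x855b1eb1facf14527ed2ba77847866a2ce274c20), (nat_lit 0x855eccc5bcee94527ed2ba778478e274c66a2c20), (nat_lit 0x855ecec5bacf14947f12d96f62786674ce2a2c20), (nat_lit 0x855f1cb1baef24947acab977827c6272ce6a4c20), (nat_lit 0x855f1eb1bccea4527b0ada6f647ce672c62a4c20), (nat_lit 0x8562dd3d9de65442fef2b231b4f8c35d0479b820), (nat_lit 0x8562de3d99d75484ff72c12d72f8475d0c39b820), (nat_lit 0x8562fd3599e76484faeab131b2fc435b8c79d020),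 (nat_lit 0x8562fe359dd66442fb6ac22d74fcc75b8439d020), (nat_lit 0x8573a6f3ac7c7c42cadfba3784a96e31e7410c20), (nat_lit 0x8573a7f3b16b3c84cb1fd92f62aa7431d6e10c20), (nat_lit 0x8573c6ebb17b3e84aadeb93782ca6e30d7411c20), (nat_lit 0x8573c7ebac6c7e42ab1eda2f64c97430e6e11c20), (nat_lit 0x857596778d8bfc524affb271b429cb39a9318820), (nat_lit 0x857598f78f637c944b7fc16d722a93399cb18820), (nat_lit 0x8575d6678f8b7e942afeb171b24a8b389d319820), (nat_lit 0x8575d8e78d63fe522b7ec26d7449d338a8b19820), (nat_lit 0x857996774f8b7e522b7ec26d744a8b199d338820), (nat_lit 0x857998f74d63fe942afeb171b249d319a8b38820), (nat_lit 0x8579d6674d8bfc944b7fc16d7229cb18a9339820), (nat_lit 0x8579d8e74f637c524affb271b42a93189cb39820), (nat_lit 0x857ba6f3317b3e42ab1eda2f64ca6e11d7430c20), (nat_lit 0x857ba7f32c6c7e84aadeb93782c97411e6e30c20), (nat_lit 0x857bc6eb2c7c7c84cb1fd92f62a96e10e7431c20), (nat_lit 0x857bc7eb316b3c42cadfba3784aa7410d6e31c20),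 (nat_lit 0x9298db3e3bc5e0717bb5d0f9937d24a4ca872c20), (nat_lit 0x9298dc3e37b6e0337b35e1f5d17ca8a4d2472c20), (nat_lit 0x9298fb3637c6ea337fb0d1f99178a4a2d2874c20), (nat_lit 0x9298fc363bb5ea717f30e0f5d37928a2ca474c20), (nat_lit 0x929acbc5f8dda061fb95c8bba3fd059d0895b820), (nat_lit 0x929acdc5f6be2023fb55e9b3c1fc899d1055b820), (nat_lit 0x929b1bb1f6de2a23ff90c9bba1f8859b9095d020), (nat_lit 0x929b1db1f8bdaa61ff50e8b3c3f9099b8855d020), (nat_lit 0x929ecbc5b6de2a61ff50e8b3c3f8855d1099b820), (nat_lit 0x929ecdc5b8bdaa23ff90c9bba1f9095d0859b820), (nat_lit 0x929f1bb1b8dda023fb55e9b3c1fd055b8899d020), (nat_lit 0x929f1db1b6be2061fb95c8bba3fc895b9059d020), (nat_lit 0x92a2db3d97c6ea717f30e0f5d378a474d28a2c20), (nat_lit 0x92a2dc3d9bb5ea337fb0d1f991792874ca4a2c20), (nat_lit 0x92a2fb359bc5e0337b35e1f5d17d2472ca8a4c20), (nat_lit 0x92a2fc3597b6e0717bb5d0f9937ca872d24a4c20), (nat_lit 0x92ad766f0f8b7e61d73ee0b5d3c26e4257421420),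 (nat_lit 0x92ad78ef0d63fe23d7bed1b991c1744266e21420), (nat_lit 0x92adb65f0d8bfc23c33fe1b5d1d56e4167422420), (nat_lit 0x92adb8df0f637c61c3bfd0b993d6744156e22420), (nat_lit 0x92af66e3717b3e71575ee8f3c3428b4a1d329020), (nat_lit 0x92af67e36c6c7e33579ec9fba141d34a28b29020), (nat_lit 0x92af86db6c7c7c33435fe9f3c155cb492932a020), (nat_lit 0x92af87db716b3c71439fc8fba35693491cb2a020), (nat_lit 0x92b1766ecd8bfc61c3bfd0b993d56e2267441420), (nat_lit 0x92b178eecf637c23c33fe1b5d1d6742256e41420), (nat_lit 0x92b1b65ecf8b7e23d7bed1b991c26e2157442420), (nat_lit 0x92b1b8decd63fe61d73ee0b5d3c1742166e42420), (nat_lit 0x92b766e2ec7c7c71439fc8fba355cb2a29349020), (nat_lit 0x92b767e2f16b3c33435fe9f3c156932a1cb49020), (nat_lit 0x92b786daf17b3e33579ec9fba1428b291d34a020), (nat_lit 0x92b787daec6c7e71575ee8f3c341d32928b4a020), (nat_lit 0x9ad99b762dc3cdfa22e2d7b9b71247aa54381420), (nat_lit 0x9ad99c762fb34de72362e7f57a1143aa64781420),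 (nat_lit 0x9ad9db662fc345e712e6d7f9ba2147a964382420), (nat_lit 0x9ad9dc662db3c5fa1366e7b5772243a954782420), (nat_lit 0x9adb6ce1ecec51fa1b84dfafa70a0550ea991c20), (nat_lit 0x9adb6ee1f1cb11e71b44bff7ca0aa950e0591c20), (nat_lit 0x9adb8cd9f1eb09e70b88dfefaa1aa551e0990c20), (nat_lit 0x9adb8ed9eccc49fa0b48bfb7c71a0951ea590c20), (nat_lit 0x9adf6ce1b1eb09fa0b48bfb7c71aa590e0951c20), (nat_lit 0x9adf6ee1accc49e70b88dfefaa1a0990ea551c20), (nat_lit 0x9adf8cd9acec51e71b44bff7ca0a0591ea950c20), (nat_lit 0x9adf8ed9b1cb11fa1b84dfafa70aa991e0550c20), (nat_lit 0x9ae39b758fc345fa1366e7b577214782643a9420), (nat_lit 0x9ae39c758db3c5e712e6d7f9ba224382547a9420), (nat_lit 0x9ae3db658dc3cde72362e7f57a124781543aa420), (nat_lit 0x9ae3dc658fb34dfa22e2d7b9b7114381647aa420), (nat_lit 0x9aecd63f198f514f9b64e3b57f08b01a9353c820), (nat_lit 0x9aecd8bf1d6650ef1ae4d539bf89351a8b03c820), (nat_lit 0x9aecf6371d8e48ef0b68e5357f99301c8b53a820),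 (nat_lit 0x9aecf8b71967494f8ae8d3b9bf18b51c9303a820), (nat_lit 0x9af0d63edd8e494f8ae8d3b9bf19303a8b51c820), (nat_lit 0x9af0d8bed96748ef0b68e5357f98b53a9301c820), (nat_lit 0x9af0f636d98f50ef1ae4d539bf88b03c9351a820), (nat_lit 0x9af0f8b6dd66514f9b64e3b57f09353c8b01a820), (nat_lit 0x9af2c6c7b67e0d4fa342bbb7cf10f24d46a2c020), (nat_lit 0x9af2c7c7b86d8cef2382dd2faf906a4d4f22c020), (nat_lit 0x9af316b3b87d84ef1346bd37cfa0724c0ea2d420), (nat_lit 0x9af317b3b66e054f9386dbafaf20ea4c0722d420), (nat_lit 0x9afac6c7387d854f9386dbafaf20722d4ea4c020), (nat_lit 0x9afac7c7366e04ef1346bd37cfa0ea2d4724c020), (nat_lit 0x9afb16b3367e0cef2382dd2faf90f22c06a4d420), (nat_lit 0x9afb17b3386d8d4fa342bbb7cf106a2c0f24d420), (nat_lit 0xa3997d6e2de3d3f99fa5c7ad958e0450aa891820), (nat_lit 0xa3997e6e2fd353e59f25b7f1d98ea850a0491820), (nat_lit 0xa399bd5e2fe34be58fa9c7ed999ea451a0890820), (nat_lit 0xa399be5e2dd3cbf98f29b7b1d59e0851aa490820),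 (nat_lit 0xa39babf1ecdc4ff9a6c3cfbb859646aa14281020), (nat_lit 0xa39badf1f1bb0fe5a703eff3699542aa24681020), (nat_lit 0xa39bcbe9f1db07e596c7cffb89a546a924282020), (nat_lit 0xa39bcde9ecbc47f99707efb365a642a914682020), (nat_lit 0xa39fabf1b1db07f99707efb365a54682242a9020), (nat_lit 0xa39fadf1acbc47e596c7cffb89a64282146a9020), (nat_lit 0xa39fcbe9acdc4fe5a703eff369964681142aa020), (nat_lit 0xa39fcde9b1bb0ff9a6c3cfbb85954281246aa020), (nat_lit 0xa3a37d6d8fe34bf98f29b7b1d59ea490a0851820), (nat_lit 0xa3a37e6d8dd3cbe58fa9c7ed999e0890aa451820), (nat_lit 0xa3a3bd5d8de3d3e59f25b7f1d98e0491aa850820), (nat_lit 0xa3a3be5d8fd353f99fa5c7ad958ea891a0450820), (nat_lit 0xa3aec6c77a7f133f9f05eaf36f0c901291534820), (nat_lit 0xa3aec7c77c6e92bf1ec5ccfb8f8d151289034820), (nat_lit 0xa3af16b37c7e8abf0f09ecf36f9d101489532820), (nat_lit 0xa3af17b37a6f0b3f8ec9cafb8f1c951491032820), (nat_lit 0xa3b4d63f978ecf3fa723b2f1df14d24544a24020),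 (nat_lit 0xa3b4d8bf9b65cebf27a3c4ed9f944a454d224020), (nat_lit 0xa3b4f6379b8dc6bf1727b4f1dfa452440ca25420), (nat_lit 0xa3b4f8b79766c73f97a7c2ed9f24ca4405225420), (nat_lit 0xa3b6c6c6fc7e8b3f8ec9cafb8f1d103289514820), (nat_lit 0xa3b6c7c6fa6f0abf0f09ecf36f9c953291014820), (nat_lit 0xa3b716b2fa7f12bf1ec5ccfb8f8c903491512820), (nat_lit 0xa3b717b2fc6e933f9f05eaf36f0d153489012820), (nat_lit 0xa3b8d63f5b8dc73f97a7c2ed9f2452254ca44020), (nat_lit 0xa3b8d8bf5766c6bf1727b4f1dfa4ca2545244020), (nat_lit 0xa3b8f637578ecebf27a3c4ed9f94d22404a45420), (nat_lit 0xa3b8f8b75b65cf3fa723b2f1df144a240d245420), (nat_lit 0xac18dd3e3de65482faf2c12db4fc475b8c39d020), (nat_lit 0xac18de3e39d75444fb72b23172fcc35b8479d020), (nat_lit 0xac18fd3639e76444feeac22db2f8c75d0439b820), (nat_lit 0xac18fe363dd66482ff6ab13174f8435d0c79b820), (nat_lit 0xac1accc5fcee94927ad2d96f847c6672ce2a4c20), (nat_lit 0xac1acec5facf14547b12ba77627ce272c66a4c20),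 (nat_lit 0xac1b1cb1faef24547ecada6f8278e674c62a2c20), (nat_lit 0xac1b1eb1fccea4927f0ab97764786274ce6a2c20), (nat_lit 0xac1eccc5baef24927f0ab9776478e6a2c6274c20), (nat_lit 0xac1ecec5bccea4547ecada6f827862a2ce674c20), (nat_lit 0xac1f1cb1bcee94547b12ba77627c66a4ce272c20), (nat_lit 0xac1f1eb1bacf14927ad2d96f847ce2a4c6672c20), (nat_lit 0xac22dd3d99e76482ff6ab13174f8c79b8435d020), (nat_lit 0xac22de3d9dd66444feeac22db2f8439b8c75d020), (nat_lit 0xac22fd359de65444fb72b23172fc479d0c35b820), (nat_lit 0xac22fe3599d75482faf2c12db4fcc39d0475b820), (nat_lit 0xac33a6f3b17b3e82cb1eb93764a97410e6e31c20), (nat_lit 0xac33a7f3ac6c7e44cadeda2f82aa6e10d7431c20), (nat_lit 0xac33c6ebac7c7c44ab1fba3762ca7411d6e30c20), (nat_lit 0xac33c7ebb16b3c82aadfd92f84c96e11e7430c20), (nat_lit 0xac3596778f8b7e924b7eb1717429d318a8b39820), (nat_lit 0xac3598f78d63fe544afec26db22a8b189d339820), (nat_lit 0xac35d6678d8bfc542b7fb271724a93199cb38820),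 (nat_lit 0xac35d8e78f637c922affc16db449cb19a9338820), (nat_lit 0xac3996774d8bfc922affc16db44a93389cb19820), (nat_lit 0xac3998f74f637c542b7fb2717249cb38a9319820), (nat_lit 0xac39d6674f8b7e544afec26db229d339a8b18820), (nat_lit 0xac39d8e74d63fe924b7eb171742a8b399d318820), (nat_lit 0xac3ba6f32c7c7c82aadfd92f84ca7430d6e11c20), (nat_lit 0xac3ba7f3316b3c44ab1fba3762c96e30e7411c20), (nat_lit 0xac3bc6eb317b3e44cadeda2f82a97431e6e10c20), (nat_lit 0xac3bc7eb2c6c7e82cb1eb93764aa6e31d7410c20), (nat_lit 0xf7ed7d6f1de654e9d5f26522d5c0e2290664a020), (nat_lit 0xf7ed7e6f19d75545d5b28b98f9c066290e24a020), (nat_lit 0xf7edbd5f19e76545c1ea63a2d9d4622a0e649020), (nat_lit 0xf7edbe5f1dd664e9c1aa8d18f5d4e62a06249020), (nat_lit 0xf7ef6ce37cee94ba56326cdec740c32144742420), (nat_lit 0xf7ef6ee37acf153755927adb1a4047214c342420), (nat_lit 0xf7ef8cdb7aef2537422a6adeca5443224c741420), (nat_lit 0xf7ef8edb7ccea4ba418a7cdb1754c72244341420),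 (nat_lit 0xf7f17d6ed9e764e9c1aa8d18f5d462490e62a020), (nat_lit 0xf7f17e6eddd66545c1ea63a2d9d4e6490622a020), (nat_lit 0xf7f1bd5edde65545d5b28b98f9c0e24a06629020), (nat_lit 0xf7f1be5ed9d754e9d5f26522d5c0664a0e229020), (nat_lit 0xf7f3abf3b8dda0e9c9957d1b15a8a83992418820), (nat_lit 0xf7f3adf3b6be2145ca356b9ec9a924398a818820), (nat_lit 0xf7f3cbebb6de2b45a9907b9b19c928388a419820), (nat_lit 0xf7f3cdebb8bdaae9aa306d1ec5c8a43892819820), (nat_lit 0xf7f59b779bc5e0ba49b58cd8f7288931d0510c20), (nat_lit 0xf7f59c7797b6e13749f562e2da290531c8910c20), (nat_lit 0xf7f5db6797c6eb3729b08ad8fa490930c8511c20), (nat_lit 0xf7f5dc679bb5eaba29f064e2d7488530d0911c20), (nat_lit 0xf7f76ce2faef24ba418a7cdb175443414c722420), (nat_lit 0xf7f76ee2fccea537422a6adeca54c74144322420), (nat_lit 0xf7f78cdafcee953755927adb1a40c34244721420), (nat_lit 0xf7f78edafacf14ba56326cdec74047424c321420), (nat_lit 0xf7f99b7757c6eaba29f064e2d7490911c8530c20),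 (nat_lit 0xf7f99c775bb5eb3729b08ad8fa488511d0930c20), (nat_lit 0xf7f9db675bc5e13749f562e2da288910d0531c20), (nat_lit 0xf7f9dc6757b6e0ba49b58cd8f7290510c8931c20), (nat_lit 0xf7fbabf336de2ae9aa306d1ec5c928198a438820), (nat_lit 0xf7fbadf338bdab45a9907b9b19c8a41992838820), (nat_lit 0xf7fbcbeb38dda145ca356b9ec9a8a81892439820), (nat_lit 0xf7fbcdeb36be20e9c9957d1b15a924188a839820), (nat_lit 0xffad7d6f19e76549d5aa63a2f5c0e64a06229020), (nat_lit 0xffad7e6f1dd664e5d5ea8d18d9c0624a0e629020), (nat_lit 0xffadbd5f1de654e5c1b26522f9d466490e22a020), (nat_lit 0xffadbe5f19d75549c1f28b98d5d4e2490662a020), (nat_lit 0xffaf6ce37aef253a558a6adf1740c74244321420), (nat_lit 0xffaf6ee37ccea4b7562a7cdaca4043424c721420), (nat_lit 0xffaf8cdb7cee94b741926cdf1a5447414c322420), (nat_lit 0xffaf8edb7acf153a42327adac754c34144722420), (nat_lit 0xffb17d6edde65549c1f28b98d5d4662a0e249020), (nat_lit 0xffb17e6ed9d754e5c1b26522f9d4e22a06649020),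 (nat_lit 0xffb1bd5ed9e764e5d5ea8d18d9c0e6290624a020), (nat_lit 0xffb1be5eddd66549d5aa63a2f5c062290e64a020), (nat_lit 0xffb3abf3b6de2b49ca307b9ac5a8a41892839820), (nat_lit 0xffb3adf3b8bdaae5c9906d1f19a928188a439820), (nat_lit 0xffb3cbebb8dda0e5aa357d1ac9c924198a838820), (nat_lit 0xffb3cdebb6be2149a9956b9f15c8a81992438820), (nat_lit 0xffb59b7797c6eb3a49f08ad8d7288510d0931c20), (nat_lit 0xffb59c779bb5eab749b064e2fa290910c8531c20), (nat_lit 0xffb5db679bc5e0b729f58cd8da490511c8930c20), (nat_lit 0xffb5dc6797b6e13a29b562e2f7488911d0530c20), (nat_lit 0xffb76ce2fcee953a42327adac75447224c341420), (nat_lit 0xffb76ee2facf14b741926cdf1a54c32244741420), (nat_lit 0xffb78cdafaef24b7562a7cdaca40c72144342420), (nat_lit 0xffb78edafccea53a558a6adf174043214c742420), (nat_lit 0xffb99b775bc5e13a29b562e2f7490530c8911c20), (nat_lit 0xffb99c7757b6e0b729f58cd8da488930d0511c20), (nat_lit 0xffb9db6757c6eab749b064e2fa288531d0910c20),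 (nat_lit 0xffb9dc675bb5eb3a49f08ad8d7290931c8510c20), (nat_lit 0xffbbabf338dda149a9956b9f15c924388a819820), (nat_lit 0xffbbadf336be20e5aa357d1ac9c8a83892419820), (nat_lit 0xffbbcbeb36de2ae5c9906d1f19a8a43992818820), (nat_lit 0xffbbcdeb38bdab49ca307b9ac5a928398a418820)]
noncomputable def AP_lK_W : List (List ℕ) := [[(nat_lit 0), (nat_lit 1), (nat_lit 0), (nat_lit 2), (nat_lit 4)],
  [(nat_lit 4), (nat_lit 2), (nat_lit 0), (nat_lit 1), (nat_lit 0), (nat_lit 2), (nat_lit 0)],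
  [(nat_lit 0), (nat_lit 2), (nat_lit 0), (nat_lit 1), (nat_lit 0), (nat_lit 4)],
  [(nat_lit 0), (nat_lit 1), (nat_lit 2), (nat_lit 0), (nat_lit 4)],
  [(nat_lit 0), (nat_lit 1), (nat_lit 2), (nat_lit 4)],
  [(nat_lit 0), (nat_lit 2), (nat_lit 0), (nat_lit 1), (nat_lit 4)],
  [(nat_lit 4), (nat_lit 2), (nat_lit 0), (nat_lit 1), (nat_lit 0), (nat_lit 2)],
  [(nat_lit 0), (nat_lit 1), (nat_lit 0), (nat_lit 2), (nat_lit 0), (nat_lit 4)],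
  [(nat_lit 0), (nat_lit 1), (nat_lit 2), (nat_lit 0), (nat_lit 3), (nat_lit 4)],
  [(nat_lit 0), (nat_lit 2), (nat_lit 0), (nat_lit 1), (nat_lit 0), (nat_lit 3), (nat_lit 4)],
  [(nat_lit 3), (nat_lit 1), (nat_lit 0), (nat_lit 2), (nat_lit 0), (nat_lit 1), (nat_lit 0), (nat_lit 4)],
  [(nat_lit 0), (nat_lit 1), (nat_lit 0), (nat_lit 2), (nat_lit 3), (nat_lit 4)],
  [(nat_lit 1), (nat_lit 1), (nat_lit 0), (nat_lit 2), (nat_lit 0), (nat_lit 1), (nat_lit 1)],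
  [(nat_lit 0), (nat_lit 1), (nat_lit 0), (nat_lit 2), (nat_lit 0)],
  [(nat_lit 0), (nat_lit 1), (nat_lit 2)],
  [(nat_lit 0), (nat_lit 2), (nat_lit 0), (nat_lit 1)],
  [(nat_lit 0), (nat_lit 2), (nat_lit 0), (nat_lit 1), (nat_lit 0), (nat_lit 3)],
  [(nat_lit 0), (nat_lit 1), (nat_lit 2), (nat_lit 0), (nat_lit 3)],
  [(nat_lit 0), (nat_lit 1), (nat_lit 0), (nat_lit 2), (nat_lit 3)],
  [(nat_lit 3), (nat_lit 1), (nat_lit 0), (nat_lit 2), (nat_lit 0), (nat_lit 1), (nat_lit 0)],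
  [(nat_lit 0), (nat_lit 1), (nat_lit 0), (nat_lit 2), (nat_lit 0), (nat_lit 3), (nat_lit 4)],
  [(nat_lit 3), (nat_lit 1), (nat_lit 0), (nat_lit 2), (nat_lit 0), (nat_lit 1), (nat_lit 4)],
  [(nat_lit 0), (nat_lit 2), (nat_lit 0), (nat_lit 1), (nat_lit 3), (nat_lit 4)],
  [(nat_lit 0), (nat_lit 1), (nat_lit 2), (nat_lit 3), (nat_lit 4)],
  [(nat_lit 3), (nat_lit 1), (nat_lit 0), (nat_lit 2), (nat_lit 0), (nat_lit 1)],
  [(nat_lit 0), (nat_lit 1), (nat_lit 0), (nat_lit 2), (nat_lit 0), (nat_lit 3)],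
  [(nat_lit 0), (nat_lit 1), (nat_lit 2), (nat_lit 3)],
  [(nat_lit 0), (nat_lit 2), (nat_lit 0), (nat_lit 1), (nat_lit 3)],
  [(nat_lit 0), (nat_lit 2), (nat_lit 0), (nat_lit 1), (nat_lit 0)],
  [(nat_lit 0), (nat_lit 1), (nat_lit 2), (nat_lit 0)],
  [(nat_lit 0), (nat_lit 1), (nat_lit 0), (nat_lit 2)],
  [(nat_lit 1), (nat_lit 1), (nat_lit 0), (nat_lit 1), (nat_lit 2), (nat_lit 0), (nat_lit 1)],
  [(nat_lit 0), (nat_lit 1), (nat_lit 0), (nat_lit 2), (nat_lit 2)],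
  [(nat_lit 0), (nat_lit 2), (nat_lit 0), (nat_lit 1), (nat_lit 0), (nat_lit 2), (nat_lit 0)],
  [(nat_lit 0), (nat_lit 2), (nat_lit 0), (nat_lit 1), (nat_lit 0), (nat_lit 2)],
  [(nat_lit 0), (nat_lit 1), (nat_lit 2), (nat_lit 0), (nat_lit 2)],
  [(nat_lit 0), (nat_lit 1), (nat_lit 2), (nat_lit 2)],
  [(nat_lit 2), (nat_lit 2), (nat_lit 0), (nat_lit 1)],
  [(nat_lit 2), (nat_lit 2), (nat_lit 0), (nat_lit 1), (nat_lit 0)],
  [(nat_lit 0), (nat_lit 1), (nat_lit 2), (nat_lit 2), (nat_lit 0)],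
  [(nat_lit 0), (nat_lit 1), (nat_lit 2), (nat_lit 0), (nat_lit 2), (nat_lit 3)],
  [(nat_lit 0), (nat_lit 2), (nat_lit 0), (nat_lit 1), (nat_lit 0), (nat_lit 2), (nat_lit 3)],
  [(nat_lit 0), (nat_lit 2), (nat_lit 0), (nat_lit 1), (nat_lit 0), (nat_lit 2), (nat_lit 0), (nat_lit 3)],
  [(nat_lit 0), (nat_lit 1), (nat_lit 0), (nat_lit 2), (nat_lit 2), (nat_lit 3)],
  [(nat_lit 0), (nat_lit 1), (nat_lit 2), (nat_lit 2), (nat_lit 0), (nat_lit 3)],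
  [(nat_lit 2), (nat_lit 2), (nat_lit 0), (nat_lit 1), (nat_lit 0), (nat_lit 3)],
  [(nat_lit 2), (nat_lit 2), (nat_lit 0), (nat_lit 1), (nat_lit 3)],
  [(nat_lit 0), (nat_lit 1), (nat_lit 2), (nat_lit 2), (nat_lit 3)],
  [(nat_lit 0), (nat_lit 2), (nat_lit 0), (nat_lit 1), (nat_lit 0), (nat_lit 3), (nat_lit 4), (nat_lit 2)],
  [(nat_lit 0), (nat_lit 1), (nat_lit 2), (nat_lit 0), (nat_lit 3), (nat_lit 4), (nat_lit 2)],
  [(nat_lit 0), (nat_lit 1), (nat_lit 0), (nat_lit 3), (nat_lit 4)],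
  [(nat_lit 0), (nat_lit 2), (nat_lit 0), (nat_lit 1), (nat_lit 3), (nat_lit 4), (nat_lit 2), (nat_lit 0)],
  [(nat_lit 2), (nat_lit 2), (nat_lit 0), (nat_lit 1), (nat_lit 0), (nat_lit 2), (nat_lit 4)],
  [(nat_lit 0), (nat_lit 1), (nat_lit 0), (nat_lit 2), (nat_lit 0), (nat_lit 4), (nat_lit 2)],
  [(nat_lit 0), (nat_lit 1), (nat_lit 4)],
  [(nat_lit 0), (nat_lit 2), (nat_lit 0), (nat_lit 1), (nat_lit 4), (nat_lit 2)],
  [(nat_lit 0), (nat_lit 2), (nat_lit 0), (nat_lit 1), (nat_lit 0), (nat_lit 4), (nat_lit 2)],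
  [(nat_lit 0), (nat_lit 1), (nat_lit 2), (nat_lit 0), (nat_lit 4), (nat_lit 2)],
  [(nat_lit 0), (nat_lit 1), (nat_lit 0), (nat_lit 4)],
  [(nat_lit 0), (nat_lit 2), (nat_lit 0), (nat_lit 1), (nat_lit 4), (nat_lit 2), (nat_lit 0)],
  [(nat_lit 2), (nat_lit 2), (nat_lit 0), (nat_lit 1), (nat_lit 0), (nat_lit 2), (nat_lit 3), (nat_lit 4)],
  [(nat_lit 0), (nat_lit 1), (nat_lit 0), (nat_lit 2), (nat_lit 0), (nat_lit 3), (nat_lit 4), (nat_lit 2)],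
  [(nat_lit 0), (nat_lit 1), (nat_lit 3), (nat_lit 4)],
  [(nat_lit 0), (nat_lit 2), (nat_lit 0), (nat_lit 1), (nat_lit 3), (nat_lit 4), (nat_lit 2)],
  [(nat_lit 0), (nat_lit 1), (nat_lit 0), (nat_lit 2), (nat_lit 0), (nat_lit 3), (nat_lit 1), (nat_lit 4)],
  [(nat_lit 1), (nat_lit 1), (nat_lit 0), (nat_lit 2), (nat_lit 0), (nat_lit 1), (nat_lit 3), (nat_lit 4)],
  [(nat_lit 0), (nat_lit 2), (nat_lit 0), (nat_lit 3), (nat_lit 4)],
  [(nat_lit 0), (nat_lit 2), (nat_lit 3), (nat_lit 4)],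
  [(nat_lit 0), (nat_lit 1), (nat_lit 2), (nat_lit 0), (nat_lit 3), (nat_lit 1), (nat_lit 4)],
  [(nat_lit 0), (nat_lit 1), (nat_lit 1), (nat_lit 2), (nat_lit 0), (nat_lit 1), (nat_lit 3), (nat_lit 4)],
  [(nat_lit 0), (nat_lit 1), (nat_lit 0), (nat_lit 2), (nat_lit 3), (nat_lit 1), (nat_lit 0), (nat_lit 4)],
  [(nat_lit 0), (nat_lit 1), (nat_lit 0), (nat_lit 2), (nat_lit 3), (nat_lit 1), (nat_lit 4)],
  [(nat_lit 0), (nat_lit 1), (nat_lit 0), (nat_lit 2), (nat_lit 3), (nat_lit 1), (nat_lit 0)],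
  [(nat_lit 0), (nat_lit 1), (nat_lit 0), (nat_lit 2), (nat_lit 3), (nat_lit 1)],
  [(nat_lit 0), (nat_lit 1), (nat_lit 2), (nat_lit 0), (nat_lit 3), (nat_lit 1)],
  [(nat_lit 0), (nat_lit 1), (nat_lit 1), (nat_lit 2), (nat_lit 0), (nat_lit 1), (nat_lit 3)],
  [(nat_lit 0), (nat_lit 2), (nat_lit 0), (nat_lit 1), (nat_lit 1)],
  [(nat_lit 0), (nat_lit 1), (nat_lit 1), (nat_lit 2)],
  [(nat_lit 0), (nat_lit 1), (nat_lit 0), (nat_lit 2), (nat_lit 0), (nat_lit 1)],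
  [(nat_lit 1), (nat_lit 1), (nat_lit 0), (nat_lit 2), (nat_lit 0)],
  [(nat_lit 0), (nat_lit 2), (nat_lit 0), (nat_lit 3)],
  [(nat_lit 0), (nat_lit 2), (nat_lit 3)],
  [(nat_lit 0), (nat_lit 1), (nat_lit 0), (nat_lit 2), (nat_lit 0), (nat_lit 3), (nat_lit 1)],
  [(nat_lit 1), (nat_lit 1), (nat_lit 0), (nat_lit 2), (nat_lit 0), (nat_lit 1), (nat_lit 3)],
  [(nat_lit 0), (nat_lit 1), (nat_lit 1), (nat_lit 2), (nat_lit 4)],
  [(nat_lit 0), (nat_lit 2), (nat_lit 0), (nat_lit 1), (nat_lit 1), (nat_lit 4)],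
  [(nat_lit 1), (nat_lit 1), (nat_lit 0), (nat_lit 2), (nat_lit 0), (nat_lit 4)],
  [(nat_lit 0), (nat_lit 1), (nat_lit 0), (nat_lit 2), (nat_lit 0), (nat_lit 1), (nat_lit 4)],
  [(nat_lit 0), (nat_lit 1), (nat_lit 0), (nat_lit 2), (nat_lit 0), (nat_lit 1), (nat_lit 0)],
  [(nat_lit 1), (nat_lit 1), (nat_lit 0), (nat_lit 2)],
  [(nat_lit 0), (nat_lit 1), (nat_lit 2), (nat_lit 0), (nat_lit 1)],
  [(nat_lit 0), (nat_lit 1), (nat_lit 1), (nat_lit 2), (nat_lit 0)],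
  [(nat_lit 1), (nat_lit 1), (nat_lit 0), (nat_lit 2), (nat_lit 4)],
  [(nat_lit 0), (nat_lit 1), (nat_lit 0), (nat_lit 2), (nat_lit 0), (nat_lit 1), (nat_lit 0), (nat_lit 4)],
  [(nat_lit 0), (nat_lit 1), (nat_lit 1), (nat_lit 2), (nat_lit 0), (nat_lit 4)],
  [(nat_lit 0), (nat_lit 1), (nat_lit 2), (nat_lit 0), (nat_lit 1), (nat_lit 4)],
  [(nat_lit 0), (nat_lit 1), (nat_lit 2), (nat_lit 2), (nat_lit 0), (nat_lit 3), (nat_lit 1)],
  [(nat_lit 1), (nat_lit 1), (nat_lit 2), (nat_lit 2), (nat_lit 0), (nat_lit 1), (nat_lit 3)],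
  [(nat_lit 2), (nat_lit 2), (nat_lit 0), (nat_lit 3)],
  [(nat_lit 0), (nat_lit 2), (nat_lit 2), (nat_lit 3)],
  [(nat_lit 0), (nat_lit 1), (nat_lit 2), (nat_lit 0), (nat_lit 2), (nat_lit 3), (nat_lit 1)],
  [(nat_lit 1), (nat_lit 2), (nat_lit 0), (nat_lit 2), (nat_lit 3), (nat_lit 1), (nat_lit 0)],
  [(nat_lit 1), (nat_lit 0), (nat_lit 2), (nat_lit 2), (nat_lit 3), (nat_lit 1), (nat_lit 0)],
  [(nat_lit 0), (nat_lit 1), (nat_lit 0), (nat_lit 2), (nat_lit 2), (nat_lit 3), (nat_lit 1)],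
  [(nat_lit 0), (nat_lit 2), (nat_lit 0), (nat_lit 1), (nat_lit 1), (nat_lit 4), (nat_lit 2)],
  [(nat_lit 0), (nat_lit 1), (nat_lit 1), (nat_lit 4)],
  [(nat_lit 1), (nat_lit 2), (nat_lit 0), (nat_lit 1), (nat_lit 4), (nat_lit 2), (nat_lit 0)],
  [(nat_lit 1), (nat_lit 1), (nat_lit 0), (nat_lit 2), (nat_lit 0), (nat_lit 4), (nat_lit 2)],
  [(nat_lit 0), (nat_lit 1), (nat_lit 0), (nat_lit 2), (nat_lit 3), (nat_lit 1), (nat_lit 0), (nat_lit 4), (nat_lit 2)],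
  [(nat_lit 0), (nat_lit 1), (nat_lit 0), (nat_lit 3), (nat_lit 1), (nat_lit 4)],
  [(nat_lit 0), (nat_lit 1), (nat_lit 2), (nat_lit 0), (nat_lit 3), (nat_lit 1), (nat_lit 4), (nat_lit 2)],
  [(nat_lit 0), (nat_lit 1), (nat_lit 1), (nat_lit 2), (nat_lit 0), (nat_lit 1), (nat_lit 3), (nat_lit 4), (nat_lit 2)],
  [(nat_lit 2), (nat_lit 0), (nat_lit 1), (nat_lit 1), (nat_lit 4), (nat_lit 2), (nat_lit 0)],
  [(nat_lit 1), (nat_lit 1), (nat_lit 0), (nat_lit 4)],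
  [(nat_lit 0), (nat_lit 1), (nat_lit 2), (nat_lit 0), (nat_lit 1), (nat_lit 4), (nat_lit 2)],
  [(nat_lit 0), (nat_lit 1), (nat_lit 1), (nat_lit 2), (nat_lit 0), (nat_lit 4), (nat_lit 2)],
  [(nat_lit 0), (nat_lit 1), (nat_lit 1), (nat_lit 2), (nat_lit 2)],
  [(nat_lit 2), (nat_lit 2), (nat_lit 0), (nat_lit 1), (nat_lit 1)],
  [(nat_lit 1), (nat_lit 1), (nat_lit 2), (nat_lit 2), (nat_lit 0)],
  [(nat_lit 0), (nat_lit 1), (nat_lit 2), (nat_lit 2), (nat_lit 0), (nat_lit 1)],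
  [(nat_lit 0), (nat_lit 2), (nat_lit 0), (nat_lit 3), (nat_lit 4), (nat_lit 2)],
  [(nat_lit 0), (nat_lit 3), (nat_lit 4)],
  [(nat_lit 0), (nat_lit 1), (nat_lit 0), (nat_lit 2), (nat_lit 0), (nat_lit 3), (nat_lit 1), (nat_lit 4), (nat_lit 2)],
  [(nat_lit 1), (nat_lit 1), (nat_lit 0), (nat_lit 2), (nat_lit 0), (nat_lit 1), (nat_lit 3), (nat_lit 4), (nat_lit 2)],
  [(nat_lit 1), (nat_lit 1), (nat_lit 0), (nat_lit 2), (nat_lit 2)],
  [(nat_lit 1), (nat_lit 2), (nat_lit 0), (nat_lit 1), (nat_lit 2), (nat_lit 0)],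
  [(nat_lit 0), (nat_lit 1), (nat_lit 1), (nat_lit 2), (nat_lit 0), (nat_lit 2)],
  [(nat_lit 0), (nat_lit 1), (nat_lit 2), (nat_lit 0), (nat_lit 1), (nat_lit 2)],
  [(nat_lit 1), (nat_lit 0), (nat_lit 2), (nat_lit 0), (nat_lit 4)],
  [(nat_lit 0), (nat_lit 4), (nat_lit 2), (nat_lit 0), (nat_lit 1), (nat_lit 0), (nat_lit 2)],
  [(nat_lit 2), (nat_lit 0), (nat_lit 1), (nat_lit 4)],
  [(nat_lit 1), (nat_lit 2), (nat_lit 4)],
  [(nat_lit 1), (nat_lit 2), (nat_lit 0), (nat_lit 4)],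
  [(nat_lit 2), (nat_lit 0), (nat_lit 1), (nat_lit 0), (nat_lit 4)],
  [(nat_lit 0), (nat_lit 4), (nat_lit 2), (nat_lit 0), (nat_lit 1), (nat_lit 0), (nat_lit 2), (nat_lit 0)],
  [(nat_lit 1), (nat_lit 0), (nat_lit 2), (nat_lit 4)],
  [(nat_lit 1), (nat_lit 2), (nat_lit 3), (nat_lit 4)],
  [(nat_lit 2), (nat_lit 0), (nat_lit 1), (nat_lit 3), (nat_lit 4)],
  [(nat_lit 0), (nat_lit 3), (nat_lit 1), (nat_lit 0), (nat_lit 2), (nat_lit 0), (nat_lit 1), (nat_lit 4)],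
  [(nat_lit 1), (nat_lit 0), (nat_lit 2), (nat_lit 0), (nat_lit 3), (nat_lit 4)],
  [(nat_lit 1), (nat_lit 0), (nat_lit 1), (nat_lit 1), (nat_lit 2), (nat_lit 0), (nat_lit 1)],
  [(nat_lit 1), (nat_lit 0), (nat_lit 2)],
  [(nat_lit 1), (nat_lit 2), (nat_lit 0)],
  [(nat_lit 2), (nat_lit 0), (nat_lit 1), (nat_lit 0)],
  [(nat_lit 2), (nat_lit 0), (nat_lit 1), (nat_lit 3)],
  [(nat_lit 1), (nat_lit 2), (nat_lit 3)],
  [(nat_lit 1), (nat_lit 0), (nat_lit 2), (nat_lit 0), (nat_lit 3)],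
  [(nat_lit 0), (nat_lit 3), (nat_lit 1), (nat_lit 0), (nat_lit 2), (nat_lit 0), (nat_lit 1)],
  [(nat_lit 1), (nat_lit 0), (nat_lit 2), (nat_lit 3), (nat_lit 4)],
  [(nat_lit 0), (nat_lit 3), (nat_lit 1), (nat_lit 0), (nat_lit 2), (nat_lit 0), (nat_lit 1), (nat_lit 0), (nat_lit 4)],
  [(nat_lit 2), (nat_lit 0), (nat_lit 1), (nat_lit 0), (nat_lit 3), (nat_lit 4)],
  [(nat_lit 1), (nat_lit 2), (nat_lit 0), (nat_lit 3), (nat_lit 4)],
  [(nat_lit 0), (nat_lit 3), (nat_lit 1), (nat_lit 0), (nat_lit 2), (nat_lit 0), (nat_lit 1), (nat_lit 0)],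
  [(nat_lit 1), (nat_lit 0), (nat_lit 2), (nat_lit 3)],
  [(nat_lit 1), (nat_lit 2), (nat_lit 0), (nat_lit 3)],
  [(nat_lit 2), (nat_lit 0), (nat_lit 1), (nat_lit 0), (nat_lit 3)],
  [(nat_lit 2), (nat_lit 0), (nat_lit 1)],
  [(nat_lit 1), (nat_lit 2)],
  [(nat_lit 1), (nat_lit 0), (nat_lit 2), (nat_lit 0)],
  [(nat_lit 1), (nat_lit 0), (nat_lit 1), (nat_lit 2), (nat_lit 0), (nat_lit 1), (nat_lit 1)],
  [(nat_lit 1), (nat_lit 2), (nat_lit 2), (nat_lit 0)],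
  [(nat_lit 2), (nat_lit 0), (nat_lit 1), (nat_lit 2), (nat_lit 0)],
  [(nat_lit 2), (nat_lit 0), (nat_lit 1), (nat_lit 2)],
  [(nat_lit 1), (nat_lit 2), (nat_lit 2)],
  [(nat_lit 1), (nat_lit 2), (nat_lit 0), (nat_lit 2)],
  [(nat_lit 2), (nat_lit 0), (nat_lit 1), (nat_lit 0), (nat_lit 2)],
  [(nat_lit 2), (nat_lit 0), (nat_lit 1), (nat_lit 0), (nat_lit 2), (nat_lit 0)],
  [(nat_lit 1), (nat_lit 0), (nat_lit 2), (nat_lit 2)],
  [(nat_lit 1), (nat_lit 2), (nat_lit 2), (nat_lit 3)],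
  [(nat_lit 2), (nat_lit 0), (nat_lit 1), (nat_lit 2), (nat_lit 3)],
  [(nat_lit 2), (nat_lit 0), (nat_lit 1), (nat_lit 2), (nat_lit 0), (nat_lit 3)],
  [(nat_lit 1), (nat_lit 2), (nat_lit 2), (nat_lit 0), (nat_lit 3)],
  [(nat_lit 1), (nat_lit 0), (nat_lit 2), (nat_lit 2), (nat_lit 3)],
  [(nat_lit 2), (nat_lit 0), (nat_lit 1), (nat_lit 0), (nat_lit 2), (nat_lit 0), (nat_lit 3)],
  [(nat_lit 2), (nat_lit 0), (nat_lit 1), (nat_lit 0), (nat_lit 2), (nat_lit 3)],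
  [(nat_lit 1), (nat_lit 2), (nat_lit 0), (nat_lit 2), (nat_lit 3)],
  [(nat_lit 2), (nat_lit 0), (nat_lit 1), (nat_lit 3), (nat_lit 4), (nat_lit 2)],
  [(nat_lit 1), (nat_lit 3), (nat_lit 4)],
  [(nat_lit 1), (nat_lit 0), (nat_lit 2), (nat_lit 0), (nat_lit 3), (nat_lit 4), (nat_lit 2)],
  [(nat_lit 2), (nat_lit 0), (nat_lit 1), (nat_lit 0), (nat_lit 3), (nat_lit 4), (nat_lit 2), (nat_lit 0)],
  [(nat_lit 2), (nat_lit 0), (nat_lit 1), (nat_lit 4), (nat_lit 2), (nat_lit 0)],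
  [(nat_lit 1), (nat_lit 0), (nat_lit 4)],
  [(nat_lit 1), (nat_lit 2), (nat_lit 0), (nat_lit 4), (nat_lit 2)],
  [(nat_lit 2), (nat_lit 0), (nat_lit 1), (nat_lit 0), (nat_lit 4), (nat_lit 2)],
  [(nat_lit 2), (nat_lit 0), (nat_lit 1), (nat_lit 4), (nat_lit 2)],
  [(nat_lit 1), (nat_lit 4)],
  [(nat_lit 1), (nat_lit 0), (nat_lit 2), (nat_lit 0), (nat_lit 4), (nat_lit 2)],
  [(nat_lit 2), (nat_lit 0), (nat_lit 1), (nat_lit 0), (nat_lit 4), (nat_lit 2), (nat_lit 0)],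
  [(nat_lit 2), (nat_lit 0), (nat_lit 1), (nat_lit 3), (nat_lit 4), (nat_lit 2), (nat_lit 0)],
  [(nat_lit 1), (nat_lit 0), (nat_lit 3), (nat_lit 4)],
  [(nat_lit 1), (nat_lit 2), (nat_lit 0), (nat_lit 3), (nat_lit 4), (nat_lit 2)],
  [(nat_lit 2), (nat_lit 0), (nat_lit 1), (nat_lit 0), (nat_lit 3), (nat_lit 4), (nat_lit 2)],
  [(nat_lit 1), (nat_lit 0), (nat_lit 2), (nat_lit 3), (nat_lit 1), (nat_lit 4)],
  [(nat_lit 1), (nat_lit 0), (nat_lit 2), (nat_lit 3), (nat_lit 1), (nat_lit 0), (nat_lit 4)],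
  [(nat_lit 1), (nat_lit 1), (nat_lit 2), (nat_lit 0), (nat_lit 1), (nat_lit 3), (nat_lit 4)],
  [(nat_lit 1), (nat_lit 2), (nat_lit 0), (nat_lit 3), (nat_lit 1), (nat_lit 4)],
  [(nat_lit 2), (nat_lit 3), (nat_lit 4)],
  [(nat_lit 2), (nat_lit 0), (nat_lit 3), (nat_lit 4)],
  [(nat_lit 1), (nat_lit 0), (nat_lit 1), (nat_lit 2), (nat_lit 0), (nat_lit 1), (nat_lit 3), (nat_lit 4)],
  [(nat_lit 1), (nat_lit 0), (nat_lit 2), (nat_lit 0), (nat_lit 3), (nat_lit 1), (nat_lit 4)],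
  [(nat_lit 1), (nat_lit 0), (nat_lit 1), (nat_lit 2), (nat_lit 0), (nat_lit 1), (nat_lit 3)],
  [(nat_lit 1), (nat_lit 0), (nat_lit 2), (nat_lit 0), (nat_lit 3), (nat_lit 1)],
  [(nat_lit 2), (nat_lit 3)],
  [(nat_lit 2), (nat_lit 0), (nat_lit 3)],
  [(nat_lit 1), (nat_lit 1), (nat_lit 2), (nat_lit 0)],
  [(nat_lit 1), (nat_lit 2), (nat_lit 0), (nat_lit 1)],
  [(nat_lit 1), (nat_lit 0), (nat_lit 1), (nat_lit 2)],
  [(nat_lit 1), (nat_lit 0), (nat_lit 2), (nat_lit 0), (nat_lit 1), (nat_lit 0)],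
  [(nat_lit 1), (nat_lit 1), (nat_lit 2), (nat_lit 0), (nat_lit 1), (nat_lit 3)],
  [(nat_lit 1), (nat_lit 2), (nat_lit 0), (nat_lit 3), (nat_lit 1)],
  [(nat_lit 1), (nat_lit 0), (nat_lit 2), (nat_lit 3), (nat_lit 1)],
  [(nat_lit 1), (nat_lit 0), (nat_lit 2), (nat_lit 3), (nat_lit 1), (nat_lit 0)],
  [(nat_lit 1), (nat_lit 2), (nat_lit 0), (nat_lit 1), (nat_lit 4)],
  [(nat_lit 1), (nat_lit 1), (nat_lit 2), (nat_lit 0), (nat_lit 4)],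
  [(nat_lit 1), (nat_lit 0), (nat_lit 2), (nat_lit 0), (nat_lit 1), (nat_lit 0), (nat_lit 4)],
  [(nat_lit 1), (nat_lit 0), (nat_lit 1), (nat_lit 2), (nat_lit 4)],
  [(nat_lit 1), (nat_lit 0), (nat_lit 1), (nat_lit 2), (nat_lit 0)],
  [(nat_lit 1), (nat_lit 0), (nat_lit 2), (nat_lit 0), (nat_lit 1)],
  [(nat_lit 1), (nat_lit 1), (nat_lit 2)],
  [(nat_lit 2), (nat_lit 0), (nat_lit 1), (nat_lit 1)],
  [(nat_lit 1), (nat_lit 0), (nat_lit 2), (nat_lit 0), (nat_lit 1), (nat_lit 4)],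
  [(nat_lit 1), (nat_lit 0), (nat_lit 1), (nat_lit 2), (nat_lit 0), (nat_lit 4)],
  [(nat_lit 2), (nat_lit 0), (nat_lit 1), (nat_lit 1), (nat_lit 4)],
  [(nat_lit 1), (nat_lit 1), (nat_lit 2), (nat_lit 4)],
  [(nat_lit 1), (nat_lit 0), (nat_lit 2), (nat_lit 2), (nat_lit 3), (nat_lit 1)],
  [(nat_lit 1), (nat_lit 0), (nat_lit 2), (nat_lit 3), (nat_lit 1), (nat_lit 0), (nat_lit 2)],
  [(nat_lit 1), (nat_lit 1), (nat_lit 2), (nat_lit 0), (nat_lit 1), (nat_lit 2), (nat_lit 3)],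
  [(nat_lit 1), (nat_lit 2), (nat_lit 0), (nat_lit 2), (nat_lit 3), (nat_lit 1)],
  [(nat_lit 2), (nat_lit 2), (nat_lit 3)],
  [(nat_lit 2), (nat_lit 0), (nat_lit 2), (nat_lit 3)],
  [(nat_lit 2), (nat_lit 0), (nat_lit 1), (nat_lit 2), (nat_lit 0), (nat_lit 3), (nat_lit 1)],
  [(nat_lit 1), (nat_lit 2), (nat_lit 2), (nat_lit 0), (nat_lit 3), (nat_lit 1)],
  [(nat_lit 1), (nat_lit 1), (nat_lit 2), (nat_lit 0), (nat_lit 4), (nat_lit 2)],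
  [(nat_lit 1), (nat_lit 2), (nat_lit 0), (nat_lit 1), (nat_lit 4), (nat_lit 2)],
  [(nat_lit 1), (nat_lit 0), (nat_lit 1), (nat_lit 4)],
  [(nat_lit 2), (nat_lit 0), (nat_lit 1), (nat_lit 4), (nat_lit 2), (nat_lit 0), (nat_lit 1)],
  [(nat_lit 1), (nat_lit 0), (nat_lit 1), (nat_lit 2), (nat_lit 0), (nat_lit 1), (nat_lit 3), (nat_lit 4), (nat_lit 2)],
  [(nat_lit 1), (nat_lit 0), (nat_lit 2), (nat_lit 0), (nat_lit 3), (nat_lit 1), (nat_lit 4), (nat_lit 2)],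
  [(nat_lit 3), (nat_lit 4)],
  [(nat_lit 2), (nat_lit 0), (nat_lit 3), (nat_lit 4), (nat_lit 2)],
  [(nat_lit 1), (nat_lit 0), (nat_lit 1), (nat_lit 2), (nat_lit 0), (nat_lit 4), (nat_lit 2)],
  [(nat_lit 1), (nat_lit 0), (nat_lit 2), (nat_lit 0), (nat_lit 1), (nat_lit 4), (nat_lit 2)],
  [(nat_lit 1), (nat_lit 1), (nat_lit 4)],
  [(nat_lit 2), (nat_lit 0), (nat_lit 1), (nat_lit 1), (nat_lit 4), (nat_lit 2)],
  [(nat_lit 1), (nat_lit 2), (nat_lit 0), (nat_lit 1), (nat_lit 2)],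
  [(nat_lit 1), (nat_lit 1), (nat_lit 2), (nat_lit 0), (nat_lit 2)],
  [(nat_lit 0), (nat_lit 1), (nat_lit 2), (nat_lit 0), (nat_lit 1), (nat_lit 2), (nat_lit 0)],
  [(nat_lit 1), (nat_lit 0), (nat_lit 1), (nat_lit 2), (nat_lit 2)],
  [(nat_lit 1), (nat_lit 1), (nat_lit 2), (nat_lit 0), (nat_lit 1), (nat_lit 3), (nat_lit 4), (nat_lit 2)],
  [(nat_lit 1), (nat_lit 2), (nat_lit 0), (nat_lit 3), (nat_lit 1), (nat_lit 4), (nat_lit 2)],
  [(nat_lit 1), (nat_lit 0), (nat_lit 3), (nat_lit 1), (nat_lit 4)],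
  [(nat_lit 1), (nat_lit 0), (nat_lit 2), (nat_lit 3), (nat_lit 1), (nat_lit 0), (nat_lit 4), (nat_lit 2)],
  [(nat_lit 1), (nat_lit 2), (nat_lit 2), (nat_lit 0), (nat_lit 1)],
  [(nat_lit 0), (nat_lit 1), (nat_lit 1), (nat_lit 2), (nat_lit 2), (nat_lit 0)],
  [(nat_lit 2), (nat_lit 0), (nat_lit 1), (nat_lit 1), (nat_lit 2)],
  [(nat_lit 1), (nat_lit 1), (nat_lit 2), (nat_lit 2)],
  [(nat_lit 2), (nat_lit 0), (nat_lit 1), (nat_lit 0), (nat_lit 2), (nat_lit 2), (nat_lit 3)],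
  [(nat_lit 1), (nat_lit 2), (nat_lit 0), (nat_lit 2), (nat_lit 2), (nat_lit 3)],
  [(nat_lit 1), (nat_lit 0), (nat_lit 3)],
  [(nat_lit 2), (nat_lit 0), (nat_lit 1), (nat_lit 2), (nat_lit 2), (nat_lit 0), (nat_lit 3)],
  [(nat_lit 2), (nat_lit 0), (nat_lit 1), (nat_lit 0), (nat_lit 2), (nat_lit 3), (nat_lit 4)],
  [(nat_lit 1), (nat_lit 0), (nat_lit 3), (nat_lit 4), (nat_lit 2), (nat_lit 0)],
  [(nat_lit 1), (nat_lit 0), (nat_lit 3), (nat_lit 4), (nat_lit 2)],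
  [(nat_lit 2), (nat_lit 0), (nat_lit 1), (nat_lit 0), (nat_lit 2), (nat_lit 0), (nat_lit 3), (nat_lit 4)],
  [(nat_lit 0), (nat_lit 3), (nat_lit 1), (nat_lit 4), (nat_lit 2), (nat_lit 0), (nat_lit 1)],
  [(nat_lit 1), (nat_lit 3), (nat_lit 4), (nat_lit 2), (nat_lit 0)],
  [(nat_lit 1), (nat_lit 3), (nat_lit 4), (nat_lit 2)],
  [(nat_lit 0), (nat_lit 4), (nat_lit 2), (nat_lit 0), (nat_lit 1), (nat_lit 3)],
  [(nat_lit 2), (nat_lit 0), (nat_lit 1), (nat_lit 2), (nat_lit 0), (nat_lit 2), (nat_lit 3)],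
  [(nat_lit 1), (nat_lit 2), (nat_lit 2), (nat_lit 0), (nat_lit 2), (nat_lit 3)],
  [(nat_lit 1), (nat_lit 3)],
  [(nat_lit 2), (nat_lit 0), (nat_lit 1), (nat_lit 2), (nat_lit 2), (nat_lit 3)],
  [(nat_lit 2), (nat_lit 0), (nat_lit 1), (nat_lit 0), (nat_lit 2), (nat_lit 4)],
  [(nat_lit 1), (nat_lit 0), (nat_lit 4), (nat_lit 2), (nat_lit 0)],
  [(nat_lit 1), (nat_lit 0), (nat_lit 4), (nat_lit 2)],
  [(nat_lit 2), (nat_lit 0), (nat_lit 1), (nat_lit 0), (nat_lit 2), (nat_lit 0), (nat_lit 4)],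
  [(nat_lit 2), (nat_lit 0), (nat_lit 1), (nat_lit 0), (nat_lit 2), (nat_lit 2)],
  [(nat_lit 1), (nat_lit 2), (nat_lit 0), (nat_lit 2), (nat_lit 2)],
  [(nat_lit 1), (nat_lit 0)],
  [(nat_lit 2), (nat_lit 0), (nat_lit 1), (nat_lit 2), (nat_lit 2), (nat_lit 0)],
  [(nat_lit 0), (nat_lit 4), (nat_lit 2), (nat_lit 0), (nat_lit 1), (nat_lit 0)],
  [(nat_lit 1), (nat_lit 4), (nat_lit 2), (nat_lit 0)],
  [(nat_lit 1), (nat_lit 4), (nat_lit 2)],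
  [(nat_lit 0), (nat_lit 4), (nat_lit 2), (nat_lit 0), (nat_lit 1)],
  [(nat_lit 2), (nat_lit 0), (nat_lit 1), (nat_lit 2), (nat_lit 0), (nat_lit 2)],
  [(nat_lit 1), (nat_lit 2), (nat_lit 2), (nat_lit 0), (nat_lit 2)],
  [(nat_lit 1)],
  [(nat_lit 2), (nat_lit 0), (nat_lit 1), (nat_lit 2), (nat_lit 2)],
  [(nat_lit 0), (nat_lit 1), (nat_lit 0), (nat_lit 2), (nat_lit 0), (nat_lit 1), (nat_lit 3)],
  [(nat_lit 3), (nat_lit 1), (nat_lit 0), (nat_lit 2), (nat_lit 0)],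
  [(nat_lit 0), (nat_lit 2), (nat_lit 0), (nat_lit 3), (nat_lit 1)],
  [(nat_lit 0), (nat_lit 2), (nat_lit 3), (nat_lit 1)],
  [(nat_lit 1), (nat_lit 1), (nat_lit 0), (nat_lit 1), (nat_lit 2)],
  [(nat_lit 1), (nat_lit 1), (nat_lit 0), (nat_lit 1), (nat_lit 2), (nat_lit 0)],
  [(nat_lit 0), (nat_lit 1), (nat_lit 1), (nat_lit 2), (nat_lit 0), (nat_lit 1)],
  [(nat_lit 0), (nat_lit 1), (nat_lit 2), (nat_lit 0), (nat_lit 1), (nat_lit 1)],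
  [(nat_lit 0), (nat_lit 2)],
  [(nat_lit 0), (nat_lit 2), (nat_lit 0)],
  [(nat_lit 1), (nat_lit 1), (nat_lit 0), (nat_lit 2), (nat_lit 0), (nat_lit 1)],
  [(nat_lit 0), (nat_lit 1), (nat_lit 0), (nat_lit 2), (nat_lit 0), (nat_lit 1), (nat_lit 1)],
  [(nat_lit 0), (nat_lit 1), (nat_lit 2), (nat_lit 0), (nat_lit 1), (nat_lit 3)],
  [(nat_lit 0), (nat_lit 2), (nat_lit 3), (nat_lit 1), (nat_lit 0)],
  [(nat_lit 0), (nat_lit 1), (nat_lit 0), (nat_lit 2), (nat_lit 0), (nat_lit 1), (nat_lit 0), (nat_lit 3)],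
  [(nat_lit 3), (nat_lit 1), (nat_lit 0), (nat_lit 2)],
  [(nat_lit 0), (nat_lit 1), (nat_lit 0), (nat_lit 2), (nat_lit 0), (nat_lit 1), (nat_lit 1), (nat_lit 4)],
  [(nat_lit 1), (nat_lit 1), (nat_lit 0), (nat_lit 2), (nat_lit 0), (nat_lit 1), (nat_lit 4)],
  [(nat_lit 0), (nat_lit 2), (nat_lit 0), (nat_lit 4)],
  [(nat_lit 0), (nat_lit 2), (nat_lit 4)],
  [(nat_lit 0), (nat_lit 1), (nat_lit 2), (nat_lit 0), (nat_lit 1), (nat_lit 1), (nat_lit 4)],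
  [(nat_lit 0), (nat_lit 1), (nat_lit 1), (nat_lit 2), (nat_lit 0), (nat_lit 1), (nat_lit 4)],
  [(nat_lit 1), (nat_lit 1), (nat_lit 0), (nat_lit 1), (nat_lit 2), (nat_lit 0), (nat_lit 4)],
  [(nat_lit 1), (nat_lit 1), (nat_lit 0), (nat_lit 1), (nat_lit 2), (nat_lit 4)],
  [(nat_lit 3), (nat_lit 1), (nat_lit 0), (nat_lit 2), (nat_lit 4)],
  [(nat_lit 0), (nat_lit 1), (nat_lit 0), (nat_lit 2), (nat_lit 0), (nat_lit 1), (nat_lit 0), (nat_lit 3), (nat_lit 4)],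
  [(nat_lit 0), (nat_lit 2), (nat_lit 3), (nat_lit 1), (nat_lit 0), (nat_lit 4)],
  [(nat_lit 0), (nat_lit 1), (nat_lit 2), (nat_lit 0), (nat_lit 1), (nat_lit 3), (nat_lit 4)],
  [(nat_lit 0), (nat_lit 2), (nat_lit 3), (nat_lit 1), (nat_lit 4)],
  [(nat_lit 0), (nat_lit 2), (nat_lit 0), (nat_lit 3), (nat_lit 1), (nat_lit 4)],
  [(nat_lit 3), (nat_lit 1), (nat_lit 0), (nat_lit 2), (nat_lit 0), (nat_lit 4)],
  [(nat_lit 0), (nat_lit 1), (nat_lit 0), (nat_lit 2), (nat_lit 0), (nat_lit 1), (nat_lit 3), (nat_lit 4)],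
  [(nat_lit 1), (nat_lit 1), (nat_lit 0), (nat_lit 1), (nat_lit 4)],
  [(nat_lit 1), (nat_lit 1), (nat_lit 0), (nat_lit 1), (nat_lit 2), (nat_lit 0), (nat_lit 4), (nat_lit 2)],
  [(nat_lit 0), (nat_lit 1), (nat_lit 1), (nat_lit 2), (nat_lit 0), (nat_lit 1), (nat_lit 4), (nat_lit 2)],
  [(nat_lit 0), (nat_lit 1), (nat_lit 2), (nat_lit 0), (nat_lit 1), (nat_lit 1), (nat_lit 4), (nat_lit 2)],
  [(nat_lit 1), (nat_lit 2), (nat_lit 0), (nat_lit 1), (nat_lit 3), (nat_lit 4), (nat_lit 2), (nat_lit 0)],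
  [(nat_lit 2), (nat_lit 2), (nat_lit 3), (nat_lit 1), (nat_lit 0), (nat_lit 2), (nat_lit 4)],
  [(nat_lit 0), (nat_lit 2), (nat_lit 0), (nat_lit 3), (nat_lit 1), (nat_lit 4), (nat_lit 2)],
  [(nat_lit 0), (nat_lit 3), (nat_lit 1), (nat_lit 4)],
  [(nat_lit 0), (nat_lit 1), (nat_lit 2), (nat_lit 0), (nat_lit 1), (nat_lit 3), (nat_lit 4), (nat_lit 2)],
  [(nat_lit 0), (nat_lit 2), (nat_lit 3), (nat_lit 1), (nat_lit 0), (nat_lit 4), (nat_lit 2)],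
  [(nat_lit 2), (nat_lit 0), (nat_lit 3), (nat_lit 1), (nat_lit 4), (nat_lit 2), (nat_lit 0)],
  [(nat_lit 3), (nat_lit 1), (nat_lit 0), (nat_lit 4)],
  [(nat_lit 0), (nat_lit 4)],
  [(nat_lit 0), (nat_lit 2), (nat_lit 0), (nat_lit 4), (nat_lit 2)],
  [(nat_lit 1), (nat_lit 1), (nat_lit 0), (nat_lit 2), (nat_lit 0), (nat_lit 1), (nat_lit 4), (nat_lit 2)],
  [(nat_lit 1), (nat_lit 2), (nat_lit 0), (nat_lit 1), (nat_lit 4), (nat_lit 2), (nat_lit 0), (nat_lit 1)],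
  [(nat_lit 0), (nat_lit 1), (nat_lit 2), (nat_lit 2), (nat_lit 0), (nat_lit 1), (nat_lit 1)],
  [(nat_lit 1), (nat_lit 1), (nat_lit 2), (nat_lit 2), (nat_lit 0), (nat_lit 1)],
  [(nat_lit 2), (nat_lit 2), (nat_lit 0)],
  [(nat_lit 0), (nat_lit 2), (nat_lit 2)],
  [(nat_lit 3), (nat_lit 1), (nat_lit 0), (nat_lit 2), (nat_lit 2)],
  [(nat_lit 1), (nat_lit 2), (nat_lit 0), (nat_lit 1), (nat_lit 2), (nat_lit 0), (nat_lit 3)],
  [(nat_lit 0), (nat_lit 2), (nat_lit 3), (nat_lit 1), (nat_lit 0), (nat_lit 2)],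
  [(nat_lit 0), (nat_lit 1), (nat_lit 2), (nat_lit 0), (nat_lit 1), (nat_lit 2), (nat_lit 3)],
  [(nat_lit 0), (nat_lit 1), (nat_lit 2), (nat_lit 0), (nat_lit 1), (nat_lit 1), (nat_lit 2)],
  [(nat_lit 0), (nat_lit 1), (nat_lit 1), (nat_lit 2), (nat_lit 0), (nat_lit 1), (nat_lit 2)],
  [(nat_lit 1), (nat_lit 0), (nat_lit 1), (nat_lit 1), (nat_lit 2), (nat_lit 2), (nat_lit 0)],
  [(nat_lit 1), (nat_lit 1), (nat_lit 0), (nat_lit 1), (nat_lit 2), (nat_lit 2)],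
  [(nat_lit 0), (nat_lit 2), (nat_lit 2), (nat_lit 3), (nat_lit 1)],
  [(nat_lit 2), (nat_lit 2), (nat_lit 0), (nat_lit 3), (nat_lit 1)],
  [(nat_lit 2), (nat_lit 2), (nat_lit 3), (nat_lit 1), (nat_lit 0)],
  [(nat_lit 2), (nat_lit 0), (nat_lit 2), (nat_lit 3), (nat_lit 1), (nat_lit 0)],
  [(nat_lit 0), (nat_lit 4), (nat_lit 2), (nat_lit 0), (nat_lit 1), (nat_lit 1)],
  [(nat_lit 1), (nat_lit 1), (nat_lit 4), (nat_lit 2)],
  [(nat_lit 1), (nat_lit 4), (nat_lit 2), (nat_lit 0), (nat_lit 1)],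
  [(nat_lit 0), (nat_lit 1), (nat_lit 1), (nat_lit 4), (nat_lit 2), (nat_lit 0)],
  [(nat_lit 2), (nat_lit 0), (nat_lit 1), (nat_lit 1), (nat_lit 2), (nat_lit 2)],
  [(nat_lit 1), (nat_lit 1)],
  [(nat_lit 1), (nat_lit 2), (nat_lit 2), (nat_lit 0), (nat_lit 1), (nat_lit 2)],
  [(nat_lit 0), (nat_lit 1), (nat_lit 1), (nat_lit 2), (nat_lit 2), (nat_lit 0), (nat_lit 2)],
  [(nat_lit 2), (nat_lit 0), (nat_lit 1), (nat_lit 2), (nat_lit 2), (nat_lit 0), (nat_lit 1)],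
  [(nat_lit 1), (nat_lit 0), (nat_lit 1)],
  [(nat_lit 1), (nat_lit 2), (nat_lit 0), (nat_lit 1), (nat_lit 2), (nat_lit 2)],
  [(nat_lit 1), (nat_lit 1), (nat_lit 2), (nat_lit 0), (nat_lit 2), (nat_lit 2)],
  [(nat_lit 0), (nat_lit 1), (nat_lit 0), (nat_lit 4), (nat_lit 2), (nat_lit 0), (nat_lit 1), (nat_lit 0)],
  [(nat_lit 1), (nat_lit 0), (nat_lit 1), (nat_lit 4), (nat_lit 2)],
  [(nat_lit 1), (nat_lit 0), (nat_lit 4), (nat_lit 2), (nat_lit 0), (nat_lit 1)],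
  [(nat_lit 1), (nat_lit 1), (nat_lit 0), (nat_lit 4), (nat_lit 2), (nat_lit 0)],
  [(nat_lit 0), (nat_lit 3), (nat_lit 4), (nat_lit 2), (nat_lit 0)],
  [(nat_lit 3), (nat_lit 4), (nat_lit 2)],
  [(nat_lit 1), (nat_lit 3), (nat_lit 4), (nat_lit 2), (nat_lit 0), (nat_lit 1)],
  [(nat_lit 0), (nat_lit 1), (nat_lit 1), (nat_lit 4), (nat_lit 2), (nat_lit 0), (nat_lit 1), (nat_lit 3)],
  [(nat_lit 2), (nat_lit 0), (nat_lit 2), (nat_lit 2), (nat_lit 3)],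
  [(nat_lit 3)],
  [(nat_lit 1), (nat_lit 2), (nat_lit 2), (nat_lit 0), (nat_lit 2), (nat_lit 3), (nat_lit 1)],
  [(nat_lit 2), (nat_lit 0), (nat_lit 1), (nat_lit 2), (nat_lit 0), (nat_lit 2), (nat_lit 3), (nat_lit 1)],
  [(nat_lit 1), (nat_lit 0), (nat_lit 2), (nat_lit 3), (nat_lit 1), (nat_lit 0), (nat_lit 2), (nat_lit 2)],
  [(nat_lit 1), (nat_lit 0), (nat_lit 3), (nat_lit 1)],
  [(nat_lit 1), (nat_lit 2), (nat_lit 0), (nat_lit 2), (nat_lit 2), (nat_lit 3), (nat_lit 1)],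
  [(nat_lit 1), (nat_lit 1), (nat_lit 2), (nat_lit 0), (nat_lit 1), (nat_lit 2), (nat_lit 2), (nat_lit 3)],
  [(nat_lit 0), (nat_lit 1), (nat_lit 0), (nat_lit 3), (nat_lit 1), (nat_lit 4), (nat_lit 2), (nat_lit 0)],
  [(nat_lit 1), (nat_lit 0), (nat_lit 3), (nat_lit 1), (nat_lit 4), (nat_lit 2)],
  [(nat_lit 1), (nat_lit 0), (nat_lit 3), (nat_lit 4), (nat_lit 2), (nat_lit 0), (nat_lit 1)],
  [(nat_lit 1), (nat_lit 1), (nat_lit 0), (nat_lit 4), (nat_lit 2), (nat_lit 0), (nat_lit 1), (nat_lit 3)],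
  [(nat_lit 2), (nat_lit 2), (nat_lit 0), (nat_lit 1), (nat_lit 2), (nat_lit 3)],
  [(nat_lit 0), (nat_lit 1), (nat_lit 3)],
  [(nat_lit 0), (nat_lit 1), (nat_lit 2), (nat_lit 2), (nat_lit 0), (nat_lit 2), (nat_lit 3)],
  [(nat_lit 2), (nat_lit 2), (nat_lit 0), (nat_lit 1), (nat_lit 0), (nat_lit 2), (nat_lit 3)],
  [(nat_lit 4), (nat_lit 2), (nat_lit 0), (nat_lit 1), (nat_lit 3)],
  [(nat_lit 0), (nat_lit 1), (nat_lit 3), (nat_lit 4), (nat_lit 2)],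
  [(nat_lit 0), (nat_lit 1), (nat_lit 3), (nat_lit 4), (nat_lit 2), (nat_lit 0)],
  [(nat_lit 3), (nat_lit 1), (nat_lit 4), (nat_lit 2), (nat_lit 0), (nat_lit 1)],
  [(nat_lit 0), (nat_lit 2), (nat_lit 0), (nat_lit 1), (nat_lit 0), (nat_lit 2), (nat_lit 0), (nat_lit 3), (nat_lit 4)],
  [(nat_lit 0), (nat_lit 1), (nat_lit 0), (nat_lit 3), (nat_lit 4), (nat_lit 2)],
  [(nat_lit 0), (nat_lit 1), (nat_lit 0), (nat_lit 3), (nat_lit 4), (nat_lit 2), (nat_lit 0)],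
  [(nat_lit 0), (nat_lit 2), (nat_lit 0), (nat_lit 1), (nat_lit 0), (nat_lit 2), (nat_lit 3), (nat_lit 4)],
  [(nat_lit 2), (nat_lit 2), (nat_lit 0), (nat_lit 1), (nat_lit 2), (nat_lit 0), (nat_lit 3)],
  [(nat_lit 0), (nat_lit 1), (nat_lit 0), (nat_lit 3)],
  [(nat_lit 0), (nat_lit 1), (nat_lit 2), (nat_lit 0), (nat_lit 2), (nat_lit 2), (nat_lit 3)],
  [(nat_lit 0), (nat_lit 2), (nat_lit 0), (nat_lit 1), (nat_lit 0), (nat_lit 2), (nat_lit 2), (nat_lit 3)],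
  [(nat_lit 4), (nat_lit 2), (nat_lit 0), (nat_lit 1)],
  [(nat_lit 0), (nat_lit 1), (nat_lit 4), (nat_lit 2)],
  [(nat_lit 0), (nat_lit 1), (nat_lit 4), (nat_lit 2), (nat_lit 0)],
  [(nat_lit 4), (nat_lit 2), (nat_lit 0), (nat_lit 1), (nat_lit 0)],
  [(nat_lit 2), (nat_lit 2), (nat_lit 0), (nat_lit 1), (nat_lit 2)],
  [(nat_lit 0), (nat_lit 1)],
  [(nat_lit 0), (nat_lit 1), (nat_lit 2), (nat_lit 2), (nat_lit 0), (nat_lit 2)],
  [(nat_lit 2), (nat_lit 2), (nat_lit 0), (nat_lit 1), (nat_lit 0), (nat_lit 2)],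
  [(nat_lit 0), (nat_lit 2), (nat_lit 0), (nat_lit 1), (nat_lit 0), (nat_lit 2), (nat_lit 0), (nat_lit 4)],
  [(nat_lit 0), (nat_lit 1), (nat_lit 0), (nat_lit 4), (nat_lit 2)],
  [(nat_lit 0), (nat_lit 1), (nat_lit 0), (nat_lit 4), (nat_lit 2), (nat_lit 0)],
  [(nat_lit 0), (nat_lit 2), (nat_lit 0), (nat_lit 1), (nat_lit 0), (nat_lit 2), (nat_lit 4)],
  [(nat_lit 2), (nat_lit 2), (nat_lit 0), (nat_lit 1), (nat_lit 2), (nat_lit 0)],
  [(nat_lit 0), (nat_lit 1), (nat_lit 0)],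
  [(nat_lit 0), (nat_lit 1), (nat_lit 2), (nat_lit 0), (nat_lit 2), (nat_lit 2)],
  [(nat_lit 0), (nat_lit 2), (nat_lit 0), (nat_lit 1), (nat_lit 0), (nat_lit 2), (nat_lit 2)],
  [(nat_lit 0), (nat_lit 3), (nat_lit 1), (nat_lit 0), (nat_lit 2)],
  [(nat_lit 1), (nat_lit 0), (nat_lit 2), (nat_lit 0), (nat_lit 1), (nat_lit 0), (nat_lit 3)],
  [(nat_lit 2), (nat_lit 3), (nat_lit 1), (nat_lit 0)],
  [(nat_lit 1), (nat_lit 2), (nat_lit 0), (nat_lit 1), (nat_lit 3)],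
  [(nat_lit 1), (nat_lit 0), (nat_lit 2), (nat_lit 0), (nat_lit 1), (nat_lit 1)],
  [(nat_lit 1), (nat_lit 0), (nat_lit 1), (nat_lit 2), (nat_lit 0), (nat_lit 1)],
  [(nat_lit 2), (nat_lit 0)],
  [(nat_lit 2)],
  [(nat_lit 1), (nat_lit 2), (nat_lit 0), (nat_lit 1), (nat_lit 1)],
  [(nat_lit 1), (nat_lit 1), (nat_lit 2), (nat_lit 0), (nat_lit 1)],
  [(nat_lit 1), (nat_lit 0), (nat_lit 1), (nat_lit 1), (nat_lit 2), (nat_lit 0)],
  [(nat_lit 1), (nat_lit 0), (nat_lit 1), (nat_lit 1), (nat_lit 2)],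
  [(nat_lit 2), (nat_lit 3), (nat_lit 1)],
  [(nat_lit 2), (nat_lit 0), (nat_lit 3), (nat_lit 1)],
  [(nat_lit 0), (nat_lit 3), (nat_lit 1), (nat_lit 0), (nat_lit 2), (nat_lit 0)],
  [(nat_lit 1), (nat_lit 0), (nat_lit 2), (nat_lit 0), (nat_lit 1), (nat_lit 3)],
  [(nat_lit 1), (nat_lit 0), (nat_lit 1), (nat_lit 1), (nat_lit 2), (nat_lit 4)],
  [(nat_lit 1), (nat_lit 0), (nat_lit 1), (nat_lit 1), (nat_lit 2), (nat_lit 0), (nat_lit 4)],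
  [(nat_lit 1), (nat_lit 1), (nat_lit 2), (nat_lit 0), (nat_lit 1), (nat_lit 4)],
  [(nat_lit 1), (nat_lit 2), (nat_lit 0), (nat_lit 1), (nat_lit 1), (nat_lit 4)],
  [(nat_lit 2), (nat_lit 4)],
  [(nat_lit 2), (nat_lit 0), (nat_lit 4)],
  [(nat_lit 1), (nat_lit 0), (nat_lit 1), (nat_lit 2), (nat_lit 0), (nat_lit 1), (nat_lit 4)],
  [(nat_lit 1), (nat_lit 0), (nat_lit 2), (nat_lit 0), (nat_lit 1), (nat_lit 1), (nat_lit 4)],
  [(nat_lit 1), (nat_lit 0), (nat_lit 2), (nat_lit 0), (nat_lit 1), (nat_lit 3), (nat_lit 4)],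
  [(nat_lit 0), (nat_lit 3), (nat_lit 1), (nat_lit 0), (nat_lit 2), (nat_lit 0), (nat_lit 4)],
  [(nat_lit 2), (nat_lit 0), (nat_lit 3), (nat_lit 1), (nat_lit 4)],
  [(nat_lit 2), (nat_lit 3), (nat_lit 1), (nat_lit 4)],
  [(nat_lit 1), (nat_lit 2), (nat_lit 0), (nat_lit 1), (nat_lit 3), (nat_lit 4)],
  [(nat_lit 2), (nat_lit 3), (nat_lit 1), (nat_lit 0), (nat_lit 4)],
  [(nat_lit 1), (nat_lit 0), (nat_lit 2), (nat_lit 0), (nat_lit 1), (nat_lit 0), (nat_lit 3), (nat_lit 4)],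
  [(nat_lit 0), (nat_lit 3), (nat_lit 1), (nat_lit 0), (nat_lit 2), (nat_lit 4)],
  [(nat_lit 1), (nat_lit 0), (nat_lit 2), (nat_lit 0), (nat_lit 1), (nat_lit 1), (nat_lit 4), (nat_lit 2)],
  [(nat_lit 1), (nat_lit 0), (nat_lit 1), (nat_lit 2), (nat_lit 0), (nat_lit 1), (nat_lit 4), (nat_lit 2)],
  [(nat_lit 2), (nat_lit 0), (nat_lit 4), (nat_lit 2)],
  [(nat_lit 4)],
  [(nat_lit 0), (nat_lit 3), (nat_lit 1), (nat_lit 0), (nat_lit 4)],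
  [(nat_lit 0), (nat_lit 2), (nat_lit 0), (nat_lit 3), (nat_lit 1), (nat_lit 4), (nat_lit 2), (nat_lit 0)],
  [(nat_lit 2), (nat_lit 3), (nat_lit 1), (nat_lit 0), (nat_lit 4), (nat_lit 2)],
  [(nat_lit 1), (nat_lit 2), (nat_lit 0), (nat_lit 1), (nat_lit 3), (nat_lit 4), (nat_lit 2)],
  [(nat_lit 3), (nat_lit 1), (nat_lit 4)],
  [(nat_lit 2), (nat_lit 0), (nat_lit 3), (nat_lit 1), (nat_lit 4), (nat_lit 2)],
  [(nat_lit 0), (nat_lit 2), (nat_lit 2), (nat_lit 3), (nat_lit 1), (nat_lit 0), (nat_lit 2), (nat_lit 4)],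
  [(nat_lit 1), (nat_lit 0), (nat_lit 2), (nat_lit 0), (nat_lit 1), (nat_lit 3), (nat_lit 4), (nat_lit 2)],
  [(nat_lit 1), (nat_lit 2), (nat_lit 0), (nat_lit 1), (nat_lit 1), (nat_lit 4), (nat_lit 2)],
  [(nat_lit 1), (nat_lit 1), (nat_lit 2), (nat_lit 0), (nat_lit 1), (nat_lit 4), (nat_lit 2)],
  [(nat_lit 1), (nat_lit 0), (nat_lit 1), (nat_lit 1), (nat_lit 2), (nat_lit 0), (nat_lit 4), (nat_lit 2)],
  [(nat_lit 1), (nat_lit 0), (nat_lit 1), (nat_lit 1), (nat_lit 4)],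
  [(nat_lit 1), (nat_lit 0), (nat_lit 1), (nat_lit 1), (nat_lit 2), (nat_lit 2)],
  [(nat_lit 1), (nat_lit 0), (nat_lit 1), (nat_lit 1), (nat_lit 2), (nat_lit 0), (nat_lit 2)],
  [(nat_lit 1), (nat_lit 1), (nat_lit 2), (nat_lit 0), (nat_lit 1), (nat_lit 2)],
  [(nat_lit 1), (nat_lit 2), (nat_lit 0), (nat_lit 1), (nat_lit 1), (nat_lit 2)],
  [(nat_lit 1), (nat_lit 2), (nat_lit 2), (nat_lit 0), (nat_lit 1), (nat_lit 3)],
  [(nat_lit 0), (nat_lit 2), (nat_lit 2), (nat_lit 3), (nat_lit 1), (nat_lit 0)],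
  [(nat_lit 2), (nat_lit 0), (nat_lit 2), (nat_lit 3), (nat_lit 1)],
  [(nat_lit 2), (nat_lit 2), (nat_lit 3), (nat_lit 1)],
  [(nat_lit 2), (nat_lit 2)],
  [(nat_lit 2), (nat_lit 0), (nat_lit 2)],
  [(nat_lit 0), (nat_lit 1), (nat_lit 1), (nat_lit 2), (nat_lit 2), (nat_lit 0), (nat_lit 1)],
  [(nat_lit 1), (nat_lit 2), (nat_lit 2), (nat_lit 0), (nat_lit 1), (nat_lit 1)],
  [(nat_lit 1), (nat_lit 2), (nat_lit 0), (nat_lit 1), (nat_lit 2), (nat_lit 3)],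
  [(nat_lit 2), (nat_lit 3), (nat_lit 1), (nat_lit 0), (nat_lit 2)],
  [(nat_lit 0), (nat_lit 1), (nat_lit 2), (nat_lit 0), (nat_lit 1), (nat_lit 2), (nat_lit 0), (nat_lit 3)],
  [(nat_lit 0), (nat_lit 3), (nat_lit 1), (nat_lit 0), (nat_lit 2), (nat_lit 2)],
  [(nat_lit 1), (nat_lit 0), (nat_lit 1), (nat_lit 4), (nat_lit 2), (nat_lit 0)],
  [(nat_lit 0), (nat_lit 1), (nat_lit 0), (nat_lit 4), (nat_lit 2), (nat_lit 0), (nat_lit 1)],
  [(nat_lit 1), (nat_lit 1), (nat_lit 0), (nat_lit 4), (nat_lit 2)],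
  [(nat_lit 1), (nat_lit 0), (nat_lit 4), (nat_lit 2), (nat_lit 0), (nat_lit 1), (nat_lit 0)],
  [(nat_lit 0), (nat_lit 1), (nat_lit 1), (nat_lit 2), (nat_lit 0), (nat_lit 2), (nat_lit 2)],
  [(nat_lit 0), (nat_lit 1), (nat_lit 2), (nat_lit 0), (nat_lit 1), (nat_lit 2), (nat_lit 2)],
  [(nat_lit 1), (nat_lit 1), (nat_lit 0)],
  [(nat_lit 1), (nat_lit 2), (nat_lit 0), (nat_lit 1), (nat_lit 2), (nat_lit 0), (nat_lit 2)],
  [(nat_lit 1), (nat_lit 1), (nat_lit 2), (nat_lit 2), (nat_lit 0), (nat_lit 2)],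
  [(nat_lit 0), (nat_lit 1), (nat_lit 2), (nat_lit 2), (nat_lit 0), (nat_lit 1), (nat_lit 2)],
  [(nat_lit 0), (nat_lit 1), (nat_lit 1)],
  [(nat_lit 2), (nat_lit 2), (nat_lit 0), (nat_lit 1), (nat_lit 1), (nat_lit 2)],
  [(nat_lit 1), (nat_lit 1), (nat_lit 4), (nat_lit 2), (nat_lit 0)],
  [(nat_lit 0), (nat_lit 1), (nat_lit 4), (nat_lit 2), (nat_lit 0), (nat_lit 1)],
  [(nat_lit 0), (nat_lit 1), (nat_lit 1), (nat_lit 4), (nat_lit 2)],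
  [(nat_lit 4), (nat_lit 2), (nat_lit 0), (nat_lit 1), (nat_lit 1)],
  [(nat_lit 1), (nat_lit 0), (nat_lit 1), (nat_lit 4), (nat_lit 2), (nat_lit 0), (nat_lit 1), (nat_lit 3)],
  [(nat_lit 0), (nat_lit 1), (nat_lit 0), (nat_lit 3), (nat_lit 4), (nat_lit 2), (nat_lit 0), (nat_lit 1)],
  [(nat_lit 0), (nat_lit 1), (nat_lit 0), (nat_lit 3), (nat_lit 1), (nat_lit 4), (nat_lit 2)],
  [(nat_lit 1), (nat_lit 0), (nat_lit 3), (nat_lit 1), (nat_lit 4), (nat_lit 2), (nat_lit 0)],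
  [(nat_lit 1), (nat_lit 2), (nat_lit 0), (nat_lit 2), (nat_lit 3), (nat_lit 1), (nat_lit 0), (nat_lit 2)],
  [(nat_lit 0), (nat_lit 1), (nat_lit 2), (nat_lit 0), (nat_lit 2), (nat_lit 2), (nat_lit 3), (nat_lit 1)],
  [(nat_lit 0), (nat_lit 1), (nat_lit 0), (nat_lit 3), (nat_lit 1)],
  [(nat_lit 1), (nat_lit 0), (nat_lit 2), (nat_lit 2), (nat_lit 3), (nat_lit 1), (nat_lit 0), (nat_lit 2)],
  [(nat_lit 1), (nat_lit 1), (nat_lit 2), (nat_lit 2), (nat_lit 0), (nat_lit 1), (nat_lit 2), (nat_lit 3)],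
  [(nat_lit 0), (nat_lit 1), (nat_lit 2), (nat_lit 2), (nat_lit 0), (nat_lit 2), (nat_lit 3), (nat_lit 1)],
  [(nat_lit 0), (nat_lit 3)],
  [(nat_lit 2), (nat_lit 2), (nat_lit 0), (nat_lit 2), (nat_lit 3)],
  [(nat_lit 1), (nat_lit 1), (nat_lit 4), (nat_lit 2), (nat_lit 0), (nat_lit 1), (nat_lit 3)],
  [(nat_lit 0), (nat_lit 1), (nat_lit 3), (nat_lit 4), (nat_lit 2), (nat_lit 0), (nat_lit 1)],
  [(nat_lit 0), (nat_lit 3), (nat_lit 4), (nat_lit 2)],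
  [(nat_lit 3), (nat_lit 4), (nat_lit 2), (nat_lit 0)],
  [(nat_lit 0), (nat_lit 1), (nat_lit 2), (nat_lit 0), (nat_lit 1), (nat_lit 2), (nat_lit 2), (nat_lit 3)],
  [(nat_lit 0), (nat_lit 2), (nat_lit 3), (nat_lit 1), (nat_lit 0), (nat_lit 2), (nat_lit 2)],
  [(nat_lit 2), (nat_lit 0), (nat_lit 2), (nat_lit 2), (nat_lit 3), (nat_lit 1), (nat_lit 0)],
  [(nat_lit 3), (nat_lit 1), (nat_lit 0)],
  [(nat_lit 0), (nat_lit 1), (nat_lit 0), (nat_lit 4), (nat_lit 2), (nat_lit 0), (nat_lit 1), (nat_lit 3)],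
  [(nat_lit 0), (nat_lit 2), (nat_lit 3), (nat_lit 1), (nat_lit 0), (nat_lit 2), (nat_lit 4)],
  [(nat_lit 1), (nat_lit 0), (nat_lit 3), (nat_lit 1), (nat_lit 4), (nat_lit 2), (nat_lit 0), (nat_lit 1)],
  [(nat_lit 3), (nat_lit 1), (nat_lit 0), (nat_lit 4), (nat_lit 2)],
  [(nat_lit 2), (nat_lit 0), (nat_lit 2), (nat_lit 3), (nat_lit 1), (nat_lit 0), (nat_lit 2)],
  [(nat_lit 2), (nat_lit 2), (nat_lit 3), (nat_lit 1), (nat_lit 0), (nat_lit 2)],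
  [(nat_lit 2), (nat_lit 2), (nat_lit 0), (nat_lit 2), (nat_lit 3), (nat_lit 1)],
  [(nat_lit 0), (nat_lit 3), (nat_lit 1)],
  [(nat_lit 0)],
  [(nat_lit 2), (nat_lit 2), (nat_lit 0), (nat_lit 2)],
  [(nat_lit 1), (nat_lit 1), (nat_lit 2), (nat_lit 2), (nat_lit 0), (nat_lit 1), (nat_lit 2)],
  [(nat_lit 0), (nat_lit 1), (nat_lit 2), (nat_lit 2), (nat_lit 0), (nat_lit 1), (nat_lit 1), (nat_lit 2)],
  [(nat_lit 0), (nat_lit 4), (nat_lit 2)],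
  [(nat_lit 4), (nat_lit 2), (nat_lit 0)],
  [(nat_lit 1), (nat_lit 1), (nat_lit 4), (nat_lit 2), (nat_lit 0), (nat_lit 1)],
  [(nat_lit 0), (nat_lit 1), (nat_lit 4), (nat_lit 2), (nat_lit 0), (nat_lit 1), (nat_lit 1)],
  [(nat_lit 0), (nat_lit 1), (nat_lit 4), (nat_lit 2), (nat_lit 0), (nat_lit 1), (nat_lit 3)],
  [(nat_lit 3), (nat_lit 1), (nat_lit 4), (nat_lit 2), (nat_lit 0)],
  [(nat_lit 3), (nat_lit 4), (nat_lit 2), (nat_lit 0), (nat_lit 1)],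
  [(nat_lit 0), (nat_lit 3), (nat_lit 1), (nat_lit 4), (nat_lit 2)],
  [(nat_lit 1), (nat_lit 1), (nat_lit 0), (nat_lit 1), (nat_lit 4), (nat_lit 2)],
  [(nat_lit 1), (nat_lit 0), (nat_lit 1), (nat_lit 1), (nat_lit 4), (nat_lit 2), (nat_lit 0)],
  [(nat_lit 1), (nat_lit 0), (nat_lit 1), (nat_lit 4), (nat_lit 2), (nat_lit 0), (nat_lit 1)],
  [(nat_lit 0), (nat_lit 1), (nat_lit 0), (nat_lit 4), (nat_lit 2), (nat_lit 0), (nat_lit 1), (nat_lit 1)],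
  [(nat_lit 1), (nat_lit 1), (nat_lit 0), (nat_lit 1)],
  [(nat_lit 1), (nat_lit 0), (nat_lit 1), (nat_lit 1), (nat_lit 2), (nat_lit 2), (nat_lit 0), (nat_lit 2)],
  [(nat_lit 0), (nat_lit 1), (nat_lit 1), (nat_lit 2), (nat_lit 0), (nat_lit 1), (nat_lit 2), (nat_lit 2)],
  [(nat_lit 0), (nat_lit 1), (nat_lit 2), (nat_lit 0), (nat_lit 1), (nat_lit 1), (nat_lit 2), (nat_lit 2)],
  [(nat_lit 3), (nat_lit 1)],
  [(nat_lit 2), (nat_lit 0), (nat_lit 2), (nat_lit 2), (nat_lit 3), (nat_lit 1)],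
  [(nat_lit 0), (nat_lit 2), (nat_lit 2), (nat_lit 3), (nat_lit 1), (nat_lit 0), (nat_lit 2)],
  [(nat_lit 1), (nat_lit 2), (nat_lit 2), (nat_lit 0), (nat_lit 1), (nat_lit 2), (nat_lit 3)],
  [(nat_lit 3), (nat_lit 1), (nat_lit 4), (nat_lit 2)],
  [(nat_lit 0), (nat_lit 3), (nat_lit 4), (nat_lit 2), (nat_lit 0), (nat_lit 1)],
  [(nat_lit 0), (nat_lit 3), (nat_lit 1), (nat_lit 4), (nat_lit 2), (nat_lit 0)],
  [(nat_lit 1), (nat_lit 4), (nat_lit 2), (nat_lit 0), (nat_lit 1), (nat_lit 3)],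
  [(nat_lit 0), (nat_lit 3), (nat_lit 1), (nat_lit 0)],
  [(nat_lit 2), (nat_lit 2), (nat_lit 0), (nat_lit 2), (nat_lit 3), (nat_lit 1), (nat_lit 0)],
  [(nat_lit 2), (nat_lit 3), (nat_lit 1), (nat_lit 0), (nat_lit 2), (nat_lit 2)],
  [(nat_lit 1), (nat_lit 2), (nat_lit 0), (nat_lit 1), (nat_lit 2), (nat_lit 2), (nat_lit 3)],
  [(nat_lit 1), (nat_lit 2), (nat_lit 0), (nat_lit 1), (nat_lit 1), (nat_lit 2), (nat_lit 2)],
  [(nat_lit 1), (nat_lit 1), (nat_lit 2), (nat_lit 0), (nat_lit 1), (nat_lit 2), (nat_lit 2)],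
  [(nat_lit 1), (nat_lit 0), (nat_lit 1), (nat_lit 1), (nat_lit 2), (nat_lit 0), (nat_lit 2), (nat_lit 2)],
  [(nat_lit 1), (nat_lit 0), (nat_lit 1), (nat_lit 1)],
  [(nat_lit 1), (nat_lit 0), (nat_lit 4), (nat_lit 2), (nat_lit 0), (nat_lit 1), (nat_lit 1)],
  [(nat_lit 1), (nat_lit 1), (nat_lit 0), (nat_lit 4), (nat_lit 2), (nat_lit 0), (nat_lit 1)],
  [(nat_lit 1), (nat_lit 1), (nat_lit 0), (nat_lit 1), (nat_lit 4), (nat_lit 2), (nat_lit 0)],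
  [(nat_lit 1), (nat_lit 0), (nat_lit 1), (nat_lit 1), (nat_lit 4), (nat_lit 2)],
  [(nat_lit 0), (nat_lit 3), (nat_lit 1), (nat_lit 0), (nat_lit 4), (nat_lit 2)],
  [(nat_lit 0), (nat_lit 1), (nat_lit 0), (nat_lit 3), (nat_lit 1), (nat_lit 4), (nat_lit 2), (nat_lit 0), (nat_lit 1)],
  [(nat_lit 2), (nat_lit 3), (nat_lit 1), (nat_lit 0), (nat_lit 2), (nat_lit 4)],
  [(nat_lit 1), (nat_lit 0), (nat_lit 4), (nat_lit 2), (nat_lit 0), (nat_lit 1), (nat_lit 3)],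
  [(nat_lit 1), (nat_lit 4), (nat_lit 2), (nat_lit 0), (nat_lit 1), (nat_lit 1)],
  [(nat_lit 0), (nat_lit 1), (nat_lit 1), (nat_lit 4), (nat_lit 2), (nat_lit 0), (nat_lit 1)],
  [(nat_lit 0), (nat_lit 4), (nat_lit 2), (nat_lit 0)],
  [(nat_lit 4), (nat_lit 2)],
  [(nat_lit 1), (nat_lit 2), (nat_lit 2), (nat_lit 0), (nat_lit 1), (nat_lit 1), (nat_lit 2)],
  [(nat_lit 0), (nat_lit 1), (nat_lit 1), (nat_lit 2), (nat_lit 2), (nat_lit 0), (nat_lit 1), (nat_lit 2)],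
  [(nat_lit 2), (nat_lit 0), (nat_lit 2), (nat_lit 2)],
  []]
noncomputable def AP_lK_h (c : ℕ) : ℕ := Nat.mod c (nat_lit 62383)
noncomputable def AP_lK_T0 : ST := (.node (nat_lit 0x30b5766f9d8e4921ade8b2b0d3cea5fd209f3820) (.node (nat_lit 0x222cdd3f17e6d7029b336563d48bce91ff450c20) (.node (nat_lit 0x19dfacf1b8eda825158eb9b719257f4427e25420) (.node (nat_lit 0x11b5b65f9d8e4923cda8b2b0f1ae09f52a5fb820) (.node (nat_lit 0x11afaef371cb10792f0478db654cb077935a7c20) (.node (nat_lit 0x11a39d759be5e63511abb1f0f921df4c29e2d420) (.node (nat_lit 0x1199dd663be5e67911ebc0ecd521df2d69e4c020) (.node (nat_lit 0x11999e763bd5d67921b3b0f0f511de2c29f4d420) (.leaf (nat_lit 0x11999d7637e6d63521f3c1ecd9129f2c1de4d420)) (.leaf (nat_lit 0x11999e763bd5d67921b3b0f0f511de2c29f4d420))) (.node (nat_lit 0x1199de6637d6e63511abb1f0f9229e2d5df4c020) (.leaf (nat_lit 0x1199dd663be5e67911ebc0ecd521df2d69e4c020))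 (.leaf (nat_lit 0x1199de6637d6e63511abb1f0f9229e2d5df4c020)))) (.node (nat_lit 0x11a3dd6597e6d67921b3b0f0f5129f4d5de2c020) (.node (nat_lit 0x11a39e7597d6e67911ebc0ecd5229e4c1df2d420) (.leaf (nat_lit 0x11a39d759be5e63511abb1f0f921df4c29e2d420)) (.leaf (nat_lit 0x11a39e7597d6e67911ebc0ecd5229e4c1df2d420))) (.node (nat_lit 0x11a3de659bd5d63521f3c1ecd911de4d69f2c020) (.leaf (nat_lit 0x11a3dd6597e6d67921b3b0f0f5129f4d5de2c020)) (.node (nat_lit 0x11afacf36cec50352ec469df894d35778b0a7c20) (.leaf (nat_lit 0x11a3de659bd5d63521f3c1ecd911de4d69f2c020)) (.leaf (nat_lit 0x11afacf36cec50352ec469df894d35778b0a7c20)))))) (.node (nat_lit 0x11b2cdc7bcbe9723a2d36a9f8193ce817f4aa420) (.node (nat_lit 0x11afceeb6ccc48354f0879db692d3077cb5a7820) (.node (nat_lit 0x11afcceb71eb08794ec868df852cb577d30a7820) (.leaf (nat_lit 0x11afaef371cb10792f0478db654cb077935a7c20)) (.leaf (nat_lit 0x11afcceb71eb08794ec868df852cb577d30a7820)))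 (.node (nat_lit 0x11b2cbc7badf16a1a3137c9b6393f4817ceaa420) (.leaf (nat_lit 0x11afceeb6ccc48354f0879db692d3077cb5a7820)) (.leaf (nat_lit 0x11b2cbc7badf16a1a3137c9b6393f4817ceaa420)))) (.node (nat_lit 0x11b31db3babf26a192cb6c9f83a3ee827d4a9420) (.node (nat_lit 0x11b31bb3bcdea723930b7a9b61a3d4827eea9420) (.leaf (nat_lit 0x11b2cdc7bcbe9723a2d36a9f8193ce817f4aa420)) (.leaf (nat_lit 0x11b31bb3bcdea723930b7a9b61a3d4827eea9420))) (.node (nat_lit 0x11b5766f998f50a1ada4b4b0f3cea9f3a05fd020) (.leaf (nat_lit 0x11b31db3babf26a192cb6c9f83a3ee827d4a9420)) (.node (nat_lit 0x11b578ef9d665123ade4c2acd1ce05f3aa9fd020) (.leaf (nat_lit 0x11b5766f998f50a1ada4b4b0f3cea9f3a05fd020)) (.leaf (nat_lit 0x11b578ef9d665123ade4c2acd1ce05f3aa9fd020))))))) (.node (nat_lit 0x11b9b8df5d6650a1ada4b4b0f3ce05fd2a9f3820) (.node (nat_lit 0x11b7cceaecec50792f0478db654d35a7cb077820) (.node (nat_lit 0x11b7acf2f1eb08354f0879db692cb5a793077c20)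 (.node (nat_lit 0x11b5b8df996748a1cde8c4acd3aea5f5209fb820) (.leaf (nat_lit 0x11b5b65f9d8e4923cda8b2b0f1ae09f52a5fb820)) (.leaf (nat_lit 0x11b5b8df996748a1cde8c4acd3aea5f5209fb820))) (.node (nat_lit 0x11b7aef2eccc48794ec868df852d30a78b577c20) (.leaf (nat_lit 0x11b7acf2f1eb08354f0879db692cb5a793077c20)) (.leaf (nat_lit 0x11b7aef2eccc48794ec868df852d30a78b577c20)))) (.node (nat_lit 0x11b9766f5d8e48a1cde8c4acd3ae09fbaa5f5020) (.node (nat_lit 0x11b7ceeaf1cb10352ec469df894cb0a7d3577820) (.leaf (nat_lit 0x11b7cceaecec50792f0478db654d35a7cb077820)) (.leaf (nat_lit 0x11b7ceeaf1cb10352ec469df894cb0a7d3577820))) (.node (nat_lit 0x11b978ef59674923cda8b2b0f1aea5fba09f5020) (.leaf (nat_lit 0x11b9766f5d8e48a1cde8c4acd3ae09fbaa5f5020)) (.node (nat_lit 0x11b9b65f598f5123ade4c2acd1cea9fd205f3820) (.leaf (nat_lit 0x11b978ef59674923cda8b2b0f1aea5fba09f5020)) (.leaf (nat_lit 0x11b9b65f598f5123ade4c2acd1cea9fd205f3820))))))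 (.node (nat_lit 0x11bb1db33cbe96a1a3137c9b6393ceaa7f481420) (.node (nat_lit 0x11bacdc73abf2723930b7a9b61a3eea97d482420) (.node (nat_lit 0x11bacbc73cdea6a192cb6c9f83a3d4a97ee82420) (.leaf (nat_lit 0x11b9b8df5d6650a1ada4b4b0f3ce05fd2a9f3820)) (.leaf (nat_lit 0x11bacbc73cdea6a192cb6c9f83a3d4a97ee82420))) (.node (nat_lit 0x11bb1bb33adf1723a2d36a9f8193f4aa7ce81420) (.leaf (nat_lit 0x11bacdc73abf2723930b7a9b61a3eea97d482420)) (.leaf (nat_lit 0x11bb1bb33adf1723a2d36a9f8193f4aa7ce81420)))) (.node (nat_lit 0x19dbaef1f8cd9c692594b8b715157e2427f45420) (.node (nat_lit 0x19dbacf1f6ee1c252634d9aec9167f2417e45420) (.leaf (nat_lit 0x11bb1db33cbe96a1a3137c9b6393ceaa7f481420)) (.leaf (nat_lit 0x19dbacf1f6ee1c252634d9aec9167f2417e45420))) (.node (nat_lit 0x19dbcce9f8eda869162ed8aec5257f2567e44020) (.leaf (nat_lit 0x19dbaef1f8cd9c692594b8b715157e2427f45420)) (.node (nat_lit 0x19dbcee9f6ce2825158eb9b719267e2557f44020)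 (.leaf (nat_lit 0x19dbcce9f8eda869162ed8aec5257f2567e44020)) (.leaf (nat_lit 0x19dbcee9f6ce2825158eb9b719267e2557f44020)))))))) (.node (nat_lit 0x19f4fb379dc66923176e8a997127d3823eba9020) (.node (nat_lit 0x19f19e76cdd3ca6952e960a3b539109f8955fc20) (.node (nat_lit 0x19ed9d770de3d2253ae561a3b951155f8909fc20) (.node (nat_lit 0x19dfcce9b6ee1c692594b8b715167f4557e24020) (.node (nat_lit 0x19dfaef1b6ce2869162ed8aec5267e4417f25420) (.leaf (nat_lit 0x19dfacf1b8eda825158eb9b719257f4427e25420)) (.leaf (nat_lit 0x19dfaef1b6ce2869162ed8aec5267e4417f25420))) (.node (nat_lit 0x19dfcee9b8cd9c252634d9aec9157e4567f24020) (.leaf (nat_lit 0x19dfcce9b6ee1c692594b8b715167f4557e24020)) (.leaf (nat_lit 0x19dfcee9b8cd9c252634d9aec9157e4567f24020)))) (.node (nat_lit 0x19eddd670fe34a6952e960a3b538955fd109f820) (.node (nat_lit 0x19ed9e770fd352693b6588997550905f9159fc20) (.leaf (nat_lit 0x19ed9d770de3d2253ae561a3b951155f8909fc20))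 (.leaf (nat_lit 0x19ed9e770fd352693b6588997550905f9159fc20))) (.node (nat_lit 0x19edde670dd3ca25536989997939105fc959f820) (.leaf (nat_lit 0x19eddd670fe34a6952e960a3b538955fd109f820)) (.node (nat_lit 0x19f19d76cfe34a25536989997938959f9105fc20) (.leaf (nat_lit 0x19edde670dd3ca25536989997939105fc959f820)) (.leaf (nat_lit 0x19f19d76cfe34a25536989997938959f9105fc20)))))) (.node (nat_lit 0x19f367e3bc6e93233a25daaec15204f2ea8fcc20) (.node (nat_lit 0x19f1de66cfd352253ae561a3b950909fd155f820) (.node (nat_lit 0x19f1dd66cde3d2693b6588997551159fc905f820) (.leaf (nat_lit 0x19f19e76cdd3ca6952e960a3b539109f8955fc20)) (.leaf (nat_lit 0x19f1dd66cde3d2693b6588997551159fc905f820))) (.node (nat_lit 0x19f366e3ba7f12a13985bcb71352a8f2e04fcc20) (.leaf (nat_lit 0x19f1de66cfd352253ae561a3b950909fd155f820)) (.leaf (nat_lit 0x19f366e3ba7f12a13985bcb71352a8f2e04fcc20)))) (.node (nat_lit 0x19f387dbba6f0aa15229dcaec33aa4f4e08fac20)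 (.node (nat_lit 0x19f386dbbc7e8b235189bab7113a08f4ea4fac20) (.leaf (nat_lit 0x19f367e3bc6e93233a25daaec15204f2ea8fcc20)) (.leaf (nat_lit 0x19f386dbbc7e8b235189bab7113a08f4ea4fac20))) (.node (nat_lit 0x19f4db3f99c75ca127748c997317f3813cbaa020) (.leaf (nat_lit 0x19f387dbba6f0aa15229dcaec33aa4f4e08fac20)) (.node (nat_lit 0x19f4dc3f9db65d2326f462a3b117cb813f3aa020) (.leaf (nat_lit 0x19f4db3f99c75ca127748c997317f3813cbaa020)) (.leaf (nat_lit 0x19f4dc3f9db65d2326f462a3b117cb813f3aa020))))))) (.node (nat_lit 0x19fb87db3c6e92a13985bcb7135204fcea8f2c20) (.node (nat_lit 0x19f8fb3759c75d2326f462a3b117f3aa3cb81020) (.node (nat_lit 0x19f8db3f5dc668a116ee64a3b327d3a93eb82020) (.node (nat_lit 0x19f4fc3799b768a116ee64a3b327eb823d3a9020) (.leaf (nat_lit 0x19f4fb379dc66923176e8a997127d3823eba9020)) (.leaf (nat_lit 0x19f4fc3799b768a116ee64a3b327eb823d3a9020))) (.node (nat_lit 0x19f8dc3f59b76923176e8a997127eba93d382020)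 (.leaf (nat_lit 0x19f8db3f5dc668a116ee64a3b327d3a93eb82020)) (.leaf (nat_lit 0x19f8dc3f59b76923176e8a997127eba93d382020)))) (.node (nat_lit 0x19fb66e33c7e8aa15229dcaec33a08faea4f4c20) (.node (nat_lit 0x19f8fc375db65ca127748c997317cbaa3f381020) (.leaf (nat_lit 0x19f8fb3759c75d2326f462a3b117f3aa3cb81020)) (.leaf (nat_lit 0x19f8fc375db65ca127748c997317cbaa3f381020))) (.node (nat_lit 0x19fb67e33a6f0b235189bab7113aa4fae08f4c20) (.leaf (nat_lit 0x19fb66e33c7e8aa15229dcaec33a08faea4f4c20)) (.node (nat_lit 0x19fb86db3a7f13233a25daaec152a8fce04f2c20) (.leaf (nat_lit 0x19fb67e33a6f0b235189bab7113aa4fae08f4c20)) (.leaf (nat_lit 0x19fb86db3a7f13233a25daaec152a8fce04f2c20)))))) (.node (nat_lit 0x221b8dd9fabf26580a2bea72ca99df3aa9e1c820) (.node (nat_lit 0x221b6de1fcbe969a9a33e972c80a9f3c9de1a820) (.node (nat_lit 0x221b6be1fadf16581993ca7b1a89de3ca9f1a820) (.leaf (nat_lit 0x19fb87db3c6e92a13985bcb7135204fcea8f2c20))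 (.leaf (nat_lit 0x221b6be1fadf16581993ca7b1a89de3ca9f1a820))) (.node (nat_lit 0x221b8bd9fcdea69a898bc97b181a9e3a9df1c820) (.leaf (nat_lit 0x221b6de1fcbe969a9a33e972c80a9f3c9de1a820)) (.leaf (nat_lit 0x221b8bd9fcdea69a898bc97b181a9e3a9df1c820)))) (.node (nat_lit 0x221f6de1babf269a898bc97b1819df1ca9e3a820) (.node (nat_lit 0x221f6be1bcdea6580a2bea72ca9a9e1c9df3a820) (.leaf (nat_lit 0x221b8dd9fabf26580a2bea72ca99df3aa9e1c820)) (.leaf (nat_lit 0x221f6be1bcdea6580a2bea72ca9a9e1c9df3a820))) (.node (nat_lit 0x221f8bd9badf169a9a33e972c809de1aa9f3c820) (.leaf (nat_lit 0x221f6de1babf269a898bc97b1819df1ca9e3a820)) (.node (nat_lit 0x221f8dd9bcbe96581993ca7b1a8a9f1a9de3c820) (.leaf (nat_lit 0x221f8bd9badf169a9a33e972c809de1aa9f3c820)) (.leaf (nat_lit 0x221f8dd9bcbe96581993ca7b1a8a9f1a9de3c820))))))))) (.node (nat_lit 0x2a6eccc776ee1d021f546d5fc40fcb91bf350820) (.node (nat_lit 0x2237c6eaf67e0d54ad82cc3b12cd43f3a47fd020)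 (.node (nat_lit 0x2230de3ed7d6e7548b2b6423d29bd451fee90c20) (.node (nat_lit 0x222fa6f3767e0d02ae22ed72c4cd43fd247f3820) (.node (nat_lit 0x222cfd371be5e7548b2b6423d29bee90fd451c20) (.node (nat_lit 0x222cde3f1bd5d7549bb38c19928bf491fce50c20) (.leaf (nat_lit 0x222cdd3f17e6d7029b336563d48bce91ff450c20)) (.leaf (nat_lit 0x222cde3f1bd5d7549bb38c19928bf491fce50c20))) (.node (nat_lit 0x222cfe3717d6e7028bab8d59949bd490fee51c20) (.leaf (nat_lit 0x222cfd371be5e7548b2b6423d29bee90fd451c20)) (.leaf (nat_lit 0x222cfe3717d6e7028bab8d59949bd490fee51c20)))) (.node (nat_lit 0x222fc6eb787d8554ce26ec32c2ae43fb947f5020) (.node (nat_lit 0x222fa7f3786d8d54ad82cc3b12ce47fd143f3820) (.leaf (nat_lit 0x222fa6f3767e0d02ae22ed72c4cd43fd247f3820)) (.leaf (nat_lit 0x222fa7f3786d8d54ad82cc3b12ce47fd143f3820))) (.node (nat_lit 0x222fc7eb766e0502cd86cd7b14ad47fba43f5020) (.leaf (nat_lit 0x222fc6eb787d8554ce26ec32c2ae43fb947f5020))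 (.node (nat_lit 0x2230dd3edbe5e7028bab8d59949bee51fd490c20) (.leaf (nat_lit 0x222fc7eb766e0502cd86cd7b14ad47fba43f5020)) (.leaf (nat_lit 0x2230dd3edbe5e7028bab8d59949bee51fd490c20)))))) (.node (nat_lit 0x22357c6f8fb34c9aaf226163d84cf2a7c6a77820) (.node (nat_lit 0x2230fe36dbd5d7029b336563d48bf450fce91c20) (.node (nat_lit 0x2230fd36d7e6d7549bb38c19928bce50ff491c20) (.leaf (nat_lit 0x2230de3ed7d6e7548b2b6423d29bd451fee90c20)) (.leaf (nat_lit 0x2230fd36d7e6d7549bb38c19928bce50ff491c20))) (.node (nat_lit 0x22357b6f8dc3cc582fa28a599acc6aa7cf277820) (.leaf (nat_lit 0x2230fe36dbd5d7029b336563d48bf450fce91c20)) (.leaf (nat_lit 0x22357b6f8dc3cc582fa28a599acc6aa7cf277820)))) (.node (nat_lit 0x2235bc5f8db3c4584f266263daac72a78ea77c20) (.node (nat_lit 0x2235bb5f8fc3449acfa68959982ceaa787277c20) (.leaf (nat_lit 0x22357c6f8fb34c9aaf226163d84cf2a7c6a77820)) (.leaf (nat_lit 0x2235bb5f8fc3449acfa68959982ceaa787277c20)))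 (.node (nat_lit 0x2237a6f2f87d8502cd86cd7b14ae43f5147fb820) (.leaf (nat_lit 0x2235bc5f8db3c4584f266263daac72a78ea77c20)) (.node (nat_lit 0x2237a7f2f66e0554ce26ec32c2ad47f5243fb820) (.leaf (nat_lit 0x2237a6f2f87d8502cd86cd7b14ae43f5147fb820)) (.leaf (nat_lit 0x2237a7f2f66e0554ce26ec32c2ad47f5243fb820))))))) (.node (nat_lit 0x2a59bc5e39b768480deee234da9d7f32a7e14820) (.node (nat_lit 0x2239bb5f4dc3cc9aaf226163d84c6a778f2a7c20) (.node (nat_lit 0x22397b6f4fc344584f266263daacea77c72a7820) (.node (nat_lit 0x2237c7eaf86d8d02ae22ed72c4ce47f3943fd020) (.leaf (nat_lit 0x2237c6eaf67e0d54ad82cc3b12cd43f3a47fd020)) (.leaf (nat_lit 0x2237c7eaf86d8d02ae22ed72c4ce47f3943fd020))) (.node (nat_lit 0x22397c6f4db3c49acfa68959982c7277ceaa7820) (.leaf (nat_lit 0x22397b6f4fc344584f266263daacea77c72a7820)) (.leaf (nat_lit 0x22397c6f4db3c49acfa68959982c7277ceaa7820)))) (.node (nat_lit 0x2a597b6e39c75c481db4d238fa8d7e34a7f12820)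 (.node (nat_lit 0x2239bc5f4fb34c582fa28a599accf27786aa7c20) (.leaf (nat_lit 0x2239bb5f4dc3cc9aaf226163d84c6a778f2a7c20)) (.leaf (nat_lit 0x2239bc5f4fb34c582fa28a599accf27786aa7c20))) (.node (nat_lit 0x2a597c6e3db65c8a9df4e134d80e7f3497e12820) (.leaf (nat_lit 0x2a597b6e39c75c481db4d238fa8d7e34a7f12820)) (.node (nat_lit 0x2a59bb5e3dc6688a8daed138f81e7e3297f14820) (.leaf (nat_lit 0x2a597c6e3db65c8a9df4e134d80e7f3497e12820)) (.leaf (nat_lit 0x2a59bb5e3dc6688a8daed138f81e7e3297f14820)))))) (.node (nat_lit 0x2a63bc5d9db65c481db4d238fa8e7f1297e34820) (.node (nat_lit 0x2a637c6d99b7688a8daed138f81d7f14a7e32820) (.node (nat_lit 0x2a637b6d9dc668480deee234da9e7e1497f32820) (.leaf (nat_lit 0x2a59bc5e39b768480deee234da9d7f32a7e14820)) (.leaf (nat_lit 0x2a637b6d9dc668480deee234da9e7e1497f32820))) (.node (nat_lit 0x2a63bb5d99c75c8a9df4e134d80d7e12a7f34820) (.leaf (nat_lit 0x2a637c6d99b7688a8daed138f81d7f14a7e32820))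 (.leaf (nat_lit 0x2a63bb5d99c75c8a9df4e134d80d7e12a7f34820)))) (.node (nat_lit 0x2a6d98f71b65cf5439a3d438f25246fcd42f2c20) (.node (nat_lit 0x2a6d9677178ecf0239e3e574d45142fce46f2c20) (.leaf (nat_lit 0x2a63bc5d9db65c481db4d238fa8e7f1297e34820)) (.leaf (nat_lit 0x2a6d9677178ecf0239e3e574d45142fce46f2c20))) (.node (nat_lit 0x2a6dd6671b8dc75451e7e434d23a42fad46f4c20) (.leaf (nat_lit 0x2a6d98f71b65cf5439a3d438f25246fcd42f2c20)) (.node (nat_lit 0x2a6dd8e71766c70251a7d578f43946fae42f4c20) (.leaf (nat_lit 0x2a6dd6671b8dc75451e7e434d23a42fad46f4c20)) (.leaf (nat_lit 0x2a6dd8e71766c70251a7d578f43946fae42f4c20)))))))) (.node (nat_lit 0x2a7b8bdb2cdc4e8abb43691fc8504a5f8d29fc20) (.node (nat_lit 0x2a736de3b1bb0e8abb43691fc850d29fc4a5f820) (.node (nat_lit 0x2a719676db8dc70251a7d578f43a42f4d46fac20) (.node (nat_lit 0x2a6f1cb378eda9540f4e6c1fc21feb90bd351820) (.node (nat_lit 0x2a6ecec778cd9d541f947c1ba20ff391bcb50820)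 (.leaf (nat_lit 0x2a6eccc776ee1d021f546d5fc40fcb91bf350820)) (.leaf (nat_lit 0x2a6ecec778cd9d541f947c1ba20ff391bcb50820))) (.node (nat_lit 0x2a6f1eb376ce29020f8e7d5ba41fd390beb51820) (.leaf (nat_lit 0x2a6f1cb378eda9540f4e6c1fc21feb90bd351820)) (.leaf (nat_lit 0x2a6f1eb376ce29020f8e7d5ba41fd390beb51820)))) (.node (nat_lit 0x2a71d666d78ecf5439a3d438f25142f2e46fcc20) (.node (nat_lit 0x2a7198f6d766c75451e7e434d23946f4e42fac20) (.leaf (nat_lit 0x2a719676db8dc70251a7d578f43a42f4d46fac20)) (.leaf (nat_lit 0x2a7198f6d766c75451e7e434d23946f4e42fac20))) (.node (nat_lit 0x2a71d8e6db65cf0239e3e574d45246f2d42fcc20) (.leaf (nat_lit 0x2a71d666d78ecf5439a3d438f25142f2e46fcc20)) (.node (nat_lit 0x2a736be3acdc4e483b837a1baad04a9fcd25f820) (.leaf (nat_lit 0x2a71d8e6db65cf0239e3e574d45246f2d42fcc20)) (.leaf (nat_lit 0x2a736be3acdc4e483b837a1baad04a9fcd25f820)))))) (.node (nat_lit 0x2a76cec6f6ce29540f4e6c1fc21fd351beb90820)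 (.node (nat_lit 0x2a738ddbacbc464853476a1fcab8529f8ca5fc20) (.node (nat_lit 0x2a738bdbb1db068ad387791ba838ca9f8525fc20) (.leaf (nat_lit 0x2a736de3b1bb0e8abb43691fc850d29fc4a5f820)) (.leaf (nat_lit 0x2a738bdbb1db068ad387791ba838ca9f8525fc20))) (.node (nat_lit 0x2a76ccc6f8eda9020f8e7d5ba41feb51bd390820) (.leaf (nat_lit 0x2a738ddbacbc464853476a1fcab8529f8ca5fc20)) (.leaf (nat_lit 0x2a76ccc6f8eda9020f8e7d5ba41feb51bd390820)))) (.node (nat_lit 0x2a771eb2f8cd9d021f546d5fc40ff350bcb91820) (.node (nat_lit 0x2a771cb2f6ee1d541f947c1ba20fcb50bf391820) (.leaf (nat_lit 0x2a76cec6f6ce29540f4e6c1fc21fd351beb90820)) (.leaf (nat_lit 0x2a771cb2f6ee1d541f947c1ba20fcb50bf391820))) (.node (nat_lit 0x2a7b6be331db064853476a1fcab8ca5fc529f820) (.leaf (nat_lit 0x2a771eb2f8cd9d021f546d5fc40ff350bcb91820)) (.node (nat_lit 0x2a7b6de32cbc468ad387791ba838525fcca9f820) (.leaf (nat_lit 0x2a7b6be331db064853476a1fcab8ca5fc529f820))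 (.leaf (nat_lit 0x2a7b6de32cbc468ad387791ba838525fcca9f820))))))) (.node (nat_lit 0x30a3de6597d6e67521abc0ecf911df2c29e4d420) (.node (nat_lit 0x3099dd6637e6d63911b3c1ecf521de4c29f2d420) (.node (nat_lit 0x30999d763be5e67521abc0ecf9129e4d5df2c020) (.node (nat_lit 0x2a7b8ddb31bb0e483b837a1baad0d25f84a9fc20) (.leaf (nat_lit 0x2a7b8bdb2cdc4e8abb43691fc8504a5f8d29fc20)) (.leaf (nat_lit 0x2a7b8ddb31bb0e483b837a1baad0d25f84a9fc20))) (.node (nat_lit 0x30999e7637d6e63921ebb1f0d511df4d69e2c020) (.leaf (nat_lit 0x30999d763be5e67521abc0ecf9129e4d5df2c020)) (.leaf (nat_lit 0x30999e7637d6e63921ebb1f0d511df4d69e2c020)))) (.node (nat_lit 0x30a39d7597e6d67511f3b0f0d921de2d69f4c020) (.node (nat_lit 0x3099de663bd5d67511f3b0f0d9229f4c1de2d420) (.leaf (nat_lit 0x3099dd6637e6d63911b3c1ecf521de4c29f2d420)) (.leaf (nat_lit 0x3099de663bd5d67511f3b0f0d9229f4c1de2d420))) (.node (nat_lit 0x30a39e759bd5d63911b3c1ecf5229f2d5de4c020)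 (.leaf (nat_lit 0x30a39d7597e6d67511f3b0f0d921de2d69f4c020)) (.node (nat_lit 0x30a3dd659be5e63921ebb1f0d5129e2c1df4d420) (.leaf (nat_lit 0x30a39e759bd5d63911b3c1ecf5229f2d5de4c020)) (.leaf (nat_lit 0x30a3dd659be5e63921ebb1f0d5129e2c1df4d420)))))) (.node (nat_lit 0x30afceeb71cb10754ec478db892d35a78b077c20) (.node (nat_lit 0x30afaef36ccc48392ec879db854cb5a7d3077820) (.node (nat_lit 0x30afacf371eb08752f0868df694d30a7cb577820) (.leaf (nat_lit 0x30a3de6597d6e67521abc0ecf911df2c29e4d420)) (.leaf (nat_lit 0x30afacf371eb08752f0868df694d30a7cb577820))) (.node (nat_lit 0x30afcceb6cec50394f0469df652cb0a793577c20) (.leaf (nat_lit 0x30afaef36ccc48392ec879db854cb5a7d3077820)) (.leaf (nat_lit 0x30afcceb6cec50394f0469df652cb0a793577c20)))) (.node (nat_lit 0x30b2cdc7babf26a3a30b6c9f6193d4aa7ee81420) (.node (nat_lit 0x30b2cbc7bcdea721a2cb7a9b8393eeaa7d481420) (.leaf (nat_lit 0x30afceeb71cb10754ec478db892d35a78b077c20))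 (.leaf (nat_lit 0x30b2cbc7bcdea721a2cb7a9b8393eeaa7d481420))) (.node (nat_lit 0x30b31bb3badf16a392d37c9b81a3cea97f482420) (.leaf (nat_lit 0x30b2cdc7babf26a3a30b6c9f6193d4aa7ee81420)) (.node (nat_lit 0x30b31db3bcbe972193136a9f63a3f4a97ce82420) (.leaf (nat_lit 0x30b31bb3badf16a392d37c9b81a3cea97f482420)) (.leaf (nat_lit 0x30b31db3bcbe972193136a9f63a3f4a97ce82420)))))))))) (.node (nat_lit 0x4137a6f2f67e0d52ce22cc3ac4ae47fb943f5020) (.node (nat_lit 0x38f4db3f9dc6692126ee8a99b317ebaa3d381020) (.node (nat_lit 0x38dbcce9f6ee1c291594d9af15257e4427f25420) (.node (nat_lit 0x30b978ef5d6650a3cde4b4b0d1aea9f5205fb820) (.node (nat_lit 0x30b7acf2ecec50754ec478db892cb077d35a7820) (.node (nat_lit 0x30b5b65f998f50a3cde4b4b0d1ae05fbaa9f5020) (.node (nat_lit 0x30b578ef996748a3ada8c4acf1ce09fd2a5f3820) (.leaf (nat_lit 0x30b5766f9d8e4921ade8b2b0d3cea5fd209f3820)) (.leaf (nat_lit 0x30b578ef996748a3ada8c4acf1ce09fd2a5f3820)))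 (.node (nat_lit 0x30b5b8df9d665121cda4c2acf3aea9fba05f5020) (.leaf (nat_lit 0x30b5b65f998f50a3cde4b4b0d1ae05fbaa9f5020)) (.leaf (nat_lit 0x30b5b8df9d665121cda4c2acf3aea9fba05f5020)))) (.node (nat_lit 0x30b7cceaf1eb08392ec879db854d30778b5a7c20) (.node (nat_lit 0x30b7aef2f1cb10394f0469df652d3577cb0a7820) (.leaf (nat_lit 0x30b7acf2ecec50754ec478db892cb077d35a7820)) (.leaf (nat_lit 0x30b7aef2f1cb10394f0469df652d3577cb0a7820))) (.node (nat_lit 0x30b7ceeaeccc48752f0868df694cb577930a7c20) (.leaf (nat_lit 0x30b7cceaf1eb08392ec879db854d30778b5a7c20)) (.node (nat_lit 0x30b9766f598f5121cda4c2acf3ae05f52a9fb820) (.leaf (nat_lit 0x30b7ceeaeccc48752f0868df694cb577930a7c20)) (.leaf (nat_lit 0x30b9766f598f5121cda4c2acf3ae05f52a9fb820)))))) (.node (nat_lit 0x30bacdc73cbe96a392d37c9b81a3f4827cea9420) (.node (nat_lit 0x30b9b8df59674921ade8b2b0d3ce09f3aa5fd020) (.node (nat_lit 0x30b9b65f5d8e48a3ada8c4acf1cea5f3a09fd020)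 (.leaf (nat_lit 0x30b978ef5d6650a3cde4b4b0d1aea9f5205fb820)) (.leaf (nat_lit 0x30b9b65f5d8e48a3ada8c4acf1cea5f3a09fd020))) (.node (nat_lit 0x30bacbc73adf172193136a9f63a3ce827f4a9420) (.leaf (nat_lit 0x30b9b8df59674921ade8b2b0d3ce09f3aa5fd020)) (.leaf (nat_lit 0x30bacbc73adf172193136a9f63a3ce827f4a9420)))) (.node (nat_lit 0x30bb1db33abf2721a2cb7a9b8393d4817eeaa420) (.node (nat_lit 0x30bb1bb33cdea6a3a30b6c9f6193ee817d4aa420) (.leaf (nat_lit 0x30bacdc73cbe96a392d37c9b81a3f4827cea9420)) (.leaf (nat_lit 0x30bb1bb33cdea6a3a30b6c9f6193ee817d4aa420))) (.node (nat_lit 0x38dbacf1f8eda865258ed8af19167e4557f24020) (.leaf (nat_lit 0x30bb1db33abf2721a2cb7a9b8393d4817eeaa420)) (.node (nat_lit 0x38dbaef1f6ce2829262eb9b6c5157f4567e24020) (.leaf (nat_lit 0x38dbacf1f8eda865258ed8af19167e4557f24020)) (.leaf (nat_lit 0x38dbaef1f6ce2829262eb9b6c5157f4567e24020))))))) (.node (nat_lit 0x38edde670fd3526552e58899b939159f8905fc20)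 (.node (nat_lit 0x38dfcce9b8eda829262eb9b6c5167e2417f45420) (.node (nat_lit 0x38dfacf1b6ee1c651634b8b6c9257e2567f44020) (.node (nat_lit 0x38dbcee9f8cd9c651634b8b6c9267f4417e25420) (.leaf (nat_lit 0x38dbcce9f6ee1c291594d9af15257e4427f25420)) (.leaf (nat_lit 0x38dbcee9f8cd9c651634b8b6c9267f4417e25420))) (.node (nat_lit 0x38dfaef1b8cd9c291594d9af15267f2557e44020) (.leaf (nat_lit 0x38dfacf1b6ee1c651634b8b6c9257e2567f44020)) (.leaf (nat_lit 0x38dfaef1b8cd9c291594d9af15267f2557e44020)))) (.node (nat_lit 0x38ed9d770fe34a653b6960a37951109fc955f820) (.node (nat_lit 0x38dfcee9b6ce2865258ed8af19157f2427e45420) (.leaf (nat_lit 0x38dfcce9b8eda829262eb9b6c5167e2417f45420)) (.leaf (nat_lit 0x38dfcee9b6ce2865258ed8af19157f2427e45420))) (.node (nat_lit 0x38ed9e770dd3ca293ae98999b550959fd105f820) (.leaf (nat_lit 0x38ed9d770fe34a653b6960a37951109fc955f820)) (.node (nat_lit 0x38eddd670de3d229536561a37538909f9155fc20)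 (.leaf (nat_lit 0x38ed9e770dd3ca293ae98999b550959fd105f820)) (.leaf (nat_lit 0x38eddd670de3d229536561a37538909f9155fc20)))))) (.node (nat_lit 0x38f1de66cdd3ca653b6960a37950955f9109fc20) (.node (nat_lit 0x38f19e76cfd35229536561a37539155fc909f820) (.node (nat_lit 0x38f19d76cde3d26552e58899b938905fd159f820) (.leaf (nat_lit 0x38edde670fd3526552e58899b939159f8905fc20)) (.leaf (nat_lit 0x38f19d76cde3d26552e58899b938905fd159f820))) (.node (nat_lit 0x38f1dd66cfe34a293ae98999b551105f8959fc20) (.leaf (nat_lit 0x38f19e76cfd35229536561a37539155fc909f820)) (.leaf (nat_lit 0x38f1dd66cfe34a293ae98999b551105f8959fc20)))) (.node (nat_lit 0x38f367e3ba6f0aa33989dcaf115208fcea4f2c20) (.node (nat_lit 0x38f366e3bc7e8b213a29bab6c352a4fce08f2c20) (.leaf (nat_lit 0x38f1de66cdd3ca653b6960a37950955f9109fc20)) (.leaf (nat_lit 0x38f366e3bc7e8b213a29bab6c352a4fce08f2c20))) (.node (nat_lit 0x38f386dbba7f12a35225bcb6c13a04faea8f4c20)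 (.leaf (nat_lit 0x38f367e3ba6f0aa33989dcaf115208fcea4f2c20)) (.node (nat_lit 0x38f387dbbc6e93215185daaf133aa8fae04f4c20) (.leaf (nat_lit 0x38f386dbba7f12a35225bcb6c13a04faea8f4c20)) (.leaf (nat_lit 0x38f387dbbc6e93215185daaf133aa8fae04f4c20)))))))) (.node (nat_lit 0x411f8bd9bcdea65a998bea731809df3ca9e1a820) (.node (nat_lit 0x38fb67e33c6e92a35225bcb6c13aa8f4e04fac20) (.node (nat_lit 0x38f8db3f59c75d21177462a37327cb823f3a9020) (.node (nat_lit 0x38f4fb3799c75ca316f48c99b127cba93f382020) (.node (nat_lit 0x38f4dc3f99b768a3276e64a37117d3aa3eb81020) (.leaf (nat_lit 0x38f4db3f9dc6692126ee8a99b317ebaa3d381020)) (.leaf (nat_lit 0x38f4dc3f99b768a3276e64a37117d3aa3eb81020))) (.node (nat_lit 0x38f4fc379db65d21177462a37327f3a93cb82020) (.leaf (nat_lit 0x38f4fb3799c75ca316f48c99b127cba93f382020)) (.leaf (nat_lit 0x38f4fc379db65d21177462a37327f3a93cb82020)))) (.node (nat_lit 0x38f8fb375dc668a3276e64a37117eb813d3aa020)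 (.node (nat_lit 0x38f8dc3f5db65ca316f48c99b127f3823cba9020) (.leaf (nat_lit 0x38f8db3f59c75d21177462a37327cb823f3a9020)) (.leaf (nat_lit 0x38f8dc3f5db65ca316f48c99b127f3823cba9020))) (.node (nat_lit 0x38f8fc3759b7692126ee8a99b317d3813ebaa020) (.leaf (nat_lit 0x38f8fb375dc668a3276e64a37117eb813d3aa020)) (.node (nat_lit 0x38fb66e33a7f13215185daaf133a04f4ea8fac20) (.leaf (nat_lit 0x38f8fc3759b7692126ee8a99b317d3813ebaa020)) (.leaf (nat_lit 0x38fb66e33a7f13215185daaf133a04f4ea8fac20)))))) (.node (nat_lit 0x411b6de1fabf265a998bea73180a9e1a9df3c820) (.node (nat_lit 0x38fb87db3a6f0b213a29bab6c35208f2ea4fcc20) (.node (nat_lit 0x38fb86db3c7e8aa33989dcaf1152a4f2e08fcc20) (.leaf (nat_lit 0x38fb67e33c6e92a35225bcb6c13aa8f4e04fac20)) (.leaf (nat_lit 0x38fb86db3c7e8aa33989dcaf1152a4f2e08fcc20))) (.node (nat_lit 0x411b6be1fcdea6981a2bc97aca89df1aa9e3c820) (.leaf (nat_lit 0x38fb87db3a6f0b213a29bab6c35208f2ea4fcc20))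 (.leaf (nat_lit 0x411b6be1fcdea6981a2bc97aca89df1aa9e3c820)))) (.node (nat_lit 0x411b8dd9fcbe96980993e9731a99de1ca9f3a820) (.node (nat_lit 0x411b8bd9fadf165a8a33ca7ac81a9f1c9de3a820) (.leaf (nat_lit 0x411b6de1fabf265a998bea73180a9e1a9df3c820)) (.leaf (nat_lit 0x411b8bd9fadf165a8a33ca7ac81a9f1c9de3a820))) (.node (nat_lit 0x411f6be1badf16980993e9731a9a9f3a9de1c820) (.leaf (nat_lit 0x411b8dd9fcbe96980993e9731a99de1ca9f3a820)) (.node (nat_lit 0x411f6de1bcbe965a8a33ca7ac819de3aa9f1c820) (.leaf (nat_lit 0x411f6be1badf16980993e9731a9a9f3a9de1c820)) (.leaf (nat_lit 0x411f6de1bcbe965a8a33ca7ac819de3aa9f1c820))))))) (.node (nat_lit 0x412fc7eb786d8d52ce22cc3ac4ad43f5247fb820) (.node (nat_lit 0x412cfd3717e6d7048bb36563929bf451fce90c20) (.node (nat_lit 0x412cdd3f1be5e7529bab6423948bd450fee91c20) (.node (nat_lit 0x411f8dd9babf26981a2bc97aca8a9e3c9df1a820) (.leaf (nat_lit 0x411f8bd9bcdea65a998bea731809df3ca9e1a820))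 (.leaf (nat_lit 0x411f8dd9babf26981a2bc97aca8a9e3c9df1a820))) (.node (nat_lit 0x412cde3f17d6e7049b2b8d59d28bee50fd491c20) (.leaf (nat_lit 0x412cdd3f1be5e7529bab6423948bd450fee91c20)) (.leaf (nat_lit 0x412cde3f17d6e7049b2b8d59d28bee50fd491c20)))) (.node (nat_lit 0x412fa6f3787d8552ad86ec3314cd47f3a43fd020) (.node (nat_lit 0x412cfe371bd5d7528b338c19d49bce51ff490c20) (.leaf (nat_lit 0x412cfd3717e6d7048bb36563929bf451fce90c20)) (.leaf (nat_lit 0x412cfe371bd5d7528b338c19d49bce51ff490c20))) (.node (nat_lit 0x412fa7f3766e0504ae26cd7ac2ce43f3947fd020) (.leaf (nat_lit 0x412fa6f3787d8552ad86ec3314cd47f3a43fd020)) (.node (nat_lit 0x412fc6eb767e0d04cd82ed7312ae47f5143fb820) (.leaf (nat_lit 0x412fa7f3766e0504ae26cd7ac2ce43f3947fd020)) (.leaf (nat_lit 0x412fc6eb767e0d04cd82ed7312ae47f5143fb820)))))) (.node (nat_lit 0x4130fe36d7d6e7529bab6423948bee91fd450c20) (.node (nat_lit 0x4130de3edbd5d7048bb36563929bce90ff451c20)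 (.node (nat_lit 0x4130dd3ed7e6d7528b338c19d49bf490fce51c20) (.leaf (nat_lit 0x412fc7eb786d8d52ce22cc3ac4ad43f5247fb820)) (.leaf (nat_lit 0x4130dd3ed7e6d7528b338c19d49bf490fce51c20))) (.node (nat_lit 0x4130fd36dbe5e7049b2b8d59d28bd491fee50c20) (.leaf (nat_lit 0x4130de3edbd5d7048bb36563929bce90ff451c20)) (.leaf (nat_lit 0x4130fd36dbe5e7049b2b8d59d28bd491fee50c20)))) (.node (nat_lit 0x41357c6f8db3c45aafa66263984cea77872a7c20) (.node (nat_lit 0x41357b6f8fc344982f268959dacc72778eaa7c20) (.leaf (nat_lit 0x4130fe36d7d6e7529bab6423948bee91fd450c20)) (.leaf (nat_lit 0x41357b6f8fc344982f268959dacc72778eaa7c20))) (.node (nat_lit 0x4135bb5f8dc3cc5acf228a59d82cf277c6aa7820) (.leaf (nat_lit 0x41357c6f8db3c45aafa66263984cea77872a7c20)) (.node (nat_lit 0x4135bc5f8fb34c984fa261639aac6a77cf2a7820) (.leaf (nat_lit 0x4135bb5f8dc3cc5acf228a59d82cf277c6aa7820)) (.leaf (nat_lit 0x4135bc5f8fb34c984fa261639aac6a77cf2a7820)))))))))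 (.node (nat_lit 0x497b6be32cdc4e885383691faab8d29f84a5fc20) (.node (nat_lit 0x496dd667178ecf0451a3e574f23a46f4d42fac20) (.node (nat_lit 0x49597c6e39b7684a9daee234f80e7e1297f34820) (.node (nat_lit 0x41397b6f4dc3cc984fa261639aacf2a786a77c20) (.node (nat_lit 0x4137c6eaf87d8504ae26cd7ac2cd47fd243f3820) (.node (nat_lit 0x4137a7f2f86d8d04cd82ed7312ad43fba47f5020) (.leaf (nat_lit 0x4137a6f2f67e0d52ce22cc3ac4ae47fb943f5020)) (.leaf (nat_lit 0x4137a7f2f86d8d04cd82ed7312ad43fba47f5020))) (.node (nat_lit 0x4137c7eaf66e0552ad86ec3314ce43fd147f3820) (.leaf (nat_lit 0x4137c6eaf87d8504ae26cd7ac2cd47fd243f3820)) (.leaf (nat_lit 0x4137c7eaf66e0552ad86ec3314ce43fd147f3820)))) (.node (nat_lit 0x4139bb5f4fc3445aafa66263984c72a7cea77820) (.node (nat_lit 0x41397c6f4fb34c5acf228a59d82c6aa78f277c20) (.leaf (nat_lit 0x41397b6f4dc3cc984fa261639aacf2a786a77c20)) (.leaf (nat_lit 0x41397c6f4fb34c5acf228a59d82c6aa78f277c20)))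 (.node (nat_lit 0x4139bc5f4db3c4982f268959dacceaa7c7277820) (.leaf (nat_lit 0x4139bb5f4fc3445aafa66263984c72a7cea77820)) (.node (nat_lit 0x49597b6e3dc668881deed138da8d7f12a7e34820) (.leaf (nat_lit 0x4139bc5f4db3c4982f268959dacceaa7c7277820)) (.leaf (nat_lit 0x49597b6e3dc668881deed138da8d7f12a7e34820)))))) (.node (nat_lit 0x49637c6d9db65c4a8df4d238d81d7e32a7f14820) (.node (nat_lit 0x4959bc5e3db65c880db4e134fa9d7e14a7f32820) (.node (nat_lit 0x4959bb5e39c75c4a8df4d238d81e7f1497e32820) (.leaf (nat_lit 0x49597c6e39b7684a9daee234f80e7e1297f34820)) (.leaf (nat_lit 0x4959bb5e39c75c4a8df4d238d81e7f1497e32820))) (.node (nat_lit 0x49637b6d99c75c880db4e134fa9e7f3297e14820) (.leaf (nat_lit 0x4959bc5e3db65c880db4e134fa9d7e14a7f32820)) (.leaf (nat_lit 0x49637b6d99c75c880db4e134fa9e7f3297e14820)))) (.node (nat_lit 0x4963bc5d99b768881deed138da8e7e3497f12820) (.node (nat_lit 0x4963bb5d9dc6684a9daee234f80d7f34a7e12820)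 (.leaf (nat_lit 0x49637c6d9db65c4a8df4d238d81d7e32a7f14820)) (.leaf (nat_lit 0x4963bb5d9dc6684a9daee234f80d7f34a7e12820))) (.node (nat_lit 0x496d96771b8dc75239a7e434f45146f2e42fcc20) (.leaf (nat_lit 0x4963bc5d99b768881deed138da8e7e3497f12820)) (.node (nat_lit 0x496d98f71766c70439e7d578d25242f2d46fcc20) (.leaf (nat_lit 0x496d96771b8dc75239a7e434f45146f2e42fcc20)) (.leaf (nat_lit 0x496d98f71766c70439e7d578d25242f2d46fcc20))))))) (.node (nat_lit 0x4971d8e6d766c75239a7e434f45242fcd46f2c20) (.node (nat_lit 0x496f1cb376ee1d040f946d5fa21ff351bcb90820) (.node (nat_lit 0x496eccc778eda9521f8e6c1fa40fd350beb91820) (.node (nat_lit 0x496dd8e71b65cf5251e3d438d43942f4e46fac20) (.leaf (nat_lit 0x496dd667178ecf0451a3e574f23a46f4d42fac20)) (.leaf (nat_lit 0x496dd8e71b65cf5251e3d438d43942f4e46fac20))) (.node (nat_lit 0x496ecec776ce29041f4e7d5bc20feb50bd391820) (.leaf (nat_lit 0x496eccc778eda9521f8e6c1fa40fd350beb91820))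 (.leaf (nat_lit 0x496ecec776ce29041f4e7d5bc20feb50bd391820)))) (.node (nat_lit 0x49719676d78ecf5251e3d438d43a46fad42f4c20) (.node (nat_lit 0x496f1eb378cd9d520f547c1bc41fcb51bf390820) (.leaf (nat_lit 0x496f1cb376ee1d040f946d5fa21ff351bcb90820)) (.leaf (nat_lit 0x496f1eb378cd9d520f547c1bc41fcb51bf390820))) (.node (nat_lit 0x497198f6db65cf0451a3e574f23942fae46f4c20) (.leaf (nat_lit 0x49719676d78ecf5251e3d438d43a46fad42f4c20)) (.node (nat_lit 0x4971d666db8dc70439e7d578d25146fce42f2c20) (.leaf (nat_lit 0x497198f6db65cf0451a3e574f23942fae46f4c20)) (.leaf (nat_lit 0x4971d666db8dc70439e7d578d25146fce42f2c20)))))) (.node (nat_lit 0x49738ddbb1bb0e885383691faab84a5fcd29f820) (.node (nat_lit 0x49736de3acbc464abb876a1fa850ca5f8529fc20) (.node (nat_lit 0x49736be3b1db06883b47791bcad0525f8ca9fc20) (.leaf (nat_lit 0x4971d8e6d766c75239a7e434f45242fcd46f2c20)) (.leaf (nat_lit 0x49736be3b1db06883b47791bcad0525f8ca9fc20)))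 (.node (nat_lit 0x49738bdbacdc4e4ad3437a1bc838d25fc4a9f820) (.leaf (nat_lit 0x49736de3acbc464abb876a1fa850ca5f8529fc20)) (.leaf (nat_lit 0x49738bdbacdc4e4ad3437a1bc838d25fc4a9f820)))) (.node (nat_lit 0x4976cec6f8cd9d040f946d5fa21fcb90bf351820) (.node (nat_lit 0x4976ccc6f6ee1d520f547c1bc41ff390bcb51820) (.leaf (nat_lit 0x49738ddbb1bb0e885383691faab84a5fcd29f820)) (.leaf (nat_lit 0x4976ccc6f6ee1d520f547c1bc41ff390bcb51820))) (.node (nat_lit 0x49771cb2f8eda9041f4e7d5bc20fd391beb50820) (.leaf (nat_lit 0x4976cec6f8cd9d040f946d5fa21fcb90bf351820)) (.node (nat_lit 0x49771eb2f6ce29521f8e6c1fa40feb91bd350820) (.leaf (nat_lit 0x49771cb2f8eda9041f4e7d5bc20fd391beb50820)) (.leaf (nat_lit 0x49771eb2f6ce29521f8e6c1fa40feb91bd350820)))))))) (.node (nat_lit 0x54a2fb3597c6ea737bb0e0f5917d28a4ca472c20) (.node (nat_lit 0x549acdc5f8bdaa63fb90e8b3a1fc855b9099d020) (.node (nat_lit 0x5498db3e37c6ea317b30d1f9d37d2872ca4a4c20)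 (.node (nat_lit 0x497b8bdb31db064abb876a1fa850529fcca5f820) (.node (nat_lit 0x497b6de331bb0e4ad3437a1bc8384a9f8d25fc20) (.leaf (nat_lit 0x497b6be32cdc4e885383691faab8d29f84a5fc20)) (.leaf (nat_lit 0x497b6de331bb0e4ad3437a1bc8384a9f8d25fc20))) (.node (nat_lit 0x497b8ddb2cbc46883b47791bcad0ca9fc525f820) (.leaf (nat_lit 0x497b8bdb31db064abb876a1fa850529fcca5f820)) (.leaf (nat_lit 0x497b8ddb2cbc46883b47791bcad0ca9fc525f820)))) (.node (nat_lit 0x5498fb363bc5e0737f35d0f9d178a874d24a2c20) (.node (nat_lit 0x5498dc3e3bb5ea737bb0e0f5917ca472d28a4c20) (.leaf (nat_lit 0x5498db3e37c6ea317b30d1f9d37d2872ca4a4c20)) (.leaf (nat_lit 0x5498dc3e3bb5ea737bb0e0f5917ca472d28a4c20))) (.node (nat_lit 0x5498fc3637b6e0317fb5e1f593792474ca8a2c20) (.leaf (nat_lit 0x5498fb363bc5e0737f35d0f9d178a874d24a2c20)) (.node (nat_lit 0x549acbc5f6de2a21fb50c9bbc3fd095b8859d020) (.leaf (nat_lit 0x5498fc3637b6e0317fb5e1f593792474ca8a2c20))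 (.leaf (nat_lit 0x549acbc5f6de2a21fb50c9bbc3fd095b8859d020)))))) (.node (nat_lit 0x549ecdc5b6be2063ff55c8bbc1f9059b8895d020) (.node (nat_lit 0x549b1db1f6be2021ff95e9b3a3f9055d0899b820) (.node (nat_lit 0x549b1bb1f8dda063ff55c8bbc1f8895d1059b820) (.leaf (nat_lit 0x549acdc5f8bdaa63fb90e8b3a1fc855b9099d020)) (.leaf (nat_lit 0x549b1bb1f8dda063ff55c8bbc1f8895d1059b820))) (.node (nat_lit 0x549ecbc5b8dda021ff95e9b3a3f8899b9055d020) (.leaf (nat_lit 0x549b1db1f6be2021ff95e9b3a3f9055d0899b820)) (.leaf (nat_lit 0x549ecbc5b8dda021ff95e9b3a3f8899b9055d020)))) (.node (nat_lit 0x549f1db1b8bdaa21fb50c9bbc3fc859d1095b820) (.node (nat_lit 0x549f1bb1b6de2a63fb90e8b3a1fd099d0855b820) (.leaf (nat_lit 0x549ecdc5b6be2063ff55c8bbc1f9059b8895d020)) (.leaf (nat_lit 0x549f1bb1b6de2a63fb90e8b3a1fd099d0855b820))) (.node (nat_lit 0x54a2db3d9bc5e0317fb5e1f59378a8a2d2474c20) (.leaf (nat_lit 0x549f1db1b8bdaa21fb50c9bbc3fc859d1095b820))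 (.node (nat_lit 0x54a2dc3d97b6e0737f35d0f9d17924a2ca874c20) (.leaf (nat_lit 0x54a2db3d9bc5e0317fb5e1f59378a8a2d2474c20)) (.leaf (nat_lit 0x54a2dc3d97b6e0737f35d0f9d17924a2ca874c20))))))) (.node (nat_lit 0x54af87db6c6c7e31435ec9fbc3568b2a1d349020) (.node (nat_lit 0x54adb65f0f8b7e63c3bee0b591d5742266e41420) (.node (nat_lit 0x54ad766f0d8bfc21d7bfe1b593c2742156e42420) (.node (nat_lit 0x54a2fc359bb5ea317b30d1f9d37ca4a4d2872c20) (.leaf (nat_lit 0x54a2fb3597c6ea737bb0e0f5917d28a4ca472c20)) (.leaf (nat_lit 0x54a2fc359bb5ea317b30d1f9d37ca4a4d2872c20))) (.node (nat_lit 0x54ad78ef0f637c63d73fd0b9d1c16e2167442420) (.leaf (nat_lit 0x54ad766f0d8bfc21d7bfe1b593c2742156e42420)) (.leaf (nat_lit 0x54ad78ef0f637c63d73fd0b9d1c16e2167442420)))) (.node (nat_lit 0x54af66e36c7c7c31579fe9f3a34293291cb4a020) (.node (nat_lit 0x54adb8df0d63fe21c33ed1b9d3d66e2257441420) (.leaf (nat_lit 0x54adb65f0f8b7e63c3bee0b591d5742266e41420))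 (.leaf (nat_lit 0x54adb8df0d63fe21c33ed1b9d3d66e2257441420))) (.node (nat_lit 0x54af67e3716b3c73575fc8fbc141cb292934a020) (.leaf (nat_lit 0x54af66e36c7c7c31579fe9f3a34293291cb4a020)) (.node (nat_lit 0x54af86db717b3e73439ee8f3a155d32a28b49020) (.leaf (nat_lit 0x54af67e3716b3c73575fc8fbc141cb292934a020)) (.leaf (nat_lit 0x54af86db717b3e73439ee8f3a155d32a28b49020)))))) (.node (nat_lit 0x54b1b8decf637c21d7bfe1b593c16e4267421420) (.node (nat_lit 0x54b178eecd63fe63c3bee0b591d66e4157422420) (.node (nat_lit 0x54b1766ecf8b7e21c33ed1b9d3d5744166e22420) (.leaf (nat_lit 0x54af87db6c6c7e31435ec9fbc3568b2a1d349020)) (.leaf (nat_lit 0x54b1766ecf8b7e21c33ed1b9d3d5744166e22420))) (.node (nat_lit 0x54b1b65ecd8bfc63d73fd0b9d1c2744256e21420) (.leaf (nat_lit 0x54b178eecd63fe63c3bee0b591d66e4157422420)) (.leaf (nat_lit 0x54b1b65ecd8bfc63d73fd0b9d1c2744256e21420)))) (.node (nat_lit 0x54b767e2ec6c7e73439ee8f3a1568b491d32a020)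 (.node (nat_lit 0x54b766e2f17b3e31435ec9fbc355d34928b2a020) (.leaf (nat_lit 0x54b1b8decf637c21d7bfe1b593c16e4267421420)) (.leaf (nat_lit 0x54b766e2f17b3e31435ec9fbc355d34928b2a020))) (.node (nat_lit 0x54b786daec7c7c73575fc8fbc142934a1cb29020) (.leaf (nat_lit 0x54b767e2ec6c7e73439ee8f3a1568b491d32a020)) (.node (nat_lit 0x54b787daf16b3c31579fe9f3a341cb4a29329020) (.leaf (nat_lit 0x54b786daec7c7c73575fc8fbc142934a1cb29020)) (.leaf (nat_lit 0x54b787daf16b3c31579fe9f3a341cb4a29329020)))))))))))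
noncomputable def AP_lK_T1 : ST := (.node (nat_lit 0x9aecd63f198f514f9b64e3b57f08b01a9353c820) (.node (nat_lit 0x855eccc5bcee94527ed2ba778478e274c66a2c20) (.node (nat_lit 0x751babf1f1db07e9a707cffb65964281146aa020) (.node (nat_lit 0x5cecf637198f514f0ae4e3b5bf99353a8b01c820) (.node (nat_lit 0x5cdf6ee1b1cb11f70b44dfafca1a0551ea990c20) (.node (nat_lit 0x5cdb6ce1f1eb09ea1b48dfefc70a0991ea550c20) (.node (nat_lit 0x5cd9db662dc3cdf71362d7b97a214382647a9420) (.node (nat_lit 0x5cd99c762db3c5f722e6e7b5ba114781643aa420) (.leaf (nat_lit 0x5cd99b762fc345ea2366d7f977124381547aa420)) (.leaf (nat_lit 0x5cd99c762db3c5f722e6e7b5ba114781643aa420))) (.node (nat_lit 0x5cd9dc662fb34dea12e2e7f5b7224782543a9420) (.leaf (nat_lit 0x5cd9db662dc3cdf71362d7b97a214382647a9420)) (.leaf (nat_lit 0x5cd9dc662fb34dea12e2e7f5b7224782543a9420)))) (.node (nat_lit 0x5cdb8cd9ecec51f70b44dfafca1aa990e0551c20)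 (.node (nat_lit 0x5cdb6ee1eccc49f71b88bfb7aa0aa591e0950c20) (.leaf (nat_lit 0x5cdb6ce1f1eb09ea1b48dfefc70a0991ea550c20)) (.leaf (nat_lit 0x5cdb6ee1eccc49f71b88bfb7aa0aa591e0950c20))) (.node (nat_lit 0x5cdb8ed9f1cb11ea0b84bff7a71a0590ea951c20) (.leaf (nat_lit 0x5cdb8cd9ecec51f70b44dfafca1aa990e0551c20)) (.node (nat_lit 0x5cdf6ce1acec51ea0b84bff7a71aa951e0590c20) (.leaf (nat_lit 0x5cdb8ed9f1cb11ea0b84bff7a71a0590ea951c20)) (.leaf (nat_lit 0x5cdf6ce1acec51ea0b84bff7a71aa951e0590c20)))))) (.node (nat_lit 0x5ce39c758fb34df71362d7b97a2247a954382420) (.node (nat_lit 0x5cdf8ed9accc49ea1b48dfefc70aa550e0991c20) (.node (nat_lit 0x5cdf8cd9b1eb09f71b88bfb7aa0a0950ea591c20) (.leaf (nat_lit 0x5cdf6ee1b1cb11f70b44dfafca1a0551ea990c20)) (.leaf (nat_lit 0x5cdf8cd9b1eb09f71b88bfb7aa0a0950ea591c20))) (.node (nat_lit 0x5ce39b758dc3cdea12e2e7f5b72143a964782420) (.leaf (nat_lit 0x5cdf8ed9accc49ea1b48dfefc70aa550e0991c20))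 (.leaf (nat_lit 0x5ce39b758dc3cdea12e2e7f5b72143a964782420)))) (.node (nat_lit 0x5ce3dc658db3c5ea2366d7f9771147aa64381420) (.node (nat_lit 0x5ce3db658fc345f722e6e7b5ba1243aa54781420) (.leaf (nat_lit 0x5ce39c758fb34df71362d7b97a2247a954382420)) (.leaf (nat_lit 0x5ce3db658fc345f722e6e7b5ba1243aa54781420))) (.node (nat_lit 0x5cecd63f1d8e48ef9ae8e535bf08b53c9301a820) (.leaf (nat_lit 0x5ce3dc658db3c5ea2366d7f9771147aa64381420)) (.node (nat_lit 0x5cecd8bf1967494f1b68d3b97f89303c8b51a820) (.leaf (nat_lit 0x5cecd63f1d8e48ef9ae8e535bf08b53c9301a820)) (.leaf (nat_lit 0x5cecd8bf1967494f1b68d3b97f89303c8b51a820))))))) (.node (nat_lit 0x5cf317b3b86d8cef9342dd2fcf20f22d46a4c020) (.node (nat_lit 0x5cf0f636dd8e494f1b68d3b97f88b51a9303c820) (.node (nat_lit 0x5cf0d63ed98f50ef8b64d5397f19351c8b03a820) (.node (nat_lit 0x5cecf8b71d6650ef8b64d5397f18b03a9351c820) (.leaf (nat_lit 0x5cecf637198f514f0ae4e3b5bf99353a8b01c820))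 (.leaf (nat_lit 0x5cecf8b71d6650ef8b64d5397f18b03a9351c820))) (.node (nat_lit 0x5cf0d8bedd66514f0ae4e3b5bf98b01c9353a820) (.leaf (nat_lit 0x5cf0d63ed98f50ef8b64d5397f19351c8b03a820)) (.leaf (nat_lit 0x5cf0d8bedd66514f0ae4e3b5bf98b01c9353a820)))) (.node (nat_lit 0x5cf2c6c7b87d84efa386bd37af10ea2c0724d420) (.node (nat_lit 0x5cf0f8b6d96748ef9ae8e535bf09301a8b53c820) (.leaf (nat_lit 0x5cf0f636dd8e494f1b68d3b97f88b51a9303c820)) (.leaf (nat_lit 0x5cf0f8b6d96748ef9ae8e535bf09301a8b53c820))) (.node (nat_lit 0x5cf2c7c7b66e054f2346dbafcf90722c0ea4d420) (.leaf (nat_lit 0x5cf2c6c7b87d84efa386bd37af10ea2c0724d420)) (.node (nat_lit 0x5cf316b3b67e0d4f1382bbb7afa06a2d4f24c020) (.leaf (nat_lit 0x5cf2c7c7b66e054f2346dbafcf90722c0ea4d420)) (.leaf (nat_lit 0x5cf316b3b67e0d4f1382bbb7afa06a2d4f24c020)))))) (.node (nat_lit 0x5cfb17b3366e04efa386bd37af10724d4ea2c020) (.node (nat_lit 0x5cfac7c7386d8d4f1382bbb7afa0f24c06a2d420)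 (.node (nat_lit 0x5cfac6c7367e0cef9342dd2fcf206a4c0f22d420) (.leaf (nat_lit 0x5cf317b3b86d8cef9342dd2fcf20f22d46a4c020)) (.leaf (nat_lit 0x5cfac6c7367e0cef9342dd2fcf206a4c0f22d420))) (.node (nat_lit 0x5cfb16b3387d854f2346dbafcf90ea4d4722c020) (.leaf (nat_lit 0x5cfac7c7386d8d4f1382bbb7afa0f24c06a2d420)) (.leaf (nat_lit 0x5cfb16b3387d854f2346dbafcf90ea4d4722c020)))) (.node (nat_lit 0x75197e6e2dd3cbf59fa9b7b1998ea491a0850820) (.node (nat_lit 0x75197d6e2fe34be99f29c7edd58e0891aa450820) (.leaf (nat_lit 0x5cfb17b3366e04efa386bd37af10724d4ea2c020)) (.leaf (nat_lit 0x75197d6e2fe34be99f29c7edd58e0891aa450820))) (.node (nat_lit 0x7519bd5e2de3d3f58f25c7add99ea890a0451820) (.leaf (nat_lit 0x75197e6e2dd3cbf59fa9b7b1998ea491a0850820)) (.node (nat_lit 0x7519be5e2fd353e98fa5b7f1959e0490aa851820) (.leaf (nat_lit 0x7519bd5e2de3d3f58f25c7add99ea890a0451820)) (.leaf (nat_lit 0x7519be5e2fd353e98fa5b7f1959e0490aa851820))))))))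 (.node (nat_lit 0x7534f637978ecf3f17a3b2f19fa44a254d244020) (.node (nat_lit 0x75237e6d8fd353f58f25c7add99e0451aa890820) (.node (nat_lit 0x751fabf1acdc4fe996c3eff385a542a924682020) (.node (nat_lit 0x751bcbe9ecdc4ff59703cfbb69a54282246a9020) (.node (nat_lit 0x751badf1ecbc47f5a6c7efb389954681242aa020) (.leaf (nat_lit 0x751babf1f1db07e9a707cffb65964281146aa020)) (.leaf (nat_lit 0x751badf1ecbc47f5a6c7efb389954681242aa020))) (.node (nat_lit 0x751bcde9f1bb0fe996c3eff385a64682142a9020) (.leaf (nat_lit 0x751bcbe9ecdc4ff59703cfbb69a54282246a9020)) (.leaf (nat_lit 0x751bcde9f1bb0fe996c3eff385a64682142a9020)))) (.node (nat_lit 0x751fcbe9b1db07f5a6c7efb3899642aa14681020) (.node (nat_lit 0x751fadf1b1bb0ff59703cfbb69a646a914282020) (.leaf (nat_lit 0x751fabf1acdc4fe996c3eff385a542a924682020)) (.leaf (nat_lit 0x751fadf1b1bb0ff59703cfbb69a646a914282020))) (.node (nat_lit 0x751fcde9acbc47e9a707cffb659546aa24281020)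 (.leaf (nat_lit 0x751fcbe9b1db07f5a6c7efb3899642aa14681020)) (.node (nat_lit 0x75237d6d8de3d3e98fa5b7f1959ea851a0490820) (.leaf (nat_lit 0x751fcde9acbc47e9a707cffb659546aa24281020)) (.leaf (nat_lit 0x75237d6d8de3d3e98fa5b7f1959ea851a0490820)))))) (.node (nat_lit 0x752ec7c77a6f0b3f1f09cafb6f8d103489512820) (.node (nat_lit 0x7523be5d8dd3cbe99f29c7edd58ea450a0891820) (.node (nat_lit 0x7523bd5d8fe34bf59fa9b7b1998e0850aa491820) (.leaf (nat_lit 0x75237e6d8fd353f58f25c7add99e0451aa890820)) (.leaf (nat_lit 0x7523bd5d8fe34bf59fa9b7b1998e0850aa491820))) (.node (nat_lit 0x752ec6c77c7e8abf9ec9ecf38f0c953491012820) (.leaf (nat_lit 0x7523be5d8dd3cbe99f29c7edd58ea450a0891820)) (.leaf (nat_lit 0x752ec6c77c7e8abf9ec9ecf38f0c953491012820)))) (.node (nat_lit 0x752f17b37c6e92bf8f05ccfb6f1c903291514820) (.node (nat_lit 0x752f16b37a7f133f0ec5eaf38f9d153289014820) (.leaf (nat_lit 0x752ec7c77a6f0b3f1f09cafb6f8d103489512820))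 (.leaf (nat_lit 0x752f16b37a7f133f0ec5eaf38f9d153289014820))) (.node (nat_lit 0x7534d63f9b8dc6bfa7a7b4f19f14ca2405245420) (.leaf (nat_lit 0x752f17b37c6e92bf8f05ccfb6f1c903291514820)) (.node (nat_lit 0x7534d8bf9766c73f2727c2eddf9452240ca45420) (.leaf (nat_lit 0x7534d63f9b8dc6bfa7a7b4f19f14ca2405245420)) (.leaf (nat_lit 0x7534d8bf9766c73f2727c2eddf9452240ca45420))))))) (.node (nat_lit 0x7538f8b75766c6bfa7a7b4f19f1452454ca24020) (.node (nat_lit 0x753716b2fc7e8b3f1f09cafb6f8c951291034820) (.node (nat_lit 0x7536c6c6fa7f12bf8f05ccfb6f1d151489032820) (.node (nat_lit 0x7534f8b79b65cebf9723c4eddf24d22544a44020) (.leaf (nat_lit 0x7534f637978ecf3f17a3b2f19fa44a254d244020)) (.leaf (nat_lit 0x7534f8b79b65cebf9723c4eddf24d22544a44020))) (.node (nat_lit 0x7536c7c6fc6e933f0ec5eaf38f9c901491532820) (.leaf (nat_lit 0x7536c6c6fa7f12bf8f05ccfb6f1d151489032820)) (.leaf (nat_lit 0x7536c7c6fc6e933f0ec5eaf38f9c901491532820))))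 (.node (nat_lit 0x7538d63f578ecebf9723c4eddf244a440d225420) (.node (nat_lit 0x753717b2fa6f0abf9ec9ecf38f0d101289534820) (.leaf (nat_lit 0x753716b2fc7e8b3f1f09cafb6f8c951291034820)) (.leaf (nat_lit 0x753717b2fa6f0abf9ec9ecf38f0d101289534820))) (.node (nat_lit 0x7538d8bf5b65cf3f17a3b2f19fa4d24404a25420) (.leaf (nat_lit 0x7538d63f578ecebf9723c4eddf244a440d225420)) (.node (nat_lit 0x7538f6375b8dc73f2727c2eddf94ca4545224020) (.leaf (nat_lit 0x7538d8bf5b65cf3f17a3b2f19fa4d24404a25420)) (.leaf (nat_lit 0x7538f6375b8dc73f2727c2eddf94ca4545224020)))))) (.node (nat_lit 0x8558fe3639d75442fef2b231b4f8479b8c35d020) (.node (nat_lit 0x8558de3e3dd66484faeab131b2fcc79d0435b820) (.node (nat_lit 0x8558dd3e39e76442fb6ac22d74fc439d0c75b820) (.leaf (nat_lit 0x7538f8b75766c6bfa7a7b4f19f1452454ca24020)) (.leaf (nat_lit 0x8558dd3e39e76442fb6ac22d74fc439d0c75b820))) (.node (nat_lit 0x8558fd363de65484ff72c12d72f8c39b8475d020)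 (.leaf (nat_lit 0x8558de3e3dd66484faeab131b2fcc79d0435b820)) (.leaf (nat_lit 0x8558fd363de65484ff72c12d72f8c39b8475d020)))) (.node (nat_lit 0x855acec5fccea4947acab977827ce6a4c6272c20) (.node (nat_lit 0x855accc5faef24527b0ada6f647c62a4ce672c20) (.leaf (nat_lit 0x8558fe3639d75442fef2b231b4f8479b8c35d020)) (.leaf (nat_lit 0x855accc5faef24527b0ada6f647c62a4ce672c20))) (.node (nat_lit 0x855b1cb1fcee94947f12d96f6278e2a2c6674c20) (.leaf (nat_lit 0x855acec5fccea4947acab977827ce6a4c6272c20)) (.node (nat_lit 0x855b1eb1facf14527ed2ba77847866a2ce274c20) (.leaf (nat_lit 0x855b1cb1fcee94947f12d96f6278e2a2c6674c20)) (.leaf (nat_lit 0x855b1eb1facf14527ed2ba77847866a2ce274c20))))))))) (.node (nat_lit 0x92a2db3d97c6ea717f30e0f5d378a474d28a2c20) (.node (nat_lit 0x8579d6674d8bfc944b7fc16d7229cb18a9339820) (.node (nat_lit 0x8573a7f3b16b3c84cb1fd92f62aa7431d6e10c20) (.node (nat_lit 0x8562dd3d9de65442fef2b231b4f8c35d0479b820)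 (.node (nat_lit 0x855f1cb1baef24947acab977827c6272ce6a4c20) (.node (nat_lit 0x855ecec5bacf14947f12d96f62786674ce2a2c20) (.leaf (nat_lit 0x855eccc5bcee94527ed2ba778478e274c66a2c20)) (.leaf (nat_lit 0x855ecec5bacf14947f12d96f62786674ce2a2c20))) (.node (nat_lit 0x855f1eb1bccea4527b0ada6f647ce672c62a4c20) (.leaf (nat_lit 0x855f1cb1baef24947acab977827c6272ce6a4c20)) (.leaf (nat_lit 0x855f1eb1bccea4527b0ada6f647ce672c62a4c20)))) (.node (nat_lit 0x8562fd3599e76484faeab131b2fc435b8c79d020) (.node (nat_lit 0x8562de3d99d75484ff72c12d72f8475d0c39b820) (.leaf (nat_lit 0x8562dd3d9de65442fef2b231b4f8c35d0479b820)) (.leaf (nat_lit 0x8562de3d99d75484ff72c12d72f8475d0c39b820))) (.node (nat_lit 0x8562fe359dd66442fb6ac22d74fcc75b8439d020) (.leaf (nat_lit 0x8562fd3599e76484faeab131b2fc435b8c79d020)) (.node (nat_lit 0x8573a6f3ac7c7c42cadfba3784a96e31e7410c20) (.leaf (nat_lit 0x8562fe359dd66442fb6ac22d74fcc75b8439d020))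 (.leaf (nat_lit 0x8573a6f3ac7c7c42cadfba3784a96e31e7410c20)))))) (.node (nat_lit 0x857598f78f637c944b7fc16d722a93399cb18820) (.node (nat_lit 0x8573c7ebac6c7e42ab1eda2f64c97430e6e11c20) (.node (nat_lit 0x8573c6ebb17b3e84aadeb93782ca6e30d7411c20) (.leaf (nat_lit 0x8573a7f3b16b3c84cb1fd92f62aa7431d6e10c20)) (.leaf (nat_lit 0x8573c6ebb17b3e84aadeb93782ca6e30d7411c20))) (.node (nat_lit 0x857596778d8bfc524affb271b429cb39a9318820) (.leaf (nat_lit 0x8573c7ebac6c7e42ab1eda2f64c97430e6e11c20)) (.leaf (nat_lit 0x857596778d8bfc524affb271b429cb39a9318820)))) (.node (nat_lit 0x8575d8e78d63fe522b7ec26d7449d338a8b19820) (.node (nat_lit 0x8575d6678f8b7e942afeb171b24a8b389d319820) (.leaf (nat_lit 0x857598f78f637c944b7fc16d722a93399cb18820)) (.leaf (nat_lit 0x8575d6678f8b7e942afeb171b24a8b389d319820))) (.node (nat_lit 0x857996774f8b7e522b7ec26d744a8b199d338820) (.leaf (nat_lit 0x8575d8e78d63fe522b7ec26d7449d338a8b19820))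 (.node (nat_lit 0x857998f74d63fe942afeb171b249d319a8b38820) (.leaf (nat_lit 0x857996774f8b7e522b7ec26d744a8b199d338820)) (.leaf (nat_lit 0x857998f74d63fe942afeb171b249d319a8b38820))))))) (.node (nat_lit 0x9298fc363bb5ea717f30e0f5d37928a2ca474c20) (.node (nat_lit 0x857bc6eb2c7c7c84cb1fd92f62a96e10e7431c20) (.node (nat_lit 0x857ba6f3317b3e42ab1eda2f64ca6e11d7430c20) (.node (nat_lit 0x8579d8e74f637c524affb271b42a93189cb39820) (.leaf (nat_lit 0x8579d6674d8bfc944b7fc16d7229cb18a9339820)) (.leaf (nat_lit 0x8579d8e74f637c524affb271b42a93189cb39820))) (.node (nat_lit 0x857ba7f32c6c7e84aadeb93782c97411e6e30c20) (.leaf (nat_lit 0x857ba6f3317b3e42ab1eda2f64ca6e11d7430c20)) (.leaf (nat_lit 0x857ba7f32c6c7e84aadeb93782c97411e6e30c20)))) (.node (nat_lit 0x9298db3e3bc5e0717bb5d0f9937d24a4ca872c20) (.node (nat_lit 0x857bc7eb316b3c42cadfba3784aa7410d6e31c20) (.leaf (nat_lit 0x857bc6eb2c7c7c84cb1fd92f62a96e10e7431c20))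 (.leaf (nat_lit 0x857bc7eb316b3c42cadfba3784aa7410d6e31c20))) (.node (nat_lit 0x9298dc3e37b6e0337b35e1f5d17ca8a4d2472c20) (.leaf (nat_lit 0x9298db3e3bc5e0717bb5d0f9937d24a4ca872c20)) (.node (nat_lit 0x9298fb3637c6ea337fb0d1f99178a4a2d2874c20) (.leaf (nat_lit 0x9298dc3e37b6e0337b35e1f5d17ca8a4d2472c20)) (.leaf (nat_lit 0x9298fb3637c6ea337fb0d1f99178a4a2d2874c20)))))) (.node (nat_lit 0x929b1db1f8bdaa61ff50e8b3c3f9099b8855d020) (.node (nat_lit 0x929acdc5f6be2023fb55e9b3c1fc899d1055b820) (.node (nat_lit 0x929acbc5f8dda061fb95c8bba3fd059d0895b820) (.leaf (nat_lit 0x9298fc363bb5ea717f30e0f5d37928a2ca474c20)) (.leaf (nat_lit 0x929acbc5f8dda061fb95c8bba3fd059d0895b820))) (.node (nat_lit 0x929b1bb1f6de2a23ff90c9bba1f8859b9095d020) (.leaf (nat_lit 0x929acdc5f6be2023fb55e9b3c1fc899d1055b820)) (.leaf (nat_lit 0x929b1bb1f6de2a23ff90c9bba1f8859b9095d020)))) (.node (nat_lit 0x929ecdc5b8bdaa23ff90c9bba1f9095d0859b820)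 (.node (nat_lit 0x929ecbc5b6de2a61ff50e8b3c3f8855d1099b820) (.leaf (nat_lit 0x929b1db1f8bdaa61ff50e8b3c3f9099b8855d020)) (.leaf (nat_lit 0x929ecbc5b6de2a61ff50e8b3c3f8855d1099b820))) (.node (nat_lit 0x929f1bb1b8dda023fb55e9b3c1fd055b8899d020) (.leaf (nat_lit 0x929ecdc5b8bdaa23ff90c9bba1f9095d0859b820)) (.node (nat_lit 0x929f1db1b6be2061fb95c8bba3fc895b9059d020) (.leaf (nat_lit 0x929f1bb1b8dda023fb55e9b3c1fd055b8899d020)) (.leaf (nat_lit 0x929f1db1b6be2061fb95c8bba3fc895b9059d020)))))))) (.node (nat_lit 0x92b786daf17b3e33579ec9fba1428b291d34a020) (.node (nat_lit 0x92af67e36c6c7e33579ec9fba141d34a28b29020) (.node (nat_lit 0x92ad766f0f8b7e61d73ee0b5d3c26e4257421420) (.node (nat_lit 0x92a2fb359bc5e0337b35e1f5d17d2472ca8a4c20) (.node (nat_lit 0x92a2dc3d9bb5ea337fb0d1f991792874ca4a2c20) (.leaf (nat_lit 0x92a2db3d97c6ea717f30e0f5d378a474d28a2c20)) (.leaf (nat_lit 0x92a2dc3d9bb5ea337fb0d1f991792874ca4a2c20)))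 (.node (nat_lit 0x92a2fc3597b6e0717bb5d0f9937ca872d24a4c20) (.leaf (nat_lit 0x92a2fb359bc5e0337b35e1f5d17d2472ca8a4c20)) (.leaf (nat_lit 0x92a2fc3597b6e0717bb5d0f9937ca872d24a4c20)))) (.node (nat_lit 0x92adb65f0d8bfc23c33fe1b5d1d56e4167422420) (.node (nat_lit 0x92ad78ef0d63fe23d7bed1b991c1744266e21420) (.leaf (nat_lit 0x92ad766f0f8b7e61d73ee0b5d3c26e4257421420)) (.leaf (nat_lit 0x92ad78ef0d63fe23d7bed1b991c1744266e21420))) (.node (nat_lit 0x92adb8df0f637c61c3bfd0b993d6744156e22420) (.leaf (nat_lit 0x92adb65f0d8bfc23c33fe1b5d1d56e4167422420)) (.node (nat_lit 0x92af66e3717b3e71575ee8f3c3428b4a1d329020) (.leaf (nat_lit 0x92adb8df0f637c61c3bfd0b993d6744156e22420)) (.leaf (nat_lit 0x92af66e3717b3e71575ee8f3c3428b4a1d329020)))))) (.node (nat_lit 0x92b178eecf637c23c33fe1b5d1d6742256e41420) (.node (nat_lit 0x92af87db716b3c71439fc8fba35693491cb2a020) (.node (nat_lit 0x92af86db6c7c7c33435fe9f3c155cb492932a020)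 (.leaf (nat_lit 0x92af67e36c6c7e33579ec9fba141d34a28b29020)) (.leaf (nat_lit 0x92af86db6c7c7c33435fe9f3c155cb492932a020))) (.node (nat_lit 0x92b1766ecd8bfc61c3bfd0b993d56e2267441420) (.leaf (nat_lit 0x92af87db716b3c71439fc8fba35693491cb2a020)) (.leaf (nat_lit 0x92b1766ecd8bfc61c3bfd0b993d56e2267441420)))) (.node (nat_lit 0x92b1b8decd63fe61d73ee0b5d3c1742166e42420) (.node (nat_lit 0x92b1b65ecf8b7e23d7bed1b991c26e2157442420) (.leaf (nat_lit 0x92b178eecf637c23c33fe1b5d1d6742256e41420)) (.leaf (nat_lit 0x92b1b65ecf8b7e23d7bed1b991c26e2157442420))) (.node (nat_lit 0x92b766e2ec7c7c71439fc8fba355cb2a29349020) (.leaf (nat_lit 0x92b1b8decd63fe61d73ee0b5d3c1742166e42420)) (.node (nat_lit 0x92b767e2f16b3c33435fe9f3c156932a1cb49020) (.leaf (nat_lit 0x92b766e2ec7c7c71439fc8fba355cb2a29349020)) (.leaf (nat_lit 0x92b767e2f16b3c33435fe9f3c156932a1cb49020))))))) (.node (nat_lit 0x9adb8ed9eccc49fa0b48bfb7c71a0951ea590c20)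 (.node (nat_lit 0x9ad9db662fc345e712e6d7f9ba2147a964382420) (.node (nat_lit 0x9ad99b762dc3cdfa22e2d7b9b71247aa54381420) (.node (nat_lit 0x92b787daec6c7e71575ee8f3c341d32928b4a020) (.leaf (nat_lit 0x92b786daf17b3e33579ec9fba1428b291d34a020)) (.leaf (nat_lit 0x92b787daec6c7e71575ee8f3c341d32928b4a020))) (.node (nat_lit 0x9ad99c762fb34de72362e7f57a1143aa64781420) (.leaf (nat_lit 0x9ad99b762dc3cdfa22e2d7b9b71247aa54381420)) (.leaf (nat_lit 0x9ad99c762fb34de72362e7f57a1143aa64781420)))) (.node (nat_lit 0x9adb6ce1ecec51fa1b84dfafa70a0550ea991c20) (.node (nat_lit 0x9ad9dc662db3c5fa1366e7b5772243a954782420) (.leaf (nat_lit 0x9ad9db662fc345e712e6d7f9ba2147a964382420)) (.leaf (nat_lit 0x9ad9dc662db3c5fa1366e7b5772243a954782420))) (.node (nat_lit 0x9adb6ee1f1cb11e71b44bff7ca0aa950e0591c20) (.leaf (nat_lit 0x9adb6ce1ecec51fa1b84dfafa70a0550ea991c20)) (.node (nat_lit 0x9adb8cd9f1eb09e70b88dfefaa1aa551e0990c20)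 (.leaf (nat_lit 0x9adb6ee1f1cb11e71b44bff7ca0aa950e0591c20)) (.leaf (nat_lit 0x9adb8cd9f1eb09e70b88dfefaa1aa551e0990c20)))))) (.node (nat_lit 0x9adf8ed9b1cb11fa1b84dfafa70aa991e0550c20) (.node (nat_lit 0x9adf6ee1accc49e70b88dfefaa1a0990ea551c20) (.node (nat_lit 0x9adf6ce1b1eb09fa0b48bfb7c71aa590e0951c20) (.leaf (nat_lit 0x9adb8ed9eccc49fa0b48bfb7c71a0951ea590c20)) (.leaf (nat_lit 0x9adf6ce1b1eb09fa0b48bfb7c71aa590e0951c20))) (.node (nat_lit 0x9adf8cd9acec51e71b44bff7ca0a0591ea950c20) (.leaf (nat_lit 0x9adf6ee1accc49e70b88dfefaa1a0990ea551c20)) (.leaf (nat_lit 0x9adf8cd9acec51e71b44bff7ca0a0591ea950c20)))) (.node (nat_lit 0x9ae39c758db3c5e712e6d7f9ba224382547a9420) (.node (nat_lit 0x9ae39b758fc345fa1366e7b577214782643a9420) (.leaf (nat_lit 0x9adf8ed9b1cb11fa1b84dfafa70aa991e0550c20)) (.leaf (nat_lit 0x9ae39b758fc345fa1366e7b577214782643a9420))) (.node (nat_lit 0x9ae3db658dc3cde72362e7f57a124781543aa420)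 (.leaf (nat_lit 0x9ae39c758db3c5e712e6d7f9ba224382547a9420)) (.node (nat_lit 0x9ae3dc658fb34dfa22e2d7b9b7114381647aa420) (.leaf (nat_lit 0x9ae3db658dc3cde72362e7f57a124781543aa420)) (.leaf (nat_lit 0x9ae3dc658fb34dfa22e2d7b9b7114381647aa420)))))))))) (.node (nat_lit 0xac3996774d8bfc922affc16db44a93389cb19820) (.node (nat_lit 0xa3b4d63f978ecf3fa723b2f1df14d24544a24020) (.node (nat_lit 0xa399bd5e2fe34be58fa9c7ed999ea451a0890820) (.node (nat_lit 0x9af2c7c7b86d8cef2382dd2faf906a4d4f22c020) (.node (nat_lit 0x9af0d63edd8e494f8ae8d3b9bf19303a8b51c820) (.node (nat_lit 0x9aecf6371d8e48ef0b68e5357f99301c8b53a820) (.node (nat_lit 0x9aecd8bf1d6650ef1ae4d539bf89351a8b03c820) (.leaf (nat_lit 0x9aecd63f198f514f9b64e3b57f08b01a9353c820)) (.leaf (nat_lit 0x9aecd8bf1d6650ef1ae4d539bf89351a8b03c820))) (.node (nat_lit 0x9aecf8b71967494f8ae8d3b9bf18b51c9303a820) (.leaf (nat_lit 0x9aecf6371d8e48ef0b68e5357f99301c8b53a820))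 (.leaf (nat_lit 0x9aecf8b71967494f8ae8d3b9bf18b51c9303a820)))) (.node (nat_lit 0x9af0f636d98f50ef1ae4d539bf88b03c9351a820) (.node (nat_lit 0x9af0d8bed96748ef0b68e5357f98b53a9301c820) (.leaf (nat_lit 0x9af0d63edd8e494f8ae8d3b9bf19303a8b51c820)) (.leaf (nat_lit 0x9af0d8bed96748ef0b68e5357f98b53a9301c820))) (.node (nat_lit 0x9af0f8b6dd66514f9b64e3b57f09353c8b01a820) (.leaf (nat_lit 0x9af0f636d98f50ef1ae4d539bf88b03c9351a820)) (.node (nat_lit 0x9af2c6c7b67e0d4fa342bbb7cf10f24d46a2c020) (.leaf (nat_lit 0x9af0f8b6dd66514f9b64e3b57f09353c8b01a820)) (.leaf (nat_lit 0x9af2c6c7b67e0d4fa342bbb7cf10f24d46a2c020)))))) (.node (nat_lit 0x9afac7c7366e04ef1346bd37cfa0ea2d4724c020) (.node (nat_lit 0x9af317b3b66e054f9386dbafaf20ea4c0722d420) (.node (nat_lit 0x9af316b3b87d84ef1346bd37cfa0724c0ea2d420) (.leaf (nat_lit 0x9af2c7c7b86d8cef2382dd2faf906a4d4f22c020)) (.leaf (nat_lit 0x9af316b3b87d84ef1346bd37cfa0724c0ea2d420)))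 (.node (nat_lit 0x9afac6c7387d854f9386dbafaf20722d4ea4c020) (.leaf (nat_lit 0x9af317b3b66e054f9386dbafaf20ea4c0722d420)) (.leaf (nat_lit 0x9afac6c7387d854f9386dbafaf20722d4ea4c020)))) (.node (nat_lit 0x9afb17b3386d8d4fa342bbb7cf106a2c0f24d420) (.node (nat_lit 0x9afb16b3367e0cef2382dd2faf90f22c06a4d420) (.leaf (nat_lit 0x9afac7c7366e04ef1346bd37cfa0ea2d4724c020)) (.leaf (nat_lit 0x9afb16b3367e0cef2382dd2faf90f22c06a4d420))) (.node (nat_lit 0xa3997d6e2de3d3f99fa5c7ad958e0450aa891820) (.leaf (nat_lit 0x9afb17b3386d8d4fa342bbb7cf106a2c0f24d420)) (.node (nat_lit 0xa3997e6e2fd353e59f25b7f1d98ea850a0491820) (.leaf (nat_lit 0xa3997d6e2de3d3f99fa5c7ad958e0450aa891820)) (.leaf (nat_lit 0xa3997e6e2fd353e59f25b7f1d98ea850a0491820))))))) (.node (nat_lit 0xa39fcde9b1bb0ff9a6c3cfbb85954281246aa020) (.node (nat_lit 0xa39bcbe9f1db07e596c7cffb89a546a924282020) (.node (nat_lit 0xa39babf1ecdc4ff9a6c3cfbb859646aa14281020)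 (.node (nat_lit 0xa399be5e2dd3cbf98f29b7b1d59e0851aa490820) (.leaf (nat_lit 0xa399bd5e2fe34be58fa9c7ed999ea451a0890820)) (.leaf (nat_lit 0xa399be5e2dd3cbf98f29b7b1d59e0851aa490820))) (.node (nat_lit 0xa39badf1f1bb0fe5a703eff3699542aa24681020) (.leaf (nat_lit 0xa39babf1ecdc4ff9a6c3cfbb859646aa14281020)) (.leaf (nat_lit 0xa39badf1f1bb0fe5a703eff3699542aa24681020)))) (.node (nat_lit 0xa39fabf1b1db07f99707efb365a54682242a9020) (.node (nat_lit 0xa39bcde9ecbc47f99707efb365a642a914682020) (.leaf (nat_lit 0xa39bcbe9f1db07e596c7cffb89a546a924282020)) (.leaf (nat_lit 0xa39bcde9ecbc47f99707efb365a642a914682020))) (.node (nat_lit 0xa39fadf1acbc47e596c7cffb89a64282146a9020) (.leaf (nat_lit 0xa39fabf1b1db07f99707efb365a54682242a9020)) (.node (nat_lit 0xa39fcbe9acdc4fe5a703eff369964681142aa020) (.leaf (nat_lit 0xa39fadf1acbc47e596c7cffb89a64282146a9020)) (.leaf (nat_lit 0xa39fcbe9acdc4fe5a703eff369964681142aa020))))))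 (.node (nat_lit 0xa3a3be5d8fd353f99fa5c7ad958ea891a0450820) (.node (nat_lit 0xa3a37e6d8dd3cbe58fa9c7ed999e0890aa451820) (.node (nat_lit 0xa3a37d6d8fe34bf98f29b7b1d59ea490a0851820) (.leaf (nat_lit 0xa39fcde9b1bb0ff9a6c3cfbb85954281246aa020)) (.leaf (nat_lit 0xa3a37d6d8fe34bf98f29b7b1d59ea490a0851820))) (.node (nat_lit 0xa3a3bd5d8de3d3e59f25b7f1d98e0491aa850820) (.leaf (nat_lit 0xa3a37e6d8dd3cbe58fa9c7ed999e0890aa451820)) (.leaf (nat_lit 0xa3a3bd5d8de3d3e59f25b7f1d98e0491aa850820)))) (.node (nat_lit 0xa3aec7c77c6e92bf1ec5ccfb8f8d151289034820) (.node (nat_lit 0xa3aec6c77a7f133f9f05eaf36f0c901291534820) (.leaf (nat_lit 0xa3a3be5d8fd353f99fa5c7ad958ea891a0450820)) (.leaf (nat_lit 0xa3aec6c77a7f133f9f05eaf36f0c901291534820))) (.node (nat_lit 0xa3af16b37c7e8abf0f09ecf36f9d101489532820) (.leaf (nat_lit 0xa3aec7c77c6e92bf1ec5ccfb8f8d151289034820)) (.node (nat_lit 0xa3af17b37a6f0b3f8ec9cafb8f1c951491032820)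 (.leaf (nat_lit 0xa3af16b37c7e8abf0f09ecf36f9d101489532820)) (.leaf (nat_lit 0xa3af17b37a6f0b3f8ec9cafb8f1c951491032820)))))))) (.node (nat_lit 0xac1b1cb1faef24547ecada6f8278e674c62a2c20) (.node (nat_lit 0xa3b8d8bf5766c6bf1727b4f1dfa4ca2545244020) (.node (nat_lit 0xa3b6c6c6fc7e8b3f8ec9cafb8f1d103289514820) (.node (nat_lit 0xa3b4f6379b8dc6bf1727b4f1dfa452440ca25420) (.node (nat_lit 0xa3b4d8bf9b65cebf27a3c4ed9f944a454d224020) (.leaf (nat_lit 0xa3b4d63f978ecf3fa723b2f1df14d24544a24020)) (.leaf (nat_lit 0xa3b4d8bf9b65cebf27a3c4ed9f944a454d224020))) (.node (nat_lit 0xa3b4f8b79766c73f97a7c2ed9f24ca4405225420) (.leaf (nat_lit 0xa3b4f6379b8dc6bf1727b4f1dfa452440ca25420)) (.leaf (nat_lit 0xa3b4f8b79766c73f97a7c2ed9f24ca4405225420)))) (.node (nat_lit 0xa3b716b2fa7f12bf1ec5ccfb8f8c903491512820) (.node (nat_lit 0xa3b6c7c6fa6f0abf0f09ecf36f9c953291014820) (.leaf (nat_lit 0xa3b6c6c6fc7e8b3f8ec9cafb8f1d103289514820))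 (.leaf (nat_lit 0xa3b6c7c6fa6f0abf0f09ecf36f9c953291014820))) (.node (nat_lit 0xa3b717b2fc6e933f9f05eaf36f0d153489012820) (.leaf (nat_lit 0xa3b716b2fa7f12bf1ec5ccfb8f8c903491512820)) (.node (nat_lit 0xa3b8d63f5b8dc73f97a7c2ed9f2452254ca44020) (.leaf (nat_lit 0xa3b717b2fc6e933f9f05eaf36f0d153489012820)) (.leaf (nat_lit 0xa3b8d63f5b8dc73f97a7c2ed9f2452254ca44020)))))) (.node (nat_lit 0xac18de3e39d75444fb72b23172fcc35b8479d020) (.node (nat_lit 0xa3b8f8b75b65cf3fa723b2f1df144a240d245420) (.node (nat_lit 0xa3b8f637578ecebf27a3c4ed9f94d22404a45420) (.leaf (nat_lit 0xa3b8d8bf5766c6bf1727b4f1dfa4ca2545244020)) (.leaf (nat_lit 0xa3b8f637578ecebf27a3c4ed9f94d22404a45420))) (.node (nat_lit 0xac18dd3e3de65482faf2c12db4fc475b8c39d020) (.leaf (nat_lit 0xa3b8f8b75b65cf3fa723b2f1df144a240d245420)) (.leaf (nat_lit 0xac18dd3e3de65482faf2c12db4fc475b8c39d020)))) (.node (nat_lit 0xac18fe363dd66482ff6ab13174f8435d0c79b820)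 (.node (nat_lit 0xac18fd3639e76444feeac22db2f8c75d0439b820) (.leaf (nat_lit 0xac18de3e39d75444fb72b23172fcc35b8479d020)) (.leaf (nat_lit 0xac18fd3639e76444feeac22db2f8c75d0439b820))) (.node (nat_lit 0xac1accc5fcee94927ad2d96f847c6672ce2a4c20) (.leaf (nat_lit 0xac18fe363dd66482ff6ab13174f8435d0c79b820)) (.node (nat_lit 0xac1acec5facf14547b12ba77627ce272c66a4c20) (.leaf (nat_lit 0xac1accc5fcee94927ad2d96f847c6672ce2a4c20)) (.leaf (nat_lit 0xac1acec5facf14547b12ba77627ce272c66a4c20))))))) (.node (nat_lit 0xac22fe3599d75482faf2c12db4fcc39d0475b820) (.node (nat_lit 0xac1f1cb1bcee94547b12ba77627c66a4ce272c20) (.node (nat_lit 0xac1eccc5baef24927f0ab9776478e6a2c6274c20) (.node (nat_lit 0xac1b1eb1fccea4927f0ab97764786274ce6a2c20) (.leaf (nat_lit 0xac1b1cb1faef24547ecada6f8278e674c62a2c20)) (.leaf (nat_lit 0xac1b1eb1fccea4927f0ab97764786274ce6a2c20))) (.node (nat_lit 0xac1ecec5bccea4547ecada6f827862a2ce674c20)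 (.leaf (nat_lit 0xac1eccc5baef24927f0ab9776478e6a2c6274c20)) (.leaf (nat_lit 0xac1ecec5bccea4547ecada6f827862a2ce674c20)))) (.node (nat_lit 0xac22dd3d99e76482ff6ab13174f8c79b8435d020) (.node (nat_lit 0xac1f1eb1bacf14927ad2d96f847ce2a4c6672c20) (.leaf (nat_lit 0xac1f1cb1bcee94547b12ba77627c66a4ce272c20)) (.leaf (nat_lit 0xac1f1eb1bacf14927ad2d96f847ce2a4c6672c20))) (.node (nat_lit 0xac22de3d9dd66444feeac22db2f8439b8c75d020) (.leaf (nat_lit 0xac22dd3d99e76482ff6ab13174f8c79b8435d020)) (.node (nat_lit 0xac22fd359de65444fb72b23172fc479d0c35b820) (.leaf (nat_lit 0xac22de3d9dd66444feeac22db2f8439b8c75d020)) (.leaf (nat_lit 0xac22fd359de65444fb72b23172fc479d0c35b820)))))) (.node (nat_lit 0xac33c7ebb16b3c82aadfd92f84c96e11e7430c20) (.node (nat_lit 0xac33a7f3ac6c7e44cadeda2f82aa6e10d7431c20) (.node (nat_lit 0xac33a6f3b17b3e82cb1eb93764a97410e6e31c20) (.leaf (nat_lit 0xac22fe3599d75482faf2c12db4fcc39d0475b820))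 (.leaf (nat_lit 0xac33a6f3b17b3e82cb1eb93764a97410e6e31c20))) (.node (nat_lit 0xac33c6ebac7c7c44ab1fba3762ca7411d6e30c20) (.leaf (nat_lit 0xac33a7f3ac6c7e44cadeda2f82aa6e10d7431c20)) (.leaf (nat_lit 0xac33c6ebac7c7c44ab1fba3762ca7411d6e30c20)))) (.node (nat_lit 0xac3598f78d63fe544afec26db22a8b189d339820) (.node (nat_lit 0xac3596778f8b7e924b7eb1717429d318a8b39820) (.leaf (nat_lit 0xac33c7ebb16b3c82aadfd92f84c96e11e7430c20)) (.leaf (nat_lit 0xac3596778f8b7e924b7eb1717429d318a8b39820))) (.node (nat_lit 0xac35d6678d8bfc542b7fb271724a93199cb38820) (.leaf (nat_lit 0xac3598f78d63fe544afec26db22a8b189d339820)) (.node (nat_lit 0xac35d8e78f637c922affc16db449cb19a9338820) (.leaf (nat_lit 0xac35d6678d8bfc542b7fb271724a93199cb38820)) (.leaf (nat_lit 0xac35d8e78f637c922affc16db449cb19a9338820))))))))) (.node (nat_lit 0xf7fbabf336de2ae9aa306d1ec5c928198a438820) (.node (nat_lit 0xf7f1bd5edde65545d5b28b98f9c0e24a06629020)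 (.node (nat_lit 0xf7ed7e6f19d75545d5b28b98f9c066290e24a020) (.node (nat_lit 0xac3ba6f32c7c7c82aadfd92f84ca7430d6e11c20) (.node (nat_lit 0xac39d6674f8b7e544afec26db229d339a8b18820) (.node (nat_lit 0xac3998f74f637c542b7fb2717249cb38a9319820) (.leaf (nat_lit 0xac3996774d8bfc922affc16db44a93389cb19820)) (.leaf (nat_lit 0xac3998f74f637c542b7fb2717249cb38a9319820))) (.node (nat_lit 0xac39d8e74d63fe924b7eb171742a8b399d318820) (.leaf (nat_lit 0xac39d6674f8b7e544afec26db229d339a8b18820)) (.leaf (nat_lit 0xac39d8e74d63fe924b7eb171742a8b399d318820)))) (.node (nat_lit 0xac3bc6eb317b3e44cadeda2f82a97431e6e10c20) (.node (nat_lit 0xac3ba7f3316b3c44ab1fba3762c96e30e7411c20) (.leaf (nat_lit 0xac3ba6f32c7c7c82aadfd92f84ca7430d6e11c20)) (.leaf (nat_lit 0xac3ba7f3316b3c44ab1fba3762c96e30e7411c20))) (.node (nat_lit 0xac3bc7eb2c6c7e82cb1eb93764aa6e31d7410c20) (.leaf (nat_lit 0xac3bc6eb317b3e44cadeda2f82a97431e6e10c20))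 (.node (nat_lit 0xf7ed7d6f1de654e9d5f26522d5c0e2290664a020) (.leaf (nat_lit 0xac3bc7eb2c6c7e82cb1eb93764aa6e31d7410c20)) (.leaf (nat_lit 0xf7ed7d6f1de654e9d5f26522d5c0e2290664a020)))))) (.node (nat_lit 0xf7ef6ee37acf153755927adb1a4047214c342420) (.node (nat_lit 0xf7edbe5f1dd664e9c1aa8d18f5d4e62a06249020) (.node (nat_lit 0xf7edbd5f19e76545c1ea63a2d9d4622a0e649020) (.leaf (nat_lit 0xf7ed7e6f19d75545d5b28b98f9c066290e24a020)) (.leaf (nat_lit 0xf7edbd5f19e76545c1ea63a2d9d4622a0e649020))) (.node (nat_lit 0xf7ef6ce37cee94ba56326cdec740c32144742420) (.leaf (nat_lit 0xf7edbe5f1dd664e9c1aa8d18f5d4e62a06249020)) (.leaf (nat_lit 0xf7ef6ce37cee94ba56326cdec740c32144742420)))) (.node (nat_lit 0xf7ef8edb7ccea4ba418a7cdb1754c72244341420) (.node (nat_lit 0xf7ef8cdb7aef2537422a6adeca5443224c741420) (.leaf (nat_lit 0xf7ef6ee37acf153755927adb1a4047214c342420)) (.leaf (nat_lit 0xf7ef8cdb7aef2537422a6adeca5443224c741420)))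 (.node (nat_lit 0xf7f17d6ed9e764e9c1aa8d18f5d462490e62a020) (.leaf (nat_lit 0xf7ef8edb7ccea4ba418a7cdb1754c72244341420)) (.node (nat_lit 0xf7f17e6eddd66545c1ea63a2d9d4e6490622a020) (.leaf (nat_lit 0xf7f17d6ed9e764e9c1aa8d18f5d462490e62a020)) (.leaf (nat_lit 0xf7f17e6eddd66545c1ea63a2d9d4e6490622a020))))))) (.node (nat_lit 0xf7f5dc679bb5eaba29f064e2d7488530d0911c20) (.node (nat_lit 0xf7f3cbebb6de2b45a9907b9b19c928388a419820) (.node (nat_lit 0xf7f3abf3b8dda0e9c9957d1b15a8a83992418820) (.node (nat_lit 0xf7f1be5ed9d754e9d5f26522d5c0664a0e229020) (.leaf (nat_lit 0xf7f1bd5edde65545d5b28b98f9c0e24a06629020)) (.leaf (nat_lit 0xf7f1be5ed9d754e9d5f26522d5c0664a0e229020))) (.node (nat_lit 0xf7f3adf3b6be2145ca356b9ec9a924398a818820) (.leaf (nat_lit 0xf7f3abf3b8dda0e9c9957d1b15a8a83992418820)) (.leaf (nat_lit 0xf7f3adf3b6be2145ca356b9ec9a924398a818820)))) (.node (nat_lit 0xf7f59b779bc5e0ba49b58cd8f7288931d0510c20)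 (.node (nat_lit 0xf7f3cdebb8bdaae9aa306d1ec5c8a43892819820) (.leaf (nat_lit 0xf7f3cbebb6de2b45a9907b9b19c928388a419820)) (.leaf (nat_lit 0xf7f3cdebb8bdaae9aa306d1ec5c8a43892819820))) (.node (nat_lit 0xf7f59c7797b6e13749f562e2da290531c8910c20) (.leaf (nat_lit 0xf7f59b779bc5e0ba49b58cd8f7288931d0510c20)) (.node (nat_lit 0xf7f5db6797c6eb3729b08ad8fa490930c8511c20) (.leaf (nat_lit 0xf7f59c7797b6e13749f562e2da290531c8910c20)) (.leaf (nat_lit 0xf7f5db6797c6eb3729b08ad8fa490930c8511c20)))))) (.node (nat_lit 0xf7f78edafacf14ba56326cdec74047424c321420) (.node (nat_lit 0xf7f76ee2fccea537422a6adeca54c74144322420) (.node (nat_lit 0xf7f76ce2faef24ba418a7cdb175443414c722420) (.leaf (nat_lit 0xf7f5dc679bb5eaba29f064e2d7488530d0911c20)) (.leaf (nat_lit 0xf7f76ce2faef24ba418a7cdb175443414c722420))) (.node (nat_lit 0xf7f78cdafcee953755927adb1a40c34244721420) (.leaf (nat_lit 0xf7f76ee2fccea537422a6adeca54c74144322420))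 (.leaf (nat_lit 0xf7f78cdafcee953755927adb1a40c34244721420)))) (.node (nat_lit 0xf7f99c775bb5eb3729b08ad8fa488511d0930c20) (.node (nat_lit 0xf7f99b7757c6eaba29f064e2d7490911c8530c20) (.leaf (nat_lit 0xf7f78edafacf14ba56326cdec74047424c321420)) (.leaf (nat_lit 0xf7f99b7757c6eaba29f064e2d7490911c8530c20))) (.node (nat_lit 0xf7f9db675bc5e13749f562e2da288910d0531c20) (.leaf (nat_lit 0xf7f99c775bb5eb3729b08ad8fa488511d0930c20)) (.node (nat_lit 0xf7f9dc6757b6e0ba49b58cd8f7290510c8931c20) (.leaf (nat_lit 0xf7f9db675bc5e13749f562e2da288910d0531c20)) (.leaf (nat_lit 0xf7f9dc6757b6e0ba49b58cd8f7290510c8931c20)))))))) (.node (nat_lit 0xffb3cbebb8dda0e5aa357d1ac9c924198a838820) (.node (nat_lit 0xffaf6ee37ccea4b7562a7cdaca4043424c721420) (.node (nat_lit 0xffad7d6f19e76549d5aa63a2f5c0e64a06229020) (.node (nat_lit 0xf7fbcbeb38dda145ca356b9ec9a8a81892439820) (.node (nat_lit 0xf7fbadf338bdab45a9907b9b19c8a41992838820)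 (.leaf (nat_lit 0xf7fbabf336de2ae9aa306d1ec5c928198a438820)) (.leaf (nat_lit 0xf7fbadf338bdab45a9907b9b19c8a41992838820))) (.node (nat_lit 0xf7fbcdeb36be20e9c9957d1b15a924188a839820) (.leaf (nat_lit 0xf7fbcbeb38dda145ca356b9ec9a8a81892439820)) (.leaf (nat_lit 0xf7fbcdeb36be20e9c9957d1b15a924188a839820)))) (.node (nat_lit 0xffadbd5f1de654e5c1b26522f9d466490e22a020) (.node (nat_lit 0xffad7e6f1dd664e5d5ea8d18d9c0624a0e629020) (.leaf (nat_lit 0xffad7d6f19e76549d5aa63a2f5c0e64a06229020)) (.leaf (nat_lit 0xffad7e6f1dd664e5d5ea8d18d9c0624a0e629020))) (.node (nat_lit 0xffadbe5f19d75549c1f28b98d5d4e2490662a020) (.leaf (nat_lit 0xffadbd5f1de654e5c1b26522f9d466490e22a020)) (.node (nat_lit 0xffaf6ce37aef253a558a6adf1740c74244321420) (.leaf (nat_lit 0xffadbe5f19d75549c1f28b98d5d4e2490662a020)) (.leaf (nat_lit 0xffaf6ce37aef253a558a6adf1740c74244321420)))))) (.node (nat_lit 0xffb17e6ed9d754e5c1b26522f9d4e22a06649020)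 (.node (nat_lit 0xffaf8edb7acf153a42327adac754c34144722420) (.node (nat_lit 0xffaf8cdb7cee94b741926cdf1a5447414c322420) (.leaf (nat_lit 0xffaf6ee37ccea4b7562a7cdaca4043424c721420)) (.leaf (nat_lit 0xffaf8cdb7cee94b741926cdf1a5447414c322420))) (.node (nat_lit 0xffb17d6edde65549c1f28b98d5d4662a0e249020) (.leaf (nat_lit 0xffaf8edb7acf153a42327adac754c34144722420)) (.leaf (nat_lit 0xffb17d6edde65549c1f28b98d5d4662a0e249020)))) (.node (nat_lit 0xffb1be5eddd66549d5aa63a2f5c062290e64a020) (.node (nat_lit 0xffb1bd5ed9e764e5d5ea8d18d9c0e6290624a020) (.leaf (nat_lit 0xffb17e6ed9d754e5c1b26522f9d4e22a06649020)) (.leaf (nat_lit 0xffb1bd5ed9e764e5d5ea8d18d9c0e6290624a020))) (.node (nat_lit 0xffb3abf3b6de2b49ca307b9ac5a8a41892839820) (.leaf (nat_lit 0xffb1be5eddd66549d5aa63a2f5c062290e64a020)) (.node (nat_lit 0xffb3adf3b8bdaae5c9906d1f19a928188a439820) (.leaf (nat_lit 0xffb3abf3b6de2b49ca307b9ac5a8a41892839820))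 (.leaf (nat_lit 0xffb3adf3b8bdaae5c9906d1f19a928188a439820))))))) (.node (nat_lit 0xffb78edafccea53a558a6adf174043214c742420) (.node (nat_lit 0xffb5db679bc5e0b729f58cd8da490511c8930c20) (.node (nat_lit 0xffb59b7797c6eb3a49f08ad8d7288510d0931c20) (.node (nat_lit 0xffb3cdebb6be2149a9956b9f15c8a81992438820) (.leaf (nat_lit 0xffb3cbebb8dda0e5aa357d1ac9c924198a838820)) (.leaf (nat_lit 0xffb3cdebb6be2149a9956b9f15c8a81992438820))) (.node (nat_lit 0xffb59c779bb5eab749b064e2fa290910c8531c20) (.leaf (nat_lit 0xffb59b7797c6eb3a49f08ad8d7288510d0931c20)) (.leaf (nat_lit 0xffb59c779bb5eab749b064e2fa290910c8531c20)))) (.node (nat_lit 0xffb76ce2fcee953a42327adac75447224c341420) (.node (nat_lit 0xffb5dc6797b6e13a29b562e2f7488911d0530c20) (.leaf (nat_lit 0xffb5db679bc5e0b729f58cd8da490511c8930c20)) (.leaf (nat_lit 0xffb5dc6797b6e13a29b562e2f7488911d0530c20))) (.node (nat_lit 0xffb76ee2facf14b741926cdf1a54c32244741420)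 (.leaf (nat_lit 0xffb76ce2fcee953a42327adac75447224c341420)) (.node (nat_lit 0xffb78cdafaef24b7562a7cdaca40c72144342420) (.leaf (nat_lit 0xffb76ee2facf14b741926cdf1a54c32244741420)) (.leaf (nat_lit 0xffb78cdafaef24b7562a7cdaca40c72144342420)))))) (.node (nat_lit 0xffb9dc675bb5eb3a49f08ad8d7290931c8510c20) (.node (nat_lit 0xffb99c7757b6e0b729f58cd8da488930d0511c20) (.node (nat_lit 0xffb99b775bc5e13a29b562e2f7490530c8911c20) (.leaf (nat_lit 0xffb78edafccea53a558a6adf174043214c742420)) (.leaf (nat_lit 0xffb99b775bc5e13a29b562e2f7490530c8911c20))) (.node (nat_lit 0xffb9db6757c6eab749b064e2fa288531d0910c20) (.leaf (nat_lit 0xffb99c7757b6e0b729f58cd8da488930d0511c20)) (.leaf (nat_lit 0xffb9db6757c6eab749b064e2fa288531d0910c20)))) (.node (nat_lit 0xffbbadf336be20e5aa357d1ac9c8a83892419820) (.node (nat_lit 0xffbbabf338dda149a9956b9f15c924388a819820) (.leaf (nat_lit 0xffb9dc675bb5eb3a49f08ad8d7290931c8510c20))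 (.leaf (nat_lit 0xffbbabf338dda149a9956b9f15c924388a819820))) (.node (nat_lit 0xffbbcbeb36de2ae5c9906d1f19a8a43992818820) (.leaf (nat_lit 0xffbbadf336be20e5aa357d1ac9c8a83892419820)) (.node (nat_lit 0xffbbcdeb38bdab49ca307b9ac5a928398a418820) (.leaf (nat_lit 0xffbbcbeb36de2ae5c9906d1f19a8a43992818820)) (.leaf (nat_lit 0xffbbcdeb38bdab49ca307b9ac5a928398a418820)))))))))))
noncomputable def AP_lK_T : ST := (.node (nat_lit 0x5cd99b762fc345ea2366d7f977124381547aa420) AP_lK_T0 AP_lK_T1)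
theorem AP_lK_E {G : Type*} [Group G] {R : ℕ → G → Prop} {z u v a b i j k l x y r s t : G}
    (M : Md0 AP_o AP_cs R [z, u, v, a, b, i, j, k, l, x, y, r, s, t]) :
    EnumS R AP_lK (sp [i, x, y, r, s]) :=
  enumS_tree M.μ.1 (M.reps.tms M.μ.1 [(.v (nat_lit 5)), (.v (nat_lit 9)), (.v (nat_lit 10)), (.v (nat_lit 11)), (.v (nat_lit 12))] (cs' := [(nat_lit 0xf7f3abf3b8dda0e9c9957d1b15a8a83992418820), (nat_lit 0x54b786daec7c7c73575fc8fbc142934a1cb29020), (nat_lit 0x9adb8ed9eccc49fa0b48bfb7c71a0951ea590c20), (nat_lit 0x857598f78f637c944b7fc16d722a93399cb18820), (nat_lit 0xa399be5e2dd3cbf98f29b7b1d59e0851aa490820)]) (by decide +kernel))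
    (Ws := AP_lK_W) (T := AP_lK_T) (by decide +kernel) (by decide +kernel)
theorem AP_lK_c {G : Type*} [Group G] {R : ℕ → G → Prop} {z u v a b i j k l x y r s t : G}
    (M : Md0 AP_o AP_cs R [z, u, v, a, b, i, j, k, l, x, y, r, s, t]) :
    #(sp [i, x, y, r, s]) = 576 :=
  (AP_lK_E M).card M.μ (h := AP_lK_h) (by decide +kernel)
noncomputable def AP_lE : List ℕ := [(nat_lit 0xffbbcdeb38bdab49ca307b9ac5a928398a418820), (nat_lit 0xf7f3abf3b6de20e5a9956d1f19c8a41892839801), (nat_lit 0xe6abfa7a0f737bb41d39c5ec520e339058b500c2), (nat_lit 0xee7f58c3d362f89c1b7a41497b0a8f0c9cd028e3), (nat_lit 0xd721e77eada3f3720cbdb6f0941d8b5023390446), (nat_lit 0xcf7d0657eb8cf45b0afc2251bc19cd02a8f0c867), (nat_lit 0xac39d4e748293f17869e9b16e6837831ef610e4a), (nat_lit 0x857592f7844a3cc681df5c674786f610f7831d52)]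
noncomputable def AP_lE_W : List (List ℕ) := [[],
  [(nat_lit 0)],
  [(nat_lit 1)],
  [(nat_lit 2)],
  [(nat_lit 0), (nat_lit 1)],
  [(nat_lit 0), (nat_lit 2)],
  [(nat_lit 1), (nat_lit 2)],
  [(nat_lit 0), (nat_lit 1), (nat_lit 2)]]
noncomputable def AP_lE_h (c : ℕ) : ℕ := Nat.mod c (nat_lit 30)
theorem AP_lE_E {G : Type*} [Group G] {R : ℕ → G → Prop} {z u v a b i j k l x y r s t : G}
    (M : Md0 AP_o AP_cs R [z, u, v, a, b, i, j, k, l, x, y, r, s, t]) :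
    EnumS R AP_lE (sp [z, u, v]) :=
  enumS_sp M.μ.1 (M.reps.tms M.μ.1 [(.v (nat_lit 0)), (.v (nat_lit 1)), (.v (nat_lit 2))] (cs' := [(nat_lit 0xf7f3abf3b6de20e5a9956d1f19c8a41892839801), (nat_lit 0xe6abfa7a0f737bb41d39c5ec520e339058b500c2), (nat_lit 0xee7f58c3d362f89c1b7a41497b0a8f0c9cd028e3)]) (by decide +kernel))
    (Ws := AP_lE_W) (by decide +kernel) (by decide +kernel)
theorem AP_lE_c {G : Type*} [Group G] {R : ℕ → G → Prop} {z u v a b i j k l x y r s t : G}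
    (M : Md0 AP_o AP_cs R [z, u, v, a, b, i, j, k, l, x, y, r, s, t]) :
    #(sp [z, u, v]) = 8 :=
  (AP_lE_E M).card M.μ (h := AP_lE_h) (by decide +kernel)
noncomputable def AP_n_F : Fm := (.allS AP_lQ (.qf (.and (.mem (.mul (.mul (.v (nat_lit 6)) (.v (nat_lit 0))) (.inv (.v (nat_lit 6)))) AP_lQ) (.and (.mem (.mul (.mul (.v (nat_lit 10)) (.v (nat_lit 0))) (.inv (.v (nat_lit 10)))) AP_lQ) (.and (.mem (.mul (.mul (.v (nat_lit 12)) (.v (nat_lit 0))) (.inv (.v (nat_lit 12)))) AP_lQ) (.mem (.mul (.mul (.v (nat_lit 14)) (.v (nat_lit 0))) (.inv (.v (nat_lit 14)))) AP_lQ))))))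
theorem AP_n_chk : Fm.chk AP_o AP_n_F AP_cs = true := by decide +kernel
theorem AP_n {G : Type*} [Group G] {R : ℕ → G → Prop} {z u v a b i j k l x y r s t : G}
    (M : Md0 AP_o AP_cs R [z, u, v, a, b, i, j, k, l, x, y, r, s, t]) :
    ∀ e ∈ sp [z, u, v, a, b], i * e * i⁻¹ ∈ sp [z, u, v, a, b] ∧ x * e * x⁻¹ ∈ sp [z, u, v, a, b] ∧ r * e * r⁻¹ ∈ sp [z, u, v, a, b] ∧ t * e * t⁻¹ ∈ sp [z, u, v, a, b] :=
  have h : ∀ e, InS R AP_lQ e → InS R AP_lQ (i * e * i⁻¹) ∧ InS R AP_lQ (x * e * x⁻¹) ∧ InS R AP_lQ (r * e * r⁻¹) ∧ InS R AP_lQ (t * e * t⁻¹) :=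
    Fm.sound M.μ AP_n_F AP_n_chk M.reps
  (fun e h0 => ((and_congr (AP_lQ_E M).iff (and_congr (AP_lQ_E M).iff (and_congr (AP_lQ_E M).iff (AP_lQ_E M).iff))).1 (h e ((AP_lQ_E M).iff.2 h0))))
noncomputable def AP_fa_t0 : ST := (.node (nat_lit 13790) (.node (nat_lit 8121) (.node (nat_lit 5108) (.node (nat_lit 3548) (.node (nat_lit 1334) (.node (nat_lit 1138) (.leaf (nat_lit 2)) (.node (nat_lit 1162) (.leaf (nat_lit 4)) (.leaf (nat_lit 2)))) (.node (nat_lit 3061) (.node (nat_lit 1361) (.leaf (nat_lit 3)) (.leaf (nat_lit 2))) (.node (nat_lit 3063) (.leaf (nat_lit 3)) (.leaf (nat_lit 2))))) (.node (nat_lit 4608) (.node (nat_lit 4473) (.node (nat_lit 3573) (.leaf (nat_lit 3)) (.leaf (nat_lit 2))) (.node (nat_lit 4518) (.leaf (nat_lit 3)) (.leaf (nat_lit 2)))) (.node (nat_lit 4893) (.node (nat_lit 4657) (.leaf (nat_lit 3)) (.leaf (nat_lit 2))) (.node (nat_lit 4916) (.leaf (nat_lit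 3)) (.leaf (nat_lit 2)))))) (.node (nat_lit 6531) (.node (nat_lit 5862) (.node (nat_lit 5654) (.node (nat_lit 5143) (.leaf (nat_lit 3)) (.leaf (nat_lit 2))) (.node (nat_lit 5658) (.leaf (nat_lit 3)) (.leaf (nat_lit 2)))) (.node (nat_lit 6438) (.node (nat_lit 5868) (.leaf (nat_lit 3)) (.leaf (nat_lit 2))) (.node (nat_lit 6492) (.leaf (nat_lit 4)) (.leaf (nat_lit 2))))) (.node (nat_lit 7899) (.node (nat_lit 7378) (.node (nat_lit 6535) (.leaf (nat_lit 3)) (.leaf (nat_lit 2))) (.node (nat_lit 7390) (.leaf (nat_lit 3)) (.leaf (nat_lit 2)))) (.node (nat_lit 7944) (.node (nat_lit 7918) (.leaf (nat_lit 3)) (.leaf (nat_lit 2))) (.node (nat_lit 8026) (.leaf (nat_lit 3)) (.leaf (nat_lit 2))))))) (.node (nat_lit 10364) (.node (nat_lit 9867) (.node (nat_lit 8606) (.node (nat_lit 8126) (.leaf (nat_lit 3)) (.node (nat_lit 8529) (.leaf (nat_lit 2)) (.leaf (nat_lit 3)))) (.node (nat_lit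 8947) (.node (nat_lit 8918) (.leaf (nat_lit 2)) (.leaf (nat_lit 3))) (.node (nat_lit 9815) (.leaf (nat_lit 2)) (.leaf (nat_lit 4))))) (.node (nat_lit 10056) (.node (nat_lit 9935) (.node (nat_lit 9919) (.leaf (nat_lit 2)) (.leaf (nat_lit 3))) (.node (nat_lit 9989) (.leaf (nat_lit 2)) (.leaf (nat_lit 3)))) (.node (nat_lit 10341) (.node (nat_lit 10284) (.leaf (nat_lit 2)) (.leaf (nat_lit 3))) (.node (nat_lit 10362) (.leaf (nat_lit 2)) (.leaf (nat_lit 3)))))) (.node (nat_lit 11710) (.node (nat_lit 10898) (.node (nat_lit 10623) (.node (nat_lit 10614) (.leaf (nat_lit 2)) (.leaf (nat_lit 4))) (.node (nat_lit 10885) (.leaf (nat_lit 2)) (.leaf (nat_lit 3)))) (.node (nat_lit 11475) (.node (nat_lit 11436) (.leaf (nat_lit 2)) (.leaf (nat_lit 3))) (.node (nat_lit 11653) (.leaf (nat_lit 2)) (.leaf (nat_lit 3))))) (.node (nat_lit 13337) (.node (nat_lit 13276) (.node (nat_lit 13269)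 (.leaf (nat_lit 2)) (.leaf (nat_lit 3))) (.node (nat_lit 13323) (.leaf (nat_lit 2)) (.leaf (nat_lit 3)))) (.node (nat_lit 13529) (.node (nat_lit 13509) (.leaf (nat_lit 2)) (.leaf (nat_lit 5))) (.node (nat_lit 13779) (.leaf (nat_lit 2)) (.leaf (nat_lit 3)))))))) (.node (nat_lit 19849) (.node (nat_lit 16875) (.node (nat_lit 15511) (.node (nat_lit 14459) (.node (nat_lit 14408) (.leaf (nat_lit 2)) (.node (nat_lit 14438) (.leaf (nat_lit 3)) (.leaf (nat_lit 4)))) (.node (nat_lit 14594) (.node (nat_lit 14546) (.leaf (nat_lit 2)) (.leaf (nat_lit 3))) (.node (nat_lit 15406) (.leaf (nat_lit 2)) (.leaf (nat_lit 3))))) (.node (nat_lit 16747) (.node (nat_lit 16316) (.node (nat_lit 16261) (.leaf (nat_lit 2)) (.leaf (nat_lit 3))) (.node (nat_lit 16738) (.leaf (nat_lit 2)) (.leaf (nat_lit 3)))) (.node (nat_lit 16820) (.node (nat_lit 16808) (.leaf (nat_lit 2)) (.leaf (nat_lit 3))) (.node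 (nat_lit 16825) (.leaf (nat_lit 2)) (.leaf (nat_lit 3)))))) (.node (nat_lit 18423) (.node (nat_lit 17984) (.node (nat_lit 17275) (.node (nat_lit 17259) (.leaf (nat_lit 2)) (.leaf (nat_lit 3))) (.node (nat_lit 17959) (.leaf (nat_lit 2)) (.leaf (nat_lit 3)))) (.node (nat_lit 18333) (.node (nat_lit 18315) (.leaf (nat_lit 2)) (.leaf (nat_lit 3))) (.node (nat_lit 18419) (.leaf (nat_lit 2)) (.leaf (nat_lit 3))))) (.node (nat_lit 19367) (.node (nat_lit 18770) (.node (nat_lit 18765) (.leaf (nat_lit 2)) (.leaf (nat_lit 3))) (.node (nat_lit 19361) (.leaf (nat_lit 2)) (.leaf (nat_lit 3)))) (.node (nat_lit 19659) (.node (nat_lit 19629) (.leaf (nat_lit 2)) (.leaf (nat_lit 3))) (.node (nat_lit 19834) (.leaf (nat_lit 2)) (.leaf (nat_lit 3))))))) (.node (nat_lit 26049) (.node (nat_lit 21981) (.node (nat_lit 21282) (.node (nat_lit 20205) (.leaf (nat_lit 2)) (.node (nat_lit 20218) (.leaf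 (nat_lit 4)) (.leaf (nat_lit 2)))) (.node (nat_lit 21560) (.node (nat_lit 21286) (.leaf (nat_lit 3)) (.leaf (nat_lit 2))) (.node (nat_lit 21572) (.leaf (nat_lit 3)) (.leaf (nat_lit 2))))) (.node (nat_lit 22195) (.node (nat_lit 22111) (.node (nat_lit 21990) (.leaf (nat_lit 3)) (.leaf (nat_lit 2))) (.node (nat_lit 22112) (.leaf (nat_lit 3)) (.leaf (nat_lit 2)))) (.node (nat_lit 25670) (.node (nat_lit 22207) (.leaf (nat_lit 3)) (.leaf (nat_lit 2))) (.node (nat_lit 25675) (.leaf (nat_lit 3)) (.leaf (nat_lit 2)))))) (.node (nat_lit 31570) (.node (nat_lit 28835) (.node (nat_lit 26796) (.node (nat_lit 26092) (.leaf (nat_lit 3)) (.leaf (nat_lit 2))) (.node (nat_lit 26808) (.leaf (nat_lit 3)) (.leaf (nat_lit 2)))) (.node (nat_lit 30207) (.node (nat_lit 28859) (.leaf (nat_lit 3)) (.leaf (nat_lit 2))) (.node (nat_lit 30252) (.leaf (nat_lit 3)) (.leaf (nat_lit 2))))) (.node (nat_lit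 31800) (.node (nat_lit 31606) (.node (nat_lit 31585) (.leaf (nat_lit 3)) (.leaf (nat_lit 2))) (.node (nat_lit 31634) (.leaf (nat_lit 3)) (.leaf (nat_lit 2)))) (.node (nat_lit 32079) (.node (nat_lit 31806) (.leaf (nat_lit 3)) (.leaf (nat_lit 2))) (.node (nat_lit 32181) (.leaf (nat_lit 3)) (.leaf (nat_lit 2)))))))))
noncomputable def AP_fa_F : Fm := (.allS AP_lS (.or (.qf (.eq (.v (nat_lit 0)) .one)) (.exG AP_lQ (fun cs => AP_fa_t0.find (Nat.mod (nth (nat_lit 0) cs (nat_lit 0)) (nat_lit 33377))) (.qf (.not (.eq (.mul (.v (nat_lit 1)) (.v (nat_lit 0))) (.mul (.v (nat_lit 0)) (.v (nat_lit 1)))))))))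
theorem AP_fa_chk : Fm.chk AP_o AP_fa_F AP_cs = true := by decide +kernel
theorem AP_fa {G : Type*} [Group G] {R : ℕ → G → Prop} {z u v a b i j k l x y r s t : G}
    (M : Md0 AP_o AP_cs R [z, u, v, a, b, i, j, k, l, x, y, r, s, t]) :
    ∀ g ∈ sp [i, x, r, t], g = 1 ∨ (∃ e ∈ sp [z, u, v, a, b], g * e ≠ e * g) :=
  have h : ∀ g, InS R AP_lS g → g = 1 ∨ (GoodS R AP_lQ → AP_lQ ≠ [] → ∃ e, InS R AP_lQ e ∧ g * e ≠ e * g) :=
    Fm.sound M.μ AP_fa_F AP_fa_chk M.reps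
  (fun g h0 => (Or.imp (fun h1 => h1) (fun h1 => (Exists.imp (fun e h2 => ⟨(AP_lQ_E M).iff.1 h2.1, h2.2⟩) (h1 (AP_lQ_E M).good (AP_lQ_E M).ne))) (h g ((AP_lS_E M).iff.2 h0))))
noncomputable def AP_i1_t0 : ST := (.node (nat_lit 38) (.node (nat_lit 26) (.node (nat_lit 16) (.node (nat_lit 12) (.leaf (nat_lit 6)) (.node (nat_lit 14) (.leaf (nat_lit 7)) (.leaf (nat_lit 9)))) (.node (nat_lit 18) (.node (nat_lit 17) (.leaf (nat_lit 10)) (.leaf (nat_lit 7))) (.node (nat_lit 22) (.leaf (nat_lit 5)) (.leaf (nat_lit 11))))) (.node (nat_lit 32) (.node (nat_lit 27) (.leaf (nat_lit 14)) (.node (nat_lit 30) (.leaf (nat_lit 12)) (.leaf (nat_lit 15)))) (.node (nat_lit 35) (.node (nat_lit 34) (.leaf (nat_lit 0)) (.leaf (nat_lit 1))) (.node (nat_lit 36) (.leaf (nat_lit 2)) (.leaf (nat_lit 3)))))) (.node (nat_lit 61) (.node (nat_lit 52) (.node (nat_lit 39) (.leaf (nat_lit 1)) (.node (nat_lit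 40) (.leaf (nat_lit 2)) (.leaf (nat_lit 3)))) (.node (nat_lit 57) (.node (nat_lit 55) (.leaf (nat_lit 9)) (.leaf (nat_lit 12))) (.node (nat_lit 60) (.leaf (nat_lit 13)) (.leaf (nat_lit 14))))) (.node (nat_lit 74) (.node (nat_lit 65) (.leaf (nat_lit 13)) (.node (nat_lit 69) (.leaf (nat_lit 0)) (.leaf (nat_lit 4)))) (.node (nat_lit 83) (.node (nat_lit 77) (.leaf (nat_lit 5)) (.leaf (nat_lit 8))) (.node (nat_lit 85) (.leaf (nat_lit 6)) (.leaf (nat_lit 10)))))))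
noncomputable def AP_i1_F : Fm := (.allS AP_lQ (.exG AP_lI (fun cs => AP_i1_t0.find (Nat.mod (nth (nat_lit 0) cs (nat_lit 0)) (nat_lit 96))) (.allS AP_lQ (.qf (.eq (.mul (.mul (.v (nat_lit 1)) (.v (nat_lit 0))) (.inv (.v (nat_lit 1)))) (.mul (.mul (.v (nat_lit 2)) (.v (nat_lit 0))) (.inv (.v (nat_lit 2)))))))))
theorem AP_i1_chk : Fm.chk AP_o AP_i1_F AP_cs = true := by decide +kernel
theorem AP_i1 {G : Type*} [Group G] {R : ℕ → G → Prop} {z u v a b i j k l x y r s t : G}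
    (M : Md0 AP_o AP_cs R [z, u, v, a, b, i, j, k, l, x, y, r, s, t]) :
    ∀ q ∈ sp [z, u, v, a, b], ∃ g ∈ sp [i, j, k, l], ∀ e ∈ sp [z, u, v, a, b], g * e * g⁻¹ = q * e * q⁻¹ :=
  have h : ∀ q, InS R AP_lQ q → (GoodS R AP_lI → AP_lI ≠ [] → ∃ g, InS R AP_lI g ∧ (∀ e, InS R AP_lQ e → g * e * g⁻¹ = q * e * q⁻¹)) :=
    Fm.sound M.μ AP_i1_F AP_i1_chk M.reps
  (fun q h0 => (Exists.imp (fun g h1 => ⟨(AP_lI_E M).iff.1 h1.1, (fun e h2 => (h1.2 e ((AP_lQ_E M).iff.2 h2)))⟩) ((h q ((AP_lQ_E M).iff.2 h0)) (AP_lI_E M).good (AP_lI_E M).ne)))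
noncomputable def AP_i2_t0 : ST := (.node (nat_lit 36) (.node (nat_lit 13) (.node (nat_lit 7) (.node (nat_lit 5) (.leaf (nat_lit 3)) (.leaf (nat_lit 25))) (.node (nat_lit 9) (.leaf (nat_lit 11)) (.leaf (nat_lit 26)))) (.node (nat_lit 31) (.node (nat_lit 17) (.leaf (nat_lit 14)) (.leaf (nat_lit 0))) (.node (nat_lit 35) (.leaf (nat_lit 4)) (.leaf (nat_lit 30))))) (.node (nat_lit 53) (.node (nat_lit 45) (.node (nat_lit 40) (.leaf (nat_lit 12)) (.leaf (nat_lit 23))) (.node (nat_lit 48) (.leaf (nat_lit 10)) (.leaf (nat_lit 13)))) (.node (nat_lit 57) (.node (nat_lit 54) (.leaf (nat_lit 5)) (.leaf (nat_lit 16))) (.node (nat_lit 62) (.leaf (nat_lit 2)) (.leaf (nat_lit 22))))))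
noncomputable def AP_i2_F : Fm := (.allS AP_lI (.exG AP_lQ (fun cs => AP_i2_t0.find (Nat.mod (nth (nat_lit 0) cs (nat_lit 0)) (nat_lit 63))) (.allS AP_lQ (.qf (.eq (.mul (.mul (.v (nat_lit 2)) (.v (nat_lit 0))) (.inv (.v (nat_lit 2)))) (.mul (.mul (.v (nat_lit 1)) (.v (nat_lit 0))) (.inv (.v (nat_lit 1)))))))))
theorem AP_i2_chk : Fm.chk AP_o AP_i2_F AP_cs = true := by decide +kernel
theorem AP_i2 {G : Type*} [Group G] {R : ℕ → G → Prop} {z u v a b i j k l x y r s t : G}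
    (M : Md0 AP_o AP_cs R [z, u, v, a, b, i, j, k, l, x, y, r, s, t]) :
    ∀ g ∈ sp [i, j, k, l], ∃ q ∈ sp [z, u, v, a, b], ∀ e ∈ sp [z, u, v, a, b], g * e * g⁻¹ = q * e * q⁻¹ :=
  have h : ∀ g, InS R AP_lI g → (GoodS R AP_lQ → AP_lQ ≠ [] → ∃ q, InS R AP_lQ q ∧ (∀ e, InS R AP_lQ e → g * e * g⁻¹ = q * e * q⁻¹)) :=
    Fm.sound M.μ AP_i2_F AP_i2_chk M.reps
  (fun g h0 => (Exists.imp (fun q h1 => ⟨(AP_lQ_E M).iff.1 h1.1, (fun e h2 => (h1.2 e ((AP_lQ_E M).iff.2 h2)))⟩) ((h g ((AP_lI_E M).iff.2 h0)) (AP_lQ_E M).good (AP_lQ_E M).ne)))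
noncomputable def AP_IK_F : Fm := (.allS AP_lI (.qf (.mem (.v (nat_lit 0)) AP_lK)))
theorem AP_IK_chk : Fm.chk AP_o AP_IK_F AP_cs = true := by decide +kernel
theorem AP_IK {G : Type*} [Group G] {R : ℕ → G → Prop} {z u v a b i j k l x y r s t : G}
    (M : Md0 AP_o AP_cs R [z, u, v, a, b, i, j, k, l, x, y, r, s, t]) :
    ∀ g ∈ sp [i, j, k, l], g ∈ sp [i, x, y, r, s] :=
  have h : ∀ g, InS R AP_lI g → InS R AP_lK (g) :=
    Fm.sound M.μ AP_IK_F AP_IK_chk M.reps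
  (fun g h0 => ((AP_lK_E M).iff.1 (h g ((AP_lI_E M).iff.2 h0))))
noncomputable def AP_ix_F : Fm := (.allS AP_lS (.qf (.or (.mem (.v (nat_lit 0)) AP_lK) (.mem (.mul (.v (nat_lit 14)) (.v (nat_lit 0))) AP_lK))))
theorem AP_ix_chk : Fm.chk AP_o AP_ix_F AP_cs = true := by decide +kernel
theorem AP_ix {G : Type*} [Group G] {R : ℕ → G → Prop} {z u v a b i j k l x y r s t : G}
    (M : Md0 AP_o AP_cs R [z, u, v, a, b, i, j, k, l, x, y, r, s, t]) :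
    ∀ g ∈ sp [i, x, r, t], g ∈ sp [i, x, y, r, s] ∨ t * g ∈ sp [i, x, y, r, s] :=
  have h : ∀ g, InS R AP_lS g → InS R AP_lK (g) ∨ InS R AP_lK (t * g) :=
    Fm.sound M.μ AP_ix_F AP_ix_chk M.reps
  (fun g h0 => ((or_congr (AP_lK_E M).iff (AP_lK_E M).iff).1 (h g ((AP_lS_E M).iff.2 h0))))
noncomputable def AP_nb_t0 : ST := (.node (nat_lit 349) (.node (nat_lit 176) (.node (nat_lit 135) (.node (nat_lit 28) (.node (nat_lit 21) (.leaf (nat_lit 16)) (.leaf (nat_lit 84))) (.node (nat_lit 89) (.leaf (nat_lit 80)) (.node (nat_lit 132) (.leaf (nat_lit 221)) (.leaf (nat_lit 672))))) (.node (nat_lit 155) (.node (nat_lit 137) (.leaf (nat_lit 208)) (.node (nat_lit 144) (.leaf (nat_lit 64)) (.leaf (nat_lit 645)))) (.node (nat_lit 160) (.leaf (nat_lit 673)) (.node (nat_lit 173) (.leaf (nat_lit 76)) (.leaf (nat_lit 209)))))) (.node (nat_lit 245) (.node (nat_lit 199) (.node (nat_lit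 187) (.leaf (nat_lit 85)) (.node (nat_lit 193) (.leaf (nat_lit 97)) (.leaf (nat_lit 16)))) (.node (nat_lit 207) (.leaf (nat_lit 108)) (.node (nat_lit 211) (.leaf (nat_lit 193)) (.leaf (nat_lit 68))))) (.node (nat_lit 316) (.node (nat_lit 273) (.leaf (nat_lit 0)) (.node (nat_lit 294) (.leaf (nat_lit 220)) (.leaf (nat_lit 96)))) (.node (nat_lit 318) (.leaf (nat_lit 85)) (.node (nat_lit 325) (.leaf (nat_lit 640)) (.leaf (nat_lit 96))))))) (.node (nat_lit 540) (.node (nat_lit 437) (.node (nat_lit 374) (.node (nat_lit 372) (.leaf (nat_lit 192)) (.leaf (nat_lit 109))) (.node (nat_lit 410) (.leaf (nat_lit 104)) (.node (nat_lit 433) (.leaf (nat_lit 64)) (.leaf (nat_lit 106))))) (.node (nat_lit 467) (.node (nat_lit 443) (.leaf (nat_lit 17)) (.node (nat_lit 447) (.leaf (nat_lit 644)) (.leaf (nat_lit 1)))) (.node (nat_lit 468) (.leaf (nat_lit 100)) (.node (nat_lit 511) (.leaf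 (nat_lit 648)) (.leaf (nat_lit 216)))))) (.node (nat_lit 643) (.node (nat_lit 587) (.node (nat_lit 543) (.leaf (nat_lit 72)) (.node (nat_lit 564) (.leaf (nat_lit 97)) (.leaf (nat_lit 656)))) (.node (nat_lit 611) (.leaf (nat_lit 101)) (.node (nat_lit 641) (.leaf (nat_lit 82)) (.leaf (nat_lit 84))))) (.node (nat_lit 651) (.node (nat_lit 645) (.leaf (nat_lit 217)) (.node (nat_lit 649) (.leaf (nat_lit 72)) (.leaf (nat_lit 1)))) (.node (nat_lit 653) (.leaf (nat_lit 642)) (.node (nat_lit 712) (.leaf (nat_lit 82)) (.leaf (nat_lit 0))))))))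
noncomputable def AP_nb_F : Fm := (.allS AP_lS (.imp (.eq (.mul (.v (nat_lit 0)) (.v (nat_lit 0))) .one) (.imp (.not (.mem (.v (nat_lit 0)) AP_lK)) (.exG AP_lS (fun cs => AP_nb_t0.find (Nat.mod (nth (nat_lit 0) cs (nat_lit 0)) (nat_lit 721))) (.qf (.or (.eq (.mul (.mul (.v (nat_lit 0)) (.v (nat_lit 1))) (.inv (.v (nat_lit 0)))) (.v (nat_lit 15))) (.eq (.mul (.mul (.v (nat_lit 0)) (.v (nat_lit 1))) (.inv (.v (nat_lit 0)))) (.mul (.v (nat_lit 15)) (.v (nat_lit 7))))))))))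
theorem AP_nb_chk : Fm.chk AP_o AP_nb_F AP_cs = true := by decide +kernel
theorem AP_nb {G : Type*} [Group G] {R : ℕ → G → Prop} {z u v a b i j k l x y r s t : G}
    (M : Md0 AP_o AP_cs R [z, u, v, a, b, i, j, k, l, x, y, r, s, t]) :
    ∀ g ∈ sp [i, x, r, t], g * g = 1 → g ∉ sp [i, x, y, r, s] → (∃ m ∈ sp [i, x, r, t], m * g * m⁻¹ = t ∨ m * g * m⁻¹ = t * i) :=
  have h : ∀ g, InS R AP_lS g → g * g = 1 → ¬ InS R AP_lK (g) → (GoodS R AP_lS → AP_lS ≠ [] → ∃ m, InS R AP_lS m ∧ (m * g * m⁻¹ = t ∨ m * g * m⁻¹ = t * i)) :=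
    Fm.sound M.μ AP_nb_F AP_nb_chk M.reps
  (fun g h0 => (fun h1 => (fun h2 => (Exists.imp (fun m h3 => ⟨(AP_lS_E M).iff.1 h3.1, h3.2⟩) ((((h g ((AP_lS_E M).iff.2 h0)) h1) ((not_congr (AP_lK_E M).iff).2 h2)) (AP_lS_E M).good (AP_lS_E M).ne)))))
noncomputable def AP_nb1a_t0 : ST := (.node (nat_lit 17) (.leaf (nat_lit 12)) (.node (nat_lit 22) (.leaf (nat_lit 22)) (.leaf (nat_lit 12))))
noncomputable def AP_nb1a_F : Fm := (.allS AP_lQ (.imp (.eq (.mul (.v (nat_lit 14)) (.v (nat_lit 0))) (.mul (.v (nat_lit 0)) (.v (nat_lit 14)))) (.or (.qf (.eq (.v (nat_lit 0)) .one)) (.or (.qf (.eq (.v (nat_lit 0)) (.v (nat_lit 1)))) (.exG AP_lQ (fun cs => AP_nb1a_t0.find (Nat.mod (nth (nat_lit 0) cs (nat_lit 0)) (nat_lit 30))) (.qf (.and (.eq (.mul (.v (nat_lit 15)) (.v (nat_lit 0))) (.mul (.v (nat_lit 0)) (.v (nat_lit 15)))) (.eq (.mul (.mul (.mul (.v (nat_lit 1)) (.v (nat_lit 0))) (.inv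 (.v (nat_lit 1)))) (.inv (.v (nat_lit 0)))) (.v (nat_lit 2))))))))))
theorem AP_nb1a_chk : Fm.chk AP_o AP_nb1a_F AP_cs = true := by decide +kernel
theorem AP_nb1a {G : Type*} [Group G] {R : ℕ → G → Prop} {z u v a b i j k l x y r s t : G}
    (M : Md0 AP_o AP_cs R [z, u, v, a, b, i, j, k, l, x, y, r, s, t]) :
    ∀ e ∈ sp [z, u, v, a, b], t * e = e * t → e = 1 ∨ e = z ∨ (∃ d ∈ sp [z, u, v, a, b], t * d = d * t ∧ ⁅e, d⁆ = z) :=
  have h : ∀ e, InS R AP_lQ e → t * e = e * t → e = 1 ∨ e = z ∨ (GoodS R AP_lQ → AP_lQ ≠ [] → ∃ d, InS R AP_lQ d ∧ t * d = d * t ∧ ⁅e, d⁆ = z) :=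
    Fm.sound M.μ AP_nb1a_F AP_nb1a_chk M.reps
  (fun e h0 => (fun h1 => (Or.imp (fun h2 => h2) (fun h2 => (Or.imp (fun h3 => h3) (fun h3 => (Exists.imp (fun d h4 => ⟨(AP_lQ_E M).iff.1 h4.1, h4.2⟩) (h3 (AP_lQ_E M).good (AP_lQ_E M).ne))) h2)) ((h e ((AP_lQ_E M).iff.2 h0)) h1))))
noncomputable def AP_nb2a_t0 : ST := (.node (nat_lit 266) (.node (nat_lit 112) (.node (nat_lit 62) (.leaf (nat_lit 12)) (.node (nat_lit 64) (.leaf (nat_lit 22)) (.leaf (nat_lit 12)))) (.node (nat_lit 166) (.node (nat_lit 125) (.leaf (nat_lit 22)) (.leaf (nat_lit 12))) (.node (nat_lit 171) (.leaf (nat_lit 22)) (.leaf (nat_lit 12))))) (.node (nat_lit 320) (.node (nat_lit 277) (.node (nat_lit 269) (.leaf (nat_lit 22)) (.leaf (nat_lit 12))) (.node (nat_lit 284) (.leaf (nat_lit 22)) (.leaf (nat_lit 12)))) (.node (nat_lit 334) (.node (nat_lit 331) (.leaf (nat_lit 22)) (.leaf (nat_lit 12))) (.node (nat_lit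 337) (.leaf (nat_lit 22)) (.leaf (nat_lit 12))))))
noncomputable def AP_nb2a_F : Fm := (.allS AP_lS (.imp (.eq (.mul (.v (nat_lit 0)) (.v (nat_lit 14))) (.mul (.v (nat_lit 14)) (.v (nat_lit 0)))) (.or (.qf (.mem (.v (nat_lit 0)) AP_lI)) (.or (.qf (.mem (.mul (.v (nat_lit 0)) (.v (nat_lit 14))) AP_lI)) (.exG AP_lQ (fun cs => AP_nb2a_t0.find (Nat.mod (nth (nat_lit 0) cs (nat_lit 0)) (nat_lit 417))) (.qf (.and (.eq (.mul (.v (nat_lit 15)) (.v (nat_lit 0))) (.mul (.v (nat_lit 0)) (.v (nat_lit 15)))) (.not (.eq (.mul (.v (nat_lit 1)) (.v (nat_lit 0))) (.mul (.v (nat_lit 0)) (.v (nat_lit 1))))))))))))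
theorem AP_nb2a_chk : Fm.chk AP_o AP_nb2a_F AP_cs = true := by decide +kernel
theorem AP_nb2a {G : Type*} [Group G] {R : ℕ → G → Prop} {z u v a b i j k l x y r s t : G}
    (M : Md0 AP_o AP_cs R [z, u, v, a, b, i, j, k, l, x, y, r, s, t]) :
    ∀ m ∈ sp [i, x, r, t], m * t = t * m → m ∈ sp [i, j, k, l] ∨ m * t ∈ sp [i, j, k, l] ∨ (∃ e ∈ sp [z, u, v, a, b], t * e = e * t ∧ m * e ≠ e * m) :=
  have h : ∀ m, InS R AP_lS m → m * t = t * m → InS R AP_lI (m) ∨ InS R AP_lI (m * t) ∨ (GoodS R AP_lQ → AP_lQ ≠ [] → ∃ e, InS R AP_lQ e ∧ t * e = e * t ∧ m * e ≠ e * m) :=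
    Fm.sound M.μ AP_nb2a_F AP_nb2a_chk M.reps
  (fun m h0 => (fun h1 => (Or.imp (fun h2 => ((AP_lI_E M).iff.1 h2)) (fun h2 => (Or.imp (fun h3 => ((AP_lI_E M).iff.1 h3)) (fun h3 => (Exists.imp (fun e h4 => ⟨(AP_lQ_E M).iff.1 h4.1, h4.2⟩) (h3 (AP_lQ_E M).good (AP_lQ_E M).ne))) h2)) ((h m ((AP_lS_E M).iff.2 h0)) h1))))
noncomputable def AP_nb1b_t0 : ST := (.node (nat_lit 9) (.node (nat_lit 2) (.leaf (nat_lit 22)) (.leaf (nat_lit 5))) (.node (nat_lit 10) (.leaf (nat_lit 22)) (.leaf (nat_lit 5))))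
noncomputable def AP_nb1b_F : Fm := (.allS AP_lQ (.imp (.eq (.mul (.mul (.v (nat_lit 14)) (.v (nat_lit 6))) (.v (nat_lit 0))) (.mul (.v (nat_lit 0)) (.mul (.v (nat_lit 14)) (.v (nat_lit 6))))) (.or (.qf (.eq (.v (nat_lit 0)) .one)) (.or (.qf (.eq (.v (nat_lit 0)) (.v (nat_lit 1)))) (.exG AP_lQ (fun cs => AP_nb1b_t0.find (Nat.mod (nth (nat_lit 0) cs (nat_lit 0)) (nat_lit 20))) (.qf (.and (.eq (.mul (.mul (.v (nat_lit 15)) (.v (nat_lit 7))) (.v (nat_lit 0))) (.mul (.v (nat_lit 0)) (.mul (.v (nat_lit 15)) (.v (nat_lit 7))))) (.eq (.mul (.mul (.mul (.v (nat_lit 1)) (.v (nat_lit 0))) (.inv (.v (nat_lit 1)))) (.inv (.v (nat_lit 0)))) (.v (nat_lit 2))))))))))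
theorem AP_nb1b_chk : Fm.chk AP_o AP_nb1b_F AP_cs = true := by decide +kernel
theorem AP_nb1b {G : Type*} [Group G] {R : ℕ → G → Prop} {z u v a b i j k l x y r s t : G}
    (M : Md0 AP_o AP_cs R [z, u, v, a, b, i, j, k, l, x, y, r, s, t]) :
    ∀ e ∈ sp [z, u, v, a, b], t * i * e = e * (t * i) → e = 1 ∨ e = z ∨ (∃ d ∈ sp [z, u, v, a, b], t * i * d = d * (t * i) ∧ ⁅e, d⁆ = z) :=
  have h : ∀ e, InS R AP_lQ e → t * i * e = e * (t * i) → e = 1 ∨ e = z ∨ (GoodS R AP_lQ → AP_lQ ≠ [] → ∃ d, InS R AP_lQ d ∧ t * i * d = d * (t * i) ∧ ⁅e, d⁆ = z) :=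
    Fm.sound M.μ AP_nb1b_F AP_nb1b_chk M.reps
  (fun e h0 => (fun h1 => (Or.imp (fun h2 => h2) (fun h2 => (Or.imp (fun h3 => h3) (fun h3 => (Exists.imp (fun d h4 => ⟨(AP_lQ_E M).iff.1 h4.1, h4.2⟩) (h3 (AP_lQ_E M).good (AP_lQ_E M).ne))) h2)) ((h e ((AP_lQ_E M).iff.2 h0)) h1))))
noncomputable def AP_nb2b_F : Fm := (.allS AP_lS (.imp (.eq (.mul (.v (nat_lit 0)) (.mul (.v (nat_lit 14)) (.v (nat_lit 6)))) (.mul (.mul (.v (nat_lit 14)) (.v (nat_lit 6))) (.v (nat_lit 0)))) (.or (.qf (.mem (.v (nat_lit 0)) AP_lI)) (.or (.qf (.mem (.mul (.v (nat_lit 0)) (.mul (.v (nat_lit 14)) (.v (nat_lit 6)))) AP_lI)) (.exG AP_lQ (fun _ => (nat_lit 5)) (.qf (.and (.eq (.mul (.mul (.v (nat_lit 15)) (.v (nat_lit 7))) (.v (nat_lit 0))) (.mul (.v (nat_lit 0)) (.mul (.v (nat_lit 15)) (.v (nat_lit 7))))) (.not (.eq (.mul (.v (nat_lit 1)) (.v (nat_lit 0))) (.mul (.v (nat_lit 0)) (.v (nat_lit 1))))))))))))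
theorem AP_nb2b_chk : Fm.chk AP_o AP_nb2b_F AP_cs = true := by decide +kernel
theorem AP_nb2b {G : Type*} [Group G] {R : ℕ → G → Prop} {z u v a b i j k l x y r s t : G}
    (M : Md0 AP_o AP_cs R [z, u, v, a, b, i, j, k, l, x, y, r, s, t]) :
    ∀ m ∈ sp [i, x, r, t], m * (t * i) = t * i * m → m ∈ sp [i, j, k, l] ∨ m * (t * i) ∈ sp [i, j, k, l] ∨ (∃ e ∈ sp [z, u, v, a, b], t * i * e = e * (t * i) ∧ m * e ≠ e * m) :=
  have h : ∀ m, InS R AP_lS m → m * (t * i) = t * i * m → InS R AP_lI (m) ∨ InS R AP_lI (m * (t * i)) ∨ (GoodS R AP_lQ → AP_lQ ≠ [] → ∃ e, InS R AP_lQ e ∧ t * i * e = e * (t * i) ∧ m * e ≠ e * m) :=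
    Fm.sound M.μ AP_nb2b_F AP_nb2b_chk M.reps
  (fun m h0 => (fun h1 => (Or.imp (fun h2 => ((AP_lI_E M).iff.1 h2)) (fun h2 => (Or.imp (fun h3 => ((AP_lI_E M).iff.1 h3)) (fun h3 => (Exists.imp (fun e h4 => ⟨(AP_lQ_E M).iff.1 h4.1, h4.2⟩) (h3 (AP_lQ_E M).good (AP_lQ_E M).ne))) h2)) ((h m ((AP_lS_E M).iff.2 h0)) h1))))
noncomputable def AP_cq_t0 : ST := (.node (nat_lit 1617) (.node (nat_lit 743) (.node (nat_lit 389) (.node (nat_lit 138) (.node (nat_lit 95) (.node (nat_lit 63) (.leaf (nat_lit 4)) (.node (nat_lit 93) (.leaf (nat_lit 12)) (.leaf (nat_lit 14)))) (.node (nat_lit 107) (.leaf (nat_lit 2)) (.node (nat_lit 118) (.leaf (nat_lit 12)) (.leaf (nat_lit 4))))) (.node (nat_lit 261) (.node (nat_lit 145) (.leaf (nat_lit 30)) (.node (nat_lit 150) (.leaf (nat_lit 4)) (.leaf (nat_lit 2)))) (.node (nat_lit 301) (.node (nat_lit 266) (.leaf (nat_lit 4)) (.leaf (nat_lit 13)))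 (.node (nat_lit 378) (.leaf (nat_lit 4)) (.leaf (nat_lit 10)))))) (.node (nat_lit 496) (.node (nat_lit 430) (.node (nat_lit 405) (.leaf (nat_lit 4)) (.node (nat_lit 411) (.leaf (nat_lit 2)) (.leaf (nat_lit 11)))) (.node (nat_lit 477) (.node (nat_lit 454) (.leaf (nat_lit 13)) (.leaf (nat_lit 2))) (.node (nat_lit 485) (.leaf (nat_lit 16)) (.leaf (nat_lit 2))))) (.node (nat_lit 627) (.node (nat_lit 612) (.leaf (nat_lit 4)) (.node (nat_lit 621) (.leaf (nat_lit 11)) (.leaf (nat_lit 5)))) (.node (nat_lit 705) (.node (nat_lit 689) (.leaf (nat_lit 4)) (.leaf (nat_lit 2))) (.node (nat_lit 715) (.leaf (nat_lit 4)) (.leaf (nat_lit 12))))))) (.node (nat_lit 1246) (.node (nat_lit 1110) (.node (nat_lit 932) (.node (nat_lit 893) (.leaf (nat_lit 3)) (.node (nat_lit 905) (.leaf (nat_lit 10)) (.leaf (nat_lit 3)))) (.node (nat_lit 1027) (.node (nat_lit 984) (.leaf (nat_lit 16)) (.leaf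 (nat_lit 13))) (.node (nat_lit 1068) (.leaf (nat_lit 16)) (.leaf (nat_lit 2))))) (.node (nat_lit 1133) (.node (nat_lit 1114) (.leaf (nat_lit 11)) (.node (nat_lit 1126) (.leaf (nat_lit 10)) (.leaf (nat_lit 4)))) (.node (nat_lit 1177) (.node (nat_lit 1144) (.leaf (nat_lit 5)) (.leaf (nat_lit 10))) (.node (nat_lit 1194) (.leaf (nat_lit 11)) (.leaf (nat_lit 10)))))) (.node (nat_lit 1337) (.node (nat_lit 1297) (.node (nat_lit 1268) (.leaf (nat_lit 3)) (.node (nat_lit 1271) (.leaf (nat_lit 2)) (.leaf (nat_lit 5)))) (.node (nat_lit 1303) (.node (nat_lit 1302) (.leaf (nat_lit 3)) (.leaf (nat_lit 11))) (.node (nat_lit 1330) (.leaf (nat_lit 2)) (.leaf (nat_lit 5))))) (.node (nat_lit 1444) (.node (nat_lit 1380) (.leaf (nat_lit 3)) (.node (nat_lit 1443) (.leaf (nat_lit 30)) (.leaf (nat_lit 2)))) (.node (nat_lit 1574) (.node (nat_lit 1522) (.leaf (nat_lit 3)) (.leaf (nat_lit 4)))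 (.node (nat_lit 1603) (.leaf (nat_lit 2)) (.leaf (nat_lit 3)))))))) (.node (nat_lit 2277) (.node (nat_lit 1946) (.node (nat_lit 1784) (.node (nat_lit 1728) (.node (nat_lit 1661) (.leaf (nat_lit 11)) (.node (nat_lit 1682) (.leaf (nat_lit 3)) (.leaf (nat_lit 2)))) (.node (nat_lit 1747) (.leaf (nat_lit 16)) (.node (nat_lit 1753) (.leaf (nat_lit 2)) (.leaf (nat_lit 10))))) (.node (nat_lit 1830) (.node (nat_lit 1795) (.leaf (nat_lit 3)) (.node (nat_lit 1828) (.leaf (nat_lit 2)) (.leaf (nat_lit 5)))) (.node (nat_lit 1882) (.node (nat_lit 1874) (.leaf (nat_lit 4)) (.leaf (nat_lit 10))) (.node (nat_lit 1922) (.leaf (nat_lit 3)) (.leaf (nat_lit 12)))))) (.node (nat_lit 2177) (.node (nat_lit 2144) (.node (nat_lit 2012) (.leaf (nat_lit 2)) (.node (nat_lit 2138) (.leaf (nat_lit 3)) (.leaf (nat_lit 11)))) (.node (nat_lit 2163) (.node (nat_lit 2153) (.leaf (nat_lit 3)) (.leaf (nat_lit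 10))) (.node (nat_lit 2169) (.leaf (nat_lit 13)) (.leaf (nat_lit 3))))) (.node (nat_lit 2201) (.node (nat_lit 2184) (.leaf (nat_lit 11)) (.node (nat_lit 2191) (.leaf (nat_lit 3)) (.leaf (nat_lit 4)))) (.node (nat_lit 2220) (.node (nat_lit 2214) (.leaf (nat_lit 13)) (.leaf (nat_lit 10))) (.node (nat_lit 2254) (.leaf (nat_lit 13)) (.leaf (nat_lit 4))))))) (.node (nat_lit 2645) (.node (nat_lit 2425) (.node (nat_lit 2318) (.node (nat_lit 2291) (.leaf (nat_lit 2)) (.node (nat_lit 2299) (.leaf (nat_lit 11)) (.leaf (nat_lit 30)))) (.node (nat_lit 2375) (.node (nat_lit 2365) (.leaf (nat_lit 10)) (.leaf (nat_lit 4))) (.node (nat_lit 2377) (.leaf (nat_lit 10)) (.leaf (nat_lit 2))))) (.node (nat_lit 2524) (.node (nat_lit 2454) (.leaf (nat_lit 14)) (.node (nat_lit 2485) (.leaf (nat_lit 13)) (.leaf (nat_lit 5)))) (.node (nat_lit 2592) (.node (nat_lit 2536) (.leaf (nat_lit 3)) (.leaf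 (nat_lit 2))) (.node (nat_lit 2617) (.leaf (nat_lit 5)) (.leaf (nat_lit 14)))))) (.node (nat_lit 2945) (.node (nat_lit 2731) (.node (nat_lit 2670) (.leaf (nat_lit 10)) (.node (nat_lit 2675) (.leaf (nat_lit 14)) (.leaf (nat_lit 5)))) (.node (nat_lit 2844) (.node (nat_lit 2750) (.leaf (nat_lit 3)) (.leaf (nat_lit 10))) (.node (nat_lit 2876) (.leaf (nat_lit 3)) (.leaf (nat_lit 2))))) (.node (nat_lit 3025) (.node (nat_lit 2993) (.leaf (nat_lit 3)) (.node (nat_lit 3023) (.leaf (nat_lit 2)) (.leaf (nat_lit 5)))) (.node (nat_lit 3089) (.node (nat_lit 3071) (.leaf (nat_lit 2)) (.leaf (nat_lit 12))) (.node (nat_lit 3122) (.leaf (nat_lit 13)) (.leaf (nat_lit 2)))))))))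
noncomputable def AP_cq_F : Fm := (.allS AP_lS (.imp (.eq (.mul (.v (nat_lit 0)) (.v (nat_lit 0))) .one) (.exG AP_lQ (fun cs => AP_cq_t0.find (Nat.mod (nth (nat_lit 0) cs (nat_lit 0)) (nat_lit 3125))) (.qf (.and (.not (.eq (.v (nat_lit 0)) .one)) (.and (.not (.eq (.v (nat_lit 0)) (.v (nat_lit 2)))) (.and (.eq (.mul (.v (nat_lit 1)) (.v (nat_lit 0))) (.mul (.v (nat_lit 0)) (.v (nat_lit 1)))) (.or (.eq (.mul (.v (nat_lit 0)) (.v (nat_lit 0))) .one) (.not (.mem (.v (nat_lit 1)) AP_lK))))))))))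
theorem AP_cq_chk : Fm.chk AP_o AP_cq_F AP_cs = true := by decide +kernel
theorem AP_cq {G : Type*} [Group G] {R : ℕ → G → Prop} {z u v a b i j k l x y r s t : G}
    (M : Md0 AP_o AP_cs R [z, u, v, a, b, i, j, k, l, x, y, r, s, t]) :
    ∀ g ∈ sp [i, x, r, t], g * g = 1 → (∃ e ∈ sp [z, u, v, a, b], e ≠ 1 ∧ e ≠ z ∧ g * e = e * g ∧ (e * e = 1 ∨ g ∉ sp [i, x, y, r, s])) :=
  have h : ∀ g, InS R AP_lS g → g * g = 1 → (GoodS R AP_lQ → AP_lQ ≠ [] → ∃ e, InS R AP_lQ e ∧ e ≠ 1 ∧ e ≠ z ∧ g * e = e * g ∧ (e * e = 1 ∨ ¬ InS R AP_lK (g))) :=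
    Fm.sound M.μ AP_cq_F AP_cq_chk M.reps
  (fun g h0 => (fun h1 => (Exists.imp (fun e h2 => ⟨(AP_lQ_E M).iff.1 h2.1, ((and_congr Iff.rfl (and_congr Iff.rfl (and_congr Iff.rfl (or_congr Iff.rfl (not_congr (AP_lK_E M).iff))))).1 h2.2)⟩) (((h g ((AP_lS_E M).iff.2 h0)) h1) (AP_lQ_E M).good (AP_lQ_E M).ne))))
noncomputable def AP_nw_t0 : ST := (.node (nat_lit 676) (.node (nat_lit 331) (.node (nat_lit 170) (.node (nat_lit 80) (.node (nat_lit 38) (.node (nat_lit 11) (.node (nat_lit 7) (.node (nat_lit 5) (.leaf (nat_lit 2)) (.leaf (nat_lit 3))) (.node (nat_lit 9) (.leaf (nat_lit 2)) (.leaf (nat_lit 3)))) (.node (nat_lit 34) (.node (nat_lit 30) (.leaf (nat_lit 2)) (.leaf (nat_lit 10))) (.node (nat_lit 36) (.leaf (nat_lit 3)) (.leaf (nat_lit 2))))) (.node (nat_lit 52) (.node (nat_lit 46) (.node (nat_lit 42) (.leaf (nat_lit 3)) (.leaf (nat_lit 2))) (.node (nat_lit 50) (.leaf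 (nat_lit 3)) (.leaf (nat_lit 2)))) (.node (nat_lit 63) (.node (nat_lit 53) (.leaf (nat_lit 3)) (.leaf (nat_lit 4))) (.node (nat_lit 67) (.leaf (nat_lit 10)) (.leaf (nat_lit 2)))))) (.node (nat_lit 135) (.node (nat_lit 117) (.node (nat_lit 94) (.node (nat_lit 83) (.leaf (nat_lit 4)) (.leaf (nat_lit 2))) (.node (nat_lit 100) (.leaf (nat_lit 10)) (.leaf (nat_lit 2)))) (.node (nat_lit 131) (.node (nat_lit 127) (.leaf (nat_lit 4)) (.leaf (nat_lit 10))) (.node (nat_lit 133) (.leaf (nat_lit 2)) (.leaf (nat_lit 3))))) (.node (nat_lit 147) (.node (nat_lit 139) (.node (nat_lit 137) (.leaf (nat_lit 2)) (.leaf (nat_lit 3))) (.node (nat_lit 144) (.leaf (nat_lit 2)) (.leaf (nat_lit 4)))) (.node (nat_lit 162) (.node (nat_lit 158) (.leaf (nat_lit 2)) (.leaf (nat_lit 10))) (.node (nat_lit 164) (.leaf (nat_lit 3)) (.node (nat_lit 166) (.leaf (nat_lit 2)) (.leaf (nat_lit 3)))))))) (.node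 (nat_lit 245) (.node (nat_lit 199) (.node (nat_lit 181) (.node (nat_lit 178) (.node (nat_lit 174) (.leaf (nat_lit 2)) (.leaf (nat_lit 3))) (.node (nat_lit 180) (.leaf (nat_lit 2)) (.leaf (nat_lit 3)))) (.node (nat_lit 195) (.node (nat_lit 191) (.leaf (nat_lit 4)) (.leaf (nat_lit 10))) (.node (nat_lit 197) (.leaf (nat_lit 2)) (.leaf (nat_lit 3))))) (.node (nat_lit 211) (.node (nat_lit 203) (.node (nat_lit 201) (.leaf (nat_lit 2)) (.leaf (nat_lit 3))) (.node (nat_lit 208) (.leaf (nat_lit 2)) (.leaf (nat_lit 4)))) (.node (nat_lit 226) (.node (nat_lit 222) (.leaf (nat_lit 2)) (.leaf (nat_lit 10))) (.node (nat_lit 232) (.leaf (nat_lit 3)) (.node (nat_lit 244) (.leaf (nat_lit 2)) (.leaf (nat_lit 3))))))) (.node (nat_lit 296) (.node (nat_lit 286) (.node (nat_lit 263) (.node (nat_lit 255) (.leaf (nat_lit 4)) (.leaf (nat_lit 10))) (.node (nat_lit 272) (.leaf (nat_lit 2)) (.leaf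 (nat_lit 4)))) (.node (nat_lit 292) (.node (nat_lit 290) (.leaf (nat_lit 10)) (.leaf (nat_lit 3))) (.node (nat_lit 294) (.leaf (nat_lit 2)) (.leaf (nat_lit 3))))) (.node (nat_lit 309) (.node (nat_lit 306) (.node (nat_lit 302) (.leaf (nat_lit 2)) (.leaf (nat_lit 3))) (.node (nat_lit 308) (.leaf (nat_lit 2)) (.leaf (nat_lit 3)))) (.node (nat_lit 325) (.node (nat_lit 319) (.leaf (nat_lit 4)) (.leaf (nat_lit 10))) (.node (nat_lit 327) (.leaf (nat_lit 3)) (.node (nat_lit 329) (.leaf (nat_lit 2)) (.leaf (nat_lit 3))))))))) (.node (nat_lit 498) (.node (nat_lit 420) (.node (nat_lit 387) (.node (nat_lit 360) (.node (nat_lit 356) (.node (nat_lit 354) (.leaf (nat_lit 2)) (.leaf (nat_lit 3))) (.node (nat_lit 358) (.leaf (nat_lit 2)) (.leaf (nat_lit 3)))) (.node (nat_lit 370) (.node (nat_lit 366) (.leaf (nat_lit 2)) (.leaf (nat_lit 3))) (.node (nat_lit 373) (.leaf (nat_lit 2)) (.leaf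 (nat_lit 4))))) (.node (nat_lit 395) (.node (nat_lit 391) (.node (nat_lit 389) (.leaf (nat_lit 2)) (.leaf (nat_lit 3))) (.node (nat_lit 393) (.leaf (nat_lit 2)) (.leaf (nat_lit 3)))) (.node (nat_lit 403) (.node (nat_lit 400) (.leaf (nat_lit 2)) (.leaf (nat_lit 4))) (.node (nat_lit 414) (.leaf (nat_lit 2)) (.leaf (nat_lit 10)))))) (.node (nat_lit 459) (.node (nat_lit 437) (.node (nat_lit 434) (.node (nat_lit 430) (.leaf (nat_lit 2)) (.leaf (nat_lit 3))) (.node (nat_lit 436) (.leaf (nat_lit 2)) (.leaf (nat_lit 3)))) (.node (nat_lit 455) (.node (nat_lit 453) (.leaf (nat_lit 4)) (.leaf (nat_lit 3))) (.node (nat_lit 457) (.leaf (nat_lit 2)) (.leaf (nat_lit 3))))) (.node (nat_lit 482) (.node (nat_lit 467) (.node (nat_lit 464) (.leaf (nat_lit 2)) (.leaf (nat_lit 4))) (.node (nat_lit 478) (.leaf (nat_lit 2)) (.leaf (nat_lit 10)))) (.node (nat_lit 486) (.node (nat_lit 484) (.leaf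 (nat_lit 3)) (.leaf (nat_lit 2))) (.node (nat_lit 488) (.leaf (nat_lit 3)) (.node (nat_lit 494) (.leaf (nat_lit 2)) (.leaf (nat_lit 3)))))))) (.node (nat_lit 581) (.node (nat_lit 531) (.node (nat_lit 515) (.node (nat_lit 501) (.node (nat_lit 500) (.leaf (nat_lit 2)) (.leaf (nat_lit 3))) (.node (nat_lit 511) (.leaf (nat_lit 4)) (.leaf (nat_lit 10)))) (.node (nat_lit 523) (.node (nat_lit 517) (.leaf (nat_lit 2)) (.leaf (nat_lit 3))) (.node (nat_lit 528) (.leaf (nat_lit 2)) (.leaf (nat_lit 4))))) (.node (nat_lit 558) (.node (nat_lit 546) (.node (nat_lit 542) (.leaf (nat_lit 2)) (.leaf (nat_lit 10))) (.node (nat_lit 552) (.leaf (nat_lit 3)) (.leaf (nat_lit 2)))) (.node (nat_lit 564) (.node (nat_lit 562) (.leaf (nat_lit 3)) (.leaf (nat_lit 2))) (.node (nat_lit 565) (.leaf (nat_lit 3)) (.node (nat_lit 575) (.leaf (nat_lit 4)) (.leaf (nat_lit 10))))))) (.node (nat_lit 622)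 (.node (nat_lit 610) (.node (nat_lit 585) (.node (nat_lit 583) (.leaf (nat_lit 3)) (.leaf (nat_lit 2))) (.node (nat_lit 592) (.leaf (nat_lit 3)) (.leaf (nat_lit 4)))) (.node (nat_lit 614) (.node (nat_lit 612) (.leaf (nat_lit 3)) (.leaf (nat_lit 2))) (.node (nat_lit 616) (.leaf (nat_lit 3)) (.leaf (nat_lit 2))))) (.node (nat_lit 643) (.node (nat_lit 629) (.node (nat_lit 626) (.leaf (nat_lit 3)) (.leaf (nat_lit 2))) (.node (nat_lit 639) (.leaf (nat_lit 4)) (.leaf (nat_lit 10)))) (.node (nat_lit 659) (.node (nat_lit 656) (.leaf (nat_lit 2)) (.leaf (nat_lit 4))) (.node (nat_lit 670) (.leaf (nat_lit 2)) (.node (nat_lit 674) (.leaf (nat_lit 10)) (.leaf (nat_lit 3)))))))))) (.node (nat_lit 1006) (.node (nat_lit 843) (.node (nat_lit 773) (.node (nat_lit 723) (.node (nat_lit 693) (.node (nat_lit 680) (.node (nat_lit 678) (.leaf (nat_lit 2)) (.leaf (nat_lit 3))) (.node (nat_lit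 686) (.leaf (nat_lit 2)) (.leaf (nat_lit 3)))) (.node (nat_lit 707) (.node (nat_lit 703) (.leaf (nat_lit 4)) (.leaf (nat_lit 10))) (.node (nat_lit 720) (.leaf (nat_lit 2)) (.leaf (nat_lit 4))))) (.node (nat_lit 742) (.node (nat_lit 738) (.node (nat_lit 734) (.leaf (nat_lit 2)) (.leaf (nat_lit 10))) (.node (nat_lit 740) (.leaf (nat_lit 3)) (.leaf (nat_lit 2)))) (.node (nat_lit 767) (.node (nat_lit 757) (.leaf (nat_lit 3)) (.leaf (nat_lit 4))) (.node (nat_lit 771) (.leaf (nat_lit 10)) (.leaf (nat_lit 2)))))) (.node (nat_lit 804) (.node (nat_lit 784) (.node (nat_lit 777) (.node (nat_lit 775) (.leaf (nat_lit 3)) (.leaf (nat_lit 2))) (.node (nat_lit 779) (.leaf (nat_lit 3)) (.leaf (nat_lit 2)))) (.node (nat_lit 798) (.node (nat_lit 787) (.leaf (nat_lit 4)) (.leaf (nat_lit 2))) (.node (nat_lit 802) (.leaf (nat_lit 10)) (.leaf (nat_lit 3))))) (.node (nat_lit 818) (.node (nat_lit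 808) (.node (nat_lit 806) (.leaf (nat_lit 2)) (.leaf (nat_lit 3))) (.node (nat_lit 814) (.leaf (nat_lit 2)) (.leaf (nat_lit 3)))) (.node (nat_lit 821) (.node (nat_lit 820) (.leaf (nat_lit 2)) (.leaf (nat_lit 3))) (.node (nat_lit 835) (.leaf (nat_lit 4)) (.node (nat_lit 837) (.leaf (nat_lit 2)) (.leaf (nat_lit 3)))))))) (.node (nat_lit 932) (.node (nat_lit 884) (.node (nat_lit 866) (.node (nat_lit 851) (.node (nat_lit 848) (.leaf (nat_lit 2)) (.leaf (nat_lit 4))) (.node (nat_lit 862) (.leaf (nat_lit 2)) (.leaf (nat_lit 10)))) (.node (nat_lit 878) (.node (nat_lit 872) (.leaf (nat_lit 3)) (.leaf (nat_lit 2))) (.node (nat_lit 882) (.leaf (nat_lit 3)) (.leaf (nat_lit 2))))) (.node (nat_lit 901) (.node (nat_lit 895) (.node (nat_lit 885) (.leaf (nat_lit 3)) (.leaf (nat_lit 4))) (.node (nat_lit 899) (.leaf (nat_lit 10)) (.leaf (nat_lit 2)))) (.node (nat_lit 915) (.node (nat_lit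 912) (.leaf (nat_lit 3)) (.leaf (nat_lit 4))) (.node (nat_lit 926) (.leaf (nat_lit 2)) (.node (nat_lit 930) (.leaf (nat_lit 10)) (.leaf (nat_lit 3))))))) (.node (nat_lit 969) (.node (nat_lit 959) (.node (nat_lit 936) (.node (nat_lit 934) (.leaf (nat_lit 2)) (.leaf (nat_lit 3))) (.node (nat_lit 948) (.leaf (nat_lit 2)) (.leaf (nat_lit 3)))) (.node (nat_lit 965) (.node (nat_lit 963) (.leaf (nat_lit 10)) (.leaf (nat_lit 2))) (.node (nat_lit 967) (.leaf (nat_lit 3)) (.leaf (nat_lit 2))))) (.node (nat_lit 990) (.node (nat_lit 976) (.node (nat_lit 971) (.leaf (nat_lit 3)) (.leaf (nat_lit 2))) (.node (nat_lit 979) (.leaf (nat_lit 4)) (.leaf (nat_lit 2)))) (.node (nat_lit 996) (.node (nat_lit 994) (.leaf (nat_lit 10)) (.leaf (nat_lit 3))) (.node (nat_lit 998) (.leaf (nat_lit 2)) (.node (nat_lit 1000) (.leaf (nat_lit 3)) (.leaf (nat_lit 2))))))))) (.node (nat_lit 1168) (.node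 (nat_lit 1076) (.node (nat_lit 1040) (.node (nat_lit 1023) (.node (nat_lit 1012) (.node (nat_lit 1010) (.leaf (nat_lit 3)) (.leaf (nat_lit 2))) (.node (nat_lit 1013) (.leaf (nat_lit 3)) (.leaf (nat_lit 4)))) (.node (nat_lit 1029) (.node (nat_lit 1027) (.leaf (nat_lit 10)) (.leaf (nat_lit 2))) (.node (nat_lit 1035) (.leaf (nat_lit 3)) (.leaf (nat_lit 2))))) (.node (nat_lit 1060) (.node (nat_lit 1054) (.node (nat_lit 1043) (.leaf (nat_lit 4)) (.leaf (nat_lit 2))) (.node (nat_lit 1058) (.leaf (nat_lit 10)) (.leaf (nat_lit 3)))) (.node (nat_lit 1066) (.node (nat_lit 1062) (.leaf (nat_lit 2)) (.leaf (nat_lit 3))) (.node (nat_lit 1070) (.leaf (nat_lit 2)) (.node (nat_lit 1074) (.leaf (nat_lit 3)) (.leaf (nat_lit 2))))))) (.node (nat_lit 1107) (.node (nat_lit 1095) (.node (nat_lit 1091) (.node (nat_lit 1077) (.leaf (nat_lit 3)) (.leaf (nat_lit 4))) (.node (nat_lit 1093) (.leaf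 (nat_lit 2)) (.leaf (nat_lit 3)))) (.node (nat_lit 1099) (.node (nat_lit 1097) (.leaf (nat_lit 2)) (.leaf (nat_lit 3))) (.node (nat_lit 1104) (.leaf (nat_lit 2)) (.leaf (nat_lit 4))))) (.node (nat_lit 1141) (.node (nat_lit 1128) (.node (nat_lit 1118) (.leaf (nat_lit 2)) (.leaf (nat_lit 10))) (.node (nat_lit 1134) (.leaf (nat_lit 2)) (.leaf (nat_lit 3)))) (.node (nat_lit 1155) (.node (nat_lit 1151) (.leaf (nat_lit 4)) (.leaf (nat_lit 10))) (.node (nat_lit 1157) (.leaf (nat_lit 2)) (.node (nat_lit 1163) (.leaf (nat_lit 3)) (.leaf (nat_lit 2)))))))) (.node (nat_lit 1254) (.node (nat_lit 1219) (.node (nat_lit 1192) (.node (nat_lit 1182) (.node (nat_lit 1171) (.leaf (nat_lit 4)) (.leaf (nat_lit 2))) (.node (nat_lit 1186) (.leaf (nat_lit 10)) (.leaf (nat_lit 3)))) (.node (nat_lit 1205) (.node (nat_lit 1204) (.leaf (nat_lit 2)) (.leaf (nat_lit 3))) (.node (nat_lit 1215) (.leaf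 (nat_lit 4)) (.leaf (nat_lit 10))))) (.node (nat_lit 1227) (.node (nat_lit 1223) (.node (nat_lit 1221) (.leaf (nat_lit 2)) (.leaf (nat_lit 3))) (.node (nat_lit 1225) (.leaf (nat_lit 2)) (.leaf (nat_lit 3)))) (.node (nat_lit 1235) (.node (nat_lit 1232) (.leaf (nat_lit 2)) (.leaf (nat_lit 4))) (.node (nat_lit 1250) (.leaf (nat_lit 2)) (.node (nat_lit 1252) (.leaf (nat_lit 3)) (.leaf (nat_lit 2))))))) (.node (nat_lit 1289) (.node (nat_lit 1268) (.node (nat_lit 1262) (.node (nat_lit 1256) (.leaf (nat_lit 3)) (.leaf (nat_lit 2))) (.node (nat_lit 1266) (.leaf (nat_lit 3)) (.leaf (nat_lit 2)))) (.node (nat_lit 1285) (.node (nat_lit 1279) (.leaf (nat_lit 3)) (.leaf (nat_lit 10))) (.node (nat_lit 1287) (.leaf (nat_lit 3)) (.leaf (nat_lit 2))))) (.node (nat_lit 1326) (.node (nat_lit 1296) (.node (nat_lit 1291) (.leaf (nat_lit 3)) (.leaf (nat_lit 2))) (.node (nat_lit 1299) (.leaf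 (nat_lit 4)) (.leaf (nat_lit 2)))) (.node (nat_lit 1332) (.node (nat_lit 1330) (.leaf (nat_lit 3)) (.leaf (nat_lit 2))) (.node (nat_lit 1333) (.leaf (nat_lit 3)) (.node (nat_lit 1343) (.leaf (nat_lit 4)) (.leaf (nat_lit 10)))))))))))
noncomputable def AP_nw_F : Fm := (.allS AP_lQ (.imp (.eq (.mul (.v (nat_lit 0)) (.v (nat_lit 0))) .one) (.imp (.not (.eq (.v (nat_lit 0)) .one)) (.imp (.not (.eq (.v (nat_lit 0)) (.v (nat_lit 1)))) (.allS AP_lS (.imp (.eq (.mul (.v (nat_lit 0)) (.v (nat_lit 1))) (.mul (.v (nat_lit 1)) (.v (nat_lit 0)))) (.or (.qf (.mem (.v (nat_lit 0)) AP_lK)) (.exG AP_lQ (fun cs => AP_nw_t0.find (Nat.mod (Nat.add (nth (nat_lit 0) cs (nat_lit 1)) (Nat.mul (nat_lit 7919) (nth (nat_lit 0) cs (nat_lit 0)))) (nat_lit 1344))) (.qf (.and (.eq (.mul (.v (nat_lit 0)) (.v (nat_lit 2))) (.mul (.v (nat_lit 2)) (.v (nat_lit 0)))) (.not (.eq (.mul (.mul (.mul (.mul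 (.v (nat_lit 1)) (.v (nat_lit 0))) (.inv (.v (nat_lit 1)))) (.inv (.v (nat_lit 0)))) (.mul (.mul (.mul (.v (nat_lit 1)) (.v (nat_lit 0))) (.inv (.v (nat_lit 1)))) (.inv (.v (nat_lit 0))))) .one))))))))))))
theorem AP_nw_chk : Fm.chk AP_o AP_nw_F AP_cs = true := by decide +kernel
theorem AP_nw {G : Type*} [Group G] {R : ℕ → G → Prop} {z u v a b i j k l x y r s t : G}
    (M : Md0 AP_o AP_cs R [z, u, v, a, b, i, j, k, l, x, y, r, s, t]) :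
    ∀ e ∈ sp [z, u, v, a, b], e * e = 1 → e ≠ 1 → e ≠ z → (∀ g ∈ sp [i, x, r, t], g * e = e * g → g ∈ sp [i, x, y, r, s] ∨ (∃ q ∈ sp [z, u, v, a, b], q * e = e * q ∧ g * q * g⁻¹ * q⁻¹ * (g * q * g⁻¹ * q⁻¹) ≠ 1)) :=
  have h : ∀ e, InS R AP_lQ e → e * e = 1 → e ≠ 1 → e ≠ z → (∀ g, InS R AP_lS g → g * e = e * g → InS R AP_lK (g) ∨ (GoodS R AP_lQ → AP_lQ ≠ [] → ∃ q, InS R AP_lQ q ∧ q * e = e * q ∧ g * q * g⁻¹ * q⁻¹ * (g * q * g⁻¹ * q⁻¹) ≠ 1)) :=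
    Fm.sound M.μ AP_nw_F AP_nw_chk M.reps
  (fun e h0 => (fun h1 => (fun h2 => (fun h3 => (fun g h4 => (fun h5 => (Or.imp (fun h6 => ((AP_lK_E M).iff.1 h6)) (fun h6 => (Exists.imp (fun q h7 => ⟨(AP_lQ_E M).iff.1 h7.1, h7.2⟩) (h6 (AP_lQ_E M).good (AP_lQ_E M).ne))) ((((((h e ((AP_lQ_E M).iff.2 h0)) h1) h2) h3) g ((AP_lS_E M).iff.2 h4)) h5))))))))
noncomputable def AP_q_f_F : Fm := (.qf (.and (.eq (.mul (.v (nat_lit 0)) (.v (nat_lit 0))) .one) (.and (.eq (.mul (.v (nat_lit 1)) (.v (nat_lit 1))) .one) (.and (.eq (.mul (.v (nat_lit 2)) (.v (nat_lit 2))) .one) (.and (.eq (.mul (.v (nat_lit 3)) (.v (nat_lit 3))) .one) (.and (.eq (.mul (.v (nat_lit 4)) (.v (nat_lit 4))) .one) (.and (.eq (.pw (.v (nat_lit 9)) (nat_lit 3)) .one) (.and (.eq (.mul (.mul (.v (nat_lit 9)) (.v (nat_lit 1))) (.inv (.v (nat_lit 9)))) (.v (nat_lit 3))) (.and (.eq (.mul (.mul (.v (nat_lit 9)) (.v (nat_lit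 2))) (.inv (.v (nat_lit 9)))) (.v (nat_lit 4))) (.and (.eq (.pw (.mul (.v (nat_lit 1)) (.v (nat_lit 9))) (nat_lit 3)) .one) (.and (.eq (.pw (.mul (.v (nat_lit 2)) (.v (nat_lit 9))) (nat_lit 3)) .one) (.and (.eq (.mul (.v (nat_lit 1)) (.v (nat_lit 2))) (.mul (.v (nat_lit 2)) (.v (nat_lit 1)))) (.and (.eq (.mul (.mul (.mul (.v (nat_lit 1)) (.v (nat_lit 4))) (.inv (.v (nat_lit 1)))) (.inv (.v (nat_lit 4)))) (.v (nat_lit 0))) (.and (.eq (.mul (.v (nat_lit 0)) (.v (nat_lit 9))) (.mul (.v (nat_lit 9)) (.v (nat_lit 0)))) (.and (.eq (.mul (.v (nat_lit 0)) (.v (nat_lit 1))) (.mul (.v (nat_lit 1)) (.v (nat_lit 0)))) (.eq (.mul (.v (nat_lit 0)) (.v (nat_lit 2))) (.mul (.v (nat_lit 2)) (.v (nat_lit 0)))))))))))))))))))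
theorem AP_q_f_chk : Fm.chk AP_o AP_q_f_F AP_cs = true := by decide +kernel
theorem AP_q_f {G : Type*} [Group G] {R : ℕ → G → Prop} {z u v a b i j k l x y r s t : G}
    (M : Md0 AP_o AP_cs R [z, u, v, a, b, i, j, k, l, x, y, r, s, t]) :
    z * z = 1 ∧ u * u = 1 ∧ v * v = 1 ∧ a * a = 1 ∧ b * b = 1 ∧ x ^ 3 = 1 ∧ x * u * x⁻¹ = a ∧ x * v * x⁻¹ = b ∧ (u * x) ^ 3 = 1 ∧ (v * x) ^ 3 = 1 ∧ u * v = v * u ∧ ⁅u, b⁆ = z ∧ z * x = x * z ∧ z * u = u * z ∧ z * v = v * z :=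
  Fm.sound M.μ AP_q_f_F AP_q_f_chk M.reps
theorem AP_q {G : Type*} [Group G] {R : ℕ → G → Prop} {z u v a b i j k l x y r s t : G}
    (M : Md0 AP_o AP_cs R [z, u, v, a, b, i, j, k, l, x, y, r, s, t]) :
    Q3 z u v a b x :=
  have h := AP_q_f M
  ⟨h.1, h.2.1, h.2.2.1, h.2.2.2.1, h.2.2.2.2.1, h.2.2.2.2.2.1, h.2.2.2.2.2.2.1, h.2.2.2.2.2.2.2.1, h.2.2.2.2.2.2.2.2.1, h.2.2.2.2.2.2.2.2.2.1, h.2.2.2.2.2.2.2.2.2.2.1, h.2.2.2.2.2.2.2.2.2.2.2.1, h.2.2.2.2.2.2.2.2.2.2.2.2.1, h.2.2.2.2.2.2.2.2.2.2.2.2.2.1, h.2.2.2.2.2.2.2.2.2.2.2.2.2.2, trivial⟩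
noncomputable def AP_e_F : Fm := (.qf (.and (.not (.eq (.v (nat_lit 0)) .one)) (.and (.mem (.v (nat_lit 10)) AP_lS) (.and (.mem (.v (nat_lit 12)) AP_lS) (.and (.eq (.mul (.mul (.v (nat_lit 13)) (.v (nat_lit 9))) (.inv (.v (nat_lit 13)))) (.v (nat_lit 10))) (.and (.eq (.mul (.mul (.v (nat_lit 13)) (.v (nat_lit 10))) (.inv (.v (nat_lit 13)))) (.v (nat_lit 9))) (.and (.eq (.mul (.mul (.v (nat_lit 13)) (.v (nat_lit 11))) (.inv (.v (nat_lit 13)))) (.v (nat_lit 12))) (.and (.eq (.mul (.mul (.v (nat_lit 13)) (.v (nat_lit 12))) (.inv (.v (nat_lit 13)))) (.v (nat_lit 11))) (.and (.eq (.mul (.mul (.v (nat_lit 13)) (.mul (.v (nat_lit 11)) (.v (nat_lit 12)))) (.inv (.v (nat_lit 13)))) (.mul (.v (nat_lit 11)) (.v (nat_lit 12)))) (.and (.eq (.mul (.mul (.v (nat_lit 12)) (.mul (.v (nat_lit 9)) (.inv (.v (nat_lit 10))))) (.inv (.v (nat_lit 12)))) (.mul (.v (nat_lit 9)) (.v (nat_lit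 10)))) (.eq (.mul (.mul (.v (nat_lit 12)) (.mul (.v (nat_lit 11)) (.v (nat_lit 12)))) (.inv (.v (nat_lit 12)))) (.mul (.v (nat_lit 11)) (.v (nat_lit 12))))))))))))))
theorem AP_e_chk : Fm.chk AP_o AP_e_F AP_cs = true := by decide +kernel
theorem AP_e {G : Type*} [Group G] {R : ℕ → G → Prop} {z u v a b i j k l x y r s t : G}
    (M : Md0 AP_o AP_cs R [z, u, v, a, b, i, j, k, l, x, y, r, s, t]) :
    z ≠ 1 ∧ y ∈ sp [i, x, r, t] ∧ s ∈ sp [i, x, r, t] ∧ t * x * t⁻¹ = y ∧ t * y * t⁻¹ = x ∧ t * r * t⁻¹ = s ∧ t * s * t⁻¹ = r ∧ t * (r * s) * t⁻¹ = r * s ∧ s * (x * y⁻¹) * s⁻¹ = x * y ∧ s * (r * s) * s⁻¹ = r * s :=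
  have h : z ≠ 1 ∧ InS R AP_lS (y) ∧ InS R AP_lS (s) ∧ t * x * t⁻¹ = y ∧ t * y * t⁻¹ = x ∧ t * r * t⁻¹ = s ∧ t * s * t⁻¹ = r ∧ t * (r * s) * t⁻¹ = r * s ∧ s * (x * y⁻¹) * s⁻¹ = x * y ∧ s * (r * s) * s⁻¹ = r * s :=
    Fm.sound M.μ AP_e_F AP_e_chk M.reps
  ((and_congr Iff.rfl (and_congr (AP_lS_E M).iff (and_congr (AP_lS_E M).iff Iff.rfl))).1 h)
noncomputable def AP_E_F : Fm := (.allS AP_lE (.qf (.eq (.mul (.v (nat_lit 0)) (.v (nat_lit 0))) .one)))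
theorem AP_E_chk : Fm.chk AP_o AP_E_F AP_cs = true := by decide +kernel
theorem AP_E {G : Type*} [Group G] {R : ℕ → G → Prop} {z u v a b i j k l x y r s t : G}
    (M : Md0 AP_o AP_cs R [z, u, v, a, b, i, j, k, l, x, y, r, s, t]) :
    ∀ e ∈ sp [z, u, v], e * e = 1 :=
  have h : ∀ e, InS R AP_lE e → e * e = 1 :=
    Fm.sound M.μ AP_E_F AP_E_chk M.reps
  (fun e h0 => (h e ((AP_lE_E M).iff.2 h0)))

end H26.Es
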